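import Mathlib
import Groth.Prelude.Def_W4stktopologysheavesDim

/-!
# Catenary orders: transfer along order embeddings with convex image
-/

set_option autoImplicit false
universe u

namespace Groth.Agent.H62

section order

variable {P Q : Type*} [PartialOrder P] [PartialOrder Q]

/-- Supremum of lengths of chains starting at `a` and ending below `b`. -/
noncomputable def cod (a b : P) : ℕ∞ :=
  ⨆ (s : LTSeries P) (_ : s.head = a ∧ s.last ≤ b), (s.length : ℕ∞)

/-- The catenary condition for the pair `a ≤ b`. -/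
def CatPair (a b : P) : Prop :=
  cod a b ≠ ⊤ ∧ ∀ s : LTSeries P, s.head = a → s.last = b →
    (∀ i : Fin s.length, s (Fin.castSucc i) ⋖ s (Fin.succ i)) → (s.length : ℕ∞) = cod a b

theorem LTSeries.head_le_apply (s : LTSeries P) (i : Fin (s.length + 1)) : s.head ≤ s i :=
  s.monotone (Fin.zero_le i)

theorem LTSeries.apply_le_last (s : LTSeries P) (i : Fin (s.length + 1)) : s i ≤ s.last :=
  s.monotone (Fin.le_last i)

/-- Lift a chain all of whose members are in the range of an order embedding. -/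
theorem exists_map_eq (f : P ↪o Q) (s : LTSeries Q) (h : ∀ i, s i ∈ Set.range f) :
    ∃ t : LTSeries P, t.map f f.strictMono = s := by
  refine ⟨{ length := s.length, toFun := fun i => (h i).choose, step := fun i => ?_ }, ?_⟩
  · have h1 := (h i.castSucc).choose_spec
    have h2 := (h i.succ).choose_spec
    have := s.step i
    change s i.castSucc < s i.succ at this
    rw [← h1, ← h2] at this
    exact f.lt_iff_lt.1 this
  · refine RelSeries.ext rfl ?_
    funext i
    exact (h i).choose_spec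

theorem cod_map_eq (f : P ↪o Q) {a b : P}
    (hconv : ∀ q, f a ≤ q → q ≤ f b → q ∈ Set.range f) : cod (f a) (f b) = cod a b := by
  apply le_antisymm
  · refine iSup₂_le fun s hs => ?_
    obtain ⟨t, rfl⟩ := exists_map_eq f s fun i =>
      hconv _ (hs.1 ▸ LTSeries.head_le_apply s i) ((LTSeries.apply_le_last s i).trans hs.2)
    refine le_iSup₂_of_le t ⟨?_, ?_⟩ le_rfl
    · exact f.injective (by simpa using hs.1)
    · exact f.le_iff_le.1 (by simpa using hs.2)
  · refine iSup₂_le fun t ht => ?_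
    refine le_iSup₂_of_le (t.map f f.strictMono) ⟨?_, ?_⟩ le_rfl
    · simp [ht.1]
    · simpa using f.le_iff_le.2 ht.2

theorem catPair_map_iff (f : P ↪o Q) {a b : P}
    (hconv : ∀ q, f a ≤ q → q ≤ f b → q ∈ Set.range f) : CatPair (f a) (f b) ↔ CatPair a b := by
  unfold CatPair
  rw [cod_map_eq f hconv]
  refine and_congr_right fun _ => ?_
  constructor
  · intro H t hta htb hsat
    have := H (t.map f f.strictMono) (by simp [hta]) (by simp [htb]) ?_
    · simpa using this
    · intro i
      have hcov := hsat i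
      refine ⟨f.strictMono hcov.lt, ?_⟩
      intro q hq1 hq2
      have hq : q ∈ Set.range f := by
        refine hconv q ?_ ?_
        · exact (f.le_iff_le.2 (hta ▸ LTSeries.head_le_apply t i.castSucc)).trans hq1.le
        · exact hq2.le.trans (f.le_iff_le.2 (htb ▸ LTSeries.apply_le_last t i.succ))
      obtain ⟨p, rfl⟩ := hq
      exact hcov.2 (f.lt_iff_lt.1 hq1) (f.lt_iff_lt.1 hq2)
  · intro H s hsa hsb hsat
    obtain ⟨t, rfl⟩ := exists_map_eq f s fun i =>
      hconv _ (hsa ▸ LTSeries.head_le_apply s i) (hsb ▸ LTSeries.apply_le_last s i)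
    have := H t (f.injective (by simpa using hsa)) (f.injective (by simpa using hsb)) ?_
    · simpa using this
    · intro i
      exact CovBy.of_image f (hsat i)

end order


section insert

open scoped SetRel
variable {α : Type*} {r : SetRel α α}

theorem head_insertNth (p : RelSeries r) (i : Fin p.length) (a : α)
    (h1 : p (Fin.castSucc i) ~[r] a) (h2 : a ~[r] p i.succ) :
    (p.insertNth i a h1 h2).head = p.head := by
  change Fin.insertNth (α := fun _ => α) (Fin.castSucc i.succ) a p 0 = p 0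
  have : (0 : Fin (p.length + 1 + 1)) = (Fin.castSucc i.succ).succAbove 0 := by
    rw [Fin.succAbove_of_castSucc_lt]
    · rfl
    · rw [Fin.lt_def]; simp
  rw [this, Fin.insertNth_apply_succAbove]

theorem last_insertNth (p : RelSeries r) (i : Fin p.length) (a : α)
    (h1 : p (Fin.castSucc i) ~[r] a) (h2 : a ~[r] p i.succ) :
    (p.insertNth i a h1 h2).last = p.last := by
  change Fin.insertNth (α := fun _ => α) (Fin.castSucc i.succ) a p (Fin.last _) = p (Fin.last _)
  have : (Fin.last (p.length + 1)) = (Fin.castSucc i.succ).succAbove (Fin.last p.length) := by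
    rw [Fin.succAbove_of_le_castSucc]
    · rfl
    · rw [Fin.le_def]; simp
  rw [this, Fin.insertNth_apply_succAbove]

end insert

section order2

variable {P : Type*} [PartialOrder P]

/-- The catenary condition for the pair `a ≤ b` in the "bounded, and saturated chains have equal
length" form. -/
def CatPair' (a b : P) : Prop :=
  (∃ n : ℕ, ∀ s : LTSeries P, s.head = a → s.last = b → s.length ≤ n) ∧
  ∀ s t : LTSeries P, s.head = a → s.last = b → t.head = a → t.last = b →
    (∀ i : Fin s.length, s (Fin.castSucc i) ⋖ s (Fin.succ i)) →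
    (∀ i : Fin t.length, t (Fin.castSucc i) ⋖ t (Fin.succ i)) → s.length = t.length

/-- A chain from `a` to `b` of maximal length is saturated. -/
theorem sat_of_maximal {a b : P} (m : LTSeries P) (hma : m.head = a) (hmb : m.last = b)
    (hmax : ∀ s : LTSeries P, s.head = a → s.last = b → s.length ≤ m.length) :
    ∀ i : Fin m.length, m (Fin.castSucc i) ⋖ m (Fin.succ i) := by
  intro i
  by_contra hcov
  have hlt : m (Fin.castSucc i) < m (Fin.succ i) := m.step i
  obtain ⟨c, hc1, hc2⟩ := (not_covBy_iff hlt).1 hcov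
  have := hmax (m.insertNth i c hc1 hc2) (by rw [head_insertNth, hma])
    (by rw [last_insertNth, hmb])
  simp at this

theorem exists_maximal_chain {a b : P} (n : ℕ)
    (hn : ∀ s : LTSeries P, s.head = a → s.last = b → s.length ≤ n)
    (s₀ : LTSeries P) (h0a : s₀.head = a) (h0b : s₀.last = b) :
    ∃ m : LTSeries P, m.head = a ∧ m.last = b ∧
      ∀ s : LTSeries P, s.head = a → s.last = b → s.length ≤ m.length := by
  classical
  by_contra hcon
  push Not at hcon
  have key : ∀ k : ℕ, ∃ s : LTSeries P, s.head = a ∧ s.last = b ∧ k ≤ s.length := by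
    intro k
    induction k with
    | zero => exact ⟨s₀, h0a, h0b, Nat.zero_le _⟩
    | succ k ih =>
      obtain ⟨s, hsa, hsb, hk⟩ := ih
      obtain ⟨t, hta, htb, hlt⟩ := hcon s hsa hsb
      exact ⟨t, hta, htb, by omega⟩
  obtain ⟨s, hsa, hsb, hk⟩ := key (n + 1)
  have := hn s hsa hsb
  omega

theorem catPair_iff_catPair' {a b : P} : CatPair a b ↔ CatPair' a b := by
  constructor
  · rintro ⟨hfin, hsat⟩
    refine ⟨⟨(cod a b).toNat, fun s hsa hsb => ?_⟩, fun s t hsa hsb hta htb hs ht => ?_⟩
    · have h1 : (s.length : ℕ∞) ≤ cod a b := le_iSup₂_of_le s ⟨hsa, hsb.le⟩ le_rfl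
      simpa using ENat.toNat_le_toNat h1 hfin
    · have h1 := hsat s hsa hsb hs
      have h2 := hsat t hta htb ht
      exact_mod_cast h1.trans h2.symm
  · rintro ⟨⟨n, hn⟩, hsat⟩
    have hbound : ∀ t : LTSeries P, t.head = a → t.last ≤ b →
        ∃ t' : LTSeries P, t'.head = a ∧ t'.last = b ∧ t.length ≤ t'.length := by
      intro t hta htb
      rcases htb.eq_or_lt with h | h
      · exact ⟨t, hta, h, le_rfl⟩
      · refine ⟨t.snoc b h, by simpa using hta, by simp, by simp⟩
    refine ⟨?_, fun s hsa hsb hs => ?_⟩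
    · have : cod a b ≤ (n : ℕ∞) := by
        refine iSup₂_le fun t ht => ?_
        obtain ⟨t', h1, h2, h3⟩ := hbound t ht.1 ht.2
        exact_mod_cast h3.trans (hn t' h1 h2)
      exact ne_top_of_le_ne_top (ENat.natCast_ne_top n) this
    · refine le_antisymm (le_iSup₂_of_le s ⟨hsa, hsb.le⟩ le_rfl) (iSup₂_le fun t ht => ?_)
      obtain ⟨t', h1, h2, h3⟩ := hbound t ht.1 ht.2
      obtain ⟨m, hma, hmb, hmax⟩ := exists_maximal_chain n hn s hsa hsb
      have hmsat := sat_of_maximal m hma hmb hmax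
      have := hsat s m hsa hsb hma hmb hs hmsat
      exact_mod_cast h3.trans ((hmax t' h1 h2).trans this.ge)

end order2

section anti

variable {P Q : Type*} [PartialOrder P] [PartialOrder Q]

/-- Reverse a chain along an order-reversing bijection. -/
def antiMap (e : P ≃ Q) (he : ∀ x y, e x ≤ e y ↔ y ≤ x) (t : LTSeries P) : LTSeries Q where
  length := t.length
  toFun i := e (t i.rev)
  step i := by
    change e (t (Fin.castSucc i).rev) < e (t (Fin.succ i).rev)
    rw [Fin.rev_castSucc, Fin.rev_succ]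
    have h := t.step i.rev
    change t (Fin.castSucc i.rev) < t (Fin.succ i.rev) at h
    rw [lt_iff_le_not_ge, he, he]
    exact ⟨h.le, h.not_ge⟩

theorem catPair'_anti (e : P ≃ Q) (he : ∀ x y, e x ≤ e y ↔ y ≤ x) {a b : P}
    (H : CatPair' (e b) (e a)) : CatPair' a b := by
  have hlt : ∀ x y, e x < e y ↔ y < x := fun x y => by
    rw [lt_iff_le_not_ge, lt_iff_le_not_ge, he, he]
  have hhead : ∀ t : LTSeries P, (antiMap e he t).head = e t.last := fun t => by
    change e (t (Fin.rev 0)) = e (t (Fin.last _)); rw [Fin.rev_zero]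
  have hlast : ∀ t : LTSeries P, (antiMap e he t).last = e t.head := fun t => by
    change e (t (Fin.rev (Fin.last _))) = e (t 0); rw [Fin.rev_last]
  have hsat : ∀ t : LTSeries P, (∀ i : Fin t.length, t (Fin.castSucc i) ⋖ t (Fin.succ i)) →
      ∀ i : Fin (antiMap e he t).length,
        (antiMap e he t) (Fin.castSucc i) ⋖ (antiMap e he t) (Fin.succ i) := by
    intro t ht i
    change e (t (Fin.castSucc i).rev) ⋖ e (t (Fin.succ i).rev)
    rw [Fin.rev_castSucc, Fin.rev_succ]
    have h := ht i.rev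
    refine ⟨(hlt _ _).2 h.lt, ?_⟩
    intro q hq1 hq2
    obtain ⟨p, rfl⟩ := e.surjective q
    exact h.2 ((hlt _ _).1 hq2) ((hlt _ _).1 hq1)
  obtain ⟨⟨n, hn⟩, hs⟩ := H
  refine ⟨⟨n, fun s hsa hsb => ?_⟩, fun s t hsa hsb hta htb hss hts => ?_⟩
  · exact hn (antiMap e he s) (by rw [hhead, hsb]) (by rw [hlast, hsa])
  · exact hs (antiMap e he s) (antiMap e he t) (by rw [hhead, hsb]) (by rw [hlast, hsa])
      (by rw [hhead, htb]) (by rw [hlast, hta]) (hsat s hss) (hsat t hts)

theorem catPair'_anti_iff (e : P ≃ Q) (he : ∀ x y, e x ≤ e y ↔ y ≤ x) {a b : P} :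
    CatPair' (e b) (e a) ↔ CatPair' a b := by
  refine ⟨catPair'_anti e he, fun H => ?_⟩
  have he' : ∀ x y, e.symm x ≤ e.symm y ↔ y ≤ x := fun x y => by
    rw [← he, e.apply_symm_apply, e.apply_symm_apply]
  refine catPair'_anti e.symm he' ?_
  rwa [e.symm_apply_apply, e.symm_apply_apply]

end anti

section top

open TopologicalSpace Topology

variable {X : Type u} [TopologicalSpace X]

/-- The order embedding from irreducible closed subsets of a subspace to those of the space. -/
noncomputable def irrMap (S : Set X) : IrreducibleCloseds S ↪o IrreducibleCloseds X :=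
  OrderEmbedding.ofMapLEIff
    (IrreducibleCloseds.map (Subtype.val : S → X) continuous_subtype_val) (by
    intro A B
    constructor
    · intro h x hx
      have h1 : (x : X) ∈ closure (Subtype.val '' (B : Set S)) :=
        h (subset_closure ⟨x, hx, rfl⟩)
      have h2 : x ∈ closure (B : Set S) := by
        rw [IsInducing.subtypeVal.closure_eq_preimage_closure_image]
        exact h1
      rwa [B.isClosed.closure_eq] at h2
    · exact fun h => IrreducibleCloseds.map_mono _ h)

theorem coe_irrMap (S : Set X) (W : IrreducibleCloseds S) :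
    (irrMap S W : Set X) = closure (Subtype.val '' (W : Set S)) := rfl

/-- An irreducible closed subset meeting a locally closed `S` and contained in its closure comes
from an irreducible closed subset of `S`. -/
theorem exists_irrMap_eq {S : Set X} (hS : IsLocallyClosed S) (Z : IrreducibleCloseds X)
    (hne : ((Z : Set X) ∩ S).Nonempty) (hsub : (Z : Set X) ⊆ closure S) :
    ∃ W, irrMap S W = Z := by
  obtain ⟨O, C, hO, hC, rfl⟩ := hS
  have hZC : (Z : Set X) ⊆ C := hsub.trans (closure_minimal Set.inter_subset_right hC)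
  have hZO : ((Z : Set X) ∩ O).Nonempty := by
    obtain ⟨x, hx1, hx2⟩ := hne
    exact ⟨x, hx1, hx2.1⟩
  have hpre : IsPreirreducible ((Subtype.val : ↥(O ∩ C) → X) ⁻¹' (Z : Set X)) := by
    intro u v hu hv ⟨x, hxZ, hxu⟩ ⟨y, hyZ, hyv⟩
    obtain ⟨u', hu', rfl⟩ := isOpen_induced_iff.1 hu
    obtain ⟨v', hv', rfl⟩ := isOpen_induced_iff.1 hv
    obtain ⟨z, hzZ, hz1, hz2⟩ := Z.isIrreducible.isPreirreducible (u' ∩ O) (v' ∩ O)
      (hu'.inter hO) (hv'.inter hO) ⟨x, hxZ, hxu, x.2.1⟩ ⟨y, hyZ, hyv, y.2.1⟩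
    exact ⟨⟨z, hz1.2, hZC hzZ⟩, hzZ, hz1.1, hz2.1⟩
  have hnon : ((Subtype.val : ↥(O ∩ C) → X) ⁻¹' (Z : Set X)).Nonempty := by
    obtain ⟨x, hx1, hx2⟩ := hne
    exact ⟨⟨x, hx2⟩, hx1⟩
  refine ⟨⟨_, ⟨hnon, hpre⟩, Z.isClosed.preimage continuous_subtype_val⟩, ?_⟩
  apply IrreducibleCloseds.ext
  rw [coe_irrMap]
  change closure (Subtype.val '' ((Subtype.val : ↥(O ∩ C) → X) ⁻¹' (Z : Set X))) = Z
  rw [Subtype.image_preimage_coe]
  have h1 : (O ∩ C) ∩ (Z : Set X) = (Z : Set X) ∩ O := by
    ext x
    constructor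
    · rintro ⟨⟨h1, _⟩, h3⟩; exact ⟨h3, h1⟩
    · rintro ⟨h1, h2⟩; exact ⟨⟨h2, hZC h1⟩, h1⟩
  rw [h1]
  apply subset_antisymm
  · exact closure_minimal Set.inter_subset_left Z.isClosed
  · exact subset_closure_inter_of_isPreirreducible_of_isOpen Z.isIrreducible.isPreirreducible hO hZO

theorem isCatenarySpace_iff_catPair :
    PtTop.IsCatenarySpace X ↔ ∀ T T' : IrreducibleCloseds X, T ≤ T' → CatPair T T' := Iff.rfl

/-- Catenarity passes to locally closed subspaces. -/
theorem isCatenarySpace_of_isLocallyClosed (hX : PtTop.IsCatenarySpace X) {S : Set X}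
    (hS : IsLocallyClosed S) : PtTop.IsCatenarySpace S := by
  rw [isCatenarySpace_iff_catPair] at hX ⊢
  intro T T' hTT'
  have hconv : ∀ q, irrMap S T ≤ q → q ≤ irrMap S T' → q ∈ Set.range (irrMap S) := by
    intro q h1 h2
    refine exists_irrMap_eq hS q ?_ ?_
    · obtain ⟨x, hx⟩ := T.isIrreducible.nonempty
      exact ⟨x, h1 (subset_closure ⟨x, hx, rfl⟩), x.2⟩
    · intro z hz
      have : z ∈ closure (Subtype.val '' (T' : Set S)) := h2 hz
      exact closure_mono (by rintro _ ⟨y, _, rfl⟩; exact y.2) this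
  exact (catPair_map_iff (irrMap S) hconv).1 (hX _ _ ((irrMap S).le_iff_le.2 hTT'))

/-- Catenarity is local for open coverings. -/
theorem isCatenarySpace_of_open_cover
    (h : ∀ x : X, ∃ U : Opens X, x ∈ U ∧ PtTop.IsCatenarySpace U) : PtTop.IsCatenarySpace X := by
  rw [isCatenarySpace_iff_catPair]
  intro T T' hTT'
  obtain ⟨x, hx⟩ := T.isIrreducible.nonempty
  obtain ⟨U, hxU, hU⟩ := h x
  rw [isCatenarySpace_iff_catPair] at hU
  have hmem : ∀ q : IrreducibleCloseds X, T ≤ q → q ∈ Set.range (irrMap (U : Set X)) := by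
    intro q hq
    refine exists_irrMap_eq U.isOpen.isLocallyClosed q ⟨x, hq hx, hxU⟩ ?_
    have := subset_closure_inter_of_isPreirreducible_of_isOpen q.isIrreducible.isPreirreducible
      U.isOpen ⟨x, hq hx, hxU⟩
    exact this.trans (closure_mono Set.inter_subset_right)
  obtain ⟨T₀, rfl⟩ := hmem T le_rfl
  obtain ⟨T₀', rfl⟩ := hmem T' hTT'
  refine (catPair_map_iff (irrMap (U : Set X)) fun q h1 _ => hmem q h1).2 (hU _ _ ?_)
  exact (irrMap (U : Set X)).le_iff_le.1 hTT'

end top

section inducing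

open TopologicalSpace Topology

variable {X Y : Type u} [TopologicalSpace X] [TopologicalSpace Y]

/-- The order embedding on irreducible closed subsets induced by an inducing map. -/
noncomputable def irrMapOf {f : Y → X} (hf : IsInducing f) :
    IrreducibleCloseds Y ↪o IrreducibleCloseds X :=
  OrderEmbedding.ofMapLEIff (IrreducibleCloseds.map f hf.continuous) (by
    intro A B
    constructor
    · intro h x hx
      have h1 : f x ∈ closure (f '' (B : Set Y)) := h (subset_closure ⟨x, hx, rfl⟩)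
      have h2 : x ∈ closure (B : Set Y) := by
        rw [hf.closure_eq_preimage_closure_image]
        exact h1
      rwa [B.isClosed.closure_eq] at h2
    · exact fun h => IrreducibleCloseds.map_mono _ h)

theorem coe_irrMapOf {f : Y → X} (hf : IsInducing f) (W : IrreducibleCloseds Y) :
    (irrMapOf hf W : Set X) = closure (f '' (W : Set Y)) := rfl

theorem exists_irrMapOf_eq {f : Y → X} (hf : IsInducing f) (hS : IsLocallyClosed (Set.range f))
    (Z : IrreducibleCloseds X) (hne : ((Z : Set X) ∩ Set.range f).Nonempty)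
    (hsub : (Z : Set X) ⊆ closure (Set.range f)) : ∃ W, irrMapOf hf W = Z := by
  obtain ⟨O, C, hO, hC, hOC⟩ := hS
  have hZC : (Z : Set X) ⊆ C :=
    hsub.trans (closure_minimal (hOC ▸ Set.inter_subset_right) hC)
  have hZO : ((Z : Set X) ∩ O).Nonempty := by
    obtain ⟨x, hx1, hx2⟩ := hne
    rw [hOC] at hx2
    exact ⟨x, hx1, hx2.1⟩
  have hpre : IsPreirreducible (f ⁻¹' (Z : Set X)) := by
    intro u v hu hv ⟨x, hxZ, hxu⟩ ⟨y, hyZ, hyv⟩
    obtain ⟨u', hu', rfl⟩ := hf.isOpen_iff.1 hu
    obtain ⟨v', hv', rfl⟩ := hf.isOpen_iff.1 hv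
    have hxO : f x ∈ O := (hOC ▸ Set.mem_range_self x : f x ∈ O ∩ C).1
    have hyO : f y ∈ O := (hOC ▸ Set.mem_range_self y : f y ∈ O ∩ C).1
    obtain ⟨z, hzZ, hz1, hz2⟩ := Z.isIrreducible.isPreirreducible (u' ∩ O) (v' ∩ O)
      (hu'.inter hO) (hv'.inter hO) ⟨f x, hxZ, hxu, hxO⟩ ⟨f y, hyZ, hyv, hyO⟩
    have hzr : z ∈ Set.range f := by rw [hOC]; exact ⟨hz1.2, hZC hzZ⟩
    obtain ⟨w, rfl⟩ := hzr
    exact ⟨w, hzZ, hz1.1, hz2.1⟩
  have hnon : (f ⁻¹' (Z : Set X)).Nonempty := by
    obtain ⟨_, hx1, ⟨w, rfl⟩⟩ := hne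
    exact ⟨w, hx1⟩
  refine ⟨⟨_, ⟨hnon, hpre⟩, Z.isClosed.preimage hf.continuous⟩, ?_⟩
  apply IrreducibleCloseds.ext
  rw [coe_irrMapOf]
  change closure (f '' (f ⁻¹' (Z : Set X))) = Z
  rw [Set.image_preimage_eq_inter_range]
  have h1 : (Z : Set X) ∩ Set.range f = (Z : Set X) ∩ O := by
    rw [hOC]
    ext x
    constructor
    · rintro ⟨h1, h2, _⟩; exact ⟨h1, h2⟩
    · rintro ⟨h1, h2⟩; exact ⟨h1, h2, hZC h1⟩
  rw [h1]
  apply subset_antisymm
  · exact closure_minimal Set.inter_subset_left Z.isClosed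
  · exact subset_closure_inter_of_isPreirreducible_of_isOpen Z.isIrreducible.isPreirreducible hO hZO

/-- Catenarity passes along inducing maps with locally closed range. -/
theorem isCatenarySpace_of_isInducing (hX : PtTop.IsCatenarySpace X) {f : Y → X}
    (hf : IsInducing f) (hS : IsLocallyClosed (Set.range f)) : PtTop.IsCatenarySpace Y := by
  rw [isCatenarySpace_iff_catPair] at hX ⊢
  intro T T' hTT'
  have hconv : ∀ q, irrMapOf hf T ≤ q → q ≤ irrMapOf hf T' → q ∈ Set.range (irrMapOf hf) := by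
    intro q h1 h2
    refine exists_irrMapOf_eq hf hS q ?_ ?_
    · obtain ⟨x, hx⟩ := T.isIrreducible.nonempty
      exact ⟨f x, h1 (subset_closure ⟨x, hx, rfl⟩), Set.mem_range_self x⟩
    · intro z hz
      have : z ∈ closure (f '' (T' : Set Y)) := h2 hz
      exact closure_mono (Set.image_subset_range f _) this
  exact (catPair_map_iff (irrMapOf hf) hconv).1 (hX _ _ ((irrMapOf hf).le_iff_le.2 hTT'))

/-- Catenarity can be checked on a jointly surjective family of open embeddings. -/
theorem isCatenarySpace_of_open_embeddings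
    (h : ∀ x : X, ∃ (Y : Type u) (_ : TopologicalSpace Y) (f : Y → X),
      IsOpenEmbedding f ∧ x ∈ Set.range f ∧ PtTop.IsCatenarySpace Y) :
    PtTop.IsCatenarySpace X := by
  rw [isCatenarySpace_iff_catPair]
  intro T T' hTT'
  obtain ⟨x, hx⟩ := T.isIrreducible.nonempty
  obtain ⟨Y, _, f, hf, hxf, hY⟩ := h x
  rw [isCatenarySpace_iff_catPair] at hY
  have hmem : ∀ q : IrreducibleCloseds X, T ≤ q →
      q ∈ Set.range (irrMapOf hf.isInducing) := by
    intro q hq
    refine exists_irrMapOf_eq hf.isInducing hf.isOpen_range.isLocallyClosed q ⟨x, hq hx, hxf⟩ ?_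
    have := subset_closure_inter_of_isPreirreducible_of_isOpen q.isIrreducible.isPreirreducible
      hf.isOpen_range ⟨x, hq hx, hxf⟩
    exact this.trans (closure_mono Set.inter_subset_right)
  obtain ⟨T₀, rfl⟩ := hmem T le_rfl
  obtain ⟨T₀', rfl⟩ := hmem T' hTT'
  refine (catPair_map_iff (irrMapOf hf.isInducing) fun q h1 _ => hmem q h1).2 (hY _ _ ?_)
  exact (irrMapOf hf.isInducing).le_iff_le.1 hTT'

end inducing

end Groth.Agent.H62
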