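import Mathlib
import Groth.Agent.H62.Caten

/-!
# Catenary orders: additivity of codimension, dimension functions
-/

set_option autoImplicit false
universe u

namespace Groth.Agent.H62

section sat

variable {P : Type*} [PartialOrder P]

/-- Series all of whose steps are covering relations. -/
abbrev SatS (P : Type*) [PartialOrder P] := RelSeries {(a, b) : P × P | a ⋖ b}

/-- A saturated series as a strictly increasing series. -/
def SatS.toLT (t : SatS P) : LTSeries P :=
  { length := t.length
    toFun := t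
    step := fun i => (t.step i).lt }

@[simp] theorem SatS.toLT_length (t : SatS P) : t.toLT.length = t.length := rfl
@[simp] theorem SatS.toLT_head (t : SatS P) : t.toLT.head = t.head := rfl
@[simp] theorem SatS.toLT_last (t : SatS P) : t.toLT.last = t.last := rfl
theorem SatS.toLT_apply (t : SatS P) (i : Fin (t.length + 1)) : t.toLT i = t i := rfl

theorem SatS.toLT_covBy (t : SatS P) (i : Fin t.toLT.length) :
    t.toLT i.castSucc ⋖ t.toLT i.succ := t.step i

/-- A strictly increasing series with covering steps, as a saturated series. -/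
def satOfLT (s : LTSeries P) (hs : ∀ i : Fin s.length, s i.castSucc ⋖ s i.succ) : SatS P :=
  { length := s.length
    toFun := s
    step := hs }

theorem exists_chain {a b : P} (hab : a ≤ b) : ∃ s : LTSeries P, s.head = a ∧ s.last = b := by
  rcases hab.eq_or_lt with h | h
  · exact ⟨RelSeries.singleton _ a, rfl, h⟩
  · exact ⟨(RelSeries.singleton _ a).snoc b h, by simp, by simp⟩

theorem exists_sat_chain {a b : P} (hab : a ≤ b)
    (hbdd : ∃ n : ℕ, ∀ s : LTSeries P, s.head = a → s.last = b → s.length ≤ n) :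
    ∃ t : SatS P, t.head = a ∧ t.last = b ∧
      ∀ s : LTSeries P, s.head = a → s.last = b → s.length ≤ t.length := by
  obtain ⟨n, hn⟩ := hbdd
  obtain ⟨s₀, h0a, h0b⟩ := exists_chain hab
  obtain ⟨m, hma, hmb, hmax⟩ := exists_maximal_chain n hn s₀ h0a h0b
  exact ⟨satOfLT m (sat_of_maximal m hma hmb hmax), hma, hmb, hmax⟩

theorem cod_eq_of_sat {a b : P} (h : CatPair a b) (t : SatS P) (ha : t.head = a)
    (hb : t.last = b) : cod a b = t.length :=
  (h.2 t.toLT ha hb t.toLT_covBy).symm

theorem catPair'_bdd {a b : P} (h : CatPair a b) :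
    ∃ n : ℕ, ∀ s : LTSeries P, s.head = a → s.last = b → s.length ≤ n :=
  (catPair_iff_catPair'.1 h).1

/-- Additivity of codimension in a catenary order. -/
theorem cod_add {a b c : P} (hab : a ≤ b) (hbc : b ≤ c) (h1 : CatPair a b) (h2 : CatPair b c)
    (h3 : CatPair a c) : cod a c = cod a b + cod b c := by
  obtain ⟨t1, h1a, h1b, -⟩ := exists_sat_chain hab (catPair'_bdd h1)
  obtain ⟨t2, h2a, h2b, -⟩ := exists_sat_chain hbc (catPair'_bdd h2)
  have hconn : t1.last = t2.head := h1b.trans h2a.symm
  rw [cod_eq_of_sat h1 t1 h1a h1b, cod_eq_of_sat h2 t2 h2a h2b,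
    cod_eq_of_sat h3 (t1.smash t2 hconn) (by simp [h1a]) (by simp [h2b])]
  simp [RelSeries.smash]

theorem cod_self (a : P) : cod a a = 0 := by
  refine le_antisymm (iSup₂_le fun s hs => ?_) zero_le
  by_contra hpos
  have hlen : 0 < s.length := by
    by_contra h0
    apply hpos
    simp only [not_lt, Nat.le_zero] at h0
    simp [h0]
  have h1 : s.head < s.last := by
    have := s.strictMono (show (0 : Fin (s.length + 1)) < Fin.last _ from by
      rw [Fin.lt_def]; simpa using hlen)
    exact this
  exact absurd (hs.1 ▸ h1.trans_le hs.2) (lt_irrefl _)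

theorem cod_of_covBy {a b : P} (hab : a ⋖ b) : cod a b = 1 := by
  apply le_antisymm
  · refine iSup₂_le fun s hs => ?_
    by_contra hgt
    have hlen : 2 ≤ s.length := by
      by_contra h0
      apply hgt
      have : s.length ≤ 1 := by omega
      exact_mod_cast this
    have h01 : s 0 < s ⟨1, by omega⟩ := s.strictMono (by rw [Fin.lt_def]; simp)
    have h12 : s ⟨1, by omega⟩ < s ⟨2, by omega⟩ := s.strictMono (by rw [Fin.lt_def]; simp)
    have h2l : s ⟨2, by omega⟩ ≤ s.last := LTSeries.apply_le_last s _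
    have ha : s 0 = a := hs.1
    exact hab.2 (ha ▸ h01) (h12.trans_le (h2l.trans hs.2))
  · refine le_iSup₂_of_le ((RelSeries.singleton _ a).snoc b hab.lt) ⟨by simp, by simp⟩ ?_
    simp

/-- Finite and additive codimension implies the catenary condition. -/
theorem catPair_of_additive
    (hfin : ∀ a b : P, a ≤ b → cod a b ≠ ⊤)
    (hadd : ∀ a b c : P, a ≤ b → b ≤ c → cod a c = cod a b + cod b c) {a b : P} (hab : a ≤ b) :
    CatPair a b := by
  refine ⟨hfin a b hab, fun s hsa hsb hsat => ?_⟩
  have key : ∀ i : Fin (s.length + 1), cod (s 0) (s i) = (i : ℕ) := by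
    intro i
    induction i using Fin.induction with
    | zero => simpa using cod_self (s 0)
    | succ i ih =>
      rw [hadd (s 0) (s i.castSucc) (s i.succ) (s.monotone (Fin.zero_le _))
        (s.monotone (Fin.castSucc_lt_succ).le), ih, cod_of_covBy (hsat i)]
      simp
  have := key (Fin.last _)
  rw [← hsa, ← hsb]
  change (s.length : ℕ∞) = cod (s 0) (s (Fin.last _))
  rw [this]
  simp

end sat

section construct

variable {P : Type*} [PartialOrder P]

theorem one_le_cod_of_lt {a b : P} (h : a < b) : 1 ≤ cod a b := by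
  refine le_iSup₂_of_le ((RelSeries.singleton _ a).snoc b h) ⟨by simp, by simp⟩ ?_
  simp

/-- Construction of a dimension function on a "good" lower part of a catenary order. -/
theorem dimfun_of_catenary (hcat : ∀ a b : P, a ≤ b → CatPair a b) (𝔭 : P) (D : Set P)
    (μ : P → P) (hμ : ∀ q, μ q ≤ q)
    (hjoin : ∀ q ∈ D, ∀ q', q' ≤ q → ∃ w, μ q ≤ w ∧ μ q' ≤ w ∧ w ≤ q ∧ w ≤ 𝔭) :
    (∀ q q', q' ∈ D → q < q' →
      ((cod (μ q') 𝔭).toNat : ℤ) - (cod (μ q') q').toNat <
        ((cod (μ q) 𝔭).toNat : ℤ) - (cod (μ q) q).toNat) ∧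
    (∀ q q', q' ∈ D → q ⋖ q' →
      ((cod (μ q) 𝔭).toNat : ℤ) - (cod (μ q) q).toNat =
        ((cod (μ q') 𝔭).toNat : ℤ) - (cod (μ q') q').toNat + 1) := by
  have hfin : ∀ a b : P, a ≤ b → cod a b ≠ ⊤ := fun a b h => (hcat a b h).1
  have hadd : ∀ a b c : P, a ≤ b → b ≤ c →
      (cod a c).toNat = (cod a b).toNat + (cod b c).toNat := by
    intro a b c h1 h2
    rw [cod_add h1 h2 (hcat _ _ h1) (hcat _ _ h2) (hcat _ _ (h1.trans h2)),
      ENat.toNat_add (hfin _ _ h1) (hfin _ _ h2)]
  have key : ∀ q q', q' ∈ D → q ≤ q' →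
      ((cod (μ q) 𝔭).toNat : ℤ) - (cod (μ q) q).toNat =
        ((cod (μ q') 𝔭).toNat : ℤ) - (cod (μ q') q').toNat + (cod q q').toNat := by
    intro q q' hq' hqq'
    obtain ⟨w, h1, h2, h3, h4⟩ := hjoin q' hq' q hqq'
    have e1 := hadd (μ q) w 𝔭 h2 h4
    have e2 := hadd (μ q) w q' h2 h3
    have e3 := hadd (μ q') w 𝔭 h1 h4
    have e4 := hadd (μ q') w q' h1 h3
    have e5 := hadd (μ q) q q' (hμ q) hqq'
    omega
  constructor
  · intro q q' hq' hlt
    have h1 := key q q' hq' hlt.le
    have h2 : 1 ≤ (cod q q').toNat := by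
      have := one_le_cod_of_lt hlt
      have h3 := ENat.toNat_le_toNat this (hfin _ _ hlt.le)
      simpa using h3
    omega
  · intro q q' hq' hcov
    have h1 := key q q' hq' hcov.le
    rw [cod_of_covBy hcov] at h1
    simpa using h1

end construct

section dimfun

open TopologicalSpace

variable {X : Type u} [TopologicalSpace X] [QuasiSober X] [T0Space X]

/-- The generic point of an irreducible closed subset of a sober space. -/
noncomputable def gpt (Z : IrreducibleCloseds X) : X := Z.isIrreducible.genericPoint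

theorem closure_gpt (Z : IrreducibleCloseds X) : closure {gpt Z} = (Z : Set X) :=
  Z.isIrreducible.closure_genericPoint Z.isClosed

theorem le_iff_gpt_specializes (Z Z' : IrreducibleCloseds X) : Z ≤ Z' ↔ gpt Z' ⤳ gpt Z := by
  rw [specializes_iff_closure_subset, closure_gpt, closure_gpt]
  rfl

theorem gpt_injective : Function.Injective (gpt (X := X)) := by
  intro Z Z' h
  apply IrreducibleCloseds.ext
  rw [← closure_gpt Z, ← closure_gpt Z', h]

/-- The closure of a point, as an irreducible closed subset. -/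
def ptClosure (x : X) : IrreducibleCloseds X :=
  ⟨closure {x}, isIrreducible_singleton.closure, isClosed_closure⟩

theorem gpt_ptClosure (x : X) : gpt (ptClosure x) = x := by
  have h1 : closure {gpt (ptClosure x)} = closure {x} := closure_gpt (ptClosure x)
  exact (specializes_iff_closure_subset.2 h1.ge).antisymm (specializes_iff_closure_subset.2 h1.le)
    |>.eq

variable {δ : X → ℤ} (hδ : PtTop.IsDimensionFunction δ)

include hδ

theorem delta_lt_of_lt {Z Z' : IrreducibleCloseds X} (h : Z < Z') : δ (gpt Z) < δ (gpt Z') := by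
  refine hδ.1 (gpt Z') (gpt Z) ((le_iff_gpt_specializes Z Z').1 h.le) ?_
  intro heq
  exact h.ne (gpt_injective heq.symm)

theorem delta_eq_of_covBy {Z Z' : IrreducibleCloseds X} (h : Z ⋖ Z') :
    δ (gpt Z') = δ (gpt Z) + 1 := by
  refine hδ.2 (gpt Z') (gpt Z) ⟨(le_iff_gpt_specializes Z Z').1 h.le, ?_, ?_⟩
  · intro heq
    exact h.lt.ne (gpt_injective heq.symm)
  · intro z hz1 hz2
    have h1 : Z ≤ ptClosure z := by
      rw [le_iff_gpt_specializes, gpt_ptClosure]; exact hz2
    have h2 : ptClosure z ≤ Z' := by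
      rw [le_iff_gpt_specializes, gpt_ptClosure]; exact hz1
    rcases h.eq_or_eq h1 h2 with h3 | h3
    · right; rw [← gpt_ptClosure z, h3]
    · left; rw [← gpt_ptClosure z, h3]

theorem length_le_of_dimfun (s : LTSeries (IrreducibleCloseds X)) :
    (s.length : ℤ) ≤ δ (gpt s.last) - δ (gpt s.head) := by
  have key : ∀ i : Fin (s.length + 1), δ (gpt (s 0)) + (i : ℕ) ≤ δ (gpt (s i)) := by
    intro i
    induction i using Fin.induction with
    | zero => simp
    | succ i ih =>
      have := delta_lt_of_lt hδ (s.step i)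
      simp only [Fin.val_succ, Nat.cast_add, Nat.cast_one]
      simp only [Fin.val_castSucc] at ih
      omega
  have := key (Fin.last _)
  simp only [Fin.val_last] at this
  change (s.length : ℤ) ≤ δ (gpt (s (Fin.last _))) - δ (gpt (s 0))
  omega

theorem length_eq_of_dimfun (s : LTSeries (IrreducibleCloseds X))
    (hs : ∀ i : Fin s.length, s i.castSucc ⋖ s i.succ) :
    (s.length : ℤ) = δ (gpt s.last) - δ (gpt s.head) := by
  have key : ∀ i : Fin (s.length + 1), δ (gpt (s 0)) + (i : ℕ) = δ (gpt (s i)) := by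
    intro i
    induction i using Fin.induction with
    | zero => simp
    | succ i ih =>
      have := delta_eq_of_covBy hδ (hs i)
      simp only [Fin.val_succ, Nat.cast_add, Nat.cast_one]
      simp only [Fin.val_castSucc] at ih
      omega
  have := key (Fin.last _)
  simp only [Fin.val_last] at this
  change (s.length : ℤ) = δ (gpt (s (Fin.last _))) - δ (gpt (s 0))
  omega

theorem catPair'_of_dimfun (T T' : IrreducibleCloseds X) : CatPair' T T' := by
  refine ⟨⟨(δ (gpt T') - δ (gpt T)).toNat, fun s hsa hsb => ?_⟩,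
    fun s t hsa hsb hta htb hs ht => ?_⟩
  · have := length_le_of_dimfun hδ s
    rw [hsa, hsb] at this
    omega
  · have h1 := length_eq_of_dimfun hδ s hs
    have h2 := length_eq_of_dimfun hδ t ht
    rw [hsa, hsb] at h1
    rw [hta, htb] at h2
    omega

theorem isCatenarySpace_of_dimfun : PtTop.IsCatenarySpace X := by
  rw [isCatenarySpace_iff_catPair]
  intro T T' _
  rw [catPair_iff_catPair']
  exact catPair'_of_dimfun hδ T T'

theorem cod_eq_of_dimfun {T T' : IrreducibleCloseds X} (hTT' : T ≤ T') :
    cod T T' = ((δ (gpt T') - δ (gpt T)).toNat : ℕ∞) := by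
  have hcat : CatPair T T' := catPair_iff_catPair'.2 (catPair'_of_dimfun hδ T T')
  obtain ⟨t, hta, htb, -⟩ := exists_sat_chain hTT' (catPair'_bdd hcat)
  rw [cod_eq_of_sat hcat t hta htb]
  have := length_eq_of_dimfun hδ t.toLT t.toLT_covBy
  rw [SatS.toLT_last, SatS.toLT_head, hta, htb, SatS.toLT_length] at this
  congr 1
  omega

end dimfun

end Groth.Agent.H62
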