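import Mathlib
import Groth.Prelude.Def_Found
import Groth.Agent.H62.Caten

/-!
# Catenary rings versus catenary spectra
-/

set_option autoImplicit false
universe u

namespace Groth.Agent.H62

open TopologicalSpace

variable (R : Type u) [CommRing R]

theorem isCatenary_iff_catPair' :
    CAlg.IsCatenary R ↔ ∀ p q : PrimeSpectrum R, p ≤ q → CatPair' p q := by
  constructor
  · rintro ⟨h1, h2⟩ p q hpq
    exact ⟨h1 p q hpq, fun s t hsa hsb hta htb hs ht =>
      h2 s t (hsa.trans hta.symm) (hsb.trans htb.symm) hs ht⟩
  · intro H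
    refine ⟨fun p q hpq => (H p q hpq).1, fun s t hh hl hs ht => ?_⟩
    exact (H s.head s.last s.head_le_last).2 s t rfl rfl hh.symm hl.symm hs ht

/-- The order-reversing bijection between primes and irreducible closed subsets. -/
noncomputable def primeEquivIrr : PrimeSpectrum R ≃ IrreducibleCloseds (PrimeSpectrum R) :=
  (PrimeSpectrum.pointsEquivIrreducibleCloseds R).toEquiv.trans OrderDual.ofDual

theorem primeEquivIrr_le (x y : PrimeSpectrum R) :
    primeEquivIrr R x ≤ primeEquivIrr R y ↔ y ≤ x := by
  have := (PrimeSpectrum.pointsEquivIrreducibleCloseds R).map_rel_iff (a := y) (b := x)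
  exact this

theorem isCatenarySpace_primeSpectrum_iff :
    PtTop.IsCatenarySpace (PrimeSpectrum R) ↔ CAlg.IsCatenary R := by
  rw [isCatenarySpace_iff_catPair, isCatenary_iff_catPair']
  constructor
  · intro H p q hpq
    have := H (primeEquivIrr R q) (primeEquivIrr R p) ((primeEquivIrr_le R q p).2 hpq)
    rw [catPair_iff_catPair'] at this
    exact catPair'_anti (primeEquivIrr R) (primeEquivIrr_le R) this
  · intro H T T' hTT'
    rw [catPair_iff_catPair']
    have h1 : T = primeEquivIrr R ((primeEquivIrr R).symm T) := by simp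
    have h2 : T' = primeEquivIrr R ((primeEquivIrr R).symm T') := by simp
    rw [h1, h2] at hTT' ⊢
    exact (catPair'_anti_iff (primeEquivIrr R) (primeEquivIrr_le R)).2
      (H _ _ ((primeEquivIrr_le R _ _).1 hTT'))

section localization

variable {R}
variable {B : Type u} [CommRing B] [Algebra R B] (M : Submonoid R) [IsLocalization M B]

/-- The order embedding of the spectrum of a localization. -/
noncomputable def locEmb : PrimeSpectrum B ↪o PrimeSpectrum R :=
  OrderEmbedding.ofMapLEIff (PrimeSpectrum.comap (algebraMap R B)) (by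
    intro p q
    constructor
    · intro h
      have h' : (p.asIdeal.under R).map (algebraMap R B) ≤ (q.asIdeal.under R).map (algebraMap R B) :=
        Ideal.map_mono h
      rwa [IsLocalization.map_under M B, IsLocalization.map_under M B] at h'
    · intro h; exact Ideal.comap_mono h)

theorem range_locEmb :
    Set.range (locEmb (B := B) M) = {y | Disjoint (M : Set R) y.asIdeal} :=
  PrimeSpectrum.localization_comap_range B M

theorem locEmb_convex (b : PrimeSpectrum B) (y : PrimeSpectrum R) (h2 : y ≤ locEmb M b) :
    y ∈ Set.range (locEmb (B := B) M) := by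
  have hb : locEmb M b ∈ Set.range (locEmb (B := B) M) := ⟨b, rfl⟩
  rw [range_locEmb] at hb ⊢
  exact Set.disjoint_of_subset_right h2 hb

include M in
/-- A localization of a catenary ring is catenary. -/
theorem isCatenary_of_isLocalization (hR : CAlg.IsCatenary R) : CAlg.IsCatenary B := by
  rw [isCatenary_iff_catPair'] at hR ⊢
  intro p q hpq
  rw [← catPair_iff_catPair']
  refine (catPair_map_iff (locEmb M) fun y _ h2 => locEmb_convex M q y h2).1 ?_
  rw [catPair_iff_catPair']
  exact hR _ _ ((locEmb M).le_iff_le.2 hpq)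

/-- Catenarity of the pair `p ≤ q` can be checked in any catenary localization to which `q`
survives. -/
theorem catPair'_of_isLocalization (hB : CAlg.IsCatenary B) (p q : PrimeSpectrum R)
    (hpq : p ≤ q) (hq : Disjoint (M : Set R) (q.asIdeal : Set R)) : CatPair' p q := by
  have hmem : ∀ y : PrimeSpectrum R, y ≤ q → y ∈ Set.range (locEmb (B := B) M) := by
    intro y hy
    rw [range_locEmb]
    exact Set.disjoint_of_subset_right hy hq
  obtain ⟨p₀, rfl⟩ := hmem p hpq
  obtain ⟨q₀, hq₀⟩ := hmem q le_rfl
  rw [← catPair_iff_catPair']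
  have key : CatPair (locEmb (B := B) M p₀) (locEmb (B := B) M q₀) := by
    refine (catPair_map_iff (locEmb _) fun y _ h2 => hmem y (hq₀ ▸ h2)).2 ?_
    rw [catPair_iff_catPair']
    refine (isCatenary_iff_catPair' B).1 hB _ _ ((locEmb M).le_iff_le.1 ?_)
    rw [hq₀]; exact hpq
  rwa [hq₀] at key

/-- Catenarity of the pair `p ≤ q` can be checked in the localization at `q`. -/
theorem catPair'_of_isLocalization_atPrime (q : PrimeSpectrum R)
    [IsLocalization.AtPrime B q.asIdeal] (hB : CAlg.IsCatenary B) (p : PrimeSpectrum R)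
    (hpq : p ≤ q) : CatPair' p q := by
  have hmem : ∀ y : PrimeSpectrum R, y ≤ q →
      y ∈ Set.range (locEmb (B := B) q.asIdeal.primeCompl) := by
    intro y hy
    rw [range_locEmb]
    change Disjoint ((q.asIdeal.primeCompl : Submonoid R) : Set R) (y.asIdeal : Set R)
    rw [Set.disjoint_left]
    intro x hx hxy
    exact hx (hy hxy)
  obtain ⟨p₀, rfl⟩ := hmem p hpq
  obtain ⟨q₀, hq₀⟩ := hmem q le_rfl
  rw [← catPair_iff_catPair']
  have key : CatPair (locEmb (B := B) q.asIdeal.primeCompl p₀)
      (locEmb (B := B) q.asIdeal.primeCompl q₀) := by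
    refine (catPair_map_iff (locEmb _) fun y _ h2 => hmem y (hq₀ ▸ h2)).2 ?_
    rw [catPair_iff_catPair']
    refine (isCatenary_iff_catPair' B).1 hB _ _ ((locEmb q.asIdeal.primeCompl).le_iff_le.1 ?_)
    rw [hq₀]; exact hpq
  rwa [hq₀] at key

end localization

end Groth.Agent.H62
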