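import Groth.Prelude.Def_HopfRep
import Groth.Prelude.Def_Hoch
import Mathlib.RingTheory.Flat.Basic
import Mathlib.LinearAlgebra.TensorProduct.Basis
import Mathlib.LinearAlgebra.FiniteDimensional.Defs
import Mathlib.LinearAlgebra.Basis.VectorSpace
import Mathlib.Algebra.Module.Projective

set_option autoImplicit false
universe u v w w' w''

open TensorProduct

namespace Groth.Agent.H62

noncomputable section

/-! ## Slices -/

section Slice

variable {k : Type u} [CommRing k] {A : Type v} [AddCommGroup A] [Module k A]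
variable {V : Type w} [AddCommGroup V] [Module k V] {V' : Type w'} [AddCommGroup V'] [Module k V']

/-- `v ⊗ a ↦ ξ a • v` -/
def slice (ξ : A →ₗ[k] k) : V ⊗[k] A →ₗ[k] V :=
  (TensorProduct.rid k V).toLinearMap ∘ₗ LinearMap.lTensor V ξ

@[simp]
lemma slice_tmul (ξ : A →ₗ[k] k) (v : V) (a : A) : slice ξ (v ⊗ₜ[k] a) = ξ a • v := by
  simp [slice]

lemma slice_rTensor (ξ : A →ₗ[k] k) (g : V →ₗ[k] V') (x : V ⊗[k] A) :
    g (slice ξ x) = slice ξ (g.rTensor A x) := by
  induction x with
  | zero => simp
  | tmul v a => simp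
  | add x y hx hy => simp only [map_add, hx, hy]

end Slice

/-! ## Local finiteness -/

section LocFin

open HopfRep

variable {k : Type u} [Field k] {A : Type v} [AddCommGroup A] [Module k A] [Coalgebra k A]
variable {V : Type w} [AddCommGroup V] [Module k V] [Comod k A V]

omit [Coalgebra k A] [Comod k A V] in
lemma slice_assoc_symm_mem (W : Submodule k V) (ξ : A →ₗ[k] k) (w : V) (hw : w ∈ W)
    (t : A ⊗[k] A) :
    slice ξ ((TensorProduct.assoc k V A A).symm (w ⊗ₜ[k] t)) ∈
      LinearMap.range (W.subtype.rTensor A) := by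
  induction t with
  | zero => simp
  | tmul a a' =>
    refine ⟨ξ a' • ((⟨w, hw⟩ : W) ⊗ₜ[k] a), ?_⟩
    simp
  | add x y hx hy =>
    rw [tmul_add, map_add, map_add]
    exact Submodule.add_mem _ hx hy

theorem exists_finite_subcomod (v : V) :
    ∃ W : Submodule k V, IsSubcomod (k := k) (A := A) W ∧ FiniteDimensional k W ∧ v ∈ W := by
  classical
  let b := Module.Basis.ofVectorSpace k A
  let e := TensorProduct.equivFinsuppOfBasisRight (M := V) b
  let f := e (Comod.coact (k := k) (A := A) v)
  have hf : Comod.coact (k := k) (A := A) v = f.sum fun i m => m ⊗ₜ[k] b i := by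
    rw [← TensorProduct.equivFinsuppOfBasisRight_symm_apply]
    exact (e.symm_apply_apply _).symm
  have hslice : ∀ i, f i = slice (b.coord i) (Comod.coact (k := k) (A := A) v) := by
    intro i
    change e (Comod.coact (k := k) (A := A) v) i = _
    generalize Comod.coact (k := k) (A := A) v = x
    induction x with
    | zero => simp
    | tmul m a =>
      rw [TensorProduct.equivFinsuppOfBasisRight_apply_tmul_apply]
      simp
    | add x y hx hy => rw [map_add, Finsupp.add_apply, hx, hy, map_add]
  let W : Submodule k V := Submodule.span k (Set.range f)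
  have hfW : ∀ i, f i ∈ W := fun i => Submodule.subset_span ⟨i, rfl⟩
  refine ⟨W, ?_, FiniteDimensional.span_of_finite k f.finite_range, ?_⟩
  · -- subcomodule
    intro w hw
    induction hw using Submodule.span_induction with
    | mem x hx =>
      obtain ⟨i, rfl⟩ := hx
      rw [hslice i, slice_rTensor (b.coord i) (Comod.coact (k := k) (A := A))]
      have hco := LinearMap.congr_fun (Comod.coassoc (k := k) (A := A) (V := V)) v
      simp only [LinearMap.comp_apply, LinearEquiv.coe_coe] at hco
      rw [← (TensorProduct.assoc k V A A).symm_apply_apply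
        ((LinearMap.rTensor A (Comod.coact (k := k) (A := A)))
          (Comod.coact (k := k) (A := A) v)), hco, hf]
      rw [Finsupp.sum, map_sum, map_sum, map_sum]
      refine Submodule.sum_mem _ fun j _ => ?_
      rw [LinearMap.lTensor_tmul]
      exact slice_assoc_symm_mem W _ _ (hfW j) _
    | zero => simp
    | add x y _ _ hx hy => rw [map_add]; exact Submodule.add_mem _ hx hy
    | smul c x _ hx => rw [map_smul]; exact Submodule.smul_mem _ _ hx
  · -- `v ∈ W`
    have hcu := LinearMap.congr_fun (Comod.counit_comp (k := k) (A := A) (V := V)) v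
    simp only [LinearMap.comp_apply, LinearMap.flip_apply, TensorProduct.mk_apply] at hcu
    have h1 : v = slice (CoalgebraStruct.counit (R := k) (A := A))
        (Comod.coact (k := k) (A := A) v) := by
      simp only [slice, LinearMap.comp_apply, LinearEquiv.coe_coe]
      rw [hcu]
      simp
    rw [h1, hf, Finsupp.sum, map_sum]
    refine Submodule.sum_mem _ fun j _ => ?_
    rw [slice_tmul]
    exact Submodule.smul_mem _ _ (hfW j)

end LocFin

/-! ## Subcomodules as comodules -/

section Sub

open HopfRep

variable {k : Type u} [Field k] {A : Type v} [AddCommGroup A] [Module k A] [Coalgebra k A]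
variable {V : Type w} [AddCommGroup V] [Module k V] [Comod k A V]

omit [Coalgebra k A] [Comod k A V] in
lemma rTensor_injective {N : Type w} {P : Type w'} [AddCommGroup N] [Module k N]
    [AddCommGroup P] [Module k P] (f : N →ₗ[k] P) (hf : Function.Injective f)
    (Q : Type w'') [AddCommGroup Q] [Module k Q] :
    Function.Injective (f.rTensor Q) :=
  Module.Flat.rTensor_preserves_injective_linearMap f hf

omit [Coalgebra k A] [Comod k A V] in
lemma subtype_rTensor_injective (W : Submodule k V) (Q : Type w'') [AddCommGroup Q] [Module k Q] :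
    Function.Injective (W.subtype.rTensor Q) :=
  rTensor_injective W.subtype W.injective_subtype Q

/-- the coaction on a subcomodule -/
def subCoact (W : Submodule k V) (hW : IsSubcomod (k := k) (A := A) W) : W →ₗ[k] W ⊗[k] A :=
  (LinearEquiv.ofInjective (W.subtype.rTensor A) (subtype_rTensor_injective W A)).symm.toLinearMap ∘ₗ
    LinearMap.codRestrict (LinearMap.range (W.subtype.rTensor A))
      (Comod.coact (k := k) (A := A) ∘ₗ W.subtype) (fun w => hW w.1 w.2)

lemma subtype_subCoact (W : Submodule k V) (hW : IsSubcomod (k := k) (A := A) W) (w : W) :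
    W.subtype.rTensor A (subCoact W hW w) = Comod.coact (k := k) (A := A) (w : V) := by
  have := (LinearEquiv.ofInjective (W.subtype.rTensor A)
    (subtype_rTensor_injective W A)).apply_symm_apply
      (LinearMap.codRestrict (LinearMap.range (W.subtype.rTensor A))
      (Comod.coact (k := k) (A := A) ∘ₗ W.subtype) (fun w => hW w.1 w.2) w)
  exact congrArg Subtype.val this

omit [Field k] [Coalgebra k A] [Comod k A V] in
lemma rTensor_assoc {k : Type u} [CommRing k] {A : Type v} [AddCommGroup A] [Module k A]
    {V : Type w} [AddCommGroup V] [Module k V]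
    {N : Type w'} [AddCommGroup N] [Module k N] (g : N →ₗ[k] V)
    (x : (N ⊗[k] A) ⊗[k] A) :
    g.rTensor (A ⊗[k] A) (TensorProduct.assoc k N A A x) =
      TensorProduct.assoc k V A A ((g.rTensor A).rTensor A x) := by
  induction x with
  | zero => simp
  | tmul y a =>
    induction y with
    | zero => simp
    | tmul n a' => simp
    | add y z hy hz => simp only [add_tmul, map_add, hy, hz]
  | add x y hx hy => simp only [map_add, hx, hy]

omit [Field k] [Coalgebra k A] [Comod k A V] in
lemma rTensor_lTensor_comm {k : Type u} [CommRing k] {A : Type v} [AddCommGroup A] [Module k A]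
    {B : Type w''} [AddCommGroup B] [Module k B]
    {V : Type w} [AddCommGroup V] [Module k V]
    {N : Type w'} [AddCommGroup N] [Module k N] (g : N →ₗ[k] V) (h : A →ₗ[k] B)
    (x : N ⊗[k] A) :
    g.rTensor B (h.lTensor N x) = h.lTensor V (g.rTensor A x) := by
  induction x with
  | zero => simp
  | tmul n a => simp
  | add x y hx hy => simp only [map_add, hx, hy]

/-- a subcomodule is a comodule -/
@[reducible] def subComod (W : Submodule k V) (hW : IsSubcomod (k := k) (A := A) W) :
    Comod k A W where
  coact := subCoact W hW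
  coassoc := by
    ext w
    apply subtype_rTensor_injective W (A ⊗[k] A)
    simp only [LinearMap.comp_apply, LinearEquiv.coe_coe]
    rw [rTensor_assoc, ← LinearMap.comp_apply (W.subtype.rTensor A |>.rTensor A),
      ← LinearMap.rTensor_comp]
    have h1 : W.subtype.rTensor A ∘ₗ subCoact W hW =
        Comod.coact (k := k) (A := A) ∘ₗ W.subtype := by
      ext w
      exact subtype_subCoact W hW w
    rw [h1, LinearMap.rTensor_comp, LinearMap.comp_apply, subtype_subCoact,
      rTensor_lTensor_comm, subtype_subCoact]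
    exact LinearMap.congr_fun (Comod.coassoc (k := k) (A := A) (V := V)) (w : V)
  counit_comp := by
    ext w
    apply subtype_rTensor_injective W k
    simp only [LinearMap.comp_apply, LinearMap.flip_apply, TensorProduct.mk_apply]
    rw [rTensor_lTensor_comm, subtype_subCoact, LinearMap.rTensor_tmul]
    exact LinearMap.congr_fun (Comod.counit_comp (k := k) (A := A) (V := V)) (w : V)

lemma subtype_isComodHom (W : Submodule k V) (hW : IsSubcomod (k := k) (A := A) W) :
    letI := subComod W hW
    Hoch.IsComodHom A W.subtype := by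
  change Comod.coact (k := k) (A := A) ∘ₗ W.subtype = W.subtype.rTensor A ∘ₗ subCoact W hW
  ext w
  exact (subtype_subCoact W hW w).symm

omit [Field k] in
lemma isSubcomod_map {k : Type u} [CommRing k] {A : Type v} [AddCommGroup A] [Module k A]
    [Coalgebra k A] {V : Type w} [AddCommGroup V] [Module k V] [Comod k A V]
    {V' : Type w'} [AddCommGroup V'] [Module k V'] [Comod k A V']
    (f : V →ₗ[k] V') (hf : Hoch.IsComodHom A f) (W : Submodule k V)
    (hW : IsSubcomod (k := k) (A := A) W) : IsSubcomod (k := k) (A := A) (W.map f) := by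
  rintro _ ⟨w, hw, rfl⟩
  obtain ⟨y, hy⟩ := hW w hw
  have h1 := LinearMap.congr_fun hf w
  simp only [LinearMap.comp_apply] at h1
  rw [h1, ← hy]
  let f' : W →ₗ[k] W.map f := f.restrict (fun x hx => Submodule.mem_map_of_mem hx)
  refine ⟨f'.rTensor A y, ?_⟩
  rw [← LinearMap.comp_apply, ← LinearMap.rTensor_comp, ← LinearMap.comp_apply,
    ← LinearMap.rTensor_comp]
  rfl

end Sub

/-! ## Linearly reductive groups -/

section LinRed

open HopfRep

variable {k : Type u} [Field k] {A : Type v} [CommRing A] [Bialgebra k A]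

omit [Field k] in
lemma isSubcomod_ker {k : Type u} [Field k] {A : Type v} [AddCommGroup A] [Module k A]
    [Coalgebra k A] {V : Type w} [AddCommGroup V] [Module k V] [Comod k A V]
    {V' : Type w'} [AddCommGroup V'] [Module k V'] [Comod k A V']
    (f : V →ₗ[k] V') (hf : Hoch.IsComodHom A f) :
    IsSubcomod (k := k) (A := A) (LinearMap.ker f) := by
  intro w hw
  have h1 := LinearMap.congr_fun hf w
  simp only [LinearMap.comp_apply] at h1
  rw [LinearMap.mem_ker.mp hw, map_zero] at h1
  have hex : Function.Exact ((LinearMap.ker f).subtype.rTensor A) (f.rTensor A) :=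
    Module.Flat.rTensor_exact A (LinearMap.exact_subtype_ker_map f)
  exact (hex _).mp h1.symm

theorem hom_eq_zero_of_fixedPts_eq_bot (hG : IsLinearlyReductive k A)
    (W : Type v) [AddCommGroup W] [Module k W] [Comod k A W] [Module.Finite k W]
    (T : Type w) [AddCommGroup T] [Module k T] [Comod k A T]
    (φ : W →ₗ[k] T) (hφ : Hoch.IsComodHom A φ) (hfix : ∀ w, φ w ∈ fixedPts k A T)
    (hW : fixedPts k A W = ⊥) : φ = 0 := by
  obtain ⟨C, hC, hcompl⟩ := hG W inferInstance (LinearMap.ker φ) (isSubcomod_ker φ hφ)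
  have hCbot : C = ⊥ := by
    rw [eq_bot_iff]
    intro c hc
    rw [← hW]
    change Comod.coact (k := k) (A := A) c = c ⊗ₜ[k] (1 : A)
    obtain ⟨y, hy⟩ := hC c hc
    let ψ : C →ₗ[k] T := φ ∘ₗ C.subtype
    have hψ : Function.Injective ψ := by
      rw [← LinearMap.ker_eq_bot, LinearMap.ker_comp, ← Submodule.disjoint_iff_comap_eq_bot]
      exact hcompl.symm.disjoint
    have h1 : ψ.rTensor A y = ψ.rTensor A ((⟨c, hc⟩ : C) ⊗ₜ[k] (1 : A)) := by
      rw [LinearMap.rTensor_comp, LinearMap.comp_apply, hy]
      have h2 := LinearMap.congr_fun hφ c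
      simp only [LinearMap.comp_apply] at h2
      rw [← h2, LinearMap.comp_apply, LinearMap.rTensor_tmul, LinearMap.rTensor_tmul]
      exact hfix c
    have h3 := rTensor_injective ψ hψ A h1
    rw [← hy, h3, LinearMap.rTensor_tmul]
    rfl
  have hker : LinearMap.ker φ = ⊤ := by
    rw [hCbot] at hcompl
    exact eq_top_of_isCompl_bot hcompl
  exact LinearMap.ker_eq_top.mp hker

section homs

variable {k : Type u} [CommRing k] {A : Type v} [AddCommGroup A] [Module k A] [Coalgebra k A]
variable {V₁ : Type w} [AddCommGroup V₁] [Module k V₁] [Comod k A V₁]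
variable {V₂ : Type w'} [AddCommGroup V₂] [Module k V₂] [Comod k A V₂]
variable {V₃ : Type w''} [AddCommGroup V₃] [Module k V₃] [Comod k A V₃]

lemma isComodHom_id : Hoch.IsComodHom A (LinearMap.id : V₁ →ₗ[k] V₁) := by
  change _ ∘ₗ LinearMap.id = LinearMap.rTensor A LinearMap.id ∘ₗ _
  rw [LinearMap.rTensor_id, LinearMap.comp_id, LinearMap.id_comp]

lemma isComodHom_comp {f : V₁ →ₗ[k] V₂} {g : V₂ →ₗ[k] V₃} (hf : Hoch.IsComodHom A f)
    (hg : Hoch.IsComodHom A g) : Hoch.IsComodHom A (g ∘ₗ f) := by
  change _ ∘ₗ (g ∘ₗ f) = LinearMap.rTensor A (g ∘ₗ f) ∘ₗ _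
  rw [← LinearMap.comp_assoc, show Comod.coact (k := k) (A := A) ∘ₗ g = _ from hg,
    LinearMap.comp_assoc, show Comod.coact (k := k) (A := A) ∘ₗ f = _ from hf,
    ← LinearMap.comp_assoc, LinearMap.rTensor_comp]

lemma isComodHom_sub {f g : V₁ →ₗ[k] V₂} (hf : Hoch.IsComodHom A f)
    (hg : Hoch.IsComodHom A g) : Hoch.IsComodHom A (f - g) := by
  change _ ∘ₗ (f - g) = LinearMap.rTensor A (f - g) ∘ₗ _
  rw [LinearMap.comp_sub, show Comod.coact (k := k) (A := A) ∘ₗ f = _ from hf,
    show Comod.coact (k := k) (A := A) ∘ₗ g = _ from hg, LinearMap.rTensor_sub, LinearMap.sub_comp]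

end homs

theorem hom_ker_eq_zero (hG : IsLinearlyReductive k A)
    (V : Type v) [AddCommGroup V] [Module k V] [Comod k A V]
    (E : V →ₗ[k] V) (h₁ : Hoch.IsComodHom A E) (h₂ : E ∘ₗ E = E)
    (h₃ : ∀ x, E x = x ↔ x ∈ fixedPts k A V)
    (T : Type w) [AddCommGroup T] [Module k T] [Comod k A T]
    (ψ : V →ₗ[k] T) (hψ : Hoch.IsComodHom A ψ) (hfix : ∀ v, ψ v ∈ fixedPts k A T)
    (z : V) (hz : E z = 0) : ψ z = 0 := by
  obtain ⟨W₀, hW₀, hfin, hzW₀⟩ := exists_finite_subcomod (k := k) (A := A) z
  have hD : Hoch.IsComodHom A (LinearMap.id - E) := isComodHom_sub isComodHom_id h₁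
  have hW : IsSubcomod (k := k) (A := A) (W₀.map (LinearMap.id - E)) :=
    isSubcomod_map _ hD W₀ hW₀
  have hzW : z ∈ W₀.map (LinearMap.id - E) :=
    ⟨z, hzW₀, by simp [hz]⟩
  have hker : ∀ w ∈ W₀.map (LinearMap.id - E), E w = 0 := by
    rintro _ ⟨w, -, rfl⟩
    have := LinearMap.congr_fun h₂ w
    simp only [LinearMap.comp_apply] at this
    simp [this]
  let _ := subComod _ hW
  have hfixW : fixedPts k A (W₀.map (LinearMap.id - E)) = ⊥ := by
    rw [eq_bot_iff]
    intro w hw
    change subCoact _ hW w = w ⊗ₜ[k] (1 : A) at hw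
    have h4 := subtype_subCoact _ hW w
    rw [hw, LinearMap.rTensor_tmul] at h4
    have h5 : (w : V) ∈ fixedPts k A V := h4.symm
    rw [← h₃, hker _ w.2] at h5
    exact Subtype.ext h5.symm
  have hφ : Hoch.IsComodHom A (ψ ∘ₗ (W₀.map (LinearMap.id - E)).subtype) :=
    isComodHom_comp (subtype_isComodHom _ hW) hψ
  have := hom_eq_zero_of_fixedPts_eq_bot hG (W₀.map (LinearMap.id - E)) T _ hφ
    (fun w => hfix _) hfixW
  exact LinearMap.congr_fun this ⟨z, hzW⟩

end LinRed

end

end Groth.Agent.H62
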