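import Mathlib
import Groth.Agent.H96.NormalConn
import Groth.Agent.H71.Irr.Cover

/-!
# helper62, gateway part 1: a connected locally Noetherian scheme whose local rings are domains is
integral
-/

set_option autoImplicit false
set_option linter.style.haveILetI false
open CategoryTheory CategoryTheory.Limits AlgebraicGeometry TopologicalSpace Topology
universe u

namespace Groth.Agent.H62.GW

section top

variable {X : Type*} [TopologicalSpace X]

/-- a connected space covered by irreducible open subsets is irreducible -/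
theorem irreducibleSpace_of_connected_of_cover [ConnectedSpace X]
    (h : ∀ x : X, ∃ W : Set X, IsOpen W ∧ IsIrreducible W ∧ x ∈ W) : IrreducibleSpace X := by
  obtain ⟨x₀⟩ := (inferInstance : Nonempty X)
  obtain ⟨W₀, hW₀o, hW₀i, hx₀⟩ := h x₀
  -- the irreducible open subsets
  let 𝓦 : Set (Set X) := {W | IsOpen W ∧ IsIrreducible W}
  let Z : Set X := ⋃₀ {W ∈ 𝓦 | (W ∩ W₀).Nonempty}
  let Z' : Set X := ⋃₀ {W ∈ 𝓦 | ¬ (W ∩ W₀).Nonempty}
  have hZo : IsOpen Z := isOpen_sUnion fun W hW => hW.1.1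
  have hZ'o : IsOpen Z' := isOpen_sUnion fun W hW => hW.1.1
  have hcov : Z ∪ Z' = Set.univ := by
    ext x
    simp only [Set.mem_union, Set.mem_univ, iff_true]
    obtain ⟨W, hWo, hWi, hxW⟩ := h x
    by_cases hne : (W ∩ W₀).Nonempty
    · exact Or.inl ⟨W, ⟨⟨hWo, hWi⟩, hne⟩, hxW⟩
    · exact Or.inr ⟨W, ⟨⟨hWo, hWi⟩, hne⟩, hxW⟩
  have hdisj : Disjoint Z Z' := by
    rw [Set.disjoint_left]
    rintro x ⟨W, ⟨⟨hWo, hWi⟩, hne⟩, hxW⟩ ⟨W', ⟨⟨hW'o, hW'i⟩, hne'⟩, hxW'⟩
    apply hne'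
    obtain ⟨z, hz⟩ := hWi.isPreirreducible W' W₀ hW'o hW₀o ⟨x, hxW, hxW'⟩ hne
    exact ⟨z, hz.2.1, hz.2.2⟩
  have hZne : Z.Nonempty := ⟨x₀, W₀, ⟨⟨hW₀o, hW₀i⟩, ⟨x₀, hx₀, hx₀⟩⟩, hx₀⟩
  have hZ'empty : Z' = ∅ := by
    by_contra hne
    have hne' : Z'.Nonempty := Set.nonempty_iff_ne_empty.mpr hne
    have := isPreconnected_univ (α := X) Z Z' hZo hZ'o (by rw [hcov]) (by simpa using hZne)
      (by simpa using hne')
    obtain ⟨z, -, hz1, hz2⟩ := this
    exact Set.disjoint_left.mp hdisj hz1 hz2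
  have hall : ∀ W ∈ 𝓦, (W ∩ W₀).Nonempty := by
    intro W hW
    by_contra hne
    obtain ⟨w, hw⟩ := hW.2.nonempty
    have : w ∈ Z' := ⟨W, ⟨hW, hne⟩, hw⟩
    rw [hZ'empty] at this
    exact this
  haveI : Nonempty 𝓦 := ⟨⟨W₀, hW₀o, hW₀i⟩⟩
  refine Groth.Agent.H71.Irr.irreducibleSpace_of_cover (ι := 𝓦) (fun W => W.1)
    (fun W => W.2.1) (fun W => W.2.2) (fun x => ?_) (fun W W' => ?_)
  · obtain ⟨W, hWo, hWi, hxW⟩ := h x
    exact ⟨⟨W, hWo, hWi⟩, hxW⟩
  · obtain ⟨z, hz⟩ := hW₀i.isPreirreducible W.1 W'.1 W.2.1 W'.2.1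
      (by obtain ⟨a, ha⟩ := hall W.1 W.2; exact ⟨a, ha.2, ha.1⟩)
      (by obtain ⟨a, ha⟩ := hall W'.1 W'.2; exact ⟨a, ha.2, ha.1⟩)
    exact ⟨z, hz.2.1, hz.2.2⟩

end top

section ring

variable (R : Type u) [CommRing R] [IsNoetherianRing R]

/-- a prime of a Noetherian ring at which the local ring is a domain has an irreducible open
neighbourhood -/
theorem exists_irreducible_open (P : PrimeSpectrum R) [IsDomain (Localization.AtPrime P.asIdeal)] :
    ∃ W : Set (PrimeSpectrum R), IsOpen W ∧ IsIrreducible W ∧ P ∈ W := by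
  obtain ⟨p, hpmin, hpP⟩ := Ideal.exists_minimalPrimes_le (bot_le : (⊥ : Ideal R) ≤ P.asIdeal)
  have hpprime : p.IsPrime := hpmin.1.1
  have hpker := Groth.Agent.H96.NormalConn.minimal_eq_ker R hpmin hpP
  let T : Set (Ideal R) := {q | q ∈ minimalPrimes R ∧ q ≠ p}
  have hfin : T.Finite := (minimalPrimes.finite_of_isNoetherianRing R).subset (fun q hq => hq.1)
  let F : Set (PrimeSpectrum R) := ⋃ q ∈ T, PrimeSpectrum.zeroLocus (q : Set R)
  have hFcl : IsClosed F := hfin.isClosed_biUnion (fun q _ => PrimeSpectrum.isClosed_zeroLocus _)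
  have hPF : P ∉ F := by
    intro hP
    simp only [F, Set.mem_iUnion, PrimeSpectrum.mem_zeroLocus, SetLike.coe_subset_coe] at hP
    obtain ⟨q, ⟨hqmin, hne⟩, hqP⟩ := hP
    exact hne ((Groth.Agent.H96.NormalConn.minimal_eq_ker R hqmin hqP).trans hpker.symm)
  have hsub : Fᶜ ⊆ PrimeSpectrum.zeroLocus (p : Set R) := by
    intro Q hQ
    haveI := Q.isPrime
    obtain ⟨q, hqmin, hqQ⟩ := Ideal.exists_minimalPrimes_le (bot_le : (⊥ : Ideal R) ≤ Q.asIdeal)
    by_cases hqp : q = p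
    · rw [PrimeSpectrum.mem_zeroLocus, SetLike.coe_subset_coe, ← hqp]; exact hqQ
    · exfalso
      apply hQ
      simp only [F, Set.mem_iUnion, PrimeSpectrum.mem_zeroLocus, SetLike.coe_subset_coe]
      exact ⟨q, ⟨hqmin, hqp⟩, hqQ⟩
  have hirr : IsIrreducible (PrimeSpectrum.zeroLocus (p : Set R)) := by
    rw [PrimeSpectrum.isIrreducible_zeroLocus_iff_of_radical _ hpprime.isRadical]
    exact hpprime
  refine ⟨Fᶜ, hFcl.isOpen_compl, ⟨⟨P, hPF⟩, ?_⟩, hPF⟩
  exact hirr.isPreirreducible.open_subset hFcl.isOpen_compl hsub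

end ring

section scheme

variable {X : Scheme.{u}}

/-- a point of a locally Noetherian scheme at which the local ring is a domain has an irreducible
open neighbourhood -/
theorem exists_irreducible_open_nhd [IsLocallyNoetherian X] (x : X)
    [IsDomain (X.presheaf.stalk x)] :
    ∃ W : Set X, IsOpen W ∧ IsIrreducible W ∧ x ∈ W := by
  obtain ⟨U, hU, hxU, -⟩ := Opens.isBasis_iff_nbhd.mp X.isBasis_affineOpens
    (show x ∈ (⊤ : X.Opens) from trivial)
  have hU : IsAffineOpen U := hU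
  haveI : IsNoetherianRing Γ(X, U) := IsLocallyNoetherian.component_noetherian ⟨U, hU⟩
  set P := hU.primeIdealOf ⟨x, hxU⟩ with hP
  letI : Algebra Γ(X, U) (X.presheaf.stalk x) := X.presheaf.algebra_section_stalk ⟨x, hxU⟩
  haveI : IsLocalization.AtPrime (X.presheaf.stalk x) P.asIdeal := hU.isLocalization_stalk ⟨x, hxU⟩
  haveI : IsDomain (Localization.AtPrime P.asIdeal) :=
    (IsLocalization.algEquiv P.asIdeal.primeCompl (Localization.AtPrime P.asIdeal)
      (X.presheaf.stalk x)).toMulEquiv.isDomain _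
  obtain ⟨W, hWo, hWi, hPW⟩ := exists_irreducible_open Γ(X, U) P
  have hemb : IsOpenEmbedding hU.fromSpec := hU.fromSpec.isOpenEmbedding
  refine ⟨hU.fromSpec '' W, hemb.isOpenMap W hWo, hWi.image _ hU.fromSpec.continuous.continuousOn,
    ⟨P, hPW, ?_⟩⟩
  exact hU.fromSpec_primeIdealOf ⟨x, hxU⟩

/-- **a connected locally Noetherian scheme whose local rings are domains is integral** -/
theorem isIntegral_of_connected_of_isDomain_stalk [IsLocallyNoetherian X] [ConnectedSpace X]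
    (h : ∀ x : X, IsDomain (X.presheaf.stalk x)) : IsIntegral X := by
  haveI : IsReduced X := by
    haveI : ∀ x : X, _root_.IsReduced (X.presheaf.stalk x) := fun x => by
      haveI := h x
      infer_instance
    exact isReduced_of_isReduced_stalk X
  haveI : IrreducibleSpace X := irreducibleSpace_of_connected_of_cover (fun x => by
    haveI := h x
    exact exists_irreducible_open_nhd x)
  exact isIntegral_of_irreducibleSpace_of_isReduced X

end scheme

end Groth.Agent.H62.GW
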