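import Mathlib
import Groth.Agent.H62.CatenRing
import Groth.Agent.H62.CatenDim

/-!
# Local dimension functions on the spectrum of a Noetherian catenary ring
-/

set_option autoImplicit false
universe u

namespace Groth.Agent.H62

theorem exists_dimfun_ring (R : Type u) [CommRing R] [IsNoetherianRing R]
    (hcat : CAlg.IsCatenary R) (𝔭 : PrimeSpectrum R) :
    ∃ f : R, f ∉ 𝔭.asIdeal ∧ ∃ δ : PrimeSpectrum R → ℤ,
      (∀ q q' : PrimeSpectrum R, f ∉ q'.asIdeal → q < q' → δ q' < δ q) ∧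
      (∀ q q' : PrimeSpectrum R, f ∉ q'.asIdeal → q ⋖ q' → δ q = δ q' + 1) := by
  classical
  have hcat' : ∀ a b : PrimeSpectrum R, a ≤ b → CatPair a b := by
    intro a b hab
    rw [catPair_iff_catPair']
    exact (isCatenary_iff_catPair' R).1 hcat a b hab
  -- candidate ideals
  let Cand : Set (Ideal R) := minimalPrimes R ∪
    ⋃ m ∈ minimalPrimes R, ⋃ m' ∈ minimalPrimes R, (m ⊔ m').minimalPrimes
  have hCand : Cand.Finite := by
    refine (minimalPrimes.finite_of_isNoetherianRing R).union ?_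
    refine (minimalPrimes.finite_of_isNoetherianRing R).biUnion fun m _ => ?_
    refine (minimalPrimes.finite_of_isNoetherianRing R).biUnion fun m' _ => ?_
    exact Ideal.finite_minimalPrimes_of_isNoetherianRing R _
  let Bad : Set (Ideal R) := {I ∈ Cand | ¬ I ≤ 𝔭.asIdeal}
  have hBad : Bad.Finite := hCand.subset fun I hI => hI.1
  have hex : ∀ I ∈ Bad, ∃ x ∈ I, x ∉ 𝔭.asIdeal := fun I hI =>
    SetLike.not_le_iff_exists.1 hI.2
  choose! g hg1 hg2 using hex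
  refine ⟨∏ I ∈ hBad.toFinset, g I, ?_, ?_⟩
  · intro hmem
    obtain ⟨I, hI, hgI⟩ := (Ideal.IsPrime.prod_mem_iff).1 hmem
    exact hg2 I (hBad.mem_toFinset.1 hI) hgI
  set f := ∏ I ∈ hBad.toFinset, g I with hf
  have hfI : ∀ I ∈ Bad, f ∈ I := fun I hI =>
    Ideal.prod_mem I (hBad.mem_toFinset.2 hI) (hg1 I hI)
  have hgood : ∀ I ∈ Cand, ∀ q : PrimeSpectrum R, f ∉ q.asIdeal → I ≤ q.asIdeal →
      I ≤ 𝔭.asIdeal := by
    intro I hI q hq hIq
    by_contra hbad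
    exact hq (hIq (hfI I ⟨hI, hbad⟩))
  have hmin : ∀ q : PrimeSpectrum R, ∃ m : PrimeSpectrum R,
      m.asIdeal ∈ minimalPrimes R ∧ m ≤ q := by
    intro q
    obtain ⟨p, hp, hpq⟩ := Ideal.exists_minimalPrimes_le (bot_le : (⊥ : Ideal R) ≤ q.asIdeal)
    exact ⟨⟨p, hp.1.1⟩, hp, hpq⟩
  choose μ hμ1 hμ2 using hmin
  have hjoin : ∀ q ∈ {q : PrimeSpectrum R | f ∉ q.asIdeal}, ∀ q', q' ≤ q →
      ∃ w, μ q ≤ w ∧ μ q' ≤ w ∧ w ≤ q ∧ w ≤ 𝔭 := by
    intro q hq q' hq'q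
    have hle : (μ q).asIdeal ⊔ (μ q').asIdeal ≤ q.asIdeal :=
      sup_le (hμ2 q) ((hμ2 q').trans hq'q)
    obtain ⟨w, hw, hwq⟩ := Ideal.exists_minimalPrimes_le hle
    have hwJ : (μ q).asIdeal ⊔ (μ q').asIdeal ≤ w := hw.1.2
    refine ⟨⟨w, hw.1.1⟩, le_sup_left.trans hwJ, le_sup_right.trans hwJ,
      hwq, ?_⟩
    refine hgood w (Or.inr ?_) q hq hwq
    simp only [Set.mem_iUnion]
    exact ⟨_, hμ1 q, _, hμ1 q', hw⟩
  obtain ⟨h1, h2⟩ := dimfun_of_catenary hcat' 𝔭 {q : PrimeSpectrum R | f ∉ q.asIdeal} μ hμ2 hjoin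
  exact ⟨fun q => ((cod (μ q) 𝔭).toNat : ℤ) - (cod (μ q) q).toNat,
    fun q q' hq' hlt => h1 q q' hq' hlt, fun q q' hq' hcov => h2 q q' hq' hcov⟩

end Groth.Agent.H62
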