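import Groth.Agent.H62.FFUnram
import Mathlib.FieldTheory.IntermediateField.Adjoin.Algebra
import Mathlib.RingTheory.Adjoin.Polynomial.Basic

/-!
# Finiteness of ramification in finite separable extensions of function fields
-/

set_option autoImplicit false
set_option linter.unusedSectionVars false

namespace Groth.Agent.H62.FFUnram

open FunFld WithZero Polynomial IntermediateField Groth.Agent.H55

variable {k K K' : Type*} [Field k] [Field K] [Field K'] [Algebra k K] [Algebra K K']
  [Algebra k K'] [IsScalarTower k K K']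

/-- clearing denominators: every `p(y)`, `p ∈ K[T]`, is `A(y)/c` with `A ∈ O_P[T]`, `c ∈ O_P` -/
theorem exists_clear_denominators (P : Place k K) (y : K') (p : K[X]) :
    ∃ (c : P.O) (A : P.O[X]), (c : K) ≠ 0 ∧
      iota (K' := K') P c * aeval y p = eval₂ (iota P) y A := by
  induction p using Polynomial.induction_on' with
  | add p q hp hq =>
    obtain ⟨c₁, A₁, hc₁, h₁⟩ := hp
    obtain ⟨c₂, A₂, hc₂, h₂⟩ := hq
    refine ⟨c₁ * c₂, C c₂ * A₁ + C c₁ * A₂, mul_ne_zero hc₁ hc₂, ?_⟩
    rw [map_add, map_mul, eval₂_add, eval₂_mul, eval₂_mul, eval₂_C, eval₂_C, ← h₁, ← h₂]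
    ring
  | monomial n a =>
    by_cases ha : P.1 a ≤ 1
    · refine ⟨1, monomial n ⟨a, (Valuation.mem_valuationSubring_iff P.1 a).mpr ha⟩, one_ne_zero, ?_⟩
      rw [map_one, one_mul, eval₂_monomial, aeval_monomial]
      rfl
    · push Not at ha
      have ha0 : a ≠ 0 := by
        rintro rfl
        rw [map_zero] at ha
        exact not_lt_zero ha
      have hinv : P.1 a⁻¹ ≤ 1 := by
        rw [map_inv₀]
        exact inv_le_one_of_one_le₀ ha.le
      refine ⟨⟨a⁻¹, (Valuation.mem_valuationSubring_iff P.1 _).mpr hinv⟩, monomial n 1,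
        inv_ne_zero ha0, ?_⟩
      rw [eval₂_monomial, aeval_monomial, map_one, one_mul, iota_apply]
      show algebraMap K K' a⁻¹ * (algebraMap K K' a * y ^ n) = y ^ n
      rw [← mul_assoc, ← map_mul, inv_mul_cancel₀ ha0, map_one, one_mul]

/-- the unramifiedness criterion -/
theorem eq_one_of_unit_derivative {Q : Place k K'} {P : Place k K} {e : ℕ}
    (he : IsOverWith Q P e) {y : K'} (hy : Q.1 y ≤ 1) (hyalg : IsAlgebraic K y)
    (htop : K⟮y⟯ = ⊤) {φ₀ : P.O[X]} (hφ : eval₂ (iota P) y φ₀ = 0)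
    (hφ' : Q.1 (eval₂ (iota P) y (derivative φ₀)) = 1) : e = 1 := by
  obtain ⟨π, hπ⟩ := Place.exists_uniformizer Q
  have hπ0 : π ≠ 0 := by
    rintro rfl
    rw [map_zero] at hπ
    exact exp_ne_zero hπ.symm
  have hπmem : π ∈ (K⟮y⟯).toSubalgebra := by rw [htop]; trivial
  rw [adjoin_simple_toSubalgebra_of_isAlgebraic hyalg,
    Algebra.adjoin_singleton_eq_range_aeval] at hπmem
  obtain ⟨p, hp⟩ := hπmem
  change aeval y p = π at hp
  subst hp
  obtain ⟨c, A, hc, hA⟩ := exists_clear_denominators (K' := K') P y p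
  have hιc0 : iota (K' := K') P c ≠ 0 := by
    rw [iota_apply, Ne, map_eq_zero_iff _ (algebraMap K K').injective]
    exact hc
  have hA0 : eval₂ (iota P) y A ≠ 0 := by
    rw [← hA]; exact mul_ne_zero hιc0 hπ0
  obtain ⟨m, hm⟩ := dvd_ord_eval₂ he hy hφ hφ' A hA0
  rw [← hA, Place.ord_mul Q hιc0 hπ0, iota_apply, isOverWith_ord_eq he,
    (Place.ord_eq_iff Q hπ0 1).mpr hπ] at hm
  have hdvd : (e : ℤ) ∣ 1 := ⟨m - P.ord (c : K), by linarith⟩
  have := Int.eq_one_of_dvd_one (by positivity) hdvd
  exact_mod_cast this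

/-- an element integral over `O_P` via a monic polynomial lies in `O_Q` -/
theorem val_le_one_of_monic_root (Q : Place k K') {φ : K[X]} (hmon : φ.Monic) {y : K'}
    (hroot : aeval y φ = 0) (hc : ∀ i, Q.1 (algebraMap K K' (φ.coeff i)) ≤ 1) : Q.1 y ≤ 1 := by
  by_contra hlt
  push Not at hlt
  have hy0 : Q.1 y ≠ 0 := (zero_lt_one.trans hlt).ne'
  have h1 : aeval y φ = y ^ φ.natDegree +
      ∑ i ∈ Finset.range φ.natDegree, algebraMap K K' (φ.coeff i) * y ^ i := by
    conv_lhs => rw [hmon.as_sum]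
    rw [map_add, map_pow, aeval_X, map_sum]
    congr 1
    exact Finset.sum_congr rfl fun i _ => by rw [map_mul, aeval_C, map_pow, aeval_X]
  have h2 : Q.1 (∑ i ∈ Finset.range φ.natDegree, algebraMap K K' (φ.coeff i) * y ^ i) <
      Q.1 y ^ φ.natDegree := by
    apply Valuation.map_sum_lt Q.1 (pow_ne_zero _ hy0)
    intro i hi
    rw [map_mul, map_pow]
    calc Q.1 (algebraMap K K' (φ.coeff i)) * Q.1 y ^ i ≤ 1 * Q.1 y ^ i :=
          mul_le_mul' (hc i) le_rfl
      _ = Q.1 y ^ i := one_mul _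
      _ < Q.1 y ^ φ.natDegree := pow_lt_pow_right₀ hlt (Finset.mem_range.mp hi)
  have h3 : Q.1 (aeval y φ) = Q.1 y ^ φ.natDegree := by
    rw [h1, Valuation.map_add_eq_of_lt_left Q.1 (by rwa [map_pow]), map_pow]
  rw [hroot, map_zero] at h3
  exact pow_ne_zero _ hy0 h3.symm

/-- **S11020**: almost all places are unramified in a finite separable extension -/
theorem finite_ramified [FiniteDimensional K K'] [Algebra.IsSeparable K K']
    (hK : IsFunctionField k K) :
    {Q : Place k K' | ¬ Function.Surjective (Q.1.comap (algebraMap K K'))}.Finite := by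
  classical
  have halg : Algebra.IsAlgebraic K K' := Algebra.IsAlgebraic.of_finite K K'
  have hK' : W.IsWeakFF k K' := W.weak_of_finite hK.weak
  obtain ⟨y, hytop⟩ := Field.exists_primitive_element K K'
  have hint : IsIntegral K y := IsIntegral.of_finite K y
  set φ := minpoly K y with hφdef
  have hmon : φ.Monic := minpoly.monic hint
  have hsep : φ.Separable := Algebra.IsSeparable.isSeparable K y
  have hroot : aeval y φ = 0 := minpoly.aeval K y
  set d := aeval y (derivative φ) with hd
  have hd0 : d ≠ 0 := hsep.aeval_derivative_ne_zero hroot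
  set Bad : Set (Place k K') := (Function.support fun Q : Place k K' => Q.ord d) ∪
    ⋃ i ∈ φ.support, (Function.support fun Q : Place k K' =>
      Q.ord (algebraMap K K' (φ.coeff i))) with hBad
  have hBadfin : Bad.Finite := by
    apply Set.Finite.union (W.Place.finite_support_ord hK' d)
    exact Set.Finite.biUnion φ.support.finite_toSet fun i _ => W.Place.finite_support_ord hK' _
  apply hBadfin.subset
  intro Q hQ
  by_contra hQB
  apply hQ
  rw [hBad, Set.mem_union, not_or, Function.mem_support, not_not, Set.mem_iUnion₂] at hQB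
  obtain ⟨hQd, hQc⟩ := hQB
  push Not at hQc
  have hdval : Q.1 d = 1 := by
    rw [Place.val_eq_exp_neg_ord Q hd0, hQd, neg_zero, exp_zero]
  have hcval : ∀ i, Q.1 (algebraMap K K' (φ.coeff i)) ≤ 1 := by
    intro i
    by_cases hi : i ∈ φ.support
    · have h0 : algebraMap K K' (φ.coeff i) ≠ 0 := by
        rw [Ne, map_eq_zero_iff _ (algebraMap K K').injective]
        exact Polynomial.mem_support_iff.mp hi
      have := hQc i hi
      rw [Function.mem_support, not_not] at this
      rw [Place.val_eq_exp_neg_ord Q h0, this, neg_zero, exp_zero]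
    · rw [Polynomial.notMem_support_iff.mp hi, map_zero, map_zero]; exact zero_le
  obtain ⟨P, e, he⟩ := exists_place_under hK Q
  have hepos := isOverWith_pos he
  have hPc : ∀ i, φ.coeff i ∈ Set.range P.O.subtype := by
    intro i
    have h1 := hcval i
    rw [he (φ.coeff i)] at h1
    have h2 : P.1 (φ.coeff i) ≤ 1 := (pow_le_one_iff_of_nonneg zero_le hepos.ne').mp h1
    exact ⟨⟨φ.coeff i, (Valuation.mem_valuationSubring_iff P.1 _).mpr h2⟩, rfl⟩
  obtain ⟨φ₀, hφ₀⟩ := (Polynomial.mem_lifts φ).mp ((Polynomial.lifts_iff_coeff_lifts φ).mpr hPc)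
  have hev : ∀ B : P.O[X], eval₂ (iota (K' := K') P) y B = aeval y (B.map P.O.subtype) := by
    intro B
    rw [aeval_def, Polynomial.eval₂_map]
    rfl
  have hφ₀root : eval₂ (iota (K' := K') P) y φ₀ = 0 := by rw [hev, hφ₀, hroot]
  have hφ₀der : Q.1 (eval₂ (iota (K' := K') P) y (derivative φ₀)) = 1 := by
    rw [hev, ← Polynomial.derivative_map, hφ₀]; exact hdval
  have hy1 : Q.1 y ≤ 1 := val_le_one_of_monic_root Q hmon hroot hcval
  have he1 : e = 1 :=
    eq_one_of_unit_derivative he hy1 (halg.isAlgebraic y) hytop hφ₀root hφ₀der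
  subst he1
  intro γ
  obtain ⟨x, hx⟩ := P.2.2 γ
  refine ⟨x, ?_⟩
  show Q.1 (algebraMap K K' x) = γ
  rw [he x, pow_one, hx]

end Groth.Agent.H62.FFUnram
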