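import Mathlib.CategoryTheory.Comma.Over.Pullback
import Mathlib.CategoryTheory.Limits.Shapes.Pullback.IsPullback.Basic
import Mathlib.CategoryTheory.Sites.Continuous

set_option autoImplicit false
universe v u

open CategoryTheory CategoryTheory.Limits

namespace Groth.Agent.H62

variable {C : Type u} [Category.{v} C] [HasPullbacks C]

/-- Base change for slice categories: for a cartesian square `g' : T' ⟶ T`, `f' : T' ⟶ S'`,
`f : T ⟶ S`, `g : S' ⟶ S`, pulling back along `f'` and then composing with `g'` is the same as
composing with `g` and then pulling back along `f`. -/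
noncomputable def overBaseChangeIso {S T S' T' : C} {f : T ⟶ S} {g : S' ⟶ S} {g' : T' ⟶ T}
    {f' : T' ⟶ S'} (hsq : IsPullback g' f' f g) :
    Over.pullback f' ⋙ Over.map g' ≅ Over.map g ⋙ Over.pullback f :=
  NatIso.ofComponents
    (fun U' => Over.isoMk
      (((IsPullback.of_hasPullback U'.hom f').paste_vert hsq.flip).isoPullback)
      (by
        simp only [Functor.comp_obj, Over.pullback_obj_left, Over.map_obj_left, Over.map_obj_hom,
          Over.pullback_obj_hom]
        exact IsPullback.isoPullback_hom_snd _))
    (by
      intro U' V' φ
      ext
      simp only [Functor.comp_obj, Functor.comp_map, Over.comp_left, Over.map_map_left,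
        Over.pullback_map_left, Over.isoMk_hom_left]
      apply pullback.hom_ext
      · simp only [Category.assoc, Over.map_obj_hom, pullback.lift_fst, pullback.lift_fst_assoc,
          IsPullback.isoPullback_hom_fst, IsPullback.isoPullback_hom_fst_assoc]
      · simp only [Category.assoc, Over.map_obj_hom, pullback.lift_snd, pullback.lift_snd_assoc,
          IsPullback.isoPullback_hom_snd, IsPullback.isoPullback_hom_snd_assoc])

end Groth.Agent.H62
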