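import Mathlib
import Groth.Prelude.Def_CurvBase
import Groth.Prelude.Def_Curve
import Groth.Prelude.Def_W4bk4goldsch23FF
import Groth.Agent.H11.CurveDVR
import Groth.Agent.H22.NCurve.Dim
import Groth.Agent.H22.NCurve.Alg
import Groth.Agent.H22.CurveFibres

/-!
helper62, curve ↔ function field dictionary, part 3 (scheme side, basics): for a smooth proper
curve `C` over a finite field `k`, the local rings at closed points are discrete valuation rings,
and the function field has transcendence degree one and is finitely generated.
-/

set_option autoImplicit false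
set_option linter.style.haveILetI false
open CategoryTheory CategoryTheory.Limits AlgebraicGeometry TopologicalSpace Topology
universe u

namespace Groth.Agent.H62.CD

attribute [local instance] Curv2.stalkAlgebra Curv2.resAlgebra

variable (k : Type u) [Field k] (C : Scheme.{u}) [C.Over (Spec (CommRingCat.of k))]

/-- the hypotheses on the curve, in `Over` form -/
structure IsCurve : Prop where
  proper : IsProper (C ↘ Spec (CommRingCat.of k))
  smooth : Smooth (C ↘ Spec (CommRingCat.of k))
  dim : topologicalKrullDim C = 1

variable {k C}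

theorem IsCurve.of_isSmoothProperCurve
    (h : Curve.IsSmoothProperCurve k C (C ↘ Spec (CommRingCat.of k))) : IsCurve k C :=
  ⟨h.1, h.2.1, h.2.2.2⟩

section basics

variable [IsIntegral C] (hC : IsCurve k C)
include hC

omit [IsIntegral C] in
theorem IsCurve.locallyOfFiniteType : LocallyOfFiniteType (C ↘ Spec (CommRingCat.of k)) :=
  haveI := hC.proper
  inferInstance

omit [IsIntegral C] in
theorem IsCurve.locallyOfFinitePresentation :
    LocallyOfFinitePresentation (C ↘ Spec (CommRingCat.of k)) :=
  haveI := hC.smooth
  inferInstance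

theorem IsCurve.ringKrullDim_stalk (x : C) (hx : IsClosed ({x} : Set C)) :
    ringKrullDim (C.presheaf.stalk x) = 1 := by
  haveI := hC.locallyOfFiniteType
  rw [← Groth.Agent.S1617.result k C x hx,
    ← Groth.Agent.H17.Chev.topologicalKrullDim_eq_localDim_of_irreducible k
      (C ↘ Spec (CommRingCat.of k)) x, hC.dim]

omit [IsIntegral C] in
/-- closed points have finite residue fields -/
theorem IsCurve.finite_residueField (x : C) (hx : IsClosed ({x} : Set C)) :
    Module.Finite k (C.residueField x) := by
  haveI := hC.locallyOfFiniteType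
  obtain ⟨V, hV, hxV, -⟩ := Opens.isBasis_iff_nbhd.mp C.isBasis_affineOpens
    (show x ∈ (⊤ : C.Opens) from trivial)
  have hV : IsAffineOpen V := hV
  letI := Groth.Agent.H11.FtChart.secAlgebra k C V
  haveI := Groth.Agent.H11.FtChart.finiteType_sec k C hV
  obtain ⟨e⟩ := Groth.Agent.H11.SepPointsSch.nonempty_resEquiv k hV x hxV
  haveI hmax : (hV.primeIdealOf ⟨x, hxV⟩).asIdeal.IsMaximal :=
    Groth.Agent.H22.NCurve.isMaximal_primeIdealOf_of_isClosed hV x hxV hx
  set M := (hV.primeIdealOf ⟨x, hxV⟩).asIdeal with hM
  letI : Field (Γ(C, V) ⧸ M) := Ideal.Quotient.field M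
  have hfin : Module.Finite k (Γ(C, V) ⧸ M) := finite_of_finite_type_of_isJacobsonRing k _
  let e0 : (Γ(C, V) ⧸ M) ≃ₐ[k] M.ResidueField :=
    AlgEquiv.ofBijective (IsScalarTower.toAlgHom k (Γ(C, V) ⧸ M) M.ResidueField)
      (Ideal.bijective_algebraMap_quotient_residueField M)
  exact Module.Finite.equiv (e0.trans e).toLinearEquiv

/-- over a finite field, the local rings at closed points are discrete valuation rings -/
theorem IsCurve.isDiscreteValuationRing_stalk [Finite k] (x : C) (hx : IsClosed ({x} : Set C)) :
    IsDiscreteValuationRing (C.presheaf.stalk x) := by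
  haveI := hC.locallyOfFinitePresentation
  haveI := hC.smooth
  haveI := hC.finite_residueField x hx
  have hsep : Algebra.IsSeparable k (C.residueField x) :=
    Algebra.IsAlgebraic.isSeparable_of_perfectField
  rw [Groth.Agent.H11.CurveDVR.dvr_iff k C hC.dim x hx hsep, Scheme.Hom.smoothLocus_eq_top]
  trivial

end basics

section ff

variable [IsIntegral C]

omit [IsIntegral C] in
/-- the structure maps to the stalks are compatible with specialization -/
theorem stalkMap_specializes {x y : C} (h : x ⤳ y) (c : k) :
    (C.presheaf.stalkSpecializes h).hom (Curv2.stalkMap k C y c) = Curv2.stalkMap k C x c := by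
  unfold Curv2.stalkMap
  simp only [RingHom.comp_apply]
  exact TopCat.Presheaf.germ_stalkSpecializes_apply C.presheaf _ h _

instance isScalarTower_stalk (x : C) :
    IsScalarTower k (C.presheaf.stalk x) C.functionField := by
  refine IsScalarTower.of_algebraMap_eq (fun c => ?_)
  exact (stalkMap_specializes ((genericPoint_spec C).specializes trivial) c).symm

theorem algebraMap_functionField_eq (c : k) :
    algebraMap k C.functionField c = Curv2.stalkMap k C (genericPoint C) c := rfl

end ff

section A1

variable [IsIntegral C] (hC : IsCurve k C)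
include hC

theorem IsCurve.essFiniteType : Algebra.EssFiniteType k C.functionField := by
  haveI := hC.locallyOfFiniteType
  obtain ⟨V, hV, hxV, -⟩ := Opens.isBasis_iff_nbhd.mp C.isBasis_affineOpens
    (show genericPoint C ∈ (⊤ : C.Opens) from trivial)
  have hV : IsAffineOpen V := hV
  haveI : Nonempty V := ⟨⟨_, hxV⟩⟩
  letI := Groth.Agent.H11.FtChart.secAlgebra k C V
  haveI := Groth.Agent.H11.FtChart.finiteType_sec k C hV
  haveI := functionField_isFractionRing_of_isAffineOpen C V hV
  haveI : IsScalarTower k Γ(C, V) C.functionField := by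
    refine IsScalarTower.of_algebraMap_eq (fun c => ?_)
    change (C.presheaf.germ ⊤ (genericPoint C) trivial).hom
        (Coh.toGlobal (C ↘ Spec (CommRingCat.of k)) c) =
      (C.presheaf.germ V (genericPoint C) _).hom
        ((C.presheaf.map (homOfLE (le_top : V ≤ ⊤)).op).hom
          (Coh.toGlobal (C ↘ Spec (CommRingCat.of k)) c))
    exact (TopCat.Presheaf.germ_res_apply C.presheaf (homOfLE (le_top : V ≤ ⊤)) _ _ _).symm
  haveI : Algebra.EssFiniteType Γ(C, V) C.functionField :=
    Algebra.EssFiniteType.of_isLocalization _ (nonZeroDivisors Γ(C, V))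
  exact Algebra.EssFiniteType.comp k Γ(C, V) C.functionField

theorem IsCurve.exists_isClosed_singleton : ∃ x : C, IsClosed ({x} : Set C) := by
  haveI := hC.proper
  haveI : CompactSpace C := QuasiCompact.compactSpace_of_compactSpace (C ↘ Spec (CommRingCat.of k))
  obtain ⟨x, -, hx⟩ := IsClosed.exists_closed_singleton (isClosed_univ (X := C))
    ⟨genericPoint C, trivial⟩
  exact ⟨x, hx⟩

theorem IsCurve.compactSpace : CompactSpace C :=
  haveI := hC.proper
  QuasiCompact.compactSpace_of_compactSpace (C ↘ Spec (CommRingCat.of k))

/-- every point other than the generic point is closed -/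
theorem IsCurve.isClosed_or_eq_genericPoint (x : C) :
    IsClosed ({x} : Set C) ∨ x = genericPoint C :=
  haveI := hC.compactSpace
  Groth.Agent.H22.CurveFibres.isClosed_or_eq_genericPoint
    (fun y hy => hC.ringKrullDim_stalk y hy) x

theorem IsCurve.not_isClosed_genericPoint : ¬ IsClosed ({genericPoint C} : Set C) :=
  Groth.Agent.H22.CurveFibres.not_isClosed_genericPoint
    (fun y hy => hC.ringKrullDim_stalk y hy)

theorem IsCurve.trdeg_eq_one : Algebra.trdeg k C.functionField = 1 := by
  haveI := hC.locallyOfFiniteType
  obtain ⟨x, hx⟩ := hC.exists_isClosed_singleton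
  obtain ⟨n, hn1, hn2⟩ := Groth.Agent.H22.NCurve.ringKrullDim_stalk_of_isClosed k C x hx
  rw [hC.ringKrullDim_stalk x hx] at hn2
  have h1 : n = 1 := by exact_mod_cast hn2.symm
  rw [hn1, h1]
  rfl

theorem IsCurve.exists_transcendental :
    ∃ t : C.functionField, Transcendental k t ∧
      FiniteDimensional (IntermediateField.adjoin k ({t} : Set C.functionField))
        C.functionField := by
  haveI := hC.essFiniteType
  exact Groth.Agent.H22.NCurve.exists_transcendental_finite k C.functionField
    (IntermediateField.fg_top_iff.mpr inferInstance) hC.trdeg_eq_one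

end A1

end Groth.Agent.H62.CD
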