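import Mathlib

/-!
helper62, curve ↔ function field dictionary, part 4 (pure algebra): if `A` is a `k`-algebra which
is a domain with all `A ⊗[k] k'` (for finite extensions `k'/k`) having prime nilradical, then every
element of `A` which is separable algebraic over `k` lies in `k`.
-/

set_option autoImplicit false
set_option linter.style.haveILetI false
open Polynomial TensorProduct
open scoped IntermediateField
universe u

namespace Groth.Agent.H62.CD

/-- a second root of a separable polynomial of degree at least two -/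
theorem exists_root_ne {K Ω : Type*} [Field K] [Field Ω] [IsAlgClosed Ω] [Algebra K Ω]
    (p : K[X]) (hp : p.Separable) (hdeg : 2 ≤ p.natDegree) (y : Ω) :
    ∃ z : Ω, z ∈ p.aroots Ω ∧ z ≠ y := by
  classical
  by_contra hcon
  push Not at hcon
  have hsplit : (p.map (algebraMap K Ω)).Splits := IsAlgClosed.splits _
  have hcard : (p.aroots Ω).card = p.natDegree := by
    rw [aroots_def, ← hsplit.natDegree_eq_card_roots, natDegree_map]
  have hnodup : (p.aroots Ω).Nodup := nodup_roots hp.map
  have hsub : p.aroots Ω ≤ {y} := by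
    rw [Multiset.le_iff_subset hnodup]
    intro z hz
    rw [Multiset.mem_singleton]
    exact hcon z hz
  have := Multiset.card_le_card hsub
  rw [hcard, Multiset.card_singleton] at this
  omega

/-- the polynomial computation: two roots of `p` in a ring with prime nilradical cannot be
identified by one map to a field (at a simple root) and separated by another -/
theorem false_of_two_roots {k R K Ω : Type*} [Field k] [CommRing R] [Algebra k R]
    [Field K] [Algebra k K] [Field Ω] [Algebra k Ω]
    (hprime : (nilradical R).IsPrime) (p : k[X]) (Y₁ Y₂ : R)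
    (h1 : aeval Y₁ p = 0) (h2 : aeval Y₂ p = 0)
    (φ₁ : R →ₐ[k] K) (y : K) (h11 : φ₁ Y₁ = y) (h12 : φ₁ Y₂ = y)
    (hder : aeval y (derivative p) ≠ 0)
    (φ₂ : R →ₐ[k] Ω) (hne : φ₂ Y₂ ≠ φ₂ Y₁) : False := by
  let P : R[X] := p.map (algebraMap k R)
  have hP1 : P.IsRoot Y₁ := by rw [IsRoot.def, eval_map_algebraMap, h1]
  have hP2 : P.eval Y₂ = 0 := by rw [eval_map_algebraMap, h2]
  let Q : R[X] := P /ₘ (X - C Y₁)
  have hPQ : (X - C Y₁) * Q = P := mul_divByMonic_eq_iff_isRoot.mpr hP1
  have hzero : (Y₂ - Y₁) * Q.eval Y₂ = 0 := by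
    have := congrArg (eval Y₂) hPQ
    rw [eval_mul, eval_sub, eval_X, eval_C, hP2] at this
    exact this
  rcases hprime.mem_or_mem (show (Y₂ - Y₁) * Q.eval Y₂ ∈ nilradical R by
    rw [hzero]; exact zero_mem _) with h | h
  · have hnil : IsNilpotent (φ₂ (Y₂ - Y₁)) := (mem_nilradical.mp h).map φ₂
    have h0 : φ₂ (Y₂ - Y₁) = 0 := hnil.eq_zero
    rw [map_sub, sub_eq_zero] at h0
    exact hne h0
  · have hnil : IsNilpotent (φ₁ (Q.eval Y₂)) := (mem_nilradical.mp h).map φ₁
    have h0 : φ₁ (Q.eval Y₂) = 0 := hnil.eq_zero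
    have hd : φ₁ (Q.eval Y₂) = aeval y (derivative p) := by
      have e1 : φ₁ (Q.eval Y₂) = (Q.map φ₁.toRingHom).eval y := by
        rw [eval_map, ← h12]
        exact (eval₂_at_apply φ₁.toRingHom Y₂).symm
      have e2 : (X - C y) * Q.map φ₁.toRingHom = p.map (algebraMap k K) := by
        have := congrArg (Polynomial.map φ₁.toRingHom) hPQ
        rw [Polynomial.map_mul, Polynomial.map_sub, map_X, map_C] at this
        have hP : Polynomial.map φ₁.toRingHom P = p.map (algebraMap k K) := by
          simp only [P, Polynomial.map_map]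
          congr 1
          exact φ₁.comp_algebraMap
        rw [hP] at this
        rw [← h11]
        exact this
      have e3 := congrArg (fun q => (derivative q).eval y) e2
      simp only [derivative_mul, derivative_sub, derivative_X, derivative_C, sub_zero, one_mul,
        eval_add, eval_mul, eval_sub, eval_X, eval_C, sub_self, zero_mul, add_zero] at e3
      rw [e1, e3, derivative_map, eval_map_algebraMap]
    rw [hd] at h0
    exact hder h0

variable {k A K : Type u} [Field k] [CommRing A] [Field K] [Algebra k A] [Algebra k K]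
  [Algebra A K] [IsScalarTower k A K]

theorem mem_range_of_isPrime_nilradical (hinj : Function.Injective (algebraMap A K)) (a : A)
    (hsep : IsSeparable k (algebraMap A K a))
    (hirr : ∀ (k' : Type u) [Field k'] [Algebra k k'] [FiniteDimensional k k'],
      (nilradical (A ⊗[k] k')).IsPrime) :
    algebraMap A K a ∈ (algebraMap k K).range := by
  set y : K := algebraMap A K a with hy
  have hint : IsIntegral k y := hsep.isIntegral
  by_contra hcon
  have hdeg : 2 ≤ (minpoly k y).natDegree := (minpoly.two_le_natDegree_iff hint).mpr hcon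
  set p := minpoly k y with hp
  let F : IntermediateField k K := k⟮y⟯
  haveI : FiniteDimensional k F := IntermediateField.adjoin.finiteDimensional hint
  let gen : F := IntermediateField.AdjoinSimple.gen k y
  have hgen : (gen : K) = y := IntermediateField.AdjoinSimple.coe_gen k y
  have hprime := hirr F
  let Ω := AlgebraicClosure K
  let φ₁ : A ⊗[k] F →ₐ[k] K := Algebra.TensorProduct.lift (IsScalarTower.toAlgHom k A K) F.val
    (fun _ _ => Commute.all _ _)
  obtain ⟨z, hz, hzy⟩ := exists_root_ne (Ω := Ω) p hsep hdeg (algebraMap K Ω y)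
  let σ : F →ₐ[k] Ω := (IntermediateField.algHomAdjoinIntegralEquiv k hint).symm ⟨z, hz⟩
  have hσ : σ gen = z := IntermediateField.algHomAdjoinIntegralEquiv_symm_apply_gen k hint ⟨z, hz⟩
  let φ₂ : A ⊗[k] F →ₐ[k] Ω := Algebra.TensorProduct.lift
    ((IsScalarTower.toAlgHom k K Ω).comp (IsScalarTower.toAlgHom k A K)) σ
    (fun _ _ => Commute.all _ _)
  have h11 : φ₁ (a ⊗ₜ 1) = y := by
    rw [Algebra.TensorProduct.lift_tmul, map_one, mul_one]
    rfl
  have h12 : φ₁ (1 ⊗ₜ gen) = y := by
    rw [Algebra.TensorProduct.lift_tmul, map_one, one_mul]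
    exact hgen
  have h21 : φ₂ (a ⊗ₜ 1) = algebraMap K Ω y := by
    rw [Algebra.TensorProduct.lift_tmul, map_one, mul_one]
    rfl
  have h22 : φ₂ (1 ⊗ₜ gen) = z := by
    rw [Algebra.TensorProduct.lift_tmul, map_one, one_mul]
    exact hσ
  have hr1 : aeval (a ⊗ₜ[k] (1 : F)) p = 0 := by
    have e1 : aeval (a ⊗ₜ[k] (1 : F)) p =
        (Algebra.TensorProduct.includeLeft : A →ₐ[k] A ⊗[k] F) (aeval a p) := by
      rw [← aeval_algHom_apply]
      rfl
    have e2 : aeval a p = 0 := by
      apply hinj
      rw [map_zero, ← aeval_algebraMap_apply, ← hy, hp, minpoly.aeval]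
    rw [e1, e2, map_zero]
  have hr2 : aeval ((1 : A) ⊗ₜ[k] gen) p = 0 := by
    have e1 : aeval ((1 : A) ⊗ₜ[k] gen) p =
        (Algebra.TensorProduct.includeRight : F →ₐ[k] A ⊗[k] F) (aeval gen p) := by
      rw [← aeval_algHom_apply]
      rfl
    have e2 : aeval gen p = 0 := by
      apply Subtype.ext
      have : ((aeval gen p : F) : K) = aeval (gen : K) p := by
        rw [← IntermediateField.coe_val, ← aeval_algHom_apply]
      rw [this, hgen, hp, minpoly.aeval]
      rfl
    rw [e1, e2, map_zero]
  refine false_of_two_roots hprime p _ _ hr1 hr2 φ₁ y h11 h12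
    (hsep.aeval_derivative_ne_zero (minpoly.aeval k y)) φ₂ ?_
  rw [h21, h22]
  exact hzy

end Groth.Agent.H62.CD
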