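import Mathlib
import Groth.Agent.H62.CD1
import Groth.Agent.H62.CD2

/-!
helper62, curve ↔ function field dictionary, part 5: the function field of a smooth proper
geometrically irreducible curve over a finite field is a function field of one variable in the
sense of the `FunFld` prelude.
-/

set_option autoImplicit false
set_option linter.style.haveILetI false
open CategoryTheory CategoryTheory.Limits AlgebraicGeometry TopologicalSpace Topology TensorProduct
universe u

namespace Groth.Agent.H62.CD

attribute [local instance] Curv2.stalkAlgebra Curv2.resAlgebra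

open Groth.Agent.H11.FtChart

variable {k : Type u} [Field k] {C : Scheme.{u}} [C.Over (Spec (CommRingCat.of k))]

theorem fromSpec_comp_over {V : C.Opens} (hV : IsAffineOpen V) :
    hV.fromSpec ≫ (C ↘ Spec (CommRingCat.of k)) =
      Spec.map (CommRingCat.ofHom (secMap k C V)) := by
  have h := IsAffineOpen.SpecMap_appLE_fromSpec (C ↘ Spec (CommRingCat.of k))
    (isAffineOpen_top (Spec (CommRingCat.of k))) hV le_top
  rw [IsAffineOpen.fromSpec_top, Scheme.isoSpec_Spec_inv] at h
  rw [← h, secMap_eq, ← Spec.map_comp]
  rfl

/-- geometric irreducibility on an affine chart -/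
theorem isPrime_nilradical_tensor [GeometricallyIrreducible (C ↘ Spec (CommRingCat.of k))]
    {V : C.Opens} (hV : IsAffineOpen V) [Nonempty V]
    (k' : Type u) [Field k'] [Algebra k k'] :
    letI := secAlgebra k C V
    (nilradical (Γ(C, V) ⊗[k] k')).IsPrime := by
  letI := secAlgebra k C V
  haveI : Surjective (hV.fromSpec ≫ (C ↘ Spec (CommRingCat.of k))) := by
    refine ⟨fun y => ?_⟩
    obtain ⟨v⟩ := ‹Nonempty V›
    refine ⟨hV.isoSpec.hom v, Subsingleton.elim _ _⟩
  have hgi : GeometricallyIrreducible (hV.fromSpec ≫ (C ↘ Spec (CommRingCat.of k))) :=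
    inferInstance
  rw [fromSpec_comp_over hV] at hgi
  have hpb := isPullback_SpecMap_of_isPushout _ _ _ _
    (CommRingCat.isPushout_tensorProduct k Γ(C, V) k')
  have hirr : IrreducibleSpace (Spec (CommRingCat.of (Γ(C, V) ⊗[k] k'))) :=
    hgi.geometrically_irreducibleSpace _ _ _ hpb
  exact PrimeSpectrum.irreducibleSpace_iff_isPrime_nilradical.mp hirr

theorem isScalarTower_sec [IsIntegral C] (V : C.Opens) [Nonempty V] :
    letI := secAlgebra k C V
    IsScalarTower k Γ(C, V) C.functionField := by
  letI := secAlgebra k C V
  refine IsScalarTower.of_algebraMap_eq (fun c => ?_)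
  change (C.presheaf.germ ⊤ (genericPoint C) trivial).hom
      (Coh.toGlobal (C ↘ Spec (CommRingCat.of k)) c) =
    (C.presheaf.germ V (genericPoint C) _).hom
      ((C.presheaf.map (homOfLE (le_top : V ≤ ⊤)).op).hom
        (Coh.toGlobal (C ↘ Spec (CommRingCat.of k)) c))
  exact (TopCat.Presheaf.germ_res_apply C.presheaf (homOfLE (le_top : V ≤ ⊤)) _ _ _).symm

/-- the constants of the function field: `k` is algebraically closed in `K(C)` -/
theorem mem_range_of_isAlgebraic [PerfectField k] [IsIntegral C]
    [GeometricallyIrreducible (C ↘ Spec (CommRingCat.of k))]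
    (y : C.functionField) (hy : IsAlgebraic k y) :
    y ∈ Set.range (algebraMap k C.functionField) := by
  obtain ⟨U, hU, g, hg⟩ := C.presheaf.exists_germ_eq y
  obtain ⟨_, ⟨V, hV, rfl⟩, hxV, hVU⟩ :=
    C.isBasis_affineOpens.exists_subset_of_mem_open hU U.isOpen
  have hV : IsAffineOpen V := hV
  haveI : Nonempty V := ⟨⟨_, hxV⟩⟩
  letI := secAlgebra k C V
  haveI := isScalarTower_sec (k := k) V
  let a : Γ(C, V) := C.presheaf.map (homOfLE hVU).op g
  have ha : algebraMap Γ(C, V) C.functionField a = y := by
    rw [← hg]
    exact TopCat.Presheaf.germ_res_apply C.presheaf (homOfLE hVU) (genericPoint C) hxV g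
  have hsep : IsSeparable k (algebraMap Γ(C, V) C.functionField a) := by
    rw [ha]
    exact PerfectField.separable_of_irreducible (minpoly.irreducible hy.isIntegral)
  have h := mem_range_of_isPrime_nilradical (k := k) (A := Γ(C, V)) (K := C.functionField)
    (C.germToFunctionField_injective V) a hsep
    (fun k' _ _ _ => isPrime_nilradical_tensor hV k')
  rw [ha] at h
  exact h

theorem IsCurve.isFunctionField [Finite k] [IsIntegral C]
    [GeometricallyIrreducible (C ↘ Spec (CommRingCat.of k))] (hC : IsCurve k C) :
    FunFld.IsFunctionField k C.functionField :=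
  ⟨hC.exists_transcendental, fun y hy => mem_range_of_isAlgebraic y hy⟩

end Groth.Agent.H62.CD
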