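import Groth.Agent.H62.FFHolRing2
import Groth.Agent.H55.FFExist
import Groth.Agent.H55.FFZeros
import Mathlib.FieldTheory.SeparableClosure

/-!
# Places with separable residue field: local lemmas
-/

set_option autoImplicit false
set_option linter.unusedSectionVars false

namespace Groth.Agent.H62.FFSepPlaces

open FunFld WithZero Module Polynomial Groth.Agent.H55 Groth.Agent.H62.FFHolRing

attribute [-instance] FunFld.Place.algRes

variable {k K K' : Type*} [Field k] [Field K] [Field K'] [Algebra k K] [Algebra K K']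
  [Algebra k K'] [IsScalarTower k K K']

/-- Euclid: a function field has infinitely many places -/
theorem infinite_places (hK : IsFunctionField k K) : Infinite (Place k K) := by
  classical
  by_contra hfin
  rw [not_infinite_iff_finite] at hfin
  have := Fintype.ofFinite (Place k K)
  obtain ⟨P₀⟩ := exists_place hK
  obtain ⟨z, hz⟩ := Place.weak_approx (Finset.univ : Finset (Place k K)) (fun _ => 0) (fun _ => 1)
  have hz' : ∀ Q : Place k K, Q.1 z = exp (-1 : ℤ) := by
    intro Q
    have := hz Q (Finset.mem_univ Q)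
    rwa [sub_zero] at this
  have hz0 : z ≠ 0 := by
    rintro rfl
    have := hz' P₀
    rw [map_zero] at this
    exact exp_ne_zero this.symm
  have hlt : ∀ Q : Place k K, Q.1 z < 1 := fun Q => by rw [hz' Q]; exact exp_neg_one_lt_one
  have hztr : Transcendental k z := W.transcendental_of_val_ne_one P₀ hz0 (hlt P₀).ne
  have hytr : Transcendental k (1 + z) := by
    intro halg
    apply hztr
    have h1 : z = (1 + z) - 1 := by ring
    rw [h1]
    exact halg.sub isAlgebraic_one
  obtain ⟨Q, hQ⟩ := exists_zero hK hytr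
  have h2 : Q.1 (1 + z) = 1 := by
    rw [Valuation.map_add_eq_of_lt_left, map_one]
    rw [map_one]; exact hlt Q
  rw [h2] at hQ
  exact lt_irrefl _ hQ

/-- a place of degree one is rational -/
theorem exists_sub_lt_one_of_deg_one {p : Place k K} (hp : p.deg = 1) {a : K} (ha : p.1 a ≤ 1) :
    ∃ c : k, p.1 (a - algebraMap k K c) < 1 := by
  have h1 : finrank k (IsLocalRing.ResidueField p.O) = 1 := hp
  have hone : (1 : IsLocalRing.ResidueField p.O) ≠ 0 := one_ne_zero
  obtain ⟨c, hc⟩ := (finrank_eq_one_iff_of_nonzero' _ hone).mp h1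
    (IsLocalRing.residue p.O ⟨a, ha⟩)
  refine ⟨c, ?_⟩
  have h2 : c • (1 : IsLocalRing.ResidueField p.O) =
      IsLocalRing.residue p.O (algebraMap k p.O c) := by
    rw [Algebra.smul_def, mul_one]
    rfl
  rw [h2, ← sub_eq_zero, ← map_sub, Place.residue_eq_zero_iff] at hc
  have h3 : p.1 (algebraMap k K c - a) < 1 := hc
  rwa [← Valuation.map_neg, neg_sub] at h3

/-- residues of elements of `O_p[y]` lie in `k[ȳ]` for a rational place `p` -/
theorem residue_mem_adjoin {P : Place k K'} {p : Place k K} {e : ℕ} (he : IsOverWith P p e)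
    (hrat : ∀ a : K, p.1 a ≤ 1 → ∃ c : k, p.1 (a - algebraMap k K c) < 1)
    {y : K'} (hy : P.1 y ≤ 1) {z : K'} (hz : z ∈ Algebra.adjoin p.O ({y} : Set K')) :
    ∃ hz' : P.1 z ≤ 1, IsLocalRing.residue P.O ⟨z, hz'⟩ ∈
      Algebra.adjoin k ({IsLocalRing.residue P.O ⟨y, hy⟩} :
        Set (IsLocalRing.ResidueField P.O)) := by
  have he0 : e ≠ 0 := (isOverWith_pos he).ne'
  induction hz using Algebra.adjoin_induction with
  | mem x hx =>
    rw [Set.mem_singleton_iff] at hx
    subst hx
    exact ⟨hy, Algebra.subset_adjoin rfl⟩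
  | algebraMap a =>
    have h1 : algebraMap p.O K' a = algebraMap K K' (a : K) :=
      IsScalarTower.algebraMap_apply p.O K K' a
    have ha : p.1 (a : K) ≤ 1 := (Valuation.mem_valuationSubring_iff p.1 _).mp a.2
    have h2 : P.1 (algebraMap p.O K' a) ≤ 1 := by
      rw [h1, he]
      exact pow_le_one₀ zero_le ha
    refine ⟨h2, ?_⟩
    obtain ⟨c, hc⟩ := hrat a ha
    have h3 : IsLocalRing.residue P.O ⟨algebraMap p.O K' a, h2⟩ =
        IsLocalRing.residue P.O (algebraMap k P.O c) := by
      rw [← sub_eq_zero, ← map_sub, Place.residue_eq_zero_iff]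
      show P.1 (algebraMap p.O K' a - algebraMap k K' c) < 1
      rw [h1, IsScalarTower.algebraMap_apply k K K', ← map_sub, he]
      exact (pow_lt_one_iff_of_nonneg zero_le he0).mpr hc
    rw [h3]
    exact Subalgebra.algebraMap_mem _ c
  | add x y _ _ hx hy =>
    obtain ⟨hx1, hx2⟩ := hx
    obtain ⟨hy1, hy2⟩ := hy
    have hxy : P.1 (x + y) ≤ 1 := (P.1.map_add x y).trans (max_le hx1 hy1)
    refine ⟨hxy, ?_⟩
    have h3 : (⟨x + y, hxy⟩ : P.O) = ⟨x, hx1⟩ + ⟨y, hy1⟩ := rfl
    rw [h3, map_add]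
    exact add_mem hx2 hy2
  | mul x y _ _ hx hy =>
    obtain ⟨hx1, hx2⟩ := hx
    obtain ⟨hy1, hy2⟩ := hy
    have hxy : P.1 (x * y) ≤ 1 := by rw [map_mul]; exact mul_le_one' hx1 hy1
    refine ⟨hxy, ?_⟩
    have h3 : (⟨x * y, hxy⟩ : P.O) = ⟨x, hx1⟩ * ⟨y, hy1⟩ := rfl
    rw [h3, map_mul]
    exact mul_mem hx2 hy2

/-- if `holRing ⊆ O_p[y]` and `p` is rational then `F_P = k[ȳ]` -/
theorem adjoin_residue_eq_top [FiniteDimensional K K'] (hK : IsFunctionField k K)
    {P : Place k K'} {p : Place k K} {e : ℕ} (he : IsOverWith P p e)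
    (hrat : ∀ a : K, p.1 a ≤ 1 → ∃ c : k, p.1 (a - algebraMap k K c) < 1)
    {y : K'} (hy : P.1 y ≤ 1)
    (hhol : ∀ z ∈ holRing K' p, z ∈ Algebra.adjoin p.O ({y} : Set K')) :
    Algebra.adjoin k ({IsLocalRing.residue P.O ⟨y, hy⟩} :
      Set (IsLocalRing.ResidueField P.O)) = ⊤ := by
  rw [eq_top_iff]
  intro zbar _
  obtain ⟨b, rfl⟩ := resHom_surjective hK he zbar
  obtain ⟨hz', hmem⟩ := residue_mem_adjoin he hrat hy (hhol b b.2)
  exact hmem

/-- a field generated by a root of a separable polynomial is separable -/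
theorem isSeparable_of_adjoin_eq_top {F : Type*} [Field F] [Algebra k F] {ybar : F}
    (htop : Algebra.adjoin k ({ybar} : Set F) = ⊤) {g : k[X]} (hg : g.Separable)
    (hroot : aeval ybar g = 0) : Algebra.IsSeparable k F := by
  have hsep : IsSeparable k ybar := Polynomial.Separable.of_dvd hg (minpoly.dvd k ybar hroot)
  rw [← separableClosure.eq_top_iff, ← IntermediateField.toSubalgebra_inj,
    IntermediateField.top_toSubalgebra, eq_top_iff, ← htop]
  apply Algebra.adjoin_le
  intro w hw
  rw [Set.mem_singleton_iff] at hw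
  subst hw
  exact mem_separableClosure_iff.mpr hsep

end Groth.Agent.H62.FFSepPlaces
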