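import Groth.Agent.H55.FFAdele
import Groth.Agent.H55.FFStrong
import Groth.Agent.H55.FFZeros
import Groth.Agent.H62.FFSepPlaces1

/-!
# Čech `H¹` of the "structure sheaf" of a function field for a finite cofinite cover,
and the adele quotient `A / (A(0) + K)`
-/

set_option autoImplicit false
set_option linter.unusedSectionVars false

namespace Groth.Agent.H62.CF

open FunFld WithZero Module Groth.Agent.H55

attribute [-instance] FunFld.Place.algRes

variable {k K : Type*} [Field k] [Field K] [Algebra k K]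

/-- the functions regular at all places in `T` -/
def holo (T : Set (Place k K)) : AddSubgroup K where
  carrier := {f | ∀ P ∈ T, P.1 f ≤ 1}
  add_mem' {a b} ha hb P hP := (P.1.map_add a b).trans (max_le (ha P hP) (hb P hP))
  zero_mem' P _ := by simp
  neg_mem' {a} ha P hP := by rw [Valuation.map_neg]; exact ha P hP

theorem mem_holo {T : Set (Place k K)} {f : K} : f ∈ holo T ↔ ∀ P ∈ T, P.1 f ≤ 1 := Iff.rfl

variable {ι : Type*} (S : ι → Set (Place k K))

/-- Čech `1`-cocycles -/
def Z1 : AddSubgroup (ι → ι → K) where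
  carrier := {c | (∀ i j, c i j ∈ holo (S i ∩ S j)) ∧ ∀ i j l, c j l - c i l + c i j = 0}
  add_mem' {a b} ha hb := ⟨fun i j => add_mem (ha.1 i j) (hb.1 i j), fun i j l => by
    have h1 := ha.2 i j l
    have h2 := hb.2 i j l
    simp only [Pi.add_apply]
    linear_combination h1 + h2⟩
  zero_mem' := ⟨fun i j => zero_mem _, fun i j l => by simp⟩
  neg_mem' {a} ha := ⟨fun i j => neg_mem (ha.1 i j), fun i j l => by
    have h1 := ha.2 i j l
    simp only [Pi.neg_apply]
    linear_combination -h1⟩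

/-- Čech `1`-coboundaries -/
def B1 : AddSubgroup (ι → ι → K) where
  carrier := {c | ∃ g : ι → K, (∀ i, g i ∈ holo (S i)) ∧ ∀ i j, c i j = g j - g i}
  add_mem' {a b} ha hb := by
    obtain ⟨g, hg, hga⟩ := ha
    obtain ⟨g', hg', hgb⟩ := hb
    refine ⟨g + g', fun i => add_mem (hg i) (hg' i), fun i j => ?_⟩
    simp only [Pi.add_apply, hga, hgb]
    ring
  zero_mem' := ⟨0, fun i => zero_mem _, fun i j => by simp⟩
  neg_mem' {a} ha := by
    obtain ⟨g, hg, hga⟩ := ha
    refine ⟨-g, fun i => neg_mem (hg i), fun i j => ?_⟩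
    simp only [Pi.neg_apply, hga]
    ring

theorem B1_le_Z1 : B1 S ≤ Z1 S := by
  rintro c ⟨g, hg, hc⟩
  refine ⟨fun i j => ?_, fun i j l => ?_⟩
  · rw [hc]
    intro P hP
    exact (Valuation.map_sub _ _ _).trans (max_le (hg j P hP.2) (hg i P hP.1))
  · rw [hc, hc, hc]
    ring

section main

variable [Finite ι] (hK : IsFunctionField k K) (hcov : ∀ P : Place k K, ∃ i, P ∈ S i)

/-- a chosen member of the cover containing `P` -/
noncomputable def idx (P : Place k K) : ι := (hcov P).choose

theorem idx_mem (P : Place k K) : P ∈ S (idx S hcov P) := (hcov P).choose_spec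

include hK in
theorem mem_adele_of_finite_range (a : Place k K → K) (hfin : (Set.range a).Finite) :
    a ∈ adele k K := by
  show ∀ᶠ P : Place k K in Filter.cofinite, P.1 (a P) ≤ 1
  rw [Filter.eventually_cofinite]
  have hsub : {P : Place k K | ¬ P.1 (a P) ≤ 1} ⊆
      ⋃ x ∈ Set.range a, {P : Place k K | 1 < P.1 x} := by
    intro P hP
    rw [Set.mem_ofPred_eq, not_le] at hP
    exact Set.mem_biUnion ⟨P, rfl⟩ hP
  apply (Set.Finite.biUnion hfin _).subset hsub
  intro x _
  by_cases hx : x = 0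
  · subst hx
    convert Set.finite_empty
    ext P
    simp
  · exact Place.finite_poles hK hx

/-- the adele attached to a cochain -/
noncomputable def toAdele (i₀ : ι) : (ι → ι → K) →+ adele k K where
  toFun c := ⟨fun P => c i₀ (idx S hcov P), mem_adele_of_finite_range hK _
    ((Set.finite_range (fun i => c i₀ i)).subset (by rintro _ ⟨P, rfl⟩; exact ⟨_, rfl⟩))⟩
  map_zero' := rfl
  map_add' _ _ := rfl

theorem toAdele_apply (i₀ : ι) (c : ι → ι → K) (P : Place k K) :
    (toAdele S hK hcov i₀ c).1 P = c i₀ (idx S hcov P) := rfl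

/-- the map from cocycles to the adele quotient -/
noncomputable def theta (i₀ : ι) : Z1 S →+ adele k K ⧸ ADK (0 : Divisor k K) :=
  ((ADK (0 : Divisor k K)).mkQ.toAddMonoidHom.comp (toAdele S hK hcov i₀)).comp (Z1 S).subtype

theorem theta_apply (i₀ : ι) (c : Z1 S) :
    theta S hK hcov i₀ c = (ADK (0 : Divisor k K)).mkQ (toAdele S hK hcov i₀ c.1) := rfl

theorem mem_ADK_zero_iff (a : adele k K) : a ∈ ADK (0 : Divisor k K) ↔
    ∃ h : K, ∀ P : Place k K, P.1 (a.1 P - h) ≤ 1 := by
  show a.1 ∈ AD (0 : Divisor k K) ⊔ LinearMap.range (diag k K) ↔ _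
  rw [Submodule.mem_sup]
  constructor
  · rintro ⟨b, hb, d, ⟨h, rfl⟩, hsum⟩
    refine ⟨h, fun P => ?_⟩
    have h1 : a.1 P - h = b P := by
      rw [← hsum]
      show b P + h - h = b P
      ring
    rw [h1]
    have := hb P
    simpa using this
  · rintro ⟨h, hh⟩
    refine ⟨fun P => a.1 P - h, fun P => ?_, diag k K h, ⟨h, rfl⟩, ?_⟩
    · have := hh P
      simpa using this
    · funext P
      show a.1 P - h + h = a.1 P
      ring

theorem theta_eq_zero_iff (i₀ : ι) (c : Z1 S) :
    theta S hK hcov i₀ c = 0 ↔ c.1 ∈ B1 S := by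
  rw [theta_apply, Submodule.mkQ_apply, Submodule.Quotient.mk_eq_zero, mem_ADK_zero_iff]
  obtain ⟨c, hc1, hc2⟩ := c
  constructor
  · rintro ⟨h, hh⟩
    refine ⟨fun i => c i₀ i - h, fun i P hP => ?_, fun i j => ?_⟩
    · have h1 := hc2 i₀ (idx S hcov P) i
      have h2 : c i₀ i - h = c (idx S hcov P) i + (c i₀ (idx S hcov P) - h) := by
        linear_combination -h1
      show P.1 (c i₀ i - h) ≤ 1
      rw [h2]
      exact (P.1.map_add _ _).trans (max_le (hc1 _ _ P ⟨idx_mem S hcov P, hP⟩) (hh P))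
    · have h1 := hc2 i₀ i j
      show c i j = c i₀ j - h - (c i₀ i - h)
      linear_combination h1
  · rintro ⟨g, hg, hcg⟩
    refine ⟨-g i₀, fun P => ?_⟩
    rw [toAdele_apply]
    show P.1 (c i₀ (idx S hcov P) - -g i₀) ≤ 1
    have hcg' : c i₀ (idx S hcov P) = g (idx S hcov P) - g i₀ := hcg _ _
    rw [hcg']
    have : g (idx S hcov P) - g i₀ - -g i₀ = g (idx S hcov P) := by ring
    rw [this]
    exact hg _ P (idx_mem S hcov P)

theorem theta_surjective (hne : ∀ i, ∃ P : Place k K, P ∉ S i) (i₀ : ι) :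
    Function.Surjective (theta S hK hcov i₀) := by
  classical
  intro q
  obtain ⟨a, rfl⟩ := (ADK (0 : Divisor k K)).mkQ_surjective q
  have hfin : {P : Place k K | ¬ P.1 (a.1 P) ≤ 1}.Finite := Filter.eventually_cofinite.mp a.2
  -- approximate on each member of the cover
  have happ : ∀ i, ∃ h : K, ∀ P ∈ S i, P.1 (h - a.1 P) ≤ 1 := by
    intro i
    obtain ⟨Pinf, hPinf⟩ := hne i
    set T : Finset (Place k K) := hfin.toFinset.filter (fun P => P ∈ S i) with hT
    have hPT : Pinf ∉ T := by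
      intro h
      rw [hT, Finset.mem_filter] at h
      exact hPinf h.2
    obtain ⟨z, hz1, hz2⟩ := strong_approx_le hK Pinf T hPT a.1 (fun _ => 0)
    refine ⟨z, fun P hP => ?_⟩
    by_cases hPT' : P ∈ T
    · have := hz1 P hPT'
      simpa using this
    · have hPne : P ≠ Pinf := by
        rintro rfl
        exact hPinf hP
      have h1 := hz2 P hPne hPT'
      have h2 : P.1 (a.1 P) ≤ 1 := by
        by_contra hcon
        apply hPT'
        rw [hT, Finset.mem_filter, Set.Finite.mem_toFinset]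
        exact ⟨hcon, hP⟩
      exact (Valuation.map_sub _ _ _).trans (max_le h1 h2)
  choose h hh using happ
  have hcZ : (fun i j => h j - h i) ∈ Z1 S := by
    refine ⟨fun i j P hP => ?_, fun i j l => by ring⟩
    have h1 : h j - h i = (h j - a.1 P) - (h i - a.1 P) := by ring
    show P.1 (h j - h i) ≤ 1
    rw [h1]
    exact (Valuation.map_sub _ _ _).trans (max_le (hh j P hP.2) (hh i P hP.1))
  refine ⟨⟨_, hcZ⟩, ?_⟩
  rw [theta_apply, ← sub_eq_zero, ← map_sub, Submodule.mkQ_apply, Submodule.Quotient.mk_eq_zero,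
    mem_ADK_zero_iff]
  refine ⟨-h i₀, fun P => ?_⟩
  show P.1 (h (idx S hcov P) - h i₀ - a.1 P - -h i₀) ≤ 1
  have : h (idx S hcov P) - h i₀ - a.1 P - -h i₀ = h (idx S hcov P) - a.1 P := by ring
  rw [this]
  exact hh _ P (idx_mem S hcov P)

include hK hcov in
/-- **Čech `H¹` is the adele quotient** -/
theorem nonempty_cech_equiv (hne : ∀ i, ∃ P : Place k K, P ∉ S i) [Nonempty ι] :
    Nonempty ((Z1 S ⧸ (B1 S).addSubgroupOf (Z1 S)) ≃+ (adele k K ⧸ ADK (0 : Divisor k K))) := by
  obtain ⟨i₀⟩ := ‹Nonempty ι›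
  have hker : (theta S hK hcov i₀).ker = (B1 S).addSubgroupOf (Z1 S) := by
    ext c
    rw [AddMonoidHom.mem_ker, theta_eq_zero_iff, AddSubgroup.mem_addSubgroupOf]
  rw [← hker]
  exact ⟨QuotientAddGroup.quotientKerEquivOfSurjective _ (theta_surjective S hK hcov hne i₀)⟩

include hK hcov in
/-- the cardinality of Čech `H¹` over a finite field -/
theorem card_cech [Finite k] (hne : ∀ i, ∃ P : Place k K, P ∉ S i) [Nonempty ι] :
    Nat.card (Z1 S ⧸ (B1 S).addSubgroupOf (Z1 S)) = Nat.card k ^ genus k K := by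
  obtain ⟨e⟩ := nonempty_cech_equiv S hK hcov hne
  rw [Nat.card_congr e.toEquiv]
  obtain ⟨hfin, hrank⟩ := adele_quot_finrank hK (0 : Divisor k K)
  have h1 : finrank k (adele k K ⧸ ADK (0 : Divisor k K)) = genus k K := by
    have : (finrank k (adele k K ⧸ ADK (0 : Divisor k K)) : ℤ) = genus k K := by
      rw [ell_zero hK, Divisor.deg_zero] at hrank
      have h2 : (genus k K : ℤ) - (0 + 1 - ((1 : ℕ) : ℤ)) = genus k K := by push_cast; ring
      rw [h2] at hrank
      exact hrank
    exact_mod_cast this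
  have : Module.Finite k (adele k K ⧸ ADK (0 : Divisor k K)) := hfin
  rw [Module.natCard_eq_pow_finrank (K := k), h1]

end main

end Groth.Agent.H62.CF
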