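import Mathlib
import Groth.Agent.Lead.Coh.CechExplicit

/-!
helper62, curve ↔ function field dictionary, part 2: the first homology of a cochain complex of
abelian groups as an explicit quotient, and the Čech `H¹` of a presheaf which embeds compatibly
into a constant group.
-/

set_option autoImplicit false
open CategoryTheory Opposite Limits TopologicalSpace
universe u
namespace Groth.Agent.H62.CF

/-- the first homology of a cochain complex of abelian groups, computed through an injective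
additive map on the degree one term -/
theorem nonempty_homology_one_equiv (Kc : CochainComplex AddCommGrpCat.{u} ℕ)
    {G : Type*} [AddCommGroup G] (Ψ : (Kc.X 1 : Type u) →+ G) (hΨ : Function.Injective Ψ)
    (Z B : AddSubgroup G)
    (hZ : ∀ x : Kc.X 1, Kc.d 1 2 x = 0 ↔ Ψ x ∈ Z)
    (hZ' : ∀ c ∈ Z, ∃ x : Kc.X 1, Ψ x = c)
    (hB : ∀ c : G, c ∈ B ↔ ∃ y : Kc.X 0, Ψ (Kc.d 0 1 y) = c) :
    Nonempty ((Kc.homology 1 : Type u) ≃+ Z ⧸ B.addSubgroupOf Z) := by
  let S := Kc.sc' 0 1 2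
  have e1 : Kc.homology 1 ≅ S.homology :=
    ShortComplex.homologyMapIso (Kc.isoSc' 0 1 2 (by simp) (by simp))
  have e2 := S.abHomologyIso
  -- the explicit equivalence on cycles
  let φ : AddMonoidHom.ker S.g.hom →+ Z :=
    { toFun := fun x => ⟨Ψ x.1, (hZ x.1).mp x.2⟩
      map_zero' := by ext; exact map_zero Ψ
      map_add' := fun a b => by ext; exact map_add Ψ a.1 b.1 }
  have hφbij : Function.Bijective φ := by
    constructor
    · intro a b hab
      have : Ψ a.1 = Ψ b.1 := congrArg Subtype.val hab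
      exact Subtype.ext (hΨ this)
    · rintro ⟨c, hc⟩
      obtain ⟨x, hx⟩ := hZ' c hc
      have hx' : Kc.d 1 2 x = 0 := (hZ x).mpr (hx ▸ hc)
      exact ⟨⟨x, hx'⟩, Subtype.ext hx⟩
  let eφ : AddMonoidHom.ker S.g.hom ≃+ Z := AddEquiv.ofBijective φ hφbij
  have hmap : (AddMonoidHom.range S.abToCycles).map eφ.toAddMonoidHom = B.addSubgroupOf Z := by
    ext ⟨c, hc⟩
    rw [AddSubgroup.mem_map, AddSubgroup.mem_addSubgroupOf]
    constructor
    · rintro ⟨_, ⟨y, rfl⟩, hy⟩
      have : Ψ (Kc.d 0 1 y) = c := congrArg Subtype.val hy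
      exact (hB c).mpr ⟨y, this⟩
    · intro hcB
      obtain ⟨y, hy⟩ := (hB c).mp hcB
      exact ⟨S.abToCycles y, ⟨y, rfl⟩, Subtype.ext hy⟩
  exact ⟨(e1 ≪≫ e2).addCommGroupIsoToAddEquiv.trans
    (QuotientAddGroup.congr _ _ eφ hmap)⟩


open Groth.Agent.Lead.Cech

section cech

variable {X : Type u} [TopologicalSpace X] {ι : Type u} (U : ι → Opens X)
  (P : (Opens X)ᵒᵖ ⥤ AddCommGrpCat.{u})
  {G : Type*} [AddCommGroup G] (ξ : X) (hξ : ∀ i, ξ ∈ U i)
  (ε : ∀ V : Opens X, ξ ∈ V → ((P.obj (op V) : Type u) →+ G))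

theorem mem_cechOpen {n : ℕ} (σ : Fin (n + 1) → ι) (hξ : ∀ i, ξ ∈ U i) : ξ ∈ cechOpen U σ :=
  le_cechOpen U σ (⨅ a, U (σ a)) (fun a => iInf_le _ a)
    (by
      rw [← SetLike.mem_coe, Opens.coe_iInf, Set.mem_iInter]
      exact fun a => hξ (σ a))

/-- the embedded Čech cochains -/
noncomputable def Phi (n : ℕ) : ((K U P).X n : Type u) →+ ((Fin (n + 1) → ι) → G) where
  toFun x σ := ε (cechOpen U σ) (mem_cechOpen U ξ σ hξ) (proj U P n σ x)
  map_zero' := by funext σ; simp
  map_add' a b := by funext σ; simp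

theorem Phi_apply (n : ℕ) (x : (K U P).X n) (σ : Fin (n + 1) → ι) :
    Phi U P ξ hξ ε n x σ = ε (cechOpen U σ) (mem_cechOpen U ξ σ hξ) (proj U P n σ x) := rfl

variable (hinj : ∀ V h, Function.Injective (ε V h))
  (hcomp : ∀ (V W : Opens X) (h : W ≤ V) (hW : ξ ∈ W) (s : P.obj (op V)),
    ε W hW (P.map (homOfLE h).op s) = ε V (h hW) s)

include hinj in
theorem Phi_injective (n : ℕ) : Function.Injective (Phi U P ξ hξ ε n) := by
  intro a b hab
  apply ext_elem
  intro σ
  exact hinj _ _ (congrFun hab σ)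

include hcomp in
theorem Phi_d (n : ℕ) (x : (K U P).X n) (σ : Fin (n + 2) → ι) :
    Phi U P ξ hξ ε (n + 1) ((K U P).d n (n + 1) x) σ =
      ∑ j : Fin (n + 2), (-1 : ℤ) ^ (j : ℕ) • Phi U P ξ hξ ε n x (σ ∘ j.succAbove) := by
  rw [Phi_apply, d_apply, map_sum]
  refine Finset.sum_congr rfl (fun j _ => ?_)
  rw [map_zsmul, hcomp, Phi_apply]

theorem range_eps_congr {V W : Opens X} (e : V = W) (hV : ξ ∈ V) (hW : ξ ∈ W) :
    (ε V hV).range = (ε W hW).range := by
  subst e
  rfl


theorem cechOpen_pair (i j : ι) : cechOpen U ![i, j] = U i ⊓ U j := by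
  apply le_antisymm
  · exact le_inf (cechOpen_le U ![i, j] 0) (cechOpen_le U ![i, j] 1)
  · apply le_cechOpen
    intro a
    fin_cases a
    · exact inf_le_left
    · exact inf_le_right

theorem cechOpen_single (i : ι) : cechOpen U ![i] = U i := by
  apply le_antisymm
  · exact cechOpen_le U ![i] 0
  · apply le_cechOpen
    intro a
    fin_cases a
    exact le_rfl

theorem eq_pair (σ : Fin 2 → ι) : σ = ![σ 0, σ 1] := by
  funext a
  fin_cases a <;> rfl

theorem eq_single (σ : Fin 1 → ι) : σ = ![σ 0] := by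
  funext a
  fin_cases a
  rfl

theorem eq_triple (σ : Fin 3 → ι) : σ = ![σ 0, σ 1, σ 2] := by
  funext a
  fin_cases a <;> rfl

/-- embedded `1`-cocycles -/
def Z1' : AddSubgroup (ι → ι → G) where
  carrier := {c | (∀ i j, c i j ∈ (ε (U i ⊓ U j) ⟨hξ i, hξ j⟩).range) ∧
    ∀ i j l, c j l - c i l + c i j = 0}
  add_mem' {a b} ha hb := ⟨fun i j => add_mem (ha.1 i j) (hb.1 i j), fun i j l => by
    have h1 := ha.2 i j l
    have h2 := hb.2 i j l
    simp only [Pi.add_apply]
    have e : a j l + b j l - (a i l + b i l) + (a i j + b i j) =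
        (a j l - a i l + a i j) + (b j l - b i l + b i j) := by abel
    rw [e, h1, h2, add_zero]⟩
  zero_mem' := ⟨fun i j => zero_mem _, fun i j l => by simp⟩
  neg_mem' {a} ha := ⟨fun i j => neg_mem (ha.1 i j), fun i j l => by
    have h1 := ha.2 i j l
    simp only [Pi.neg_apply]
    have e : -a j l - -a i l + -a i j = -(a j l - a i l + a i j) := by abel
    rw [e, h1, neg_zero]⟩

/-- embedded `1`-coboundaries -/
def B1' : AddSubgroup (ι → ι → G) where
  carrier := {c | ∃ g : ι → G, (∀ i, g i ∈ (ε (U i) (hξ i)).range) ∧ ∀ i j, c i j = g j - g i}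
  add_mem' {a b} ha hb := by
    obtain ⟨g, hg, hga⟩ := ha
    obtain ⟨g', hg', hgb⟩ := hb
    refine ⟨g + g', fun i => add_mem (hg i) (hg' i), fun i j => ?_⟩
    simp only [Pi.add_apply, hga, hgb]
    abel
  zero_mem' := ⟨0, fun i => zero_mem _, fun i j => by simp⟩
  neg_mem' {a} ha := by
    obtain ⟨g, hg, hga⟩ := ha
    refine ⟨-g, fun i => neg_mem (hg i), fun i j => ?_⟩
    simp only [Pi.neg_apply, hga]
    abel

/-- the embedded degree one cochains, indexed by pairs -/
noncomputable def Psi : ((K U P).X 1 : Type u) →+ (ι → ι → G) where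
  toFun x i j := Phi U P ξ hξ ε 1 x ![i, j]
  map_zero' := by funext i j; simp
  map_add' a b := by funext i j; simp

theorem Psi_apply (x : (K U P).X 1) (i j : ι) :
    Psi U P ξ hξ ε x i j = Phi U P ξ hξ ε 1 x ![i, j] := rfl

include hinj in
theorem Psi_injective : Function.Injective (Psi U P ξ hξ ε) := by
  intro a b hab
  apply Phi_injective U P ξ hξ ε hinj 1
  funext σ
  rw [eq_pair σ]
  exact congrFun (congrFun hab (σ 0)) (σ 1)

include hcomp in
theorem Phi_d_zero (y : (K U P).X 0) (i j : ι) :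
    Phi U P ξ hξ ε 1 ((K U P).d 0 1 y) ![i, j] =
      Phi U P ξ hξ ε 0 y ![j] - Phi U P ξ hξ ε 0 y ![i] := by
  rw [Phi_d U P ξ hξ ε hcomp, Fin.sum_univ_two]
  have h0 : (![i, j] : Fin 2 → ι) ∘ (0 : Fin 2).succAbove = ![j] := by
    funext a; fin_cases a; rfl
  have h1 : (![i, j] : Fin 2 → ι) ∘ (1 : Fin 2).succAbove = ![i] := by
    funext a; fin_cases a; rfl
  rw [h0, h1]
  simp
  abel

include hcomp in
theorem Phi_d_one (x : (K U P).X 1) (i j l : ι) :
    Phi U P ξ hξ ε 2 ((K U P).d 1 2 x) ![i, j, l] =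
      Phi U P ξ hξ ε 1 x ![j, l] - Phi U P ξ hξ ε 1 x ![i, l] + Phi U P ξ hξ ε 1 x ![i, j] := by
  rw [Phi_d U P ξ hξ ε hcomp, Fin.sum_univ_three]
  have h0 : (![i, j, l] : Fin 3 → ι) ∘ (0 : Fin 3).succAbove = ![j, l] := by
    funext a; fin_cases a <;> rfl
  have h1 : (![i, j, l] : Fin 3 → ι) ∘ (1 : Fin 3).succAbove = ![i, l] := by
    funext a; fin_cases a <;> rfl
  have h2 : (![i, j, l] : Fin 3 → ι) ∘ (2 : Fin 3).succAbove = ![i, j] := by
    funext a; fin_cases a <;> rfl
  rw [h0, h1, h2]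
  simp
  abel

include hinj hcomp in
/-- **Čech `H¹` of a presheaf embedded in a constant group** -/
theorem nonempty_cech_one_equiv :
    Nonempty (((K U P).homology 1 : Type u) ≃+
      Z1' U P ξ hξ ε ⧸ (B1' U P ξ hξ ε).addSubgroupOf (Z1' U P ξ hξ ε)) := by
  refine nonempty_homology_one_equiv (K U P) (Psi U P ξ hξ ε) (Psi_injective U P ξ hξ ε hinj)
    _ _ ?_ ?_ ?_
  · intro x
    constructor
    · intro hx
      refine ⟨fun i j => ?_, fun i j l => ?_⟩
      · rw [← range_eps_congr P ξ ε (cechOpen_pair U i j) (mem_cechOpen U ξ _ hξ) ⟨hξ i, hξ j⟩]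
        exact ⟨_, rfl⟩
      · have h := Phi_d_one U P ξ hξ ε hcomp x i j l
        rw [hx, map_zero] at h
        simp only [Psi_apply]
        exact h.symm
    · rintro ⟨-, h2⟩
      apply Phi_injective U P ξ hξ ε hinj 2
      rw [map_zero]
      funext τ
      rw [eq_triple τ, Phi_d_one U P ξ hξ ε hcomp]
      exact h2 (τ 0) (τ 1) (τ 2)
  · rintro c ⟨h1, -⟩
    have hpre : ∀ σ : Fin 2 → ι, ∃ s : P.obj (op (cechOpen U σ)),
        ε (cechOpen U σ) (mem_cechOpen U ξ σ hξ) s = c (σ 0) (σ 1) := by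
      intro σ
      have h := h1 (σ 0) (σ 1)
      have e : cechOpen U σ = U (σ 0) ⊓ U (σ 1) := by
        conv_lhs => rw [eq_pair σ]
        exact cechOpen_pair U _ _
      rw [← range_eps_congr P ξ ε e (mem_cechOpen U ξ σ hξ) ⟨hξ _, hξ _⟩] at h
      exact h
    choose s hs using hpre
    refine ⟨(coords U P 1).symm s, ?_⟩
    funext i j
    rw [Psi_apply, Phi_apply, proj_coords_symm, hs]
    rfl
  · intro c
    constructor
    · rintro ⟨g, hg, hc⟩
      have hpre : ∀ σ : Fin 1 → ι, ∃ s : P.obj (op (cechOpen U σ)),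
          ε (cechOpen U σ) (mem_cechOpen U ξ σ hξ) s = g (σ 0) := by
        intro σ
        have h := hg (σ 0)
        have e : cechOpen U σ = U (σ 0) := by
          conv_lhs => rw [eq_single σ]
          exact cechOpen_single U _
        rw [← range_eps_congr P ξ ε e (mem_cechOpen U ξ σ hξ) (hξ _)] at h
        exact h
      choose s hs using hpre
      refine ⟨(coords U P 0).symm s, ?_⟩
      funext i j
      rw [Psi_apply, Phi_d_zero U P ξ hξ ε hcomp, Phi_apply, Phi_apply, proj_coords_symm,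
        proj_coords_symm, hs, hs, hc]
      rfl
    · rintro ⟨y, rfl⟩
      refine ⟨fun i => Phi U P ξ hξ ε 0 y ![i], fun i => ?_, fun i j => ?_⟩
      · rw [← range_eps_congr P ξ ε (cechOpen_single U i) (mem_cechOpen U ξ _ hξ) (hξ i)]
        exact ⟨_, rfl⟩
      · rw [Psi_apply, Phi_d_zero U P ξ hξ ε hcomp]

end cech

end Groth.Agent.H62.CF
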