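import Mathlib
import Groth.Agent.H62.CD4
import Groth.Agent.H62.CF1
import Groth.Agent.H62.CF2
import Groth.Agent.S0013
import Groth.Agent.Lead.Coh.AcyclicEmbed

/-!
helper62, curve ↔ function field dictionary, part 7: sections of the structure sheaf over affine
opens as intersections of local rings, and `#H¹(C, O_C) = q^g` with `g` the genus of the function
field.
-/

set_option autoImplicit false
set_option linter.style.haveILetI false
open CategoryTheory CategoryTheory.Limits AlgebraicGeometry TopologicalSpace Topology FunFld Opposite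
universe u

namespace Groth.Agent.H62.CD

attribute [local instance] Curv2.stalkAlgebra Curv2.resAlgebra

variable {k : Type u} [Field k] {C : Scheme.{u}} [C.Over (Spec (CommRingCat.of k))]
  [IsIntegral C]

omit [C.Over (Spec (CommRingCat.of k))] in
/-- **sections over an affine open are the intersection of the local rings** -/
theorem mem_range_germ_iff {V : C.Opens} (hV : IsAffineOpen V) (hξ : genericPoint C ∈ V)
    (z : C.functionField) :
    z ∈ Set.range (C.presheaf.germ V (genericPoint C) hξ).hom ↔
      ∀ x ∈ V, z ∈ Set.range (algebraMap (C.presheaf.stalk x) C.functionField) := by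
  haveI : Nonempty V := ⟨⟨_, hξ⟩⟩
  constructor
  · rintro ⟨a, rfl⟩ x hx
    refine ⟨C.presheaf.germ V x hx a, ?_⟩
    exact C.algebraMap_germ_eq_germToFunctionField hx a
  · intro h
    -- the ideal of denominators
    let I : Ideal Γ(C, V) :=
      { carrier := {s | ∃ a : Γ(C, V), C.germToFunctionField V s * z = C.germToFunctionField V a}
        add_mem' := by
          rintro s t ⟨a, ha⟩ ⟨b, hb⟩
          exact ⟨a + b, by rw [map_add, map_add, add_mul, ha, hb]⟩
        zero_mem' := ⟨0, by rw [map_zero, zero_mul]⟩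
        smul_mem' := by
          rintro c s ⟨a, ha⟩
          exact ⟨c * a, by rw [smul_eq_mul, map_mul, map_mul, mul_assoc, ha]⟩ }
    have hI : I = ⊤ := by
      by_contra hne
      obtain ⟨m, hm, hIm⟩ := Ideal.exists_le_maximal I hne
      let q : PrimeSpectrum Γ(C, V) := ⟨m, hm.isPrime⟩
      have hxV : hV.fromSpec q ∈ V := by
        have : hV.fromSpec q ∈ Set.range hV.fromSpec := ⟨_, rfl⟩
        rwa [hV.range_fromSpec] at this
      have hq : hV.primeIdealOf ⟨hV.fromSpec q, hxV⟩ = q := by
        apply hV.fromSpec.isOpenEmbedding.injective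
        exact hV.fromSpec_primeIdealOf ⟨hV.fromSpec q, hxV⟩
      obtain ⟨w, hw⟩ := h _ hxV
      letI := C.presheaf.algebra_section_stalk ⟨hV.fromSpec q, hxV⟩
      haveI hloc := hV.isLocalization_stalk ⟨hV.fromSpec q, hxV⟩
      rw [hq] at hloc
      obtain ⟨a, s, rfl⟩ := IsLocalization.exists_mk'_eq m.primeCompl w
      have hs : (s : Γ(C, V)) ∈ I := by
        refine ⟨a, ?_⟩
        rw [← hw]
        have h1 : C.germToFunctionField V (s : Γ(C, V)) =
            algebraMap (C.presheaf.stalk (hV.fromSpec q)) C.functionField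
              (algebraMap Γ(C, V) _ (s : Γ(C, V))) :=
          (C.algebraMap_germ_eq_germToFunctionField hxV _).symm
        have h2 : C.germToFunctionField V a =
            algebraMap (C.presheaf.stalk (hV.fromSpec q)) C.functionField
              (algebraMap Γ(C, V) _ a) :=
          (C.algebraMap_germ_eq_germToFunctionField hxV _).symm
        rw [h1, h2, ← map_mul, mul_comm, IsLocalization.mk'_spec]
      exact s.2 (hIm hs)
    have h1 : (1 : Γ(C, V)) ∈ I := hI ▸ Submodule.mem_top
    obtain ⟨a, ha⟩ := h1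
    rw [map_one, one_mul] at ha
    exact ⟨a, ha.symm⟩

section H1

variable [Finite k] [GeometricallyIrreducible (C ↘ Spec (CommRingCat.of k))]
  (hC : IsCurve k C)
include hC

/-- the places centred in an open subset -/
def placesIn (V : C.Opens) : Set (Place k C.functionField) :=
  {P | ∃ x : {x : C // IsClosed ({x} : Set C)}, x.1 ∈ V ∧ placeOf hC x = P}

theorem placesIn_inf (V W : C.Opens) :
    placesIn hC (V ⊓ W) = placesIn hC V ∩ placesIn hC W := by
  ext P
  constructor
  · rintro ⟨x, hx, rfl⟩
    exact ⟨⟨x, hx.1, rfl⟩, ⟨x, hx.2, rfl⟩⟩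
  · rintro ⟨⟨x, hx, rfl⟩, ⟨y, hy, hxy⟩⟩
    have := placeOf_injective hC hxy
    subst this
    exact ⟨y, ⟨hx, hy⟩, rfl⟩

theorem mem_holo_placesIn_iff {V : C.Opens} (hV : IsAffineOpen V) (hξ : genericPoint C ∈ V)
    (z : C.functionField) :
    z ∈ CF.holo (placesIn hC V) ↔
      z ∈ Set.range (C.presheaf.germ V (genericPoint C) hξ).hom := by
  rw [mem_range_germ_iff hV hξ, CF.mem_holo]
  constructor
  · intro h x hx
    rcases hC.isClosed_or_eq_genericPoint x with hcl | hgen
    · exact (placeOf_le_one_iff hC ⟨x, hcl⟩ z).mp (h _ ⟨⟨x, hcl⟩, hx, rfl⟩)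
    · exact Groth.Agent.H22.CurveValuation.surjective_algebraMap_of_eq_genericPoint x hgen z
  · rintro h P ⟨x, hx, rfl⟩
    exact (placeOf_le_one_iff hC x z).mpr (h x.1 hx)

omit [Finite k] [GeometricallyIrreducible (C ↘ Spec (CommRingCat.of k))] in
/-- an affine open of the curve is not the whole curve -/
theorem IsCurve.ne_top_of_isAffineOpen {V : C.Opens} (hV : IsAffineOpen V) : V ≠ ⊤ := by
  rintro rfl
  haveI := hC.proper
  haveI : IsAffine C := by
    have : IsAffine (⊤ : C.Opens) := hV
    exact .of_isIso (C.topIso.inv)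
  have hint := isIntegral_appTop_of_universallyClosed (C ↘ Spec (CommRingCat.of k))
  -- `Γ(C, ⊤)` is a field
  have hfield : IsField Γ(C, ⊤) := by
    letI := (C ↘ Spec (CommRingCat.of k)).appTop.hom.toAlgebra
    haveI : Algebra.IsIntegral Γ(Spec (CommRingCat.of k), ⊤) Γ(C, ⊤) := ⟨hint⟩
    have hk : IsField Γ(Spec (CommRingCat.of k), ⊤) :=
      MulEquiv.isField (Field.toIsField k)
        (Scheme.ΓSpecIso (CommRingCat.of k)).commRingCatIsoToRingEquiv.toMulEquiv
    exact isField_of_isIntegral_of_isField' hk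
  letI := hfield.toField
  haveI : Subsingleton C := by
    have : Subsingleton (Spec Γ(C, ⊤)) :=
      inferInstanceAs (Subsingleton (PrimeSpectrum Γ(C, ⊤)))
    exact C.isoSpec.hom.homeomorph.subsingleton
  apply hC.not_isClosed_genericPoint
  have : ({genericPoint C} : Set C) = Set.univ := by
    ext y
    simp [Subsingleton.elim y (genericPoint C)]
  rw [this]
  exact isClosed_univ

omit hC [IsIntegral C] [C.Over (Spec (CommRingCat.of k))] in
theorem isQuasicoherent_structureModule : (Coh.structureModule C).IsQuasicoherent := by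
  have h : (SheafOfModules.free (R := C.ringCatSheaf) PUnit.{u+1}).IsQuasicoherent := inferInstance
  have e : SheafOfModules.unit C.ringCatSheaf ≅
      SheafOfModules.free (R := C.ringCatSheaf) PUnit.{u+1} := by
    unfold SheafOfModules.free
    exact (Limits.coproductUniqueIso
      (fun _ : PUnit.{u+1} => SheafOfModules.unit C.ringCatSheaf)).symm
  exact (SheafOfModules.isQuasicoherent C.ringCatSheaf).prop_of_iso e.symm h

/-- **`#H¹(C, O_C) = q^g`** with `g` the genus of the function field -/
theorem IsCurve.card_HH_one :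
    Nat.card (Coh.HH C (Coh.structureModule C) 1) = Nat.card k ^ genus k C.functionField := by
  classical
  haveI := hC.compactSpace
  haveI := hC.isSeparated
  obtain ⟨s, hs, hcov⟩ := Groth.Agent.Lead.AcyclicEmbed.exists_finset_affine_cover C
  let ι : Type u := {V : C.Opens // V ∈ s ∧ genericPoint C ∈ V}
  let U : ι → C.Opens := fun i => i.1
  have hξ : ∀ i, genericPoint C ∈ U i := fun i => i.2.2
  have haff : ∀ i, IsAffineOpen (U i) := fun i => hs _ i.2.1
  haveI : Finite ι :=
    Set.Finite.subset s.finite_toSet (fun V hV => hV.1)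
  have hcovU : ∀ x : C, ∃ i, x ∈ U i := by
    intro x
    obtain ⟨V, hV, hx⟩ := hcov x
    have : genericPoint C ∈ V :=
      ((genericPoint_spec C).mem_open_set_iff V.isOpen).mpr ⟨x, trivial, hx⟩
    exact ⟨⟨V, hV, this⟩, hx⟩
  haveI : Nonempty ι := (hcovU (genericPoint C)).nonempty
  have hsup : ⨆ i, U i = ⊤ := by
    refine eq_top_iff.mpr fun x _ => ?_
    obtain ⟨i, hi⟩ := hcovU x
    exact Opens.mem_iSup.mpr ⟨i, hi⟩
  have hinter : ∀ t : Finset ι, t.Nonempty → IsAffineOpen (⨅ i ∈ t, U i) := fun t ht =>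
    IsAffineOpen.biInf (↑t : Set ι) t.finite_toSet ht (fun i _ => haff i)
  haveI : Coh.IsQCoh (Coh.structureModule C) := isQuasicoherent_structureModule
  obtain ⟨e1⟩ := Groth.Agent.S0013.result C U hsup hinter (Coh.structureModule C) 1
  -- the explicit Čech `H¹`
  let P := (Coh.structureModule C).presheaf
  let ε : ∀ V : C.Opens, genericPoint C ∈ V → ((P.obj (op V) : Type u) →+ C.functionField) :=
    fun V hV => (C.presheaf.germ V (genericPoint C) hV).hom.toAddMonoidHom
  have hinj : ∀ V h, Function.Injective (ε V h) := fun V h =>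
    germ_injective_of_isIntegral C (genericPoint C) h
  have hcomp : ∀ (V W : C.Opens) (h : W ≤ V) (hW : genericPoint C ∈ W) (t : P.obj (op V)),
      ε W hW (P.map (homOfLE h).op t) = ε V (h hW) t := fun V W h hW t =>
    TopCat.Presheaf.germ_res_apply C.presheaf (homOfLE h) (genericPoint C) hW t
  obtain ⟨e2⟩ := CF.nonempty_cech_one_equiv U P (genericPoint C) hξ ε hinj hcomp
  -- the cover of the places
  let S : ι → Set (Place k C.functionField) := fun i => placesIn hC (U i)
  have hrange : ∀ (V : C.Opens) (hV : IsAffineOpen V) (h : genericPoint C ∈ V)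
      (z : C.functionField), z ∈ (ε V h).range ↔ z ∈ CF.holo (placesIn hC V) := fun V hV h z =>
    (mem_holo_placesIn_iff hC hV h z).symm
  have hZ : CF.Z1' U P (genericPoint C) hξ ε = CF.Z1 S := by
    ext c
    constructor
    · rintro ⟨h1, h2⟩
      refine ⟨fun i j => ?_, h2⟩
      rw [← placesIn_inf]
      exact (hrange _ ((haff i).inf (haff j)) ⟨hξ i, hξ j⟩ _).mp (h1 i j)
    · rintro ⟨h1, h2⟩
      refine ⟨fun i j => ?_, h2⟩
      have := h1 i j
      rw [← placesIn_inf] at this
      exact (hrange _ ((haff i).inf (haff j)) ⟨hξ i, hξ j⟩ _).mpr this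
  have hB : CF.B1' U P (genericPoint C) hξ ε = CF.B1 S := by
    ext c
    constructor
    · rintro ⟨g, hg, hc⟩
      exact ⟨g, fun i => (hrange _ (haff i) (hξ i) _).mp (hg i), hc⟩
    · rintro ⟨g, hg, hc⟩
      exact ⟨g, fun i => (hrange _ (haff i) (hξ i) _).mpr (hg i), hc⟩
  have hcovS : ∀ Q : Place k C.functionField, ∃ i, Q ∈ S i := by
    intro Q
    obtain ⟨x, rfl⟩ := placeOf_surjective hC Q
    obtain ⟨i, hi⟩ := hcovU x.1
    exact ⟨i, x, hi, rfl⟩
  have hneS : ∀ i, ∃ Q : Place k C.functionField, Q ∉ S i := by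
    intro i
    have hne := hC.ne_top_of_isAffineOpen (haff i)
    obtain ⟨x, hx⟩ : ∃ x : C, x ∉ U i := by
      by_contra hcon
      push Not at hcon
      exact hne (eq_top_iff.mpr fun x _ => hcon x)
    have hcl : IsClosed ({x} : Set C) := by
      rcases hC.isClosed_or_eq_genericPoint x with h | h
      · exact h
      · exact absurd (h ▸ hξ i) hx
    refine ⟨placeOf hC ⟨x, hcl⟩, ?_⟩
    rintro ⟨y, hy, hxy⟩
    have := placeOf_injective hC hxy
    subst this
    exact hx hy
  have hcard := CF.card_cech S hC.isFunctionField hcovS hneS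
  have h1 : Nat.card (Coh.HH C (Coh.structureModule C) 1) =
      Nat.card (CohB1.cechH U (Coh.structureModule C) 1) := (Nat.card_congr e1.toEquiv).symm
  have h2 : Nat.card (CohB1.cechH U (Coh.structureModule C) 1) =
      Nat.card (↥(CF.Z1' U P (genericPoint C) hξ ε) ⧸
        (CF.B1' U P (genericPoint C) hξ ε).addSubgroupOf (CF.Z1' U P (genericPoint C) hξ ε)) :=
    Nat.card_congr e2.toEquiv
  let F : AddSubgroup (ι → ι → C.functionField) → AddSubgroup (ι → ι → C.functionField) → ℕ :=
    fun Z B => Nat.card (↥Z ⧸ B.addSubgroupOf Z)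
  have h3 : F (CF.Z1' U P (genericPoint C) hξ ε) (CF.B1' U P (genericPoint C) hξ ε) =
      F (CF.Z1 S) (CF.B1 S) := by rw [hZ, hB]
  rw [h1, h2]
  exact h3.trans hcard

end H1

end Groth.Agent.H62.CD
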