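import Mathlib.RingTheory.PowerSeries.Derivative
import Mathlib.RingTheory.PowerSeries.Inverse
import Mathlib.RingTheory.PowerSeries.Basic

/-!
# Formal logarithmic derivatives of power series
-/

set_option autoImplicit false
set_option linter.unusedSectionVars false

namespace Groth.Agent.H62.Weil

open PowerSeries

section ring

variable {F : Type*} [CommRing F]

/-- `g` is the logarithmic derivative of `f`, scaled by `X`: `X f' = f g` -/
def LogDer (f g : F⟦X⟧) : Prop := X * d⁄dX F f = f * g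

theorem LogDer.mul {f₁ g₁ f₂ g₂ : F⟦X⟧} (h₁ : LogDer f₁ g₁) (h₂ : LogDer f₂ g₂) :
    LogDer (f₁ * f₂) (g₁ + g₂) := by
  unfold LogDer at *
  rw [Derivation.leibniz, smul_eq_mul, smul_eq_mul]
  calc X * (f₁ * d⁄dX F f₂ + f₂ * d⁄dX F f₁)
      = f₁ * (X * d⁄dX F f₂) + f₂ * (X * d⁄dX F f₁) := by ring
    _ = f₁ * f₂ * (g₁ + g₂) := by rw [h₁, h₂]; ring

theorem logDer_one : LogDer (1 : F⟦X⟧) 0 := by
  unfold LogDer
  rw [derivative_one, mul_zero, mul_zero]

theorem LogDer.prod {ι : Type*} (s : Finset ι) (f g : ι → F⟦X⟧) (h : ∀ i ∈ s, LogDer (f i) (g i)) :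
    LogDer (∏ i ∈ s, f i) (∑ i ∈ s, g i) := by
  classical
  induction s using Finset.induction_on with
  | empty => simpa using logDer_one
  | insert i s hi ih =>
    rw [Finset.prod_insert hi, Finset.sum_insert hi]
    exact (h i (Finset.mem_insert_self i s)).mul (ih fun j hj => h j (Finset.mem_insert_of_mem hj))

/-- the series `∑_{m ≥ 1} a^m X^m` -/
noncomputable def geo (a : F) : F⟦X⟧ := PowerSeries.mk fun m => if m = 0 then 0 else a ^ m

theorem coeff_geo (a : F) (m : ℕ) : coeff m (geo a) = if m = 0 then 0 else a ^ m := by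
  unfold geo
  rw [coeff_mk]

theorem one_sub_mul_geo (a : F) : (1 - C a * X) * geo a = C a * X := by
  ext n
  rw [sub_mul, one_mul, map_sub, mul_assoc, coeff_C_mul, coeff_C_mul]
  rcases n with _ | n
  · rw [coeff_zero_X_mul, coeff_geo, if_pos rfl, coeff_zero_X]
    ring
  · rw [coeff_succ_X_mul, coeff_geo, coeff_geo, if_neg (Nat.succ_ne_zero n)]
    rcases n with _ | n
    · rw [if_pos rfl]
      simp [coeff_one_X]
    · rw [if_neg (Nat.succ_ne_zero n)]
      have : coeff (n + 1 + 1) (X : F⟦X⟧) = 0 := by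
        rw [coeff_X, if_neg (by omega)]
      rw [this]
      ring

theorem logDer_one_sub (a : F) : LogDer (1 - C a * X) (-geo a) := by
  unfold LogDer
  rw [map_sub, derivative_one, Derivation.leibniz, derivative_C, derivative_X, smul_eq_mul,
    smul_zero, add_zero, mul_one, zero_sub, mul_neg, mul_neg, one_sub_mul_geo]
  ring

theorem coeff_X_mul_derivative (f : F⟦X⟧) (n : ℕ) :
    coeff n (X * d⁄dX F f) = (n : F) * coeff n f := by
  rcases n with _ | n
  · rw [coeff_zero_X_mul]; simp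
  · rw [coeff_succ_X_mul, coeff_derivative]
    push_cast
    ring

theorem logDer_iff_coeff (f g : F⟦X⟧) :
    LogDer f g ↔ ∀ n : ℕ, (n : F) * coeff n f =
      ∑ p ∈ Finset.antidiagonal n, coeff p.1 f * coeff p.2 g := by
  unfold LogDer
  rw [PowerSeries.ext_iff]
  apply forall_congr'
  intro n
  rw [coeff_X_mul_derivative, coeff_mul]

end ring

section field

variable {F : Type*} [Field F] [CharZero F]

theorem LogDer.unique_right {f g₁ g₂ : F⟦X⟧} (hf : f ≠ 0) (h₁ : LogDer f g₁) (h₂ : LogDer f g₂) :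
    g₁ = g₂ := by
  unfold LogDer at *
  rw [h₁] at h₂
  exact mul_left_cancel₀ hf h₂

theorem LogDer.unique_left {f h g : F⟦X⟧} (hf : constantCoeff f = 1) (hh : constantCoeff h = 1)
    (h₁ : LogDer f g) (h₂ : LogDer h g) : f = h := by
  have hf0 : constantCoeff f ≠ 0 := by rw [hf]; exact one_ne_zero
  have hfne : f ≠ 0 := fun h0 => hf0 (by rw [h0, map_zero])
  have key : d⁄dX F (h * f⁻¹) = 0 := by
    have hX : (X : F⟦X⟧) ≠ 0 := X_ne_zero
    apply mul_left_cancel₀ hX
    rw [mul_zero, Derivation.leibniz, derivative_inv', smul_eq_mul, smul_eq_mul]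
    unfold LogDer at h₁ h₂
    calc X * (h * (-f⁻¹ ^ 2 * d⁄dX F f) + f⁻¹ * d⁄dX F h)
        = -(h * f⁻¹ ^ 2 * (X * d⁄dX F f)) + f⁻¹ * (X * d⁄dX F h) := by ring
      _ = -(h * f⁻¹ ^ 2 * (f * g)) + f⁻¹ * (h * g) := by rw [h₁, h₂]
      _ = h * g * f⁻¹ * (1 - f⁻¹ * f) := by ring
      _ = 0 := by rw [PowerSeries.inv_mul_cancel f hf0, sub_self, mul_zero]
  have h1 : h * f⁻¹ = 1 := by
    apply derivative.ext
    · rw [key, derivative_one]
    · rw [map_mul, map_one, hh, one_mul]
      have := PowerSeries.constantCoeff_inv f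
      rw [this, hf, inv_one]
  have h2 : h = f := by
    have := congrArg (· * f) h1
    simp only [one_mul] at this
    rwa [mul_assoc, PowerSeries.inv_mul_cancel f hf0, mul_one] at this
  exact h2.symm

end field

end Groth.Agent.H62.Weil
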