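import Groth.Agent.H86.ZT3
import Groth.Agent.H62.ZW1

/-!
# The logarithmic derivative of the zeta series: `n a_n = ∑_{m=1}^n N_m a_{n-m}`
-/

set_option autoImplicit false
set_option linter.unusedSectionVars false

namespace Groth.Agent.H62.Weil

open FunFld Groth.Agent.H55 Groth.Agent.H86.Zeta

variable {k K : Type*} [Field k] [Field K] [Algebra k K]

variable (k K) in
/-- `N_m = ∑_{deg P ∣ m} deg P` -/
noncomputable def Nm (m : ℕ) : ℕ := ∑ᶠ P : Place k K, if P.deg ∣ m then P.deg else 0

theorem Nm_eq_sum [Finite k] (hK : IsFunctionField k K) {m n : ℕ} (hm : 1 ≤ m) (hmn : m ≤ n) :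
    Nm k K m = ∑ P ∈ (finite_places_deg_le hK n).toFinset, if P.deg ∣ m then P.deg else 0 := by
  unfold Nm
  apply finsum_eq_sum_of_support_subset
  intro P hP
  rw [Function.mem_support] at hP
  rw [Finset.mem_coe, Set.Finite.mem_toFinset, Set.mem_ofPred_eq]
  by_cases hd : P.deg ∣ m
  · exact (Nat.le_of_dvd (by omega) hd).trans hmn
  · rw [if_neg hd] at hP
    exact absurd rfl hP

/-- reindexing the multiples of `d` -/
theorem sum_ite_dvd {M : Type*} [AddCommMonoid M] (n d : ℕ) (hd : 1 ≤ d) (f : ℕ → M) :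
    ∑ m ∈ Finset.Icc 1 n, (if d ∣ m then f m else 0) =
      ∑ j ∈ Finset.Icc 1 n, (if j * d ≤ n then f (j * d) else 0) := by
  rw [← Finset.sum_filter, ← Finset.sum_filter]
  symm
  apply Finset.sum_nbij' (fun j => j * d) (fun m => m / d)
  · intro j hj
    rw [Finset.mem_filter, Finset.mem_Icc] at hj ⊢
    refine ⟨⟨?_, hj.2⟩, Dvd.intro_left j rfl⟩
    exact Nat.one_le_iff_ne_zero.mpr (Nat.mul_ne_zero (by omega) (by omega))
  · intro m hm
    rw [Finset.mem_filter, Finset.mem_Icc] at hm ⊢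
    obtain ⟨⟨h1, h2⟩, c, rfl⟩ := hm
    have hc : 1 ≤ c := by
      rcases Nat.eq_zero_or_pos c with rfl | h
      · omega
      · exact h
    have h3 : d * c / d = c := Nat.mul_div_cancel_left c (by omega)
    rw [h3]
    refine ⟨⟨hc, ?_⟩, ?_⟩
    · calc c = 1 * c := (one_mul c).symm
        _ ≤ d * c := Nat.mul_le_mul_right c hd
        _ ≤ n := h2
    · rw [mul_comm]; exact h2
  · intro j _
    exact Nat.mul_div_cancel j (by omega)
  · intro m hm
    rw [Finset.mem_filter] at hm
    exact Nat.div_mul_cancel hm.2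
  · intro j _
    rfl

/-- counting the effective divisors with a large coefficient at `P` -/
theorem card_eff_ge (hK : IsFunctionField k K) (n j : ℕ) (P : Place k K) :
    Nat.card {D : Eff k K n // (j : ℤ) ≤ D.1 P} =
      if j * P.deg ≤ n then effDivCount k K (n - j * P.deg) else 0 := by
  classical
  split_ifs with hj
  · rw [effDivCount_eq]
    apply Nat.card_congr
    refine ⟨fun D => ⟨D.1.1 - Finsupp.single P (j : ℤ), ?_, ?_⟩,
      fun D' => ⟨⟨D'.1 + Finsupp.single P (j : ℤ), ?_, ?_⟩, ?_⟩, ?_, ?_⟩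
    · intro Q
      rw [Finsupp.zero_apply, Finsupp.sub_apply, Finsupp.single_apply]
      split_ifs with hQ
      · subst hQ
        have := D.2
        omega
      · have := D.1.2.1 Q
        rw [Finsupp.zero_apply] at this
        omega
    · rw [Divisor.deg_sub, Divisor.deg_single, D.1.2.2]
      push_cast [Nat.cast_sub hj]
      ring
    · intro Q
      rw [Finsupp.zero_apply, Finsupp.add_apply, Finsupp.single_apply]
      have := D'.2.1 Q
      rw [Finsupp.zero_apply] at this
      split_ifs <;> omega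
    · rw [Divisor.deg_add, Divisor.deg_single, D'.2.2]
      push_cast [Nat.cast_sub hj]
      ring
    · show (j : ℤ) ≤ (D'.1 + Finsupp.single P (j : ℤ)) P
      rw [Finsupp.add_apply, Finsupp.single_apply, if_pos rfl]
      have := D'.2.1 P
      rw [Finsupp.zero_apply] at this
      omega
    · intro D
      apply Subtype.ext
      apply Subtype.ext
      show D.1.1 - Finsupp.single P (j : ℤ) + Finsupp.single P (j : ℤ) = D.1.1
      abel
    · intro D'
      apply Subtype.ext
      show D'.1 + Finsupp.single P (j : ℤ) - Finsupp.single P (j : ℤ) = D'.1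
      abel
  · have : IsEmpty {D : Eff k K n // (j : ℤ) ≤ D.1 P} := by
      refine ⟨fun D => hj ?_⟩
      have h1 := apply_le_deg_of_nonneg hK D.1.2.1 P
      rw [D.1.2.2] at h1
      have h2 : (j : ℤ) * P.deg ≤ D.1.1 P * P.deg :=
        mul_le_mul_of_nonneg_right D.2 (by positivity)
      exact_mod_cast h2.trans h1
    exact Nat.card_of_isEmpty

/-- an integer in `[0, n]` as a sum of indicators -/
theorem eq_sum_indicator {x : ℤ} {n : ℕ} (h0 : 0 ≤ x) (hn : x ≤ n) :
    x = ∑ j ∈ Finset.Icc 1 n, if (j : ℤ) ≤ x then (1 : ℤ) else 0 := by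
  rw [Finset.sum_boole]
  have h1 : (Finset.Icc 1 n).filter (fun j : ℕ => (j : ℤ) ≤ x) = Finset.Icc 1 x.toNat := by
    ext j
    rw [Finset.mem_filter, Finset.mem_Icc, Finset.mem_Icc]
    omega
  rw [h1, Nat.card_Icc]
  omega

theorem sum_apply_eq (hK : IsFunctionField k K) (n : ℕ) (P : Place k K)
    [Fintype (Eff k K n)] :
    ∑ D : Eff k K n, D.1 P = ∑ j ∈ Finset.Icc 1 n,
      (if j * P.deg ≤ n then (effDivCount k K (n - j * P.deg) : ℤ) else 0) := by
  classical
  have hP : 1 ≤ P.deg := Place.deg_pos hK P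
  have hb : ∀ D : Eff k K n, 0 ≤ D.1 P ∧ D.1 P ≤ n := by
    intro D
    have h0 := D.2.1 P
    rw [Finsupp.zero_apply] at h0
    refine ⟨h0, ?_⟩
    have h1 := apply_le_deg_of_nonneg hK D.2.1 P
    rw [D.2.2] at h1
    have h2 : D.1 P * 1 ≤ D.1 P * (P.deg : ℤ) :=
      mul_le_mul_of_nonneg_left (by exact_mod_cast hP) h0
    linarith
  calc ∑ D : Eff k K n, D.1 P
      = ∑ D : Eff k K n, ∑ j ∈ Finset.Icc 1 n, (if (j : ℤ) ≤ D.1 P then (1 : ℤ) else 0) :=
        Finset.sum_congr rfl fun D _ => eq_sum_indicator (hb D).1 (hb D).2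
    _ = ∑ j ∈ Finset.Icc 1 n, ∑ D : Eff k K n, (if (j : ℤ) ≤ D.1 P then (1 : ℤ) else 0) :=
        Finset.sum_comm
    _ = ∑ j ∈ Finset.Icc 1 n,
          (if j * P.deg ≤ n then (effDivCount k K (n - j * P.deg) : ℤ) else 0) := by
        apply Finset.sum_congr rfl
        intro j _
        rw [Finset.sum_boole, ← Fintype.card_subtype, ← Nat.card_eq_fintype_card,
          card_eff_ge hK n j P]
        split_ifs <;> simp

/-- the logarithmic derivative of the zeta series, coefficientwise -/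
theorem card_mul_eq [Finite k] (hK : IsFunctionField k K) (n : ℕ) :
    (n : ℤ) * effDivCount k K n =
      ∑ m ∈ Finset.Icc 1 n, (Nm k K m : ℤ) * effDivCount k K (n - m) := by
  classical
  have hfin := finite_eff hK n
  let _ := Fintype.ofFinite (Eff k K n)
  set S := (finite_places_deg_le hK n).toFinset with hS
  have hmid : ∀ P ∈ S, (P.deg : ℤ) * ∑ D : Eff k K n, D.1 P =
      ∑ m ∈ Finset.Icc 1 n, (if P.deg ∣ m then (P.deg : ℤ) else 0) * effDivCount k K (n - m) := by
    intro P _
    rw [sum_apply_eq hK n P, ← sum_ite_dvd n P.deg (Place.deg_pos hK P)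
      (fun m => (effDivCount k K (n - m) : ℤ)), Finset.mul_sum]
    apply Finset.sum_congr rfl
    intro m _
    split_ifs <;> simp
  have hD : ∀ D : Eff k K n, (n : ℤ) = ∑ P ∈ S, D.1 P * (P.deg : ℤ) := by
    intro D
    have hdeg : (n : ℤ) = ∑ P ∈ D.1.support, D.1 P * (P.deg : ℤ) := by
      rw [← Divisor.deg_eq_sum, D.2.2]
    refine hdeg.trans ?_
    apply Finset.sum_subset
    · intro P hP
      rw [hS, Set.Finite.mem_toFinset, Set.mem_ofPred_eq]
      have h1 := apply_le_deg_of_nonneg hK D.2.1 P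
      rw [D.2.2] at h1
      have h0 := D.2.1 P
      rw [Finsupp.zero_apply] at h0
      have hne : D.1 P ≠ 0 := Finsupp.mem_support_iff.mp hP
      have h2 : 1 ≤ D.1 P := by omega
      have h3 : (1 : ℤ) * (P.deg : ℤ) ≤ D.1 P * (P.deg : ℤ) :=
        mul_le_mul_of_nonneg_right h2 (by positivity)
      have h4 : (P.deg : ℤ) ≤ n := by linarith
      exact_mod_cast h4
    · intro P _ hP
      rw [Finsupp.notMem_support_iff.mp hP, zero_mul]
  calc (n : ℤ) * effDivCount k K n
      = ∑ _D : Eff k K n, (n : ℤ) := by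
        rw [Finset.sum_const, Finset.card_univ, effDivCount_eq, Nat.card_eq_fintype_card,
          nsmul_eq_mul]
        ring
    _ = ∑ D : Eff k K n, ∑ P ∈ S, D.1 P * (P.deg : ℤ) := Finset.sum_congr rfl fun D _ => hD D
    _ = ∑ P ∈ S, ∑ D : Eff k K n, D.1 P * (P.deg : ℤ) := Finset.sum_comm
    _ = ∑ P ∈ S, (P.deg : ℤ) * ∑ D : Eff k K n, D.1 P := by
        apply Finset.sum_congr rfl
        intro P _
        rw [Finset.mul_sum]
        exact Finset.sum_congr rfl fun D _ => mul_comm _ _
    _ = ∑ P ∈ S, ∑ m ∈ Finset.Icc 1 n,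
          (if P.deg ∣ m then (P.deg : ℤ) else 0) * effDivCount k K (n - m) :=
        Finset.sum_congr rfl hmid
    _ = ∑ m ∈ Finset.Icc 1 n, ∑ P ∈ S,
          (if P.deg ∣ m then (P.deg : ℤ) else 0) * effDivCount k K (n - m) := Finset.sum_comm
    _ = ∑ m ∈ Finset.Icc 1 n, (Nm k K m : ℤ) * effDivCount k K (n - m) := by
        apply Finset.sum_congr rfl
        intro m hm
        rw [Finset.mem_Icc] at hm
        rw [← Finset.sum_mul, Nm_eq_sum hK hm.1 hm.2]
        push_cast
        rfl

end Groth.Agent.H62.Weil
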