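import Groth.Agent.H62.ZW6
import Groth.Agent.H62.ZW2

/-!
# Constant field extensions over a finite field: `N_m(K'/k') = N_{nm}(K/k)`
-/

set_option autoImplicit false
set_option linter.unusedSectionVars false

namespace Groth.Agent.H62.Weil

open FunFld WithZero Module Polynomial Groth.Agent.H55 Groth.Agent.H62.FFHolRing
open Groth.Agent.H62.FFNSTower Groth.Agent.H86.Zeta
open scoped TensorProduct IntermediateField

attribute [-instance] FunFld.Place.algRes

variable {k k' K K' : Type*} [Field k] [Field k'] [Field K] [Field K']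
  [Algebra k k'] [Algebra k K] [Algebra K K'] [Algebra k' K'] [Algebra k K']
  [IsScalarTower k k' K'] [IsScalarTower k K K']

/-- restriction of the constants of a place -/
def restr (Q' : Place k' K') : Place k K' :=
  ⟨Q'.1, fun c => by rw [IsScalarTower.algebraMap_apply k k' K']; exact Q'.2.1 _, Q'.2.2⟩

theorem restr_injective : Function.Injective (restr (k := k) (k' := k') (K' := K')) := by
  intro Q₁ Q₂ h
  apply Subtype.ext
  have h1 := congrArg (fun Q : Place k K' => Q.1) h
  exact h1

theorem extendConst_restr [Algebra.IsAlgebraic k k'] (Q' : Place k' K') :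
    FFConstField.extendConst k' (restr (k := k) Q') = Q' := rfl

theorem restr_extendConst [Algebra.IsAlgebraic k k'] (Q : Place k K') :
    restr (FFConstField.extendConst k' Q) = Q := rfl

theorem deg_restr [Finite k] [FiniteDimensional k k'] (hK' : IsFunctionField k' K')
    (hKw : W.IsWeakFF k K') (Q' : Place k' K') :
    (restr (k := k) Q').deg = finrank k k' * Q'.deg := by
  have : Finite k' := Module.finite_of_finite k
  have h1 := natCard_residue_weak hKw (restr (k := k) Q')
  have h2 := natCard_residue hK' Q'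
  have h3 : Nat.card k' = Nat.card k ^ finrank k k' := Module.natCard_eq_pow_finrank
  have h4 : Nat.card (IsLocalRing.ResidueField (restr (k := k) Q').O) =
      Nat.card (IsLocalRing.ResidueField Q'.O) := rfl
  rw [← h4, h1, h3, ← pow_mul] at h2
  have hq : 1 < Nat.card k := Finite.one_lt_card
  exact Nat.pow_right_injective hq h2

variable [FiniteDimensional k k'] [Algebra.IsSeparable k k']
  (hbij : Function.Bijective (Algebra.TensorProduct.productMap
      (IsScalarTower.toAlgHom k k' K') (IsScalarTower.toAlgHom k K K')))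

theorem Nm_eq_sum_filter {k K : Type*} [Field k] [Field K] [Algebra k K] [Finite k]
    (hK : IsFunctionField k K) {m : ℕ} (hm : 1 ≤ m) [DecidablePred fun P : Place k K => P.deg ∣ m] :
    Nm k K m = ∑ P ∈ (finite_places_deg_le hK m).toFinset.filter (fun P => P.deg ∣ m), P.deg := by
  classical
  rw [Nm_eq_sum hK hm le_rfl, Finset.sum_filter]
  apply Finset.sum_congr rfl
  intro P _
  congr

include hbij in
/-- **the number of places of degree dividing `m` in a constant field extension** -/
theorem Nm_constExt [Finite k] (hK : IsFunctionField k K) (hK' : IsFunctionField k' K') {m : ℕ}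
    (hm : 1 ≤ m) : Nm k' K' m = Nm k K (finrank k k' * m) := by
  classical
  have hn : 0 < finrank k k' := finrank_pos
  have : Finite k' := Module.finite_of_finite k
  have hfd := finiteDimensional_constExt hbij
  have hKw : W.IsWeakFF k K' := W.weak_of_finite hK.weak
  have hnm : 1 ≤ finrank k k' * m := Nat.mul_pos hn hm
  rw [Nm_eq_sum_filter hK' hm, Nm_eq_sum_filter hK hnm]
  set T' := (finite_places_deg_le hK' m).toFinset.filter (fun Q' => Q'.deg ∣ m) with hT'
  set T := (finite_places_deg_le hK (finrank k k' * m)).toFinset.filter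
    (fun P => P.deg ∣ finrank k k' * m) with hT
  have memT' : ∀ Q', Q' ∈ T' ↔ Q'.deg ∣ m := by
    intro Q'
    rw [hT', Finset.mem_filter, Set.Finite.mem_toFinset, Set.mem_ofPred_eq]
    exact ⟨fun h => h.2, fun h => ⟨Nat.le_of_dvd hm h, h⟩⟩
  have memT : ∀ P, P ∈ T ↔ P.deg ∣ finrank k k' * m := by
    intro P
    rw [hT, Finset.mem_filter, Set.Finite.mem_toFinset, Set.mem_ofPred_eq]
    exact ⟨fun h => h.2, fun h => ⟨Nat.le_of_dvd hnm h, h⟩⟩
  let ov : Place k K → Finset (Place k K') := fun P =>
    (sum_ramIdx_mul_deg (K' := K') hK P).1.toFinset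
  have mem_ov : ∀ P Q, Q ∈ ov P ↔ IsOver Q P := by
    intro P Q
    rw [Set.Finite.mem_toFinset, Set.mem_ofPred_eq]
  -- claim A
  have hA : finrank k k' * ∑ P ∈ T, P.deg = ∑ Q ∈ T.biUnion ov, Q.deg := by
    rw [Finset.sum_biUnion, Finset.mul_sum]
    · apply Finset.sum_congr rfl
      intro P _
      exact (sum_deg_over hbij hK P (ov P) (mem_ov P)).symm
    · intro P _ P' _ hne
      rw [Function.onFun, Finset.disjoint_left]
      intro Q hQ hQ'
      exact hne (isOver_unique ((mem_ov P Q).mp hQ) ((mem_ov P' Q).mp hQ'))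
  -- claim B
  have hB : T'.image (restr (k := k)) = T.biUnion ov := by
    ext Q
    rw [Finset.mem_image, Finset.mem_biUnion]
    have hdeg : Q.deg = finrank k k' * (FFConstField.extendConst k' Q).deg := by
      rw [← deg_restr hK' hKw, restr_extendConst]
    constructor
    · rintro ⟨Q', hQ', rfl⟩
      obtain ⟨P, e, he⟩ := exists_place_under hK (restr (k := k) Q')
      refine ⟨P, ?_, (mem_ov P _).mpr ⟨e, he⟩⟩
      rw [memT]
      refine (deg_dvd_deg hK he).trans ?_
      rw [deg_restr hK' hKw]
      exact Nat.mul_dvd_mul_left _ ((memT' Q').mp hQ')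
    · rintro ⟨P, hP, hQ⟩
      obtain ⟨e, he⟩ := (mem_ov P Q).mp hQ
      refine ⟨FFConstField.extendConst k' Q, ?_, restr_extendConst Q⟩
      rw [memT']
      have h1 : Q.deg ∣ finrank k k' * m :=
        deg_dvd_of_dvd hbij hK he ((memT P).mp hP) (dvd_mul_right _ _)
      rw [hdeg] at h1
      exact (Nat.mul_dvd_mul_iff_left hn).mp h1
  -- claim C
  have hC : finrank k k' * ∑ Q' ∈ T', Q'.deg = ∑ Q ∈ T'.image (restr (k := k)), Q.deg := by
    rw [Finset.sum_image (fun _ _ _ _ h => restr_injective h), Finset.mul_sum]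
    apply Finset.sum_congr rfl
    intro Q' _
    exact (deg_restr hK' hKw Q').symm
  apply Nat.eq_of_mul_eq_mul_left hn
  rw [hC, hB, ← hA]

end Groth.Agent.H62.Weil
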