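import Mathlib
import Groth.Prelude.Def_SgaExt
import Groth.Agent.H62.CD4
import Groth.Agent.H62.ZW7

/-!
helper62, curve ↔ function field dictionary, part 8: the number of `k'`-points of the curve is
`N_n = ∑_{deg P ∣ n} deg P`, `n = [k' : k]`.
-/

set_option autoImplicit false
set_option linter.style.haveILetI false
open CategoryTheory CategoryTheory.Limits AlgebraicGeometry TopologicalSpace Topology FunFld Opposite
universe u

namespace Groth.Agent.H62.CD

attribute [local instance] Curv2.stalkAlgebra Curv2.resAlgebra

/-- the cardinality of a sigma type whose nonempty fibres lie over a finite set -/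
theorem natCard_sigma_of_subset {α : Type*} {β : α → Type*} [∀ a, Finite (β a)] (T : Finset α)
    (h : ∀ a, Nonempty (β a) → a ∈ T) :
    Nat.card (Σ a, β a) = ∑ a ∈ T, Nat.card (β a) := by
  classical
  let e : (Σ a, β a) ≃ Σ a : {a // a ∈ T}, β a.1 :=
    { toFun := fun p => ⟨⟨p.1, h p.1 ⟨p.2⟩⟩, p.2⟩
      invFun := fun p => ⟨p.1.1, p.2⟩
      left_inv := fun _ => rfl
      right_inv := fun _ => rfl }
  rw [Nat.card_congr e, Nat.card_sigma, ← Finset.sum_coe_sort T (fun a => Nat.card (β a))]

/-- the number of embeddings of finite fields -/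
theorem natCard_algHom_finite {F K L : Type*} [Field F] [Field K] [Algebra F K] [Field L]
    [Algebra F L] [Finite L] :
    Nat.card (K →ₐ[F] L) =
      if Module.finrank F K ∣ Module.finrank F L then Module.finrank F K else 0 := by
  split_ifs with h
  · exact FiniteField.natCard_algHom_of_finrank_dvd h
  · haveI : IsEmpty (K →ₐ[F] L) :=
      not_nonempty_iff.mp (fun hne => h (FiniteField.nonempty_algHom_iff_finrank_dvd.mp hne))
    exact Nat.card_of_isEmpty

variable {k : Type u} [Field k] {C : Scheme.{u}} [C.Over (Spec (CommRingCat.of k))]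

theorem fromSpecResidueField_comp_over (x : C) :
    C.fromSpecResidueField x ≫ (C ↘ Spec (CommRingCat.of k)) =
      Spec.map (CommRingCat.ofHom (Curv2.resMap k C x)) := by
  rw [Scheme.fromSpecResidueField, Category.assoc,
    Groth.Agent.H22.FunFieldHom.fromSpecStalk_comp_over, ← Spec.map_comp]
  rfl

/-- residue field embeddings compatible with the structure maps are algebra homomorphisms -/
noncomputable def homEquivAlgHom (k' : Type u) [Field k'] [Algebra k k'] (x : C) :
    {φ : C.residueField x ⟶ CommRingCat.of k' //
      CommRingCat.ofHom (Curv2.resMap k C x) ≫ φ = CommRingCat.ofHom (algebraMap k k')} ≃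
    (C.residueField x →ₐ[k] k') where
  toFun φ :=
    { φ.1.hom with
      commutes' := fun c => congrArg (fun ψ => ψ.hom c) φ.2 }
  invFun ψ := ⟨CommRingCat.ofHom ψ.toRingHom, by
    ext c
    exact ψ.commutes c⟩
  left_inv φ := Subtype.ext rfl
  right_inv ψ := AlgHom.ext fun _ => rfl

/-- moving a subtype condition inside a sigma type -/
def subtypeSigmaEquiv' {α : Type*} {β : α → Type*} (q : (Σ a, β a) → Prop) :
    {p : Σ a, β a // q p} ≃ Σ a, {b : β a // q ⟨a, b⟩} where
  toFun p := ⟨p.1.1, ⟨p.1.2, p.2⟩⟩
  invFun p := ⟨⟨p.1, p.2.1⟩, p.2.2⟩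
  left_inv _ := rfl
  right_inv _ := rfl

/-- `k'`-points of a `k`-scheme are points with a `k`-embedding of the residue field -/
noncomputable def pointsEquiv (k' : Type u) [Field k'] [Algebra k k'] :
    {g : Spec (CommRingCat.of k') ⟶ C //
      g ≫ (C ↘ Spec (CommRingCat.of k)) = Spec.map (CommRingCat.ofHom (algebraMap k k'))} ≃
    Σ x : C, (C.residueField x →ₐ[k] k') :=
  ((Equiv.subtypeEquiv (Scheme.SpecToEquivOfField k' C) (fun g => by
    have hg : g = Spec.map (Scheme.SpecToEquivOfField k' C g).2 ≫
        C.fromSpecResidueField (Scheme.SpecToEquivOfField k' C g).1 :=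
      ((Scheme.SpecToEquivOfField k' C).symm_apply_apply g).symm
    conv_lhs => rw [hg, Category.assoc, fromSpecResidueField_comp_over, ← Spec.map_comp,
      Spec.map_inj])).trans
    (subtypeSigmaEquiv' (fun p : Σ x : C, C.residueField x ⟶ CommRingCat.of k' =>
      CommRingCat.ofHom (Curv2.resMap k C p.1) ≫ p.2 =
        CommRingCat.ofHom (algebraMap k k')))).trans
    (Equiv.sigmaCongrRight (homEquivAlgHom k'))

section count

variable [Finite k] [IsIntegral C] [GeometricallyIrreducible (C ↘ Spec (CommRingCat.of k))]
  (hC : IsCurve k C)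
include hC

/-- **the number of `k'`-points of the curve** -/
theorem IsCurve.pointCount_eq (k' : Type u) [Field k'] [Algebra k k'] [Finite k'] :
    SgaExt.pointCount (C ↘ Spec (CommRingCat.of k)) k' =
      Groth.Agent.H62.Weil.Nm k C.functionField (Module.finrank k k') := by
  classical
  unfold SgaExt.pointCount
  rw [Nat.card_congr (pointsEquiv k')]
  have hK := hC.isFunctionField
  set n := Module.finrank k k' with hn
  have hn1 : 1 ≤ n := Module.finrank_pos
  let T : Finset (Place k C.functionField) :=
    (Groth.Agent.H86.Zeta.finite_places_deg_le hK n).toFinset.filter (fun P => P.deg ∣ n)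
  let F : Place k C.functionField → C := fun P => ((placeEquiv hC).symm P).1
  have hFinj : Function.Injective F := fun P Q h =>
    (placeEquiv hC).symm.injective (Subtype.ext h)
  have hfin : ∀ x : C, Finite (C.residueField x →ₐ[k] k') := by
    intro x
    by_cases hne : Nonempty (C.residueField x →ₐ[k] k')
    · obtain ⟨φ⟩ := hne
      haveI : Finite (C.residueField x) := Finite.of_injective φ φ.injective
      exact Finite.of_injective (fun ψ : C.residueField x →ₐ[k] k' => (ψ : C.residueField x → k'))
        DFunLike.coe_injective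
    · haveI := not_nonempty_iff.mp hne
      infer_instance
  have hdeg : ∀ x : {x : C // IsClosed ({x} : Set C)},
      (placeOf hC x).deg = Module.finrank k (C.residueField x.1) := deg_placeOf hC
  have hmem : ∀ x : C, Nonempty (C.residueField x →ₐ[k] k') → x ∈ T.image F := by
    intro x hx
    have hdvd : Module.finrank k (C.residueField x) ∣ n :=
      FiniteField.nonempty_algHom_iff_finrank_dvd.mp hx
    have hpos : 0 < Module.finrank k (C.residueField x) :=
      Nat.pos_of_dvd_of_pos hdvd hn1
    have hfinite : Module.Finite k (C.residueField x) := Module.finite_of_finrank_pos hpos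
    have hcl : IsClosed ({x} : Set C) :=
      Groth.Agent.H11.SepPointsSch.isClosed_singleton_of_finite k x hfinite
    refine Finset.mem_image.mpr ⟨placeOf hC ⟨x, hcl⟩, ?_, ?_⟩
    · rw [Finset.mem_filter, Set.Finite.mem_toFinset]
      rw [← hdeg ⟨x, hcl⟩] at hdvd
      exact ⟨Nat.le_of_dvd hn1 hdvd, hdvd⟩
    · change ((placeEquiv hC).symm (placeEquiv hC ⟨x, hcl⟩)).1 = x
      rw [Equiv.symm_apply_apply]
  rw [natCard_sigma_of_subset (T.image F) hmem, Finset.sum_image (fun P _ Q _ h => hFinj h),
    Groth.Agent.H62.Weil.Nm_eq_sum_filter hK hn1]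
  refine Finset.sum_congr rfl (fun P hP => ?_)
  rw [Finset.mem_filter] at hP
  have h1 : P.deg = Module.finrank k (C.residueField (F P)) := by
    have := hdeg ((placeEquiv hC).symm P)
    rw [← placeEquiv_apply, Equiv.apply_symm_apply] at this
    exact this
  rw [natCard_algHom_finite, ← h1, if_pos hP.2]

end count

end Groth.Agent.H62.CD
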