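import Groth.Agent.H62.RH10
import Groth.Agent.H86.ZT19

/-!
# The Riemann hypothesis from a geometric model
-/

set_option autoImplicit false
set_option linter.unusedSectionVars false

namespace Groth.Agent.H62.RH

open FunFld WithZero Module Polynomial Groth.Agent.H55
open Groth.Agent.H62.Weil Groth.Agent.H86.Zeta

universe u v

variable {k : Type u} {K : Type v} [Field k] [Finite k] [Field K] [Algebra k K]

/-- the existence of a geometric model `Kb = K kbar` with its Frobenius -/
def HasModel (k : Type u) (K : Type v) [Field k] [Field K] [Algebra k K] : Prop :=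
  ∃ (Kb : Type (max u v)) (_ : Field Kb) (_ : Algebra K Kb)
    (_ : Algebra (AlgebraicClosure k) Kb) (_ : Algebra k Kb) (_ : IsScalarTower k K Kb)
    (_ : IsScalarTower k (AlgebraicClosure k) Kb),
    Algebra.adjoin K (Set.range (algebraMap (AlgebraicClosure k) Kb)) = ⊤ ∧
    IsFunctionField (AlgebraicClosure k) Kb ∧
    ∃ F : Kb →ₐ[AlgebraicClosure k] Kb,
      ∀ x : K, F (algebraMap K Kb x) = algebraMap K Kb x ^ Nat.card k

/-- **the Riemann hypothesis** for the reciprocal roots, from a geometric model -/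
theorem norm_sq_of_model (hK : IsFunctionField k K) (hmodel : HasModel k K)
    (α : Fin (2 * genus k K) → ℂ)
    (hα : PowerSeries.map (Int.castRingHom ℂ) (numerZ k K) =
      ((∏ i, (1 - Polynomial.C (α i) * Polynomial.X) : Polynomial ℂ) : PowerSeries ℂ))
    (hpair : ∀ i, α i * α (Fin.rev i) = (Nat.card k : ℂ)) :
    ∀ i, ‖α i‖ ^ 2 = (Nat.card k : ℝ) := by
  obtain ⟨Kb, _, _, _, _, _, _, hgen, hKb, F, hF⟩ := hmodel
  obtain ⟨C, r₀, hb⟩ := exists_bound hK hKb hgen F hF
  have hq : (0 : ℝ) < (Nat.card k : ℝ) := by exact_mod_cast Nat.card_pos (α := k)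
  apply norm_sq_eq_of_powerSum_bounds α (Nat.card k : ℝ) hq
    (fun i => ⟨Fin.rev i, by rw [hpair i]; norm_cast⟩) 2 (by norm_num) C (max r₀ 1)
  intro r hr
  have hr0 : r₀ ≤ r := le_trans (le_max_left _ _) hr
  have hr1 : 1 ≤ r := le_trans (le_max_right _ _) hr
  have h1 := Nm_eq hK α hα (m := 2 * r) (by omega)
  have h2 : ∑ i, α i ^ (2 * r) =
      ((-((Nm k K (2 * r) : ℝ) - (Nat.card k : ℝ) ^ (2 * r) - 1) : ℝ) : ℂ) := by
    push_cast
    rw [h1]
    ring
  rw [h2, Complex.norm_real, Real.norm_eq_abs, abs_neg]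
  have h3 : Real.sqrt (Nat.card k : ℝ) ^ (2 * r) = (Nat.card k : ℝ) ^ r := by
    rw [pow_mul, Real.sq_sqrt hq.le]
  rw [h3]
  exact hb r hr0

end Groth.Agent.H62.RH
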