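import Groth.Agent.H62.ZW2
import Mathlib.Analysis.Complex.Basic

/-!
# The numbers `N_m` and the reciprocal roots of the numerator of the zeta function
-/

set_option autoImplicit false
set_option linter.unusedSectionVars false

namespace Groth.Agent.H62.Weil

open FunFld Groth.Agent.H55 Groth.Agent.H86.Zeta PowerSeries

variable {k K : Type*} [Field k] [Field K] [Algebra k K]

variable (k K) in
/-- the zeta series over `ℂ` -/
noncomputable def zetaC : ℂ⟦X⟧ := PowerSeries.map (Int.castRingHom ℂ) (zetaZ k K)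

variable (k K) in
/-- the numerator over `ℂ` -/
noncomputable def numerC : ℂ⟦X⟧ := PowerSeries.map (Int.castRingHom ℂ) (numerZ k K)

variable (k K) in
/-- the series `∑_{m ≥ 1} N_m X^m` -/
noncomputable def NmSeries : ℂ⟦X⟧ := PowerSeries.mk fun m => if m = 0 then 0 else (Nm k K m : ℂ)

theorem coeff_zetaC (n : ℕ) : coeff n (zetaC k K) = (effDivCount k K n : ℂ) := by
  unfold zetaC zetaZ
  rw [coeff_map, coeff_mk]
  simp

theorem coeff_NmSeries (m : ℕ) :
    coeff m (NmSeries k K) = if m = 0 then 0 else (Nm k K m : ℂ) := by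
  unfold NmSeries
  rw [coeff_mk]

theorem sum_antidiagonal_eq {R : Type*} [CommRing R] (f g : ℕ → R) (hg : g 0 = 0) (n : ℕ) :
    ∑ p ∈ Finset.HasAntidiagonal.antidiagonal n, f p.1 * g p.2 = ∑ m ∈ Finset.Icc 1 n, g m * f (n - m) := by
  rw [← Finset.Nat.sum_antidiagonal_swap,
    Finset.Nat.sum_antidiagonal_eq_sum_range_succ_mk]
  simp only [Prod.fst_swap, Prod.snd_swap]
  symm
  have hsub : Finset.Icc 1 n ⊆ Finset.range n.succ := by
    intro m hm
    rw [Finset.mem_Icc] at hm
    rw [Finset.mem_range]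
    omega
  rw [← Finset.sum_subset hsub]
  · exact Finset.sum_congr rfl fun m _ => mul_comm _ _
  · intro m hm hm'
    rw [Finset.mem_range] at hm
    rw [Finset.mem_Icc] at hm'
    have : m = 0 := by omega
    rw [this, hg, mul_zero]

theorem logDer_zetaC [Finite k] (hK : IsFunctionField k K) :
    LogDer (zetaC k K) (NmSeries k K) := by
  rw [logDer_iff_coeff]
  intro n
  have h1 := card_mul_eq hK n
  have h2 : ∑ p ∈ Finset.HasAntidiagonal.antidiagonal n, coeff p.1 (zetaC k K) * coeff p.2 (NmSeries k K) =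
      ∑ m ∈ Finset.Icc 1 n, (fun m => if m = 0 then (0 : ℂ) else (Nm k K m : ℂ)) m *
        (fun i => (effDivCount k K i : ℂ)) (n - m) := by
    rw [← sum_antidiagonal_eq (fun i => (effDivCount k K i : ℂ))
      (fun m => if m = 0 then (0 : ℂ) else (Nm k K m : ℂ)) (by simp) n]
    apply Finset.sum_congr rfl
    intro p _
    rw [coeff_zetaC, coeff_NmSeries]
  rw [h2, coeff_zetaC]
  have h3 := congrArg (fun z : ℤ => (z : ℂ)) h1
  simp only [Int.cast_mul, Int.cast_natCast, Int.cast_sum] at h3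
  rw [h3]
  apply Finset.sum_congr rfl
  intro m hm
  rw [Finset.mem_Icc] at hm
  have hm0 : m ≠ 0 := by omega
  simp only [if_neg hm0]

theorem numerC_eq : numerC k K =
    (1 - C (1 : ℂ) * X) * (1 - C (Nat.card k : ℂ) * X) * zetaC k K := by
  unfold numerC numerZ zetaC
  rw [map_mul, map_mul, map_sub, map_sub, map_one, map_mul, map_X, map_C]
  simp

theorem logDer_numerC [Finite k] (hK : IsFunctionField k K) :
    LogDer (numerC k K) (-geo (1 : ℂ) + -geo (Nat.card k : ℂ) + NmSeries k K) := by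
  rw [numerC_eq]
  exact ((logDer_one_sub (1 : ℂ)).mul (logDer_one_sub (Nat.card k : ℂ))).mul (logDer_zetaC hK)

theorem effDivCount_zero (hK : IsFunctionField k K) : effDivCount k K 0 = 1 := by
  rw [effDivCount_eq]
  have : Unique (Eff k K 0) := by
    refine ⟨⟨⟨0, le_refl _, by rw [Divisor.deg_zero]; rfl⟩⟩, fun D => ?_⟩
    apply Subtype.ext
    show D.1 = 0
    ext P
    rw [Finsupp.zero_apply]
    have h1 := apply_le_deg_of_nonneg hK D.2.1 P
    rw [D.2.2] at h1
    have h0 := D.2.1 P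
    rw [Finsupp.zero_apply] at h0
    have hd : (0 : ℤ) < P.deg := by exact_mod_cast Place.deg_pos hK P
    have h2 : (0 : ℤ) ≤ D.1 P * (P.deg : ℤ) := mul_nonneg h0 hd.le
    have h3 : D.1 P * (P.deg : ℤ) = 0 := le_antisymm (by exact_mod_cast h1) h2
    rcases mul_eq_zero.mp h3 with h | h
    · exact h
    · omega
  exact Nat.card_unique

theorem constantCoeff_numerC (hK : IsFunctionField k K) :
    constantCoeff (numerC k K) = 1 := by
  rw [numerC_eq, map_mul, map_mul, map_sub, map_sub, map_mul, map_mul, constantCoeff_X,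
    ← coeff_zero_eq_constantCoeff_apply (zetaC k K), coeff_zetaC, effDivCount_zero hK]
  simp

/-- the product of linear factors as a power series -/
theorem coe_prod_linear {n : ℕ} (α : Fin n → ℂ) :
    ((∏ i, (1 - Polynomial.C (α i) * Polynomial.X) : Polynomial ℂ) : ℂ⟦X⟧) =
      ∏ i, (1 - C (α i) * X) := by
  have h : ∀ p : Polynomial ℂ, (p : ℂ⟦X⟧) = Polynomial.coeToPowerSeries.ringHom p := fun _ => rfl
  rw [h, map_prod]
  apply Finset.prod_congr rfl
  intro i _
  rw [← h]
  simp

theorem logDer_prod_linear {n : ℕ} (α : Fin n → ℂ) :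
    LogDer (∏ i, (1 - C (α i) * X) : ℂ⟦X⟧) (∑ i, -geo (α i)) :=
  LogDer.prod Finset.univ _ _ fun i _ => logDer_one_sub (α i)

theorem constantCoeff_prod_linear {n : ℕ} (α : Fin n → ℂ) :
    constantCoeff (∏ i, (1 - C (α i) * X) : ℂ⟦X⟧) = 1 := by
  rw [map_prod]
  apply Finset.prod_eq_one
  intro i _
  simp

/-- `N_m = q^m + 1 - ∑ αᵢ^m` -/
theorem Nm_eq [Finite k] (hK : IsFunctionField k K) {n : ℕ} (α : Fin n → ℂ)
    (hα : numerC k K = ((∏ i, (1 - Polynomial.C (α i) * Polynomial.X) : Polynomial ℂ) : ℂ⟦X⟧))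
    {m : ℕ} (hm : 1 ≤ m) :
    (Nm k K m : ℂ) = 1 + (Nat.card k : ℂ) ^ m - ∑ i, α i ^ m := by
  rw [coe_prod_linear] at hα
  have h1 := logDer_numerC hK
  have h2 := logDer_prod_linear α
  rw [← hα] at h2
  have hne : numerC k K ≠ 0 := by
    intro h0
    have := constantCoeff_prod_linear α
    rw [← hα, h0, map_zero] at this
    exact zero_ne_one this
  have h3 := LogDer.unique_right hne h1 h2
  have h4 := congrArg (coeff m) h3
  have hm0 : m ≠ 0 := by omega
  rw [map_add, map_add, map_neg, map_neg, coeff_geo, coeff_geo, coeff_NmSeries, if_neg hm0,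
    if_neg hm0, if_neg hm0, map_sum] at h4
  have h5 : ∀ i, coeff m (-geo (α i)) = -(α i ^ m) := by
    intro i
    rw [map_neg, coeff_geo, if_neg hm0]
  rw [Finset.sum_congr rfl (fun i _ => h5 i), Finset.sum_neg_distrib, one_pow] at h4
  linear_combination h4

end Groth.Agent.H62.Weil
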