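import Mathlib
import Groth.Agent.H62.RH11
import Groth.Agent.H86.GM2
import Groth.Agent.H86.ZT17
import Groth.Agent.H62.ZW3

/-!
helper62: consequences of the Weil bound for function fields over finite fields: for all large `n`
there is a place of degree dividing `n`; two places of coprime degrees.
-/

set_option autoImplicit false
open FunFld

namespace Groth.Agent.H62.CD

variable {k K : Type*} [Field k] [Finite k] [Field K] [Algebra k K]

/-- for all large `n` the number `N_n` is positive -/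
theorem exists_forall_Nm_pos (hK : IsFunctionField k K) :
    ∃ n₀ : ℕ, ∀ n, n₀ ≤ n → 0 < Groth.Agent.H62.Weil.Nm k K n := by
  obtain ⟨α, -, hα, hpair⟩ := Groth.Agent.H86.Zeta.exists_reciprocal_roots hK
  have hnorm := Groth.Agent.H62.RH.norm_sq_of_model hK
    (Groth.Agent.H86.GeoModel.exists_geometric_model k K hK) α hα hpair
  set q : ℝ := (Nat.card k : ℝ) with hq
  have hq2 : (2 : ℝ) ≤ q := by
    have : 2 ≤ Nat.card k := Finite.one_lt_card
    rw [hq]
    exact_mod_cast this
  set s : ℝ := Real.sqrt q with hs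
  have hs1 : 1 < s := by
    rw [hs, Real.lt_sqrt (by norm_num)]
    linarith
  have hss : s * s = q := Real.mul_self_sqrt (by linarith)
  have hαs : ∀ i, ‖α i‖ = s := by
    intro i
    rw [hs, ← hnorm i, Real.sqrt_sq (norm_nonneg _)]
  obtain ⟨n₀, hn₀⟩ := pow_unbounded_of_one_lt (2 * (genus k K : ℝ)) hs1
  refine ⟨max n₀ 1, fun n hn => ?_⟩
  have hn1 : 1 ≤ n := le_trans (le_max_right _ _) hn
  have hn0 : n₀ ≤ n := le_trans (le_max_left _ _) hn
  have hN := Groth.Agent.H62.Weil.Nm_eq hK α hα hn1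
  have hsn : 2 * (genus k K : ℝ) ≤ s ^ n :=
    hn₀.le.trans (pow_le_pow_right₀ hs1.le hn0)
  have hsum : ‖∑ i, α i ^ n‖ ≤ 2 * (genus k K : ℝ) * s ^ n := by
    calc ‖∑ i, α i ^ n‖ ≤ ∑ i, ‖α i ^ n‖ := norm_sum_le _ _
      _ = ∑ _i : Fin (2 * genus k K), s ^ n := by
          refine Finset.sum_congr rfl (fun i _ => ?_)
          rw [norm_pow, hαs i]
      _ = 2 * (genus k K : ℝ) * s ^ n := by
          rw [Finset.sum_const, Finset.card_univ, Fintype.card_fin, nsmul_eq_mul]
          push_cast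
          ring
  -- compare real parts
  have hre : ((Groth.Agent.H62.Weil.Nm k K n : ℝ)) = 1 + q ^ n - (∑ i, α i ^ n).re := by
    have := congrArg Complex.re hN
    simp only [Complex.natCast_re, Complex.add_re, Complex.one_re, Complex.sub_re] at this
    rw [this]
    congr 2
    rw [← Complex.ofReal_natCast, ← Complex.ofReal_pow, Complex.ofReal_re]
  have hrele : (∑ i, α i ^ n).re ≤ 2 * (genus k K : ℝ) * s ^ n :=
    (Complex.re_le_norm _).trans hsum
  have hqn : q ^ n = s ^ n * s ^ n := by rw [← mul_pow, hss]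
  have hpos : (0 : ℝ) < (Groth.Agent.H62.Weil.Nm k K n : ℝ) := by
    rw [hre, hqn]
    have hsn0 : (0 : ℝ) ≤ s ^ n := by positivity
    nlinarith
  exact_mod_cast hpos

/-- a place of degree dividing `n`, for `n` large -/
theorem exists_forall_exists_place_deg_dvd (hK : IsFunctionField k K) :
    ∃ n₀ : ℕ, ∀ n, n₀ ≤ n → ∃ P : Place k K, P.deg ∣ n := by
  obtain ⟨n₀, h⟩ := exists_forall_Nm_pos hK
  refine ⟨n₀, fun n hn => ?_⟩
  by_contra hcon
  push Not at hcon
  have h0 : Groth.Agent.H62.Weil.Nm k K n = 0 := by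
    unfold Groth.Agent.H62.Weil.Nm
    rw [finsum_eq_zero_of_forall_eq_zero]
    intro P
    rw [if_neg (hcon P)]
  have := h n hn
  omega

/-- two places of coprime degrees -/
theorem exists_places_coprime_deg (hK : IsFunctionField k K) :
    ∃ P Q : Place k K, Nat.Coprime P.deg Q.deg := by
  obtain ⟨n₀, h⟩ := exists_forall_exists_place_deg_dvd hK
  obtain ⟨l₁, hl₁, hp₁⟩ := Nat.exists_infinite_primes n₀
  obtain ⟨l₂, hl₂, hp₂⟩ := Nat.exists_infinite_primes (l₁ + 1)
  obtain ⟨P, hP⟩ := h l₁ hl₁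
  obtain ⟨Q, hQ⟩ := h l₂ (by omega)
  refine ⟨P, Q, ?_⟩
  have hcop : Nat.Coprime l₁ l₂ := (Nat.coprime_primes hp₁ hp₂).mpr (by omega)
  exact Nat.Coprime.coprime_dvd_left hP (Nat.Coprime.coprime_dvd_right hQ hcop)

end Groth.Agent.H62.CD
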