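import Mathlib
import Groth.Agent.H62.CF2

/-!
helper62, curve ↔ function field dictionary: the three facts behind `nonempty_cech_one_equiv`
as stand-alone lemmas (embedded `1`-cocycles and `1`-coboundaries of the Čech complex of a
presheaf which embeds compatibly into a constant group).
-/

set_option autoImplicit false
open CategoryTheory Opposite Limits TopologicalSpace
universe u
namespace Groth.Agent.H62.CF

open Groth.Agent.Lead.Cech

variable {X : Type u} [TopologicalSpace X] {ι : Type u} (U : ι → Opens X)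
  (P : (Opens X)ᵒᵖ ⥤ AddCommGrpCat.{u})
  {G : Type*} [AddCommGroup G] (ξ : X) (hξ : ∀ i, ξ ∈ U i)
  (ε : ∀ V : Opens X, ξ ∈ V → ((P.obj (op V) : Type u) →+ G))
  (hinj : ∀ V h, Function.Injective (ε V h))
  (hcomp : ∀ (V W : Opens X) (h : W ≤ V) (hW : ξ ∈ W) (s : P.obj (op V)),
    ε W hW (P.map (homOfLE h).op s) = ε V (h hW) s)

include hinj hcomp in
theorem d_eq_zero_iff_Psi_mem (x : (K U P).X 1) :
    (K U P).d 1 2 x = 0 ↔ Psi U P ξ hξ ε x ∈ Z1' U P ξ hξ ε := by
  constructor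
  · intro hx
    refine ⟨fun i j => ?_, fun i j l => ?_⟩
    · rw [← range_eps_congr P ξ ε (cechOpen_pair U i j) (mem_cechOpen U ξ _ hξ) ⟨hξ i, hξ j⟩]
      exact ⟨_, rfl⟩
    · have h := Phi_d_one U P ξ hξ ε hcomp x i j l
      rw [hx, map_zero] at h
      simp only [Psi_apply]
      exact h.symm
  · rintro ⟨-, h2⟩
    apply Phi_injective U P ξ hξ ε hinj 2
    rw [map_zero]
    funext τ
    rw [eq_triple τ, Phi_d_one U P ξ hξ ε hcomp]
    exact h2 (τ 0) (τ 1) (τ 2)

theorem exists_Psi_eq (c : ι → ι → G) (hc : c ∈ Z1' U P ξ hξ ε) :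
    ∃ x : (K U P).X 1, Psi U P ξ hξ ε x = c := by
  obtain ⟨h1, -⟩ := hc
  have hpre : ∀ σ : Fin 2 → ι, ∃ s : P.obj (op (cechOpen U σ)),
      ε (cechOpen U σ) (mem_cechOpen U ξ σ hξ) s = c (σ 0) (σ 1) := by
    intro σ
    have h := h1 (σ 0) (σ 1)
    have e : cechOpen U σ = U (σ 0) ⊓ U (σ 1) := by
      conv_lhs => rw [eq_pair σ]
      exact cechOpen_pair U _ _
    rw [← range_eps_congr P ξ ε e (mem_cechOpen U ξ σ hξ) ⟨hξ _, hξ _⟩] at h
    exact h
  choose s hs using hpre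
  refine ⟨(coords U P 1).symm s, ?_⟩
  funext i j
  rw [Psi_apply, Phi_apply, proj_coords_symm, hs]
  rfl

include hcomp in
theorem mem_B1'_iff (c : ι → ι → G) :
    c ∈ B1' U P ξ hξ ε ↔ ∃ y : (K U P).X 0, Psi U P ξ hξ ε ((K U P).d 0 1 y) = c := by
  constructor
  · rintro ⟨g, hg, hc⟩
    have hpre : ∀ σ : Fin 1 → ι, ∃ s : P.obj (op (cechOpen U σ)),
        ε (cechOpen U σ) (mem_cechOpen U ξ σ hξ) s = g (σ 0) := by
      intro σ
      have h := hg (σ 0)
      have e : cechOpen U σ = U (σ 0) := by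
        conv_lhs => rw [eq_single σ]
        exact cechOpen_single U _
      rw [← range_eps_congr P ξ ε e (mem_cechOpen U ξ σ hξ) (hξ _)] at h
      exact h
    choose s hs using hpre
    refine ⟨(coords U P 0).symm s, ?_⟩
    funext i j
    rw [Psi_apply, Phi_d_zero U P ξ hξ ε hcomp, Phi_apply, Phi_apply, proj_coords_symm,
      proj_coords_symm, hs, hs, hc]
    rfl
  · rintro ⟨y, rfl⟩
    refine ⟨fun i => Phi U P ξ hξ ε 0 y ![i], fun i => ?_, fun i j => ?_⟩
    · rw [← range_eps_congr P ξ ε (cechOpen_single U i) (mem_cechOpen U ξ _ hξ) (hξ i)]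
      exact ⟨_, rfl⟩
    · rw [Psi_apply, Phi_d_zero U P ξ hξ ε hcomp]

end Groth.Agent.H62.CF
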