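import Mathlib
import Groth.Agent.H62.CD1
import Groth.Agent.H53.SmoothFieldRegular

/-!
helper62, GENERAL-FIELD curve ↔ function field dictionary, part 1: the hypotheses (`GCurve`),
basic consequences, and the construction from a smooth proper curve.
A `GCurve` is an integral scheme, proper over an arbitrary field `k`, of dimension one, whose local
rings at closed points are discrete valuation rings, and in whose function field `k` is
algebraically closed.
-/

set_option autoImplicit false
set_option linter.style.haveILetI false
open CategoryTheory CategoryTheory.Limits AlgebraicGeometry TopologicalSpace Topology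
universe u

namespace Groth.Agent.H62.GD

attribute [local instance] Curv2.stalkAlgebra Curv2.resAlgebra

variable (k : Type u) [Field k] (C : Scheme.{u}) [C.Over (Spec (CommRingCat.of k))] [IsIntegral C]

/-- the hypotheses on the curve, over an arbitrary field, without the condition on constants -/
structure PCurve : Prop where
  proper : IsProper (C ↘ Spec (CommRingCat.of k))
  dim : topologicalKrullDim C = 1
  dvr : ∀ x : C, IsClosed ({x} : Set C) → IsDiscreteValuationRing (C.presheaf.stalk x)

/-- the hypotheses on the curve, over an arbitrary field -/
structure GCurve : Prop extends PCurve k C where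
  const : ∀ y : C.functionField, IsAlgebraic k y → y ∈ Set.range (algebraMap k C.functionField)

variable {k C}

section pbasics

variable (hC : PCurve k C)
include hC

theorem PCurve.locallyOfFiniteType : LocallyOfFiniteType (C ↘ Spec (CommRingCat.of k)) :=
  haveI := hC.proper
  inferInstance

theorem PCurve.ringKrullDim_stalk (x : C) (hx : IsClosed ({x} : Set C)) :
    ringKrullDim (C.presheaf.stalk x) = 1 := by
  haveI := hC.locallyOfFiniteType
  rw [← Groth.Agent.S1617.result k C x hx,
    ← Groth.Agent.H17.Chev.topologicalKrullDim_eq_localDim_of_irreducible k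
      (C ↘ Spec (CommRingCat.of k)) x, hC.dim]

theorem PCurve.compactSpace : CompactSpace C :=
  haveI := hC.proper
  QuasiCompact.compactSpace_of_compactSpace (C ↘ Spec (CommRingCat.of k))

/-- every point other than the generic point is closed -/
theorem PCurve.isClosed_or_eq_genericPoint (x : C) :
    IsClosed ({x} : Set C) ∨ x = genericPoint C :=
  haveI := hC.compactSpace
  Groth.Agent.H22.CurveFibres.isClosed_or_eq_genericPoint
    (fun y hy => hC.ringKrullDim_stalk y hy) x

end pbasics

section basics

variable (hC : GCurve k C)
include hC

theorem GCurve.locallyOfFiniteType : LocallyOfFiniteType (C ↘ Spec (CommRingCat.of k)) :=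
  haveI := hC.proper
  inferInstance

theorem GCurve.ringKrullDim_stalk (x : C) (hx : IsClosed ({x} : Set C)) :
    ringKrullDim (C.presheaf.stalk x) = 1 := by
  haveI := hC.locallyOfFiniteType
  rw [← Groth.Agent.S1617.result k C x hx,
    ← Groth.Agent.H17.Chev.topologicalKrullDim_eq_localDim_of_irreducible k
      (C ↘ Spec (CommRingCat.of k)) x, hC.dim]

theorem GCurve.exists_isClosed_singleton : ∃ x : C, IsClosed ({x} : Set C) := by
  haveI := hC.proper
  haveI : CompactSpace C := QuasiCompact.compactSpace_of_compactSpace (C ↘ Spec (CommRingCat.of k))
  obtain ⟨x, -, hx⟩ := IsClosed.exists_closed_singleton (isClosed_univ (X := C))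
    ⟨genericPoint C, trivial⟩
  exact ⟨x, hx⟩

theorem GCurve.compactSpace : CompactSpace C :=
  haveI := hC.proper
  QuasiCompact.compactSpace_of_compactSpace (C ↘ Spec (CommRingCat.of k))

theorem GCurve.isSeparated : C.IsSeparated := by
  haveI := hC.proper
  exact (HasAffineProperty.iff_of_isAffine (P := @IsSeparated)
    (f := C ↘ Spec (CommRingCat.of k))).mp inferInstance

/-- every point other than the generic point is closed -/
theorem GCurve.isClosed_or_eq_genericPoint (x : C) :
    IsClosed ({x} : Set C) ∨ x = genericPoint C :=
  haveI := hC.compactSpace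
  Groth.Agent.H22.CurveFibres.isClosed_or_eq_genericPoint
    (fun y hy => hC.ringKrullDim_stalk y hy) x

theorem GCurve.not_isClosed_genericPoint : ¬ IsClosed ({genericPoint C} : Set C) :=
  Groth.Agent.H22.CurveFibres.not_isClosed_genericPoint
    (fun y hy => hC.ringKrullDim_stalk y hy)

theorem GCurve.essFiniteType : Algebra.EssFiniteType k C.functionField := by
  haveI := hC.locallyOfFiniteType
  obtain ⟨V, hV, hxV, -⟩ := Opens.isBasis_iff_nbhd.mp C.isBasis_affineOpens
    (show genericPoint C ∈ (⊤ : C.Opens) from trivial)
  have hV : IsAffineOpen V := hV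
  haveI : Nonempty V := ⟨⟨_, hxV⟩⟩
  letI := Groth.Agent.H11.FtChart.secAlgebra k C V
  haveI := Groth.Agent.H11.FtChart.finiteType_sec k C hV
  haveI := functionField_isFractionRing_of_isAffineOpen C V hV
  haveI : IsScalarTower k Γ(C, V) C.functionField := by
    refine IsScalarTower.of_algebraMap_eq (fun c => ?_)
    change (C.presheaf.germ ⊤ (genericPoint C) trivial).hom
        (Coh.toGlobal (C ↘ Spec (CommRingCat.of k)) c) =
      (C.presheaf.germ V (genericPoint C) _).hom
        ((C.presheaf.map (homOfLE (le_top : V ≤ ⊤)).op).hom
          (Coh.toGlobal (C ↘ Spec (CommRingCat.of k)) c))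
    exact (TopCat.Presheaf.germ_res_apply C.presheaf (homOfLE (le_top : V ≤ ⊤)) _ _ _).symm
  haveI : Algebra.EssFiniteType Γ(C, V) C.functionField :=
    Algebra.EssFiniteType.of_isLocalization _ (nonZeroDivisors Γ(C, V))
  exact Algebra.EssFiniteType.comp k Γ(C, V) C.functionField

theorem GCurve.trdeg_eq_one : Algebra.trdeg k C.functionField = 1 := by
  haveI := hC.locallyOfFiniteType
  obtain ⟨x, hx⟩ := hC.exists_isClosed_singleton
  obtain ⟨n, hn1, hn2⟩ := Groth.Agent.H22.NCurve.ringKrullDim_stalk_of_isClosed k C x hx
  rw [hC.ringKrullDim_stalk x hx] at hn2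
  have h1 : n = 1 := by exact_mod_cast hn2.symm
  rw [hn1, h1]
  rfl

theorem GCurve.exists_transcendental :
    ∃ t : C.functionField, Transcendental k t ∧
      FiniteDimensional (IntermediateField.adjoin k ({t} : Set C.functionField))
        C.functionField := by
  haveI := hC.essFiniteType
  exact Groth.Agent.H22.NCurve.exists_transcendental_finite k C.functionField
    (IntermediateField.fg_top_iff.mpr inferInstance) hC.trdeg_eq_one

/-- the function field of the curve is a function field of one variable over `k` -/
theorem GCurve.isFunctionField : FunFld.IsFunctionField k C.functionField :=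
  ⟨hC.exists_transcendental, hC.const⟩

end basics

/-- a regular local ring of dimension one is a discrete valuation ring -/
theorem isDiscreteValuationRing_of_isRegularLocalRing (R : Type*) [CommRing R] [IsDomain R]
    [IsRegularLocalRing R] (h : ringKrullDim R = 1) : IsDiscreteValuationRing R := by
  have h1 := (IsRegularLocalRing.iff_finrank_cotangentSpace (R := R)).mp inferInstance
  rw [h] at h1
  have h2 : Module.finrank (IsLocalRing.ResidueField R) (IsLocalRing.CotangentSpace R) = 1 := by
    exact_mod_cast h1
  exact (IsLocalRing.finrank_CotangentSpace_eq_one_iff).mp h2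

/-- a smooth proper integral curve -/
theorem PCurve.of_smooth (hproper : IsProper (C ↘ Spec (CommRingCat.of k)))
    [Smooth (C ↘ Spec (CommRingCat.of k))] (hdim : topologicalKrullDim C = 1) : PCurve k C where
  proper := hproper
  dim := hdim
  dvr x hx := by
    haveI := hproper
    haveI : LocallyOfFiniteType (C ↘ Spec (CommRingCat.of k)) := inferInstance
    haveI := Groth.Agent.H53.isRegularLocalRing_stalk_of_smooth_field k
      (C ↘ Spec (CommRingCat.of k)) x
    apply isDiscreteValuationRing_of_isRegularLocalRing
    rw [← Groth.Agent.S1617.result k C x hx,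
      ← Groth.Agent.H17.Chev.topologicalKrullDim_eq_localDim_of_irreducible k
        (C ↘ Spec (CommRingCat.of k)) x, hdim]

/-- a smooth proper curve in whose function field `k` is algebraically closed -/
theorem GCurve.of_smooth (hproper : IsProper (C ↘ Spec (CommRingCat.of k)))
    [Smooth (C ↘ Spec (CommRingCat.of k))] (hdim : topologicalKrullDim C = 1)
    (hconst : ∀ y : C.functionField, IsAlgebraic k y →
      y ∈ Set.range (algebraMap k C.functionField)) : GCurve k C :=
  { PCurve.of_smooth hproper hdim with const := hconst }

end Groth.Agent.H62.GD
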