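import Mathlib
import Groth.Agent.H62.CD4
import Groth.Agent.H62.GD1
import Groth.Agent.H22.DomCenter
import Groth.Agent.H22.CurveValuation
import Groth.Agent.H22.FunFieldHom
import Groth.Agent.H55.FFExist
import Groth.Agent.H55.FFPlace

/-!
helper62, GENERAL-FIELD curve ↔ function field dictionary, part 2: closed points of a `GCurve`
(over an arbitrary field) correspond bijectively to the places of its function field.
-/

set_option autoImplicit false
set_option linter.style.haveILetI false
open CategoryTheory CategoryTheory.Limits AlgebraicGeometry TopologicalSpace Topology FunFld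
universe u

namespace Groth.Agent.H62.GD

attribute [local instance] Curv2.stalkAlgebra Curv2.resAlgebra

open Groth.Agent.H22.DomCenter Groth.Agent.H22.CurveValuation Groth.Agent.H22.LocalPt
  Groth.Agent.H22.CenterCor

variable {k : Type u} [Field k] {C : Scheme.{u}} [C.Over (Spec (CommRingCat.of k))]
  [IsIntegral C]

open Groth.Agent.H62.CD (eq_of_dominates_of_dominates)

section places

variable (hC : GCurve k C)
include hC

/-- the place attached to a closed point -/
theorem exists_place (x : C) (hx : IsClosed ({x} : Set C)) :
    ∃ P : Place k C.functionField, ∀ z : C.functionField,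
      P.1 z ≤ 1 ↔ z ∈ Set.range (algebraMap (C.presheaf.stalk x) C.functionField) := by
  haveI := hC.dvr x hx
  let O : ValuationSubring C.functionField := ofValuationRing (C.presheaf.stalk x) C.functionField
  have hk : ∀ c : k, algebraMap k C.functionField c ∈ O := by
    intro c
    rw [IsScalarTower.algebraMap_apply k (C.presheaf.stalk x) C.functionField]
    exact ⟨_, rfl⟩
  have hne : O ≠ ⊤ := ofValuationRing_ne_top _ _ (by
    rw [hC.ringKrullDim_stalk x hx]; exact one_ne_zero)
  obtain ⟨z, hz⟩ : ∃ z : C.functionField, z ∉ O := by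
    by_contra hcon
    push Not at hcon
    exact hne (eq_top_iff.mpr fun z _ => hcon z)
  have hz0 : z ≠ 0 := fun h => hz (h ▸ O.zero_mem)
  have hzinv : z⁻¹ ∈ O := (O.mem_or_inv_mem z).resolve_left hz
  obtain ⟨P, hP⟩ := Groth.Agent.H55.exists_place_of_vs hC.isFunctionField O hk z⁻¹ hzinv (inv_ne_zero hz0)
    (by rwa [inv_inv])
  exact ⟨P, fun w => hP w⟩

/-- the place of a closed point -/
noncomputable def placeOf (x : {x : C // IsClosed ({x} : Set C)}) : Place k C.functionField :=
  (exists_place hC x.1 x.2).choose

theorem placeOf_le_one_iff (x : {x : C // IsClosed ({x} : Set C)}) (z : C.functionField) :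
    (placeOf hC x).1 z ≤ 1 ↔
      z ∈ Set.range (algebraMap (C.presheaf.stalk x.1) C.functionField) :=
  (exists_place hC x.1 x.2).choose_spec z

theorem dominates_placeOf (x : {x : C // IsClosed ({x} : Set C)}) :
    Dominates (placeOf hC x).1.valuationSubring x.1 := by
  set P := placeOf hC x with hP
  have hle : ∀ a : C.presheaf.stalk x.1,
      P.1 (algebraMap (C.presheaf.stalk x.1) C.functionField a) ≤ 1 := fun a =>
    (placeOf_le_one_iff hC x _).mpr ⟨a, rfl⟩
  refine ⟨fun a => (Valuation.mem_valuationSubring_iff _ _).mpr (hle a), fun a ha => ?_⟩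
  rw [(Valuation.isEquiv_valuation_valuationSubring P.1).symm.lt_one_iff_lt_one]
  refine lt_of_le_of_ne (hle a) (fun h1 => ?_)
  set z := algebraMap (C.presheaf.stalk x.1) C.functionField a with hz
  have hz0 : z ≠ 0 := fun h0 => by
    rw [h0, map_zero] at h1
    exact zero_ne_one h1
  have hinv : P.1 z⁻¹ ≤ 1 := by rw [map_inv₀, h1, inv_one]
  obtain ⟨b, hb⟩ := (placeOf_le_one_iff hC x _).mp hinv
  have hab : a * b = 1 := by
    apply IsFractionRing.injective (C.presheaf.stalk x.1) C.functionField
    rw [map_mul, map_one, hb, ← hz, mul_inv_cancel₀ hz0]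
  exact (IsLocalRing.mem_maximalIdeal a).mp ha (IsUnit.of_mul_eq_one b hab)

theorem placeOf_injective : Function.Injective (placeOf hC) := by
  intro x y hxy
  haveI := hC.isSeparated
  have hx := dominates_placeOf hC x
  have hy := dominates_placeOf hC y
  rw [← hxy] at hy
  exact Subtype.ext (eq_of_dominates_of_dominates _ x.1 y.1 hx hy)

/-- every place has a centre (valuative criterion of properness) -/
theorem exists_dominates (P : Place k C.functionField) :
    ∃ x : C, Dominates P.1.valuationSubring x := by
  haveI := hC.proper
  set R := P.1.valuationSubring with hR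
  have hE : ValuativeCriterion.Existence (C ↘ Spec (CommRingCat.of k)) := by
    have := UniversallyClosed.eq_valuativeCriterion
    have h2 : (ValuativeCriterion.Existence ⊓ @QuasiCompact) (C ↘ Spec (CommRingCat.of k)) := by
      rw [← this]; infer_instance
    exact h2.1
  have hsq : gen C ≫ (C ↘ Spec (CommRingCat.of k)) =
      Spec.map (CommRingCat.ofHom (algebraMap R C.functionField)) ≫
        Spec.map (CommRingCat.ofHom (algebraMap k P.O)) := by
    rw [Groth.Agent.H22.FunFieldHom.fromSpecStalk_comp_over, ← Spec.map_comp]
    rfl
  let Sq : ValuativeCommSq (C ↘ Spec (CommRingCat.of k)) :=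
    { R := R
      commRing := inferInstance
      domain := inferInstance
      valuationRing := inferInstance
      K := C.functionField
      field := inferInstance
      algebra := inferInstance
      isFractionRing := inferInstance
      i₁ := gen C
      i₂ := Spec.map (CommRingCat.ofHom (algebraMap k P.O))
      commSq := ⟨hsq⟩ }
  obtain ⟨⟨l, h1, -⟩⟩ := hE Sq
  exact ⟨_, dominates_of_lift R l h1⟩

theorem placeOf_surjective : Function.Surjective (placeOf hC) := by
  intro P
  obtain ⟨x, hx⟩ := exists_dominates hC P
  set R := P.1.valuationSubring with hR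
  have hne : x ≠ genericPoint C := by
    intro hgen
    obtain ⟨t, ht⟩ := Groth.Agent.H55.Place.exists_uniformizer P
    obtain ⟨a, ha⟩ := surjective_algebraMap_of_eq_genericPoint x hgen t⁻¹
    have h1 : t⁻¹ ∈ R := ha ▸ hx.1 a
    rw [hR, Valuation.mem_valuationSubring_iff, map_inv₀, ht] at h1
    rw [← WithZero.exp_neg, neg_neg, ← WithZero.exp_zero, WithZero.exp_le_exp] at h1
    omega
  have hcl : IsClosed ({x} : Set C) := (hC.isClosed_or_eq_genericPoint x).resolve_right hne
  haveI := hC.dvr x hcl
  obtain ⟨α, hαloc, hα, -⟩ := exists_localHom_of_dominates R x hx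
  haveI : IsLocalHom α.hom := hαloc
  have hrange := eq_range_of_dominates R α.hom hα
  refine ⟨⟨x, hcl⟩, Groth.Agent.H55.Place.eq_of_le _ _ (fun z hz => ?_)⟩
  have h1 := (placeOf_le_one_iff hC ⟨x, hcl⟩ z).mp hz
  rw [← hrange] at h1
  exact (Valuation.mem_valuationSubring_iff _ _).mp h1

/-- **closed points of the curve are the places of its function field** -/
noncomputable def placeEquiv : {x : C // IsClosed ({x} : Set C)} ≃ Place k C.functionField :=
  Equiv.ofBijective (placeOf hC) ⟨placeOf_injective hC, placeOf_surjective hC⟩

theorem placeEquiv_apply (x : {x : C // IsClosed ({x} : Set C)}) :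
    placeEquiv hC x = placeOf hC x := rfl

/-- the degree of the place of a closed point is the degree of its residue field -/
theorem deg_placeOf (x : {x : C // IsClosed ({x} : Set C)}) :
    (placeOf hC x).deg = Module.finrank k (C.residueField x.1) := by
  set P := placeOf hC x with hP
  let φ : C.presheaf.stalk x.1 →+* P.O :=
    (algebraMap (C.presheaf.stalk x.1) C.functionField).codRestrict P.O.toSubring
      (fun a => (Valuation.mem_valuationSubring_iff _ _).mpr
        ((placeOf_le_one_iff hC x _).mpr ⟨a, rfl⟩))
  have hbij : Function.Bijective φ := by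
    constructor
    · intro a b hab
      apply IsFractionRing.injective (C.presheaf.stalk x.1) C.functionField
      exact congrArg Subtype.val hab
    · rintro ⟨z, hz⟩
      obtain ⟨a, ha⟩ := (placeOf_le_one_iff hC x z).mp
        ((Valuation.mem_valuationSubring_iff _ _).mp hz)
      exact ⟨a, Subtype.ext ha⟩
  let e : C.presheaf.stalk x.1 ≃+* P.O := RingEquiv.ofBijective φ hbij
  let e' : IsLocalRing.ResidueField (C.presheaf.stalk x.1) ≃+* IsLocalRing.ResidueField P.O :=
    IsLocalRing.ResidueField.mapEquiv e
  have hcomm : ∀ c : k, e' (algebraMap k (C.residueField x.1) c) =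
      algebraMap k (IsLocalRing.ResidueField P.O) c := by
    intro c
    change e' (IsLocalRing.residue _ (Curv2.stalkMap k C x.1 c)) =
      IsLocalRing.residue _ (algebraMap k P.O c)
    have h1 : e' (IsLocalRing.residue _ (Curv2.stalkMap k C x.1 c)) =
        IsLocalRing.residue _ (e (Curv2.stalkMap k C x.1 c)) := rfl
    rw [h1]
    congr 1
    apply Subtype.ext
    change algebraMap (C.presheaf.stalk x.1) C.functionField (algebraMap k _ c) = _
    rw [← IsScalarTower.algebraMap_apply k (C.presheaf.stalk x.1) C.functionField]
    rfl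
  let e'' : C.residueField x.1 ≃ₐ[k] IsLocalRing.ResidueField P.O :=
    AlgEquiv.ofRingEquiv (f := e') hcomm
  exact e''.toLinearEquiv.finrank_eq.symm

end places

end Groth.Agent.H62.GD
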