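import Mathlib
import Groth.Agent.H62.CD5
import Groth.Agent.H62.GD2

/-!
helper62, GENERAL-FIELD curve ↔ function field dictionary, part 3: sections of the structure sheaf
of a `GCurve` over affine opens are the holomorphy rings of the corresponding sets of places.
-/

set_option autoImplicit false
set_option linter.style.haveILetI false
open CategoryTheory CategoryTheory.Limits AlgebraicGeometry TopologicalSpace Topology FunFld Opposite
universe u

namespace Groth.Agent.H62.GD

attribute [local instance] Curv2.stalkAlgebra Curv2.resAlgebra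

open Groth.Agent.H62.CD (mem_range_germ_iff)

variable {k : Type u} [Field k] {C : Scheme.{u}} [C.Over (Spec (CommRingCat.of k))]
  [IsIntegral C]

section H1

variable (hC : GCurve k C)
include hC

/-- the places centred in an open subset -/
def placesIn (V : C.Opens) : Set (Place k C.functionField) :=
  {P | ∃ x : {x : C // IsClosed ({x} : Set C)}, x.1 ∈ V ∧ placeOf hC x = P}

theorem placesIn_inf (V W : C.Opens) :
    placesIn hC (V ⊓ W) = placesIn hC V ∩ placesIn hC W := by
  ext P
  constructor
  · rintro ⟨x, hx, rfl⟩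
    exact ⟨⟨x, hx.1, rfl⟩, ⟨x, hx.2, rfl⟩⟩
  · rintro ⟨⟨x, hx, rfl⟩, ⟨y, hy, hxy⟩⟩
    have := placeOf_injective hC hxy
    subst this
    exact ⟨y, ⟨hx, hy⟩, rfl⟩

theorem mem_holo_placesIn_iff {V : C.Opens} (hV : IsAffineOpen V) (hξ : genericPoint C ∈ V)
    (z : C.functionField) :
    z ∈ CF.holo (placesIn hC V) ↔
      z ∈ Set.range (C.presheaf.germ V (genericPoint C) hξ).hom := by
  rw [mem_range_germ_iff hV hξ, CF.mem_holo]
  constructor
  · intro h x hx
    rcases hC.isClosed_or_eq_genericPoint x with hcl | hgen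
    · exact (placeOf_le_one_iff hC ⟨x, hcl⟩ z).mp (h _ ⟨⟨x, hcl⟩, hx, rfl⟩)
    · exact Groth.Agent.H22.CurveValuation.surjective_algebraMap_of_eq_genericPoint x hgen z
  · rintro h P ⟨x, hx, rfl⟩
    exact (placeOf_le_one_iff hC x z).mpr (h x.1 hx)

/-- an affine open of the curve is not the whole curve -/
theorem GCurve.ne_top_of_isAffineOpen {V : C.Opens} (hV : IsAffineOpen V) : V ≠ ⊤ := by
  rintro rfl
  haveI := hC.proper
  haveI : IsAffine C := by
    have : IsAffine (⊤ : C.Opens) := hV
    exact .of_isIso (C.topIso.inv)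
  have hint := isIntegral_appTop_of_universallyClosed (C ↘ Spec (CommRingCat.of k))
  -- `Γ(C, ⊤)` is a field
  have hfield : IsField Γ(C, ⊤) := by
    letI := (C ↘ Spec (CommRingCat.of k)).appTop.hom.toAlgebra
    haveI : Algebra.IsIntegral Γ(Spec (CommRingCat.of k), ⊤) Γ(C, ⊤) := ⟨hint⟩
    have hk : IsField Γ(Spec (CommRingCat.of k), ⊤) :=
      MulEquiv.isField (Field.toIsField k)
        (Scheme.ΓSpecIso (CommRingCat.of k)).commRingCatIsoToRingEquiv.toMulEquiv
    exact isField_of_isIntegral_of_isField' hk
  letI := hfield.toField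
  haveI : Subsingleton C := by
    have : Subsingleton (Spec Γ(C, ⊤)) :=
      inferInstanceAs (Subsingleton (PrimeSpectrum Γ(C, ⊤)))
    exact C.isoSpec.hom.homeomorph.subsingleton
  apply hC.not_isClosed_genericPoint
  have : ({genericPoint C} : Set C) = Set.univ := by
    ext y
    simp [Subsingleton.elim y (genericPoint C)]
  rw [this]
  exact isClosed_univ


end H1

end Groth.Agent.H62.GD
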