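import Mathlib
import Groth.Agent.Lead.Coh.Leray

/-!
helper62 library (natural Leray), part 1: Leray's theorem on a topological space as an actual
additive equivalence `lerayEquiv`, together with its NATURALITY in the sheaf.
Built on top of `Groth.Agent.Lead.Cech` (lead's Čech project).
-/

set_option autoImplicit false
open CategoryTheory Opposite Limits TopologicalSpace Abelian
universe u
namespace Groth.Agent.H62.NL

open Groth.Agent.Lead.Cech
open Groth.Agent.Lead.Coh (freeSheaf)

section algebra

variable {B C C' : Type*} [AddCommGroup B] [AddCommGroup C] [AddCommGroup C']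

/-- two surjections with the same kernel have isomorphic targets -/
noncomputable def equivOfKerEq (g : B →+ C) (g' : B →+ C') (hg : Function.Surjective g)
    (hg' : Function.Surjective g') (h : ∀ b, g b = 0 ↔ g' b = 0) : C ≃+ C' :=
  have hk : g.ker = g'.ker := by
    ext b
    simp only [AddMonoidHom.mem_ker, h]
  (QuotientAddGroup.quotientKerEquivOfSurjective g hg).symm.trans
    ((QuotientAddGroup.quotientAddEquivOfEq hk).trans
      (QuotientAddGroup.quotientKerEquivOfSurjective g' hg'))

theorem equivOfKerEq_apply (g : B →+ C) (g' : B →+ C') (hg : Function.Surjective g)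
    (hg' : Function.Surjective g') (h : ∀ b, g b = 0 ↔ g' b = 0) (b : B) :
    equivOfKerEq g g' hg hg' h (g b) = g' b := by
  have h1 : (QuotientAddGroup.quotientKerEquivOfSurjective g hg).symm (g b) =
      (QuotientAddGroup.mk b : B ⧸ g.ker) := by
    rw [AddEquiv.symm_apply_eq]
    rfl
  unfold equivOfKerEq
  simp only [AddEquiv.trans_apply]
  rw [h1]
  rfl

end algebra

variable {X : TopCat.{u}} {ι : Type u} (U : ι → Opens X)

/-- abelian sheaves on `X` -/
abbrev Sh (X : TopCat.{u}) : Type (u + 1) := Sheaf (Opens.grothendieckTopology X) AddCommGrpCat.{u}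

/-- the free sheaf on the union of the family -/
noncomputable abbrev Z : Sh X := freeSheaf (Opens.grothendieckTopology X) (iSup U)

/-- the map on Čech cohomology induced by a morphism of sheaves -/
noncomputable abbrev cechMap {F G : Sh X} (φ : F ⟶ G) (p : ℕ) :
    ((K U F.obj).homology p : Type u) →+ ((K U G.obj).homology p : Type u) :=
  (HomologicalComplex.homologyMap ((cechComplexFunctor U).map φ.hom) p).hom

theorem acyc_of_injective (I : Sh X) [Injective I] : Acyc U I :=
  fun _ _ _ x => Ext.eq_zero_of_injective x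

/-- a natural family of comparison isomorphisms in degree `p` -/
structure Fam (p : ℕ) where
  /-- the comparison isomorphism -/
  c : ∀ F : Sh X, Acyc U F → (((K U F.obj).homology p : Type u) ≃+ Ext (Z U) F p)
  /-- naturality -/
  nat : ∀ (F G : Sh X) (hF : Acyc U F) (hG : Acyc U G) (φ : F ⟶ G)
    (x : ((K U F.obj).homology p : Type u)),
    c G hG (cechMap U φ p x) = (c F hF x).comp (Ext.mk₀ φ) (add_zero p)

/-- degree zero -/
noncomputable def fam0 : Fam U 0 where
  c F _ := (AddEquiv.ofBijective (augH U F).hom (augH_bijective U F)).symm.trans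
    (secEquiv (iSup U) F)
  nat F G hF hG φ x := by
    obtain ⟨s, rfl⟩ := (augH_bijective U F).2 x
    have h1 : cechMap U φ 0 (augH U F s) = augH U G (φ.hom.app (op (iSup U)) s) := by
      have h := ConcreteCategory.congr_hom (augH_naturality U φ) s
      rw [ConcreteCategory.comp_apply, ConcreteCategory.comp_apply] at h
      exact h
    rw [h1]
    have h2 : ∀ (H : Sh X) (t : H.obj.obj (op (iSup U))),
        ((AddEquiv.ofBijective (augH U H).hom (augH_bijective U H)).symm.trans
          (secEquiv (iSup U) H)) (augH U H t) = secEquiv (iSup U) H t := by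
      intro H t
      rw [AddEquiv.trans_apply]
      congr 1
      rw [AddEquiv.symm_apply_eq]
      rfl
    rw [h2, h2, secEquiv_naturality]

/-- the morphism of canonical injective short exact sequences induced by `φ` -/
noncomputable def sesMap {F G : Sh X} (φ : F ⟶ G) : ses F ⟶ ses G where
  τ₁ := φ
  τ₂ := (Injective.factorThru (φ ≫ Injective.ι G) (Injective.ι F) :
    Injective.under F ⟶ Injective.under G)
  τ₃ := cokernel.map (Injective.ι F) (Injective.ι G) φ
    (Injective.factorThru (φ ≫ Injective.ι G) (Injective.ι F))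
    (Injective.comp_factorThru (φ ≫ Injective.ι G) (Injective.ι F))
  comm₁₂ := (Injective.comp_factorThru (φ ≫ Injective.ι G) (Injective.ι F)).symm
  comm₂₃ := by
    change _ ≫ cokernel.π (Injective.ι G) = cokernel.π (Injective.ι F) ≫ cokernel.map _ _ _ _ _
    exact (cokernel.π_desc _ _ _).symm

section succ

variable {U} {p : ℕ} (D : Fam U p) (F : Sh X) (hF : Acyc U F)

/-- the Čech connecting map of the canonical injective sequence -/
noncomputable def dC : ((K U (ses F).X₃.obj).homology p : Type u) →+
    ((K U F.obj).homology (p + 1) : Type u) :=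
  ((cech_shortExact U (ses_shortExact F) hF).δ p (p + 1) rfl).hom

/-- the Ext connecting map of the canonical injective sequence -/
noncomputable def dE : Ext (Z U) (ses F).X₃ p →+ Ext (Z U) F (p + 1) :=
  extδ (ses_shortExact F) (Z U) p

include hF in
theorem acyc_X₃ : Acyc U (ses F).X₃ := acyc_quot U (ses_shortExact F) hF

theorem acyc_X₂ : Acyc U (ses F).X₂ := acyc_of_injective U _

theorem dC_surjective : Function.Surjective (dC F hF (p := p)) := by
  intro y
  have hC := cech_shortExact U (ses_shortExact F) hF
  have hex := hC.homology_exact₁ p (p + 1) rfl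
  rw [ShortComplex.ab_exact_iff] at hex
  have hI : IsZero ((cechSC U (ses F)).X₂.homology (p + 1)) :=
    isZero_homology_of_injective U (ses F).X₂ p
  obtain ⟨x, hx⟩ := hex y
    (@Subsingleton.elim _ (AddCommGrpCat.subsingleton_of_isZero hI) _ _)
  exact ⟨x, hx⟩

theorem dC_eq_zero_iff (y : ((K U (ses F).X₃.obj).homology p : Type u)) :
    dC F hF y = 0 ↔ ∃ z : ((K U (ses F).X₂.obj).homology p : Type u),
      cechMap U (ses F).g p z = y := by
  have hC := cech_shortExact U (ses_shortExact F) hF
  constructor
  · intro hy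
    have hex := hC.homology_exact₃ p (p + 1) rfl
    rw [ShortComplex.ab_exact_iff] at hex
    exact hex y hy
  · rintro ⟨z, rfl⟩
    have h := ConcreteCategory.congr_hom (hC.comp_δ p (p + 1) rfl) z
    rw [ConcreteCategory.comp_apply] at h
    exact h

theorem dE_surjective : Function.Surjective (dE (U := U) F (p := p)) :=
  extδ_surjective (ses_shortExact F) (Z U) p

theorem dE_eq_zero_iff (x : Ext (Z U) (ses F).X₃ p) :
    dE (U := U) F x = 0 ↔ ∃ x₂ : Ext (Z U) (ses F).X₂ p,
      x₂.comp (Ext.mk₀ (ses F).g) (add_zero p) = x := by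
  constructor
  · intro hx
    exact Ext.covariant_sequence_exact₃ _ (ses_shortExact F) x rfl hx
  · rintro ⟨x₂, rfl⟩
    change (x₂.comp (Ext.mk₀ (ses F).g) (add_zero p)).comp (ses_shortExact F).extClass rfl = 0
    rw [Ext.comp_assoc_of_second_deg_zero, (ses_shortExact F).comp_extClass, Ext.comp_zero]

theorem kernel_iff (y : ((K U (ses F).X₃.obj).homology p : Type u)) :
    dC F hF y = 0 ↔ dE (U := U) F (D.c (ses F).X₃ (acyc_X₃ F hF) y) = 0 := by
  rw [dC_eq_zero_iff, dE_eq_zero_iff]
  constructor
  · rintro ⟨z, rfl⟩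
    exact ⟨D.c (ses F).X₂ (acyc_X₂ F) z, (D.nat _ _ _ _ (ses F).g z).symm⟩
  · rintro ⟨x₂, hx₂⟩
    obtain ⟨z, rfl⟩ := (D.c (ses F).X₂ (acyc_X₂ F)).surjective x₂
    refine ⟨z, ?_⟩
    apply (D.c (ses F).X₃ (acyc_X₃ F hF)).injective
    rw [D.nat _ _ (acyc_X₂ F) (acyc_X₃ F hF) (ses F).g z, hx₂]

/-- the comparison isomorphism one degree up -/
noncomputable def succC : ((K U F.obj).homology (p + 1) : Type u) ≃+ Ext (Z U) F (p + 1) :=
  equivOfKerEq (dC F hF) ((dE (U := U) F).comp (D.c (ses F).X₃ (acyc_X₃ F hF)).toAddMonoidHom)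
    (dC_surjective F hF)
    ((dE_surjective F).comp (D.c (ses F).X₃ (acyc_X₃ F hF)).surjective)
    (kernel_iff D F hF)

theorem succC_dC (y : ((K U (ses F).X₃.obj).homology p : Type u)) :
    succC D F hF (dC F hF y) = dE (U := U) F (D.c (ses F).X₃ (acyc_X₃ F hF) y) :=
  equivOfKerEq_apply _ _ _ _ _ y

end succ

section nat

variable {U} {p : ℕ} (D : Fam U p) {F G : Sh X} (hF : Acyc U F) (hG : Acyc U G) (φ : F ⟶ G)

theorem dC_naturality (y : ((K U (ses F).X₃.obj).homology p : Type u)) :
    cechMap U φ (p + 1) (dC F hF y) = dC G hG (cechMap U (sesMap φ).τ₃ p y) := by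
  have hCF := cech_shortExact U (ses_shortExact F) hF
  have hCG := cech_shortExact U (ses_shortExact G) hG
  let Φ : cechSC U (ses F) ⟶ cechSC U (ses G) :=
    (sheafToPresheaf (Opens.grothendieckTopology X) AddCommGrpCat.{u} ⋙
      cechComplexFunctor U).mapShortComplex.map (sesMap φ)
  have h := HomologicalComplex.HomologySequence.δ_naturality Φ hCF hCG p (p + 1) rfl
  have h2 := ConcreteCategory.congr_hom h y
  rw [ConcreteCategory.comp_apply, ConcreteCategory.comp_apply] at h2
  exact h2

theorem dE_naturality (x : Ext (Z U) (ses F).X₃ p) :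
    (dE (U := U) F x).comp (Ext.mk₀ φ) (add_zero (p + 1)) =
      dE (U := U) G (x.comp (Ext.mk₀ (sesMap φ).τ₃) (add_zero p)) := by
  change (x.comp (ses_shortExact F).extClass rfl).comp (Ext.mk₀ φ) (add_zero (p + 1)) =
    (x.comp (Ext.mk₀ (sesMap φ).τ₃) (add_zero p)).comp (ses_shortExact G).extClass rfl
  rw [Ext.comp_assoc_of_third_deg_zero, Ext.comp_assoc_of_second_deg_zero]
  congr 1
  exact ShortComplex.ShortExact.extClass_naturality (ses_shortExact F) (ses_shortExact G)
    (sesMap φ)

theorem succC_naturality (x : ((K U F.obj).homology (p + 1) : Type u)) :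
    succC D G hG (cechMap U φ (p + 1) x) =
      (succC D F hF x).comp (Ext.mk₀ φ) (add_zero (p + 1)) := by
  obtain ⟨y, rfl⟩ := dC_surjective F hF x
  rw [dC_naturality hF hG φ y, succC_dC, succC_dC, dE_naturality,
    D.nat _ _ (acyc_X₃ F hF) (acyc_X₃ G hG) (sesMap φ).τ₃ y]

end nat

/-- the successor step -/
noncomputable def famSucc {p : ℕ} (D : Fam U p) : Fam U (p + 1) where
  c F hF := succC D F hF
  nat _ _ hF hG φ x := succC_naturality D hF hG φ x

/-- the natural family of Leray comparison isomorphisms -/
noncomputable def fam : ∀ p : ℕ, Fam U p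
  | 0 => fam0 U
  | p + 1 => famSucc U (fam p)

/-- **Leray's theorem as an equivalence**: Čech cohomology for a cover which is acyclic for `F`
on all finite intersections is the cohomology of `F` on the union. -/
noncomputable def lerayEquiv (p : ℕ) (F : Sh X) (hF : Acyc U F) :
    ((K U F.obj).homology p : Type u) ≃+ Ext (Z U) F p :=
  (fam U p).c F hF

/-- **naturality of the Leray comparison** -/
theorem lerayEquiv_naturality (p : ℕ) {F G : Sh X} (hF : Acyc U F) (hG : Acyc U G) (φ : F ⟶ G)
    (x : ((K U F.obj).homology p : Type u)) :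
    lerayEquiv U p G hG (cechMap U φ p x) =
      (lerayEquiv U p F hF x).comp (Ext.mk₀ φ) (add_zero p) :=
  (fam U p).nat F G hF hG φ x

/-- degree zero: the class of a global section -/
theorem lerayEquiv_zero_augH (F : Sh X) (hF : Acyc U F) (s : F.obj.obj (op (iSup U))) :
    lerayEquiv U 0 F hF (augH U F s) = secEquiv (iSup U) F s := by
  change ((AddEquiv.ofBijective (augH U F).hom (augH_bijective U F)).symm.trans
    (secEquiv (iSup U) F)) (augH U F s) = _
  rw [AddEquiv.trans_apply]
  congr 1
  rw [AddEquiv.symm_apply_eq]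
  rfl

/-- compatibility with the connecting maps of the canonical injective sequence -/
theorem lerayEquiv_succ_dC (p : ℕ) (F : Sh X) (hF : Acyc U F)
    (y : ((K U (ses F).X₃.obj).homology p : Type u)) :
    lerayEquiv U (p + 1) F hF (dC F hF y) =
      dE (U := U) F (lerayEquiv U p (ses F).X₃ (acyc_X₃ F hF) y) :=
  succC_dC (fam U p) F hF y

end Groth.Agent.H62.NL
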