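import Mathlib
import Groth.Agent.H62.NL1
import Groth.Agent.Lead.Coh.AffineOpen
import Groth.Agent.Lead.Coh.TopIso
import Groth.Prelude.Def_Coh
import Groth.Prelude.Def_CohB1

/-!
helper62 library (natural Leray), part 2: the scheme-level comparison
`cechEquiv : Ȟ^p(U, M) ≃+ H^p(X, M)`, natural in `M`, hence linear over global functions.
-/

set_option autoImplicit false
open CategoryTheory Opposite Limits TopologicalSpace Abelian AlgebraicGeometry
universe u
namespace Groth.Agent.H62.NL

open Groth.Agent.Lead.Cech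
open Groth.Agent.Lead.Coh (freeSheaf)

section precomp

variable {C : Type*} [Category C] [Abelian C] [HasExt C]

/-- precomposition with an isomorphism on `Ext` -/
noncomputable def precompEquiv {A B : C} (i : A ≅ B) (F : C) (n : ℕ) : Ext B F n ≃+ Ext A F n where
  toFun x := (Ext.mk₀ i.hom).comp x (zero_add n)
  invFun y := (Ext.mk₀ i.inv).comp y (zero_add n)
  left_inv x := by
    change (Ext.mk₀ i.inv).comp ((Ext.mk₀ i.hom).comp x (zero_add n)) (zero_add n) = x
    rw [Ext.mk₀_comp_mk₀_assoc, i.inv_hom_id, Ext.mk₀_id_comp]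
  right_inv y := by
    change (Ext.mk₀ i.hom).comp ((Ext.mk₀ i.inv).comp y (zero_add n)) (zero_add n) = y
    rw [Ext.mk₀_comp_mk₀_assoc, i.hom_inv_id, Ext.mk₀_id_comp]
  map_add' x y := Ext.comp_add _ _ _ _

theorem precompEquiv_naturality {A B : C} (i : A ≅ B) {F G : C} (φ : F ⟶ G) (n : ℕ)
    (x : Ext B F n) :
    precompEquiv i G n (x.comp (Ext.mk₀ φ) (add_zero n)) =
      (precompEquiv i F n x).comp (Ext.mk₀ φ) (add_zero n) := by
  change (Ext.mk₀ i.hom).comp (x.comp (Ext.mk₀ φ) (add_zero n)) (zero_add n) =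
    ((Ext.mk₀ i.hom).comp x (zero_add n)).comp (Ext.mk₀ φ) (add_zero n)
  symm
  apply Ext.comp_assoc
  omega

end precomp

section top

variable {X : TopCat.{u}} {ι : Type u} (U : ι → Opens X)

/-- the constant sheaf `ℤ` -/
noncomputable abbrev constZ (X : TopCat.{u}) : Sh X :=
  (constantSheaf (Opens.grothendieckTopology X) AddCommGrpCat.{u}).obj (AddCommGrpCat.of (ULift ℤ))

/-- if the family covers, the free sheaf on its union is the constant sheaf -/
noncomputable def isoZ (hcov : iSup U = ⊤) : constZ X ≅ Z U :=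
  (Classical.choice (Groth.Agent.Lead.Coh.exists_iso_constant
    (J := Opens.grothendieckTopology X) (T₀ := (⊤ : Opens X)) isTerminalTop)).symm ≪≫
    eqToIso (by unfold Z; rw [hcov])

/-- Leray for a covering family, with target Mathlib's sheaf cohomology -/
noncomputable def lerayEquivTop (hcov : iSup U = ⊤) (p : ℕ) (F : Sh X) (hF : Acyc U F) :
    ((K U F.obj).homology p : Type u) ≃+ Sheaf.H F p :=
  (lerayEquiv U p F hF).trans (precompEquiv (isoZ U hcov) F p)

theorem lerayEquivTop_naturality (hcov : iSup U = ⊤) (p : ℕ) {F G : Sh X} (hF : Acyc U F)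
    (hG : Acyc U G) (φ : F ⟶ G) (x : ((K U F.obj).homology p : Type u)) :
    lerayEquivTop U hcov p G hG (cechMap U φ p x) =
      Sheaf.H.map φ p (lerayEquivTop U hcov p F hF x) := by
  unfold lerayEquivTop
  rw [AddEquiv.trans_apply, AddEquiv.trans_apply, lerayEquiv_naturality U p hF hG φ x,
    precompEquiv_naturality]
  rfl

end top

section scheme

variable (X : Scheme.{u}) {ι : Type u} (U : ι → X.Opens)

/-- a quasi-coherent module is acyclic for a family with affine finite intersections -/
theorem acyc_of_isAffineOpen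
    (hU : ∀ s : Finset ι, s.Nonempty → IsAffineOpen (⨅ i ∈ s, U i))
    (M : X.Modules) [Coh.IsQCoh M] : Acyc (X := X.toTopCat) U (Coh.toAb M) := by
  classical
  intro p' σ q x
  have haff : IsAffineOpen (cechOpen (X := X) U σ) := by
    rw [cechOpen_eq_iInf]
    have h := hU (Finset.univ.image σ) ⟨σ 0, Finset.mem_image_of_mem σ (Finset.mem_univ 0)⟩
    have heq : (⨅ i ∈ Finset.univ.image σ, U i) = ⨅ a, U (σ a) := by
      apply le_antisymm
      · exact le_iInf fun a => iInf₂_le (σ a) (Finset.mem_image_of_mem σ (Finset.mem_univ a))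
      · refine le_iInf₂ fun i hi => ?_
        obtain ⟨a, -, rfl⟩ := Finset.mem_image.mp hi
        exact iInf_le _ a
    rwa [heq] at h
  exact Groth.Agent.Lead.Coh.hVanish_of_isAffineOpen X M haff q x

variable {X}

/-- **Čech cohomology computes cohomology, as a canonical equivalence** (for an acyclic cover). -/
noncomputable def cechEquiv (hcov : ⨆ i, U i = ⊤) (M : X.Modules)
    (hM : Acyc (X := X.toTopCat) U (Coh.toAb M)) (p : ℕ) :
    ((K (X := X) U M.presheaf).homology p : Type u) ≃+ Coh.HH X M p :=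
  lerayEquivTop (X := X.toTopCat) U hcov p (Coh.toAb M) hM

/-- naturality of `cechEquiv` with respect to all morphisms of the underlying abelian sheaves -/
theorem cechEquiv_naturality (hcov : ⨆ i, U i = ⊤) {M N : X.Modules}
    (hM : Acyc (X := X.toTopCat) U (Coh.toAb M)) (hN : Acyc (X := X.toTopCat) U (Coh.toAb N))
    (φ : Coh.toAb M ⟶ Coh.toAb N) (p : ℕ)
    (x : ((K (X := X) U M.presheaf).homology p : Type u)) :
    cechEquiv U hcov N hN p (cechMap (X := X.toTopCat) U φ p x) =
      Sheaf.H.map φ p (cechEquiv U hcov M hM p x) :=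
  lerayEquivTop_naturality (X := X.toTopCat) U hcov p hM hN φ x

/-- `cechEquiv` is linear over global functions -/
theorem cechEquiv_smul (hcov : ⨆ i, U i = ⊤) (M : X.Modules)
    (hM : Acyc (X := X.toTopCat) U (Coh.toAb M)) (p : ℕ) (r : Coh.Γtop X)
    (x : ((K (X := X) U M.presheaf).homology p : Type u)) :
    cechEquiv U hcov M hM p (cechMap (X := X.toTopCat) U (Coh.smulAb M r) p x) =
      r • cechEquiv U hcov M hM p x :=
  cechEquiv_naturality U hcov hM hM (Coh.smulAb M r) p x

end scheme

end Groth.Agent.H62.NL
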