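import Mathlib

/-!
helper62 library (natural Leray), part 3: an elementwise toolkit for the cohomology of a cochain
complex of abelian groups indexed by `ℕ`: the class map from cocycles, its surjectivity, its
kernel, and its naturality.
-/

set_option autoImplicit false
open CategoryTheory Limits
universe u
namespace Groth.Agent.H62.NL

section elt

variable (Kc : CochainComplex AddCommGrpCat.{u} ℕ)

theorem iCycles_injective (q : ℕ) : Function.Injective (Kc.iCycles q) :=
  (AddCommGrpCat.mono_iff_injective _).mp inferInstance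

theorem homologyπ_surjective (q : ℕ) : Function.Surjective (Kc.homologyπ q) :=
  (AddCommGrpCat.epi_iff_surjective _).mp inferInstance

theorem d_iCycles_apply (q q' : ℕ) (z : Kc.cycles q) : Kc.d q q' (Kc.iCycles q z) = 0 := by
  have h := ConcreteCategory.congr_hom (Kc.iCycles_d q q') z
  rw [ConcreteCategory.comp_apply] at h
  exact h

theorem exists_cycle_of_d_eq_zero (q : ℕ) (x : Kc.X q) (hx : Kc.d q (q + 1) x = 0) :
    ∃ z : Kc.cycles q, Kc.iCycles q z = x := by
  have hk := Kc.cyclesIsKernel q (q + 1) (by simp)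
  have hex : (ShortComplex.mk (Kc.iCycles q) (Kc.d q (q + 1)) (Kc.iCycles_d q (q + 1))).Exact :=
    ShortComplex.exact_of_f_is_kernel _ hk
  rw [ShortComplex.ab_exact_iff] at hex
  exact hex x hx

theorem iCycles_toCycles_apply (p q : ℕ) (a : Kc.X p) :
    Kc.iCycles q (Kc.toCycles p q a) = Kc.d p q a := by
  have h := ConcreteCategory.congr_hom (Kc.toCycles_i p q) a
  rw [ConcreteCategory.comp_apply] at h
  exact h

theorem homologyπ_eq_zero_iff (p : ℕ) (z : Kc.cycles (p + 1)) :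
    Kc.homologyπ (p + 1) z = 0 ↔ ∃ a : Kc.X p, Kc.toCycles p (p + 1) a = z := by
  have hk := Kc.homologyIsCokernel p (p + 1) (by simp)
  have hex : (ShortComplex.mk (Kc.toCycles p (p + 1)) (Kc.homologyπ (p + 1))
      (Kc.toCycles_comp_homologyπ p (p + 1))).Exact :=
    ShortComplex.exact_of_g_is_cokernel _ hk
  rw [ShortComplex.ab_exact_iff] at hex
  constructor
  · intro h
    exact hex z h
  · rintro ⟨a, rfl⟩
    have h := ConcreteCategory.congr_hom (Kc.toCycles_comp_homologyπ p (p + 1)) a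
    rw [ConcreteCategory.comp_apply] at h
    exact h

/-- `x ∈ K^q` is a cocycle representing the class `h ∈ H^q(K)`. -/
def IsRep (q : ℕ) (x : Kc.X q) (h : Kc.homology q) : Prop :=
  ∃ z : Kc.cycles q, Kc.iCycles q z = x ∧ Kc.homologyπ q z = h

variable {Kc}

theorem IsRep.exists_rep (q : ℕ) (h : Kc.homology q) : ∃ x : Kc.X q, IsRep Kc q x h := by
  obtain ⟨z, hz⟩ := homologyπ_surjective Kc q h
  exact ⟨_, z, rfl, hz⟩

theorem IsRep.of_cocycle (q : ℕ) (x : Kc.X q) (hx : Kc.d q (q + 1) x = 0) :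
    ∃ h : Kc.homology q, IsRep Kc q x h := by
  obtain ⟨z, hz⟩ := exists_cycle_of_d_eq_zero Kc q x hx
  exact ⟨_, z, hz, rfl⟩

theorem IsRep.unique {q : ℕ} {x : Kc.X q} {h h' : Kc.homology q} (H : IsRep Kc q x h)
    (H' : IsRep Kc q x h') : h = h' := by
  obtain ⟨z, hz, rfl⟩ := H
  obtain ⟨z', hz', rfl⟩ := H'
  rw [iCycles_injective Kc q (hz.trans hz'.symm)]

theorem IsRep.d_eq_zero {q : ℕ} {x : Kc.X q} {h : Kc.homology q} (H : IsRep Kc q x h) (q' : ℕ) :
    Kc.d q q' x = 0 := by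
  obtain ⟨z, rfl, -⟩ := H
  exact d_iCycles_apply Kc q q' z

theorem IsRep.eq_zero_iff {p : ℕ} {x : Kc.X (p + 1)} {h : Kc.homology (p + 1)}
    (H : IsRep Kc (p + 1) x h) : h = 0 ↔ ∃ a : Kc.X p, Kc.d p (p + 1) a = x := by
  obtain ⟨z, rfl, rfl⟩ := H
  rw [homologyπ_eq_zero_iff Kc p]
  constructor
  · rintro ⟨a, rfl⟩
    exact ⟨a, (iCycles_toCycles_apply Kc p (p + 1) a).symm⟩
  · rintro ⟨a, ha⟩
    refine ⟨a, iCycles_injective Kc (p + 1) ?_⟩
    rw [iCycles_toCycles_apply, ha]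

theorem IsRep.add {q : ℕ} {x y : Kc.X q} {h h' : Kc.homology q} (H : IsRep Kc q x h)
    (H' : IsRep Kc q y h') : IsRep Kc q (x + y) (h + h') := by
  obtain ⟨z, rfl, rfl⟩ := H
  obtain ⟨z', rfl, rfl⟩ := H'
  exact ⟨z + z', map_add _ _ _, map_add _ _ _⟩

theorem IsRep.zero (q : ℕ) : IsRep Kc q 0 0 := ⟨0, map_zero _, map_zero _⟩

theorem IsRep.map {Lc : CochainComplex AddCommGrpCat.{u} ℕ} (φ : Kc ⟶ Lc) {q : ℕ} {x : Kc.X q}
    {h : Kc.homology q} (H : IsRep Kc q x h) :
    IsRep Lc q (φ.f q x) (HomologicalComplex.homologyMap φ q h) := by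
  obtain ⟨z, rfl, rfl⟩ := H
  refine ⟨HomologicalComplex.cyclesMap φ q z, ?_, ?_⟩
  · have h := ConcreteCategory.congr_hom (HomologicalComplex.cyclesMap_i φ q) z
    rw [ConcreteCategory.comp_apply, ConcreteCategory.comp_apply] at h
    exact h
  · have h := ConcreteCategory.congr_hom (HomologicalComplex.homologyπ_naturality φ q) z
    rw [ConcreteCategory.comp_apply, ConcreteCategory.comp_apply] at h
    exact h.symm

variable (Kc)

/-- the group of `q`-cocycles -/
def cocyc (q : ℕ) : AddSubgroup (Kc.X q) := (Kc.d q (q + 1)).hom.ker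

theorem mem_cocyc {q : ℕ} (x : Kc.X q) : x ∈ cocyc Kc q ↔ Kc.d q (q + 1) x = 0 :=
  AddMonoidHom.mem_ker

/-- the class of a cocycle, as a function -/
noncomputable def clsFun (q : ℕ) (x : cocyc Kc q) : (Kc.homology q : Type u) :=
  (IsRep.of_cocycle q x.1 ((mem_cocyc Kc x.1).mp x.2)).choose

theorem isRep_clsFun (q : ℕ) (x : cocyc Kc q) : IsRep Kc q x.1 (clsFun Kc q x) :=
  (IsRep.of_cocycle q x.1 ((mem_cocyc Kc x.1).mp x.2)).choose_spec

/-- the class of a cocycle -/
noncomputable def cls (q : ℕ) : cocyc Kc q →+ (Kc.homology q : Type u) where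
  toFun := clsFun Kc q
  map_zero' := (isRep_clsFun Kc q 0).unique (IsRep.zero q)
  map_add' x y := (isRep_clsFun Kc q (x + y)).unique
    ((isRep_clsFun Kc q x).add (isRep_clsFun Kc q y))

theorem isRep_cls (q : ℕ) (x : cocyc Kc q) : IsRep Kc q x.1 (cls Kc q x) :=
  isRep_clsFun Kc q x

theorem cls_surjective (q : ℕ) : Function.Surjective (cls Kc q) := by
  intro h
  obtain ⟨x, hx⟩ := IsRep.exists_rep (Kc := Kc) q h
  exact ⟨⟨x, (mem_cocyc Kc x).mpr (hx.d_eq_zero _)⟩, (isRep_cls Kc q _).unique hx⟩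

theorem cls_eq_zero_iff (p : ℕ) (x : cocyc Kc (p + 1)) :
    cls Kc (p + 1) x = 0 ↔ ∃ a : Kc.X p, Kc.d p (p + 1) a = x.1 :=
  (isRep_cls Kc (p + 1) x).eq_zero_iff

theorem cls_zero_eq_zero_iff (x : cocyc Kc 0) : cls Kc 0 x = 0 ↔ x = 0 := by
  constructor
  · intro h
    obtain ⟨z, hz, hz'⟩ := isRep_cls Kc 0 x
    have hbij : Function.Bijective (Kc.homologyπ 0) :=
      (ConcreteCategory.isIso_iff_bijective _).mp inferInstance
    have hz0 : z = 0 := by
      apply hbij.1
      rw [hz', h, map_zero]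
    apply Subtype.ext
    rw [← hz, hz0, map_zero]
    rfl
  · rintro rfl
    exact map_zero _

theorem cls_map {Lc : CochainComplex AddCommGrpCat.{u} ℕ} (φ : Kc ⟶ Lc) (q : ℕ)
    (x : cocyc Kc q) (y : cocyc Lc q) (hy : y.1 = φ.f q x.1) :
    HomologicalComplex.homologyMap φ q (cls Kc q x) = cls Lc q y := by
  have h := (isRep_cls Kc q x).map φ
  rw [← hy] at h
  exact h.unique (isRep_cls Lc q y)

end elt

end Groth.Agent.H62.NL
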