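import Mathlib
import Groth.Agent.H62.NL2
import Groth.Agent.H62.NL3

/-!
helper62 library (natural Leray), part 4: cohomology classes of Čech cocycles on a scheme, their
linearity over global functions, and the packaging theorem: an explicit module `V` which is a
linear quotient of the Čech cocycles by the coboundaries is linearly isomorphic to `H^p(X, M)`.
-/

set_option autoImplicit false
open CategoryTheory Opposite Limits TopologicalSpace Abelian AlgebraicGeometry
universe u
namespace Groth.Agent.H62.NL

open Groth.Agent.Lead.Cech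

variable {X : Scheme.{u}} {ι : Type u} (U : ι → X.Opens)

/-- the action of a global function on Čech cochains -/
noncomputable def cechSmul (M : X.Modules) (r : Coh.Γtop X) (p : ℕ) :
    ((K (X := X) U M.presheaf).X p : Type u) →+ ((K (X := X) U M.presheaf).X p : Type u) :=
  (((cechComplexFunctor (A := AddCommGrpCat.{u}) U).map (Coh.smulAb M r).hom).f p).hom

/-- `cechSmul` acts componentwise through `smulAb` -/
theorem proj_cechSmul (M : X.Modules) (r : Coh.Γtop X) (p : ℕ)
    (x : ((K (X := X) U M.presheaf).X p : Type u)) (σ : Fin (p + 1) → ι) :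
    proj (X := X) U M.presheaf p σ (cechSmul U M r p x) =
      (Coh.smulAb M r).hom.app (op (cechOpen (X := X) U σ)) (proj (X := X) U M.presheaf p σ x) :=
  map_apply (X := X) U (Coh.smulAb M r).hom p x σ

theorem d_cechSmul (M : X.Modules) (r : Coh.Γtop X) (p : ℕ)
    (x : ((K (X := X) U M.presheaf).X p : Type u)) :
    (K (X := X) U M.presheaf).d p (p + 1) (cechSmul U M r p x) =
      cechSmul U M r (p + 1) ((K (X := X) U M.presheaf).d p (p + 1) x) := by
  have h := ((cechComplexFunctor (A := AddCommGrpCat.{u}) U).map (Coh.smulAb M r).hom).comm p (p + 1)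
  have h2 := ConcreteCategory.congr_hom h x
  rw [ConcreteCategory.comp_apply, ConcreteCategory.comp_apply] at h2
  exact h2

theorem cechSmul_mem_cocyc (M : X.Modules) (r : Coh.Γtop X) (p : ℕ)
    (z : cocyc (K (X := X) U M.presheaf) p) :
    cechSmul U M r p z.1 ∈ cocyc (K (X := X) U M.presheaf) p := by
  rw [mem_cocyc, d_cechSmul, (mem_cocyc _ z.1).mp z.2, map_zero]

variable (hcov : ⨆ i, U i = ⊤) (M : X.Modules) (hM : Acyc (X := X.toTopCat) U (Coh.toAb M))

/-- the cohomology class of a Čech cocycle -/
noncomputable def cechCls (p : ℕ) : cocyc (K (X := X) U M.presheaf) p →+ Coh.HH X M p :=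
  (cechEquiv U hcov M hM p).toAddMonoidHom.comp (cls (K (X := X) U M.presheaf) p)

theorem cechCls_apply (p : ℕ) (z : cocyc (K (X := X) U M.presheaf) p) :
    cechCls U hcov M hM p z = cechEquiv U hcov M hM p (cls (K (X := X) U M.presheaf) p z) := rfl

theorem cechCls_surjective (p : ℕ) : Function.Surjective (cechCls U hcov M hM p) :=
  (cechEquiv U hcov M hM p).surjective.comp (cls_surjective _ p)

theorem cechCls_eq_zero_iff (p : ℕ) (z : cocyc (K (X := X) U M.presheaf) (p + 1)) :
    cechCls U hcov M hM (p + 1) z = 0 ↔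
      ∃ b : (K (X := X) U M.presheaf).X p, (K (X := X) U M.presheaf).d p (p + 1) b = z.1 := by
  rw [← cls_eq_zero_iff, cechCls_apply]
  exact (cechEquiv U hcov M hM (p + 1)).map_eq_zero_iff

theorem cechCls_smul (p : ℕ) (r : Coh.Γtop X) (z : cocyc (K (X := X) U M.presheaf) p) :
    cechCls U hcov M hM p ⟨cechSmul U M r p z.1, cechSmul_mem_cocyc U M r p z⟩ =
      r • cechCls U hcov M hM p z := by
  rw [cechCls_apply, cechCls_apply, ← cechEquiv_smul]
  congr 1
  exact (cls_map _ ((cechComplexFunctor (A := AddCommGrpCat.{u}) U).map (Coh.smulAb M r).hom)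
    p z _ rfl).symm

include hcov hM in
/-- **Packaging theorem.** If `π` maps the `(p+1)`-cocycles onto an `A`-module `V` with kernel the
coboundaries, compatibly with the scalar actions, then `V ≃ₗ[A] H^{p+1}(X, M)`. -/
theorem nonempty_linearEquiv_HH (A : Type u) [CommRing A] [X.Over (Spec (CommRingCat.of A))]
    (p : ℕ) {V : Type*} [AddCommGroup V] [Module A V]
    (π : cocyc (K (X := X) U M.presheaf) (p + 1) →+ V) (hπ : Function.Surjective π)
    (hker : ∀ z, π z = 0 ↔
      ∃ b : (K (X := X) U M.presheaf).X p, (K (X := X) U M.presheaf).d p (p + 1) b = z.1)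
    (hlin : ∀ (a : A) (z : cocyc (K (X := X) U M.presheaf) (p + 1)),
      π ⟨cechSmul U M (Coh.toGlobal (X ↘ Spec (CommRingCat.of A)) a) (p + 1) z.1,
        cechSmul_mem_cocyc U M _ (p + 1) z⟩ = a • π z) :
    Nonempty (V ≃ₗ[A] Coh.HH X M (p + 1)) := by
  let e : V ≃+ Coh.HH X M (p + 1) :=
    equivOfKerEq π (cechCls U hcov M hM (p + 1)) hπ (cechCls_surjective U hcov M hM (p + 1))
      (fun z => by rw [hker, cechCls_eq_zero_iff])
  refine ⟨{ e with map_smul' := ?_ }⟩
  intro a v
  obtain ⟨z, rfl⟩ := hπ v
  change e (a • π z) = a • e (π z)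
  rw [← hlin a z, equivOfKerEq_apply, equivOfKerEq_apply, cechCls_smul]
  rfl

end Groth.Agent.H62.NL
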