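import Mathlib
import Groth.Agent.H62.GD3
import Groth.Agent.H62.CF3
import Groth.Agent.H62.NL4

/-!
helper62, GENERAL-FIELD curve ↔ function field dictionary, part 4: `H¹(C, O_C)` of a `GCurve` is
`k`-linearly isomorphic to the adele quotient `A_K / (A_K(0) + K)` of its function field, hence
the genus `dim_k H¹(C, O_C)` of the curve is the genus of the function field.
-/

set_option autoImplicit false
set_option linter.style.haveILetI false
open CategoryTheory CategoryTheory.Limits AlgebraicGeometry TopologicalSpace Topology FunFld Opposite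
universe u

namespace Groth.Agent.H62.GD

attribute [local instance] Curv2.stalkAlgebra Curv2.resAlgebra

open Groth.Agent.H62.CD (isQuasicoherent_structureModule)
open Groth.Agent.Lead.Cech Groth.Agent.H62

variable {k : Type u} [Field k] {C : Scheme.{u}} [C.Over (Spec (CommRingCat.of k))]
  [IsIntegral C]

variable (hC : GCurve k C)
include hC

/-- **`H¹(C, O_C)` is the adele quotient, `k`-linearly** -/
theorem GCurve.nonempty_linearEquiv_HH_one :
    Nonempty ((adele k C.functionField ⧸ ADK (0 : Divisor k C.functionField)) ≃ₗ[k]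
      Coh.HH C (Coh.structureModule C) 1) := by
  classical
  haveI := hC.compactSpace
  haveI := hC.isSeparated
  obtain ⟨s, hs, hcov⟩ := Groth.Agent.Lead.AcyclicEmbed.exists_finset_affine_cover C
  let ι : Type u := {V : C.Opens // V ∈ s ∧ genericPoint C ∈ V}
  let U : ι → C.Opens := fun i => i.1
  have hξ : ∀ i, genericPoint C ∈ U i := fun i => i.2.2
  have haff : ∀ i, IsAffineOpen (U i) := fun i => hs _ i.2.1
  haveI : Finite ι :=
    Set.Finite.subset s.finite_toSet (fun V hV => hV.1)
  have hcovU : ∀ x : C, ∃ i, x ∈ U i := by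
    intro x
    obtain ⟨V, hV, hx⟩ := hcov x
    have : genericPoint C ∈ V :=
      ((genericPoint_spec C).mem_open_set_iff V.isOpen).mpr ⟨x, trivial, hx⟩
    exact ⟨⟨V, hV, this⟩, hx⟩
  haveI : Nonempty ι := (hcovU (genericPoint C)).nonempty
  have hsup : ⨆ i, U i = ⊤ := by
    refine eq_top_iff.mpr fun x _ => ?_
    obtain ⟨i, hi⟩ := hcovU x
    exact Opens.mem_iSup.mpr ⟨i, hi⟩
  have hinter : ∀ t : Finset ι, t.Nonempty → IsAffineOpen (⨅ i ∈ t, U i) := fun t ht =>
    IsAffineOpen.biInf (↑t : Set ι) t.finite_toSet ht (fun i _ => haff i)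
  haveI : Coh.IsQCoh (Coh.structureModule C) := isQuasicoherent_structureModule
  have hM : Acyc (X := C.toTopCat) U (Coh.toAb (Coh.structureModule C)) :=
    NL.acyc_of_isAffineOpen C U hinter (Coh.structureModule C)
  -- the explicit Čech cochains
  let P := (Coh.structureModule C).presheaf
  let ε : ∀ V : C.Opens, genericPoint C ∈ V → ((P.obj (op V) : Type u) →+ C.functionField) :=
    fun V hV => (C.presheaf.germ V (genericPoint C) hV).hom.toAddMonoidHom
  have hinj : ∀ V h, Function.Injective (ε V h) := fun V h =>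
    germ_injective_of_isIntegral C (genericPoint C) h
  have hcomp : ∀ (V W : C.Opens) (h : W ≤ V) (hW : genericPoint C ∈ W) (t : P.obj (op V)),
      ε W hW (P.map (homOfLE h).op t) = ε V (h hW) t := fun V W h hW t =>
    TopCat.Presheaf.germ_res_apply C.presheaf (homOfLE h) (genericPoint C) hW t
  -- the cover of the places
  let S : ι → Set (Place k C.functionField) := fun i => placesIn hC (U i)
  have hrange : ∀ (V : C.Opens) (hV : IsAffineOpen V) (h : genericPoint C ∈ V)
      (z : C.functionField), z ∈ (ε V h).range ↔ z ∈ CF.holo (placesIn hC V) := fun V hV h z =>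
    (mem_holo_placesIn_iff hC hV h z).symm
  have hZ : CF.Z1' U P (genericPoint C) hξ ε = CF.Z1 S := by
    ext c
    constructor
    · rintro ⟨h1, h2⟩
      refine ⟨fun i j => ?_, h2⟩
      rw [← placesIn_inf]
      exact (hrange _ ((haff i).inf (haff j)) ⟨hξ i, hξ j⟩ _).mp (h1 i j)
    · rintro ⟨h1, h2⟩
      refine ⟨fun i j => ?_, h2⟩
      have := h1 i j
      rw [← placesIn_inf] at this
      exact (hrange _ ((haff i).inf (haff j)) ⟨hξ i, hξ j⟩ _).mpr this
  have hB : CF.B1' U P (genericPoint C) hξ ε = CF.B1 S := by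
    ext c
    constructor
    · rintro ⟨g, hg, hc⟩
      exact ⟨g, fun i => (hrange _ (haff i) (hξ i) _).mp (hg i), hc⟩
    · rintro ⟨g, hg, hc⟩
      exact ⟨g, fun i => (hrange _ (haff i) (hξ i) _).mpr (hg i), hc⟩
  have hcovS : ∀ Q : Place k C.functionField, ∃ i, Q ∈ S i := by
    intro Q
    obtain ⟨x, rfl⟩ := placeOf_surjective hC Q
    obtain ⟨i, hi⟩ := hcovU x.1
    exact ⟨i, x, hi, rfl⟩
  have hneS : ∀ i, ∃ Q : Place k C.functionField, Q ∉ S i := by
    intro i
    have hne := hC.ne_top_of_isAffineOpen (haff i)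
    obtain ⟨x, hx⟩ : ∃ x : C, x ∉ U i := by
      by_contra hcon
      push Not at hcon
      exact hne (eq_top_iff.mpr fun x _ => hcon x)
    have hcl : IsClosed ({x} : Set C) := by
      rcases hC.isClosed_or_eq_genericPoint x with h | h
      · exact h
      · exact absurd (h ▸ hξ i) hx
    refine ⟨placeOf hC ⟨x, hcl⟩, ?_⟩
    rintro ⟨y, hy, hxy⟩
    have := placeOf_injective hC hxy
    subst this
    exact hx hy
  have hK := hC.isFunctionField
  obtain ⟨i₀⟩ := ‹Nonempty ι›
  -- cocycles go to `Z1 S`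
  have hmem : ∀ z : NL.cocyc (K (X := C) U P) 1, CF.Psi U P (genericPoint C) hξ ε z.1 ∈ CF.Z1 S := by
    intro z
    rw [← hZ]
    exact (CF.d_eq_zero_iff_Psi_mem U P (genericPoint C) hξ ε hinj hcomp z.1).mp
      ((NL.mem_cocyc _ z.1).mp z.2)
  -- the map `π`
  let π : NL.cocyc (K (X := C) U P) 1 →+ (adele k C.functionField ⧸ ADK (0 : Divisor k C.functionField)) :=
    { toFun := fun z => CF.theta S hK hcovS i₀ ⟨CF.Psi U P (genericPoint C) hξ ε z.1, hmem z⟩
      map_zero' := by
        have : (⟨CF.Psi U P (genericPoint C) hξ ε (0 : NL.cocyc (K (X := C) U P) 1).1, hmem 0⟩ :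
            CF.Z1 S) = 0 := Subtype.ext (map_zero _)
        rw [this, map_zero]
      map_add' := fun a b => by
        have : (⟨CF.Psi U P (genericPoint C) hξ ε (a + b).1, hmem (a + b)⟩ : CF.Z1 S) =
            ⟨CF.Psi U P (genericPoint C) hξ ε a.1, hmem a⟩ +
              ⟨CF.Psi U P (genericPoint C) hξ ε b.1, hmem b⟩ := Subtype.ext (map_add _ a.1 b.1)
        rw [this, map_add] }
  have hπ : Function.Surjective π := by
    intro v
    obtain ⟨c, rfl⟩ := CF.theta_surjective S hK hcovS hneS i₀ v
    have hc : c.1 ∈ CF.Z1' U P (genericPoint C) hξ ε := by rw [hZ]; exact c.2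
    obtain ⟨x, hx⟩ := CF.exists_Psi_eq U P (genericPoint C) hξ ε c.1 hc
    have hx0 : x ∈ NL.cocyc (K (X := C) U P) 1 := by
      rw [NL.mem_cocyc, CF.d_eq_zero_iff_Psi_mem U P (genericPoint C) hξ ε hinj hcomp, hx]
      exact hc
    refine ⟨⟨x, hx0⟩, ?_⟩
    change CF.theta S hK hcovS i₀ ⟨CF.Psi U P (genericPoint C) hξ ε x, _⟩ = _
    congr 1
    exact Subtype.ext hx
  have hker : ∀ z : NL.cocyc (K (X := C) U P) 1, π z = 0 ↔
      ∃ b : (K (X := C) U P).X 0, (K (X := C) U P).d 0 (0 + 1) b = z.1 := by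
    intro z
    change CF.theta S hK hcovS i₀ ⟨CF.Psi U P (genericPoint C) hξ ε z.1, hmem z⟩ = 0 ↔ _
    rw [CF.theta_eq_zero_iff, ← hB, CF.mem_B1'_iff U P (genericPoint C) hξ ε hcomp]
    constructor
    · rintro ⟨y, hy⟩
      exact ⟨y, CF.Psi_injective U P (genericPoint C) hξ ε hinj hy⟩
    · rintro ⟨y, hy⟩
      exact ⟨y, congrArg _ hy⟩
  refine NL.nonempty_linearEquiv_HH U hsup (Coh.structureModule C) hM k 0 π hπ hker ?_
  intro a z
  change CF.theta S hK hcovS i₀ ⟨CF.Psi U P (genericPoint C) hξ ε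
      (NL.cechSmul U (Coh.structureModule C) (Coh.toGlobal (C ↘ Spec (CommRingCat.of k)) a)
        (0 + 1) z.1), _⟩ =
    a • CF.theta S hK hcovS i₀ ⟨CF.Psi U P (genericPoint C) hξ ε z.1, hmem z⟩
  rw [CF.theta_apply, CF.theta_apply, ← map_smul]
  congr 1
  apply Subtype.ext
  funext Q
  rw [CF.toAdele_apply]
  change CF.Psi U P (genericPoint C) hξ ε (NL.cechSmul U (Coh.structureModule C)
      (Coh.toGlobal (C ↘ Spec (CommRingCat.of k)) a) (0 + 1) z.1) i₀ (CF.idx S hcovS Q) =
    a • CF.Psi U P (genericPoint C) hξ ε z.1 i₀ (CF.idx S hcovS Q)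
  rw [CF.Psi_apply, CF.Psi_apply, CF.Phi_apply, CF.Phi_apply,
    NL.proj_cechSmul, Coh.smulAb_app, Algebra.smul_def]
  have hW : genericPoint C ∈ cechOpen (X := C) U ![i₀, CF.idx S hcovS Q] :=
    CF.mem_cechOpen U (genericPoint C) _ hξ
  set W := cechOpen (X := C) U ![i₀, CF.idx S hcovS Q] with hWdef
  set m : Γ(C, W) := (ConcreteCategory.hom (proj (X := C) U (Coh.structureModule C).presheaf 1
    ![i₀, CF.idx S hcovS Q])) z.1 with hm
  change (C.presheaf.germ W (genericPoint C) hW).hom
      ((show Γ(C, W) from Coh.resTop C (op W) (Coh.toGlobal (C ↘ Spec (CommRingCat.of k)) a)) * m) =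
    algebraMap k C.functionField a * (C.presheaf.germ W (genericPoint C) hW).hom m
  rw [map_mul]
  congr 1
  exact TopCat.Presheaf.germ_res_apply C.presheaf (homOfLE (le_top : W ≤ ⊤)) (genericPoint C) hW _

open Groth.Agent.H55 in
/-- **the genus of the curve is the genus of its function field** -/
theorem GCurve.genus_eq : Curv2.genus k C = FunFld.genus k C.functionField := by
  obtain ⟨e⟩ := hC.nonempty_linearEquiv_HH_one
  have hK := hC.isFunctionField
  unfold Curv2.genus
  rw [← e.finrank_eq]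
  obtain ⟨hfin, hrank⟩ := adele_quot_finrank hK (0 : Divisor k C.functionField)
  have : (Module.finrank k (adele k C.functionField ⧸ ADK (0 : Divisor k C.functionField)) : ℤ) =
      genus k C.functionField := by
    rw [ell_zero hK, Divisor.deg_zero] at hrank
    have h2 : (genus k C.functionField : ℤ) - (0 + 1 - ((1 : ℕ) : ℤ)) =
        genus k C.functionField := by push_cast; ring
    rw [h2] at hrank
    exact hrank
  exact_mod_cast this

/-- `H¹(C, O_C)` is finite dimensional -/
theorem GCurve.finite_HH_one : Module.Finite k (Coh.HH C (Coh.structureModule C) 1) := by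
  obtain ⟨e⟩ := hC.nonempty_linearEquiv_HH_one
  have hK := hC.isFunctionField
  obtain ⟨hfin, -⟩ := Groth.Agent.H55.adele_quot_finrank hK (0 : Divisor k C.functionField)
  haveI : Module.Finite k (adele k C.functionField ⧸ ADK (0 : Divisor k C.functionField)) := hfin
  exact Module.Finite.equiv e

end Groth.Agent.H62.GD
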