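import Mathlib
import Groth.Agent.H62.GD4
import Groth.Agent.H18.HH0Sections

/-!
helper62, GENERAL-FIELD curve ↔ function field dictionary, part 5: if `dim_k H⁰(C, O_C) = 1` then
`k` is algebraically closed in the function field; hence a smooth proper integral curve with
`h⁰(O) = 1` is a `GCurve`.
-/

set_option autoImplicit false
set_option linter.style.haveILetI false
open CategoryTheory CategoryTheory.Limits AlgebraicGeometry TopologicalSpace Topology FunFld Opposite
universe u

namespace Groth.Agent.H62.GD

attribute [local instance] Curv2.stalkAlgebra Curv2.resAlgebra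

variable {k : Type u} [Field k] {C : Scheme.{u}} [C.Over (Spec (CommRingCat.of k))]
  [IsIntegral C]

omit [C.Over (Spec (CommRingCat.of k))] in
/-- an element of the function field lying in all local rings is a global section -/
theorem mem_range_germ_top (z : C.functionField)
    (h : ∀ x : C, z ∈ Set.range (algebraMap (C.presheaf.stalk x) C.functionField)) :
    z ∈ Set.range (C.presheaf.germ ⊤ (genericPoint C) trivial).hom := by
  have hloc : ∀ x : C, ∃ (V : C.Opens) (hx : x ∈ V) (hξ : genericPoint C ∈ V) (s : Γ(C, V)),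
      (C.presheaf.germ V (genericPoint C) hξ).hom s = z := by
    intro x
    obtain ⟨a, ha⟩ := h x
    obtain ⟨V, hxV, s, hs⟩ := C.presheaf.exists_germ_eq a
    have hξ : genericPoint C ∈ V :=
      ((genericPoint_spec C).mem_open_set_iff V.isOpen).mpr ⟨x, trivial, hxV⟩
    refine ⟨V, hxV, hξ, s, ?_⟩
    rw [← ha, ← hs]
    haveI : Nonempty V := ⟨⟨x, hxV⟩⟩
    exact (C.algebraMap_germ_eq_germToFunctionField hxV s).symm
  choose V hxV hξV s hs using hloc
  have hcompat : TopCat.Presheaf.IsCompatible C.sheaf.1 V s := by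
    intro x y
    apply germ_injective_of_isIntegral C (genericPoint C) (U := V x ⊓ V y) ⟨hξV x, hξV y⟩
    change (C.presheaf.germ (V x ⊓ V y) (genericPoint C) _).hom
        ((C.presheaf.map (Opens.infLELeft (V x) (V y)).op).hom (s x)) =
      (C.presheaf.germ (V x ⊓ V y) (genericPoint C) _).hom
        ((C.presheaf.map (Opens.infLERight (V x) (V y)).op).hom (s y))
    rw [TopCat.Presheaf.germ_res_apply, TopCat.Presheaf.germ_res_apply, hs, hs]
  have hcover : (⊤ : C.Opens) ≤ iSup V := fun x _ => Opens.mem_iSup.mpr ⟨x, hxV x⟩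
  obtain ⟨g, hg, -⟩ := C.sheaf.existsUnique_gluing' V ⊤ (fun x => homOfLE le_top) hcover s hcompat
  refine ⟨g, ?_⟩
  have h1 := hg (genericPoint C)
  rw [← hs (genericPoint C), ← h1]
  exact (TopCat.Presheaf.germ_res_apply C.presheaf (homOfLE le_top) (genericPoint C)
    (hξV (genericPoint C)) g).symm

variable (hC : PCurve k C)
include hC

/-- an element of the function field algebraic over `k` is a global section -/
theorem PCurve.mem_range_germ_top_of_isAlgebraic (y : C.functionField) (hy : IsAlgebraic k y) :
    y ∈ Set.range (C.presheaf.germ ⊤ (genericPoint C) trivial).hom := by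
  apply mem_range_germ_top
  intro x
  rcases hC.isClosed_or_eq_genericPoint x with hcl | hgen
  · haveI := hC.dvr x hcl
    have hint : IsIntegral (C.presheaf.stalk x) y := hy.isIntegral.tower_top
    exact (IsIntegrallyClosed.isIntegral_iff (R := C.presheaf.stalk x)
      (K := C.functionField)).mp hint
  · exact Groth.Agent.H22.CurveValuation.surjective_algebraMap_of_eq_genericPoint x hgen y

/-- if `h⁰(C, O_C) = 1` then `k` is algebraically closed in the function field -/
theorem PCurve.const_of_finrank
    (h0 : Module.finrank k (Coh.HH C (Coh.structureModule C) 0) = 1)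
    (y : C.functionField) (hy : IsAlgebraic k y) :
    y ∈ Set.range (algebraMap k C.functionField) := by
  obtain ⟨a, ha⟩ := hC.mem_range_germ_top_of_isAlgebraic y hy
  -- the `k`-linear identification `H⁰ = Γ(C, ⊤)`
  letI : Module k (Coh.Γtop C) := Module.compHom _ (Coh.toGlobal (C ↘ Spec (CommRingCat.of k)))
  let e : Coh.HH C (Coh.structureModule C) 0 ≃ₗ[k] Coh.Γtop C :=
    { Groth.Agent.H18.HH0.equiv (Coh.structureModule C) with
      map_smul' := fun c x => by
        change Groth.Agent.H18.HH0.equiv (Coh.structureModule C) (c • x) = _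
        rw [Groth.Agent.H18.HH0.smul_def', Groth.Agent.H18.HH0.equiv_smul]
        rfl }
  have h1 : Module.finrank k (Coh.Γtop C) = 1 := by rw [← e.finrank_eq, h0]
  have hne : (1 : Coh.Γtop C) ≠ 0 := by
    intro h10
    have : (C.presheaf.germ ⊤ (genericPoint C) trivial).hom (1 : Γ(C, ⊤)) = 0 := by
      have h10' : (1 : Γ(C, ⊤)) = 0 := h10
      rw [h10', map_zero]
    rw [map_one] at this
    exact one_ne_zero this
  obtain ⟨c, hc⟩ := (finrank_eq_one_iff_of_nonzero' (1 : Coh.Γtop C) hne).mp h1 a
  refine ⟨c, ?_⟩
  rw [← ha, ← hc]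
  change (C.presheaf.germ ⊤ (genericPoint C) trivial).hom
      (Coh.toGlobal (C ↘ Spec (CommRingCat.of k)) c) =
    (C.presheaf.germ ⊤ (genericPoint C) trivial).hom
      ((show Γ(C, ⊤) from Coh.toGlobal (C ↘ Spec (CommRingCat.of k)) c) * (1 : Γ(C, ⊤)))
  rw [mul_one]

/-- a `PCurve` with `h⁰(C, O_C) = 1` is a `GCurve` -/
theorem PCurve.gcurve (h0 : Module.finrank k (Coh.HH C (Coh.structureModule C) 0) = 1) :
    GCurve k C :=
  { hC with const := hC.const_of_finrank h0 }

end Groth.Agent.H62.GD
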