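import Mathlib
import Groth.Agent.H62.GW1
import Groth.Agent.H62.GD5
import Groth.Agent.Lead.RegularLocal
import Groth.Agent.H71.CohBC.HHIso

/-!
# helper62, gateway part 2: a smooth proper geometrically connected curve over an arbitrary field is
integral, has `h⁰(O) = 1`, and is a `GCurve` (so the function field dictionary applies).
-/

set_option autoImplicit false
set_option linter.style.haveILetI false
open CategoryTheory CategoryTheory.Limits AlgebraicGeometry TopologicalSpace Topology
universe u

namespace Groth.Agent.H62.GW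

attribute [local instance] Curv2.stalkAlgebra Curv2.resAlgebra

variable (k : Type u) [Field k] (C : Scheme.{u}) [C.Over (Spec (CommRingCat.of k))]

/-- a connected scheme smooth over a field is integral -/
theorem isIntegral_of_smooth [Smooth (C ↘ Spec (CommRingCat.of k))] [ConnectedSpace C] :
    IsIntegral C := by
  haveI : IsLocallyNoetherian C :=
    LocallyOfFiniteType.isLocallyNoetherian (C ↘ Spec (CommRingCat.of k))
  apply isIntegral_of_connected_of_isDomain_stalk
  intro x
  haveI := Groth.Agent.H53.isRegularLocalRing_stalk_of_smooth_field k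
    (C ↘ Spec (CommRingCat.of k)) x
  exact Groth.Agent.Lead.RLR.isDomain _

/-- geometrically connected implies connected -/
theorem connectedSpace_of_geometricallyConnected
    [GeometricallyConnected (C ↘ Spec (CommRingCat.of k))] : ConnectedSpace C :=
  GeometricallyConnected.connectedSpace_of_subsingleton (f := C ↘ Spec (CommRingCat.of k))

/-- the `k`-linear identification `H⁰(C, O) = Γ(C, ⊤)` -/
noncomputable def hh0Equiv :
    letI : Module k (Coh.Γtop C) := Module.compHom _ (Coh.toGlobal (C ↘ Spec (CommRingCat.of k)))
    Coh.HH C (Coh.structureModule C) 0 ≃ₗ[k] Coh.Γtop C :=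
  letI : Module k (Coh.Γtop C) := Module.compHom _ (Coh.toGlobal (C ↘ Spec (CommRingCat.of k)))
  { Groth.Agent.H18.HH0.equiv (Coh.structureModule C) with
    map_smul' := fun c x => by
      change Groth.Agent.H18.HH0.equiv (Coh.structureModule C) (c • x) = _
      rw [Groth.Agent.H18.HH0.smul_def', Groth.Agent.H18.HH0.equiv_smul]
      rfl }

/-- an integral scheme proper over an algebraically closed field has `h⁰(O) = 1` -/
theorem finrank_HH_zero_of_isAlgClosed [IsAlgClosed k] [IsIntegral C]
    [IsProper (C ↘ Spec (CommRingCat.of k))] :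
    Module.finrank k (Coh.HH C (Coh.structureModule C) 0) = 1 := by
  letI : Module k (Coh.Γtop C) := Module.compHom _ (Coh.toGlobal (C ↘ Spec (CommRingCat.of k)))
  rw [(hh0Equiv k C).finrank_eq]
  have hint := isIntegral_appTop_of_universallyClosed (C ↘ Spec (CommRingCat.of k))
  letI : Algebra k Γ(C, ⊤) := (Coh.toGlobal (C ↘ Spec (CommRingCat.of k))).toAlgebra
  haveI : Algebra.IsIntegral k Γ(C, ⊤) := by
    constructor
    intro a
    have h1 : ((C ↘ Spec (CommRingCat.of k)).appTop.hom).IsIntegralElem a := hint a
    obtain ⟨p, hp, hpa⟩ := h1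
    refine ⟨p.map (Scheme.ΓSpecIso (CommRingCat.of k)).hom.hom, hp.map _, ?_⟩
    change Polynomial.eval₂ (algebraMap k Γ(C, ⊤)) a _ = 0
    rw [Polynomial.eval₂_map]
    have : (algebraMap k Γ(C, ⊤)).comp (Scheme.ΓSpecIso (CommRingCat.of k)).hom.hom =
        (C ↘ Spec (CommRingCat.of k)).appTop.hom := by
      ext z
      change (C ↘ Spec (CommRingCat.of k)).appTop.hom
        ((Scheme.ΓSpecIso (CommRingCat.of k)).inv.hom
          ((Scheme.ΓSpecIso (CommRingCat.of k)).hom.hom z)) = _
      congr 1
      exact (Scheme.ΓSpecIso (CommRingCat.of k)).commRingCatIsoToRingEquiv.symm_apply_apply z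
    rw [this]
    exact hpa
  have hsurj : Function.Surjective (algebraMap k Γ(C, ⊤)) :=
    (IsAlgClosed.algebraMap_bijective_of_isIntegral (k := k) (K := Γ(C, ⊤))).2
  have hne : (1 : Coh.Γtop C) ≠ 0 := by
    haveI : Nontrivial Γ(C, ⊤) := inferInstance
    exact one_ne_zero (α := Γ(C, ⊤))
  rw [finrank_eq_one_iff_of_nonzero' (1 : Coh.Γtop C) hne]
  intro w
  obtain ⟨c, hc⟩ := hsurj w
  refine ⟨c, ?_⟩
  change (show Γ(C, ⊤) from Coh.toGlobal (C ↘ Spec (CommRingCat.of k)) c) * (1 : Γ(C, ⊤)) = w
  rw [mul_one]
  exact hc

end Groth.Agent.H62.GW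

namespace Groth.Agent.H62.GW

attribute [local instance] Curv2.stalkAlgebra Curv2.resAlgebra

variable (k : Type u) [Field k] (C : Scheme.{u}) [C.Over (Spec (CommRingCat.of k))]

section bc

variable (L : Type u) [Field L] [Algebra k L]

/-- the base change as a scheme over the extension field -/
noncomputable abbrev bcOver : (Curv2.bc k C L).Over (Spec (CommRingCat.of L)) :=
  ⟨Curv2.bcSnd k C L⟩

theorem isPullback_bc :
    letI := bcOver k C L
    IsPullback (Curv2.bcFst k C L) ((Curv2.bc k C L) ↘ Spec (CommRingCat.of L))
      (C ↘ Spec (CommRingCat.of k)) (Spec.map (CommRingCat.ofHom (algebraMap k L))) :=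
  IsPullback.of_hasPullback _ _

theorem connectedSpace_bc [GeometricallyConnected (C ↘ Spec (CommRingCat.of k))] :
    ConnectedSpace (Curv2.bc k C L) :=
  GeometricallyConnected.connectedSpace_of_subsingleton (f := Curv2.bcSnd k C L)

theorem isIntegral_bc [Smooth (C ↘ Spec (CommRingCat.of k))]
    [GeometricallyConnected (C ↘ Spec (CommRingCat.of k))] : IsIntegral (Curv2.bc k C L) := by
  letI := bcOver k C L
  haveI := connectedSpace_bc k C L
  haveI : Smooth ((Curv2.bc k C L) ↘ Spec (CommRingCat.of L)) :=
    inferInstanceAs (Smooth (pullback.snd _ _))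
  exact isIntegral_of_smooth L (Curv2.bc k C L)

/-- the cohomology of the structure sheaf does not change under extension of the base field -/
theorem finrank_HH_bc [CompactSpace C] [QuasiSeparatedSpace C] (i : ℕ) :
    letI := bcOver k C L
    Module.finrank L (Coh.HH (Curv2.bc k C L) (Coh.structureModule (Curv2.bc k C L)) i) =
      Module.finrank k (Coh.HH C (Coh.structureModule C) i) := by
  letI := bcOver k C L
  exact Groth.Agent.H71.CohBC.finrank_hh_structureModule_baseChange k L C (Curv2.bc k C L)
    (Curv2.bcFst k C L) (isPullback_bc k C L) i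

end bc

/-- **a smooth proper geometrically connected scheme over a field has `h⁰(O) = 1`** -/
theorem finrank_HH_zero [IsProper (C ↘ Spec (CommRingCat.of k))]
    [Smooth (C ↘ Spec (CommRingCat.of k))]
    [GeometricallyConnected (C ↘ Spec (CommRingCat.of k))] :
    Module.finrank k (Coh.HH C (Coh.structureModule C) 0) = 1 := by
  haveI : CompactSpace C :=
    QuasiCompact.compactSpace_of_compactSpace (C ↘ Spec (CommRingCat.of k))
  haveI : QuasiSeparatedSpace C :=
    quasiSeparatedSpace_of_quasiSeparated (C ↘ Spec (CommRingCat.of k))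
  rw [← finrank_HH_bc k C (AlgebraicClosure k) 0]
  letI := bcOver k C (AlgebraicClosure k)
  haveI := isIntegral_bc k C (AlgebraicClosure k)
  haveI : IsProper ((Curv2.bc k C (AlgebraicClosure k)) ↘ Spec (CommRingCat.of (AlgebraicClosure k))) :=
    inferInstanceAs (IsProper (pullback.snd _ _))
  exact finrank_HH_zero_of_isAlgClosed (AlgebraicClosure k) (Curv2.bc k C (AlgebraicClosure k))

/-- **the gateway**: a smooth proper geometrically connected curve over an arbitrary field is
integral -/
theorem isIntegral_of_smooth_of_geometricallyConnected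
    [Smooth (C ↘ Spec (CommRingCat.of k))]
    [GeometricallyConnected (C ↘ Spec (CommRingCat.of k))] : IsIntegral C := by
  haveI := connectedSpace_of_geometricallyConnected k C
  exact isIntegral_of_smooth k C

/-- **the gateway**: a smooth proper geometrically connected curve over an arbitrary field is a
`GCurve`: the function field dictionary applies to it -/
theorem gcurve [IsIntegral C] [IsProper (C ↘ Spec (CommRingCat.of k))]
    [Smooth (C ↘ Spec (CommRingCat.of k))]
    [GeometricallyConnected (C ↘ Spec (CommRingCat.of k))]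
    (hdim : topologicalKrullDim C = 1) : Groth.Agent.H62.GD.GCurve k C :=
  (Groth.Agent.H62.GD.PCurve.of_smooth inferInstance hdim).gcurve (finrank_HH_zero k C)

end Groth.Agent.H62.GW
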