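import Mathlib
import Groth.Agent.H62.GW2
import Groth.Prelude.Def_CurvBase

/-!
# helper62: on an integral proper scheme over a field, all Euler characteristics are divisible by the
degree of the field of global functions; a module of degree one forces `H⁰(X, O_X) = k`
-/

set_option autoImplicit false
set_option linter.style.haveILetI false
open CategoryTheory CategoryTheory.Limits AlgebraicGeometry TopologicalSpace Topology Opposite
universe u

namespace Groth.Agent.H62.ConstField

theorem dvd_finsum {f : ℕ → ℤ} {m : ℤ} (h : ∀ i, m ∣ f i) : m ∣ ∑ᶠ i, f i := by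
  by_cases hf : (Function.support f).Finite
  · rw [finsum_eq_sum f hf]
    exact Finset.dvd_sum (fun i _ => h i)
  · rw [finsum_of_infinite_support hf]
    exact dvd_zero m

variable (k : Type u) [Field k] (X : Scheme.{u}) [X.Over (Spec (CommRingCat.of k))]
  [IsIntegral X] [UniversallyClosed (X ↘ Spec (CommRingCat.of k))]

/-- the degree of the field of global functions divides the dimension of every cohomology group -/
theorem finrank_dvd_finrank_HH (M : X.Modules) (n : ℕ) :
    letI : Algebra k Γ(X, ⊤) := (Coh.toGlobal (X ↘ Spec (CommRingCat.of k))).toAlgebra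
    Module.finrank k Γ(X, ⊤) ∣ Module.finrank k (Coh.HH X M n) := by
  letI : Algebra k Γ(X, ⊤) := (Coh.toGlobal (X ↘ Spec (CommRingCat.of k))).toAlgebra
  have hF : IsField Γ(X, ⊤) := isField_of_universallyClosed k (X ↘ Spec (CommRingCat.of k))
  letI : Field Γ(X, ⊤) := hF.toField
  letI : Module Γ(X, ⊤) (Coh.HH X M n) := Coh.moduleΓtop M n
  haveI : IsScalarTower k Γ(X, ⊤) (Coh.HH X M n) :=
    IsScalarTower.of_algebraMap_smul (fun r x => rfl)
  exact ⟨_, (Module.finrank_mul_finrank k Γ(X, ⊤) (Coh.HH X M n)).symm⟩

/-- the degree of the field of global functions divides every Euler characteristic -/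
theorem finrank_dvd_euler (M : X.Modules) :
    letI : Algebra k Γ(X, ⊤) := (Coh.toGlobal (X ↘ Spec (CommRingCat.of k))).toAlgebra
    (Module.finrank k Γ(X, ⊤) : ℤ) ∣ Curv2.euler k X M := by
  letI : Algebra k Γ(X, ⊤) := (Coh.toGlobal (X ↘ Spec (CommRingCat.of k))).toAlgebra
  unfold Curv2.euler
  apply dvd_finsum
  intro i
  apply Dvd.dvd.mul_left
  exact_mod_cast finrank_dvd_finrank_HH k X M i

/-- **a module of degree one forces the global functions to be the constants** -/
theorem finrank_HH_zero_eq_one_of_deg_eq_one (L : X.Modules) (n : ℕ)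
    (hdeg : Curv2.deg k X L n = 1) :
    Module.finrank k (Coh.HH X (Coh.structureModule X) 0) = 1 := by
  have h1 := finrank_dvd_finrank_HH k X (Coh.structureModule X) 0
  have h2 := finrank_dvd_euler k X L
  have h3 := finrank_dvd_euler k X (Coh.structureModule X)
  letI : Algebra k Γ(X, ⊤) := (Coh.toGlobal (X ↘ Spec (CommRingCat.of k))).toAlgebra
  letI : Module k (Coh.Γtop X) :=
    Module.compHom _ (Coh.toGlobal (X ↘ Spec (CommRingCat.of k)))
  have h4 : Module.finrank k (Coh.HH X (Coh.structureModule X) 0) =
      Module.finrank k Γ(X, ⊤) := (Groth.Agent.H62.GW.hh0Equiv k X).finrank_eq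
  have h5 : (Module.finrank k Γ(X, ⊤) : ℤ) ∣ 1 := by
    rw [← hdeg]
    unfold Curv2.deg
    exact dvd_sub h2 (Dvd.dvd.mul_left h3 _)
  have h6 : Module.finrank k Γ(X, ⊤) = 1 := by
    have := Int.eq_one_of_dvd_one (by positivity) h5
    exact_mod_cast this
  rw [h4, h6]

end Groth.Agent.H62.ConstField
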