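import Mathlib

/-! Helper lemmas for S12424 (hyperplane sections of smooth cubic surfaces). -/

set_option autoImplicit false

namespace Groth.Agent.H62.Cubic

open MvPolynomial

section homog

variable {σ R : Type*} [CommRing R] [IsDomain R]

theorem weight_one_eq_degree (d : σ →₀ ℕ) : Finsupp.weight (1 : σ → ℕ) d = d.degree := by
  rw [Finsupp.degree_eq_weight_one]; rfl

/-- In a polynomial ring over a domain, a factor of a nonzero homogeneous polynomial is
homogeneous. -/
theorem isHomogeneous_of_mul {φ ψ : MvPolynomial σ R} {n : ℕ}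
    (h : (φ * ψ).IsHomogeneous n) (hne : φ * ψ ≠ 0) : φ.IsHomogeneous φ.totalDegree := by
  have hφ : φ ≠ 0 := left_ne_zero_of_mul hne
  have hψ : ψ ≠ 0 := right_ne_zero_of_mul hne
  have hdeg : φ.totalDegree + ψ.totalDegree = n := by
    rw [← totalDegree_mul_of_isDomain hφ hψ]; exact h.totalDegree hne
  -- orders
  have hord : (φ : MvPowerSeries σ R).order + (ψ : MvPowerSeries σ R).order = (n : ℕ∞) := by
    have h0 : ((φ * ψ : MvPolynomial σ R) : MvPowerSeries σ R).order = (n : ℕ∞) := by
      rw [MvPowerSeries.order_eq_nat]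
      obtain ⟨d, hd⟩ := (MvPolynomial.ne_zero_iff).1 hne
      refine ⟨⟨d, by rw [MvPolynomial.coeff_coe]; exact hd, ?_⟩, ?_⟩
      · rw [← weight_one_eq_degree]; exact h hd
      · intro d' hd'
        rw [MvPolynomial.coeff_coe]
        by_contra hc
        have := h hc
        rw [weight_one_eq_degree] at this
        omega
    rw [MvPolynomial.coe_mul, MvPowerSeries.order_mul] at h0
    exact h0
  have hle : ∀ {χ : MvPolynomial σ R}, χ ≠ 0 →
      (χ : MvPowerSeries σ R).order ≤ (χ.totalDegree : ℕ∞) := by
    intro χ hχ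
    obtain ⟨d, hd⟩ := (MvPolynomial.ne_zero_iff).1 hχ
    refine (MvPowerSeries.order_le (d := d) (by rw [MvPolynomial.coeff_coe]; exact hd)).trans ?_
    have := le_totalDegree (mem_support_iff.2 hd)
    rw [Finsupp.degree]
    exact_mod_cast this
  have h1 := hle hφ
  have h2 := hle hψ
  have hφo : (φ.totalDegree : ℕ∞) ≤ (φ : MvPowerSeries σ R).order := by
    generalize (φ : MvPowerSeries σ R).order = a at *
    generalize (ψ : MvPowerSeries σ R).order = b at *
    cases a with
    | top => exact le_top
    | coe a =>
      cases b with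
      | top => simp at hord
      | coe b =>
        have e1 : a ≤ φ.totalDegree := by exact_mod_cast h1
        have e2 : b ≤ ψ.totalDegree := by exact_mod_cast h2
        have e3 : a + b = n := by exact_mod_cast hord
        have : φ.totalDegree ≤ a := by omega
        exact_mod_cast this
  intro d hd
  have h3 : (φ : MvPowerSeries σ R).order ≤ d.degree :=
    MvPowerSeries.order_le (by rw [MvPolynomial.coeff_coe]; exact hd)
  have h4 := le_totalDegree (mem_support_iff.2 hd)
  have h5 : φ.totalDegree ≤ d.degree := by exact_mod_cast hφo.trans h3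
  rw [weight_one_eq_degree]
  rw [Finsupp.degree] at h5 ⊢
  exact le_antisymm h4 h5

end homog

section linear

variable {σ τ k : Type*} [CommRing k]

/-- Scaling the argument of a homogeneous polynomial. -/
theorem eval_smul_of_isHomogeneous {φ : MvPolynomial σ k} {n : ℕ} (h : φ.IsHomogeneous n)
    (t : k) (z : σ → k) : eval (t • z) φ = t ^ n * eval z φ := by
  rw [eval_eq, eval_eq, Finset.mul_sum]
  refine Finset.sum_congr rfl fun d hd => ?_
  have hdeg : d.degree = n := by
    rw [← weight_one_eq_degree]; exact h (mem_support_iff.1 hd)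
  have : ∏ i ∈ d.support, (t • z) i ^ d i = t ^ n * ∏ i ∈ d.support, z i ^ d i := by
    have hs : ∑ i ∈ d.support, d i = n := by rw [← hdeg]; rfl
    simp only [Pi.smul_apply, smul_eq_mul, mul_pow, Finset.prod_mul_distrib]
    rw [Finset.prod_pow_eq_pow_sum, hs]
  rw [this]; ring

/-- A homogeneous polynomial of degree one evaluates as a linear form. -/
theorem eval_of_isHomogeneous_one [Fintype σ] {p : MvPolynomial σ k} (hp : p.IsHomogeneous 1)
    (y : σ → k) : eval y p = ∑ j, y j * coeff 0 (pderiv j p) := by
  have hE := hp.sum_X_mul_pderiv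
  have hc : ∀ j, pderiv j p = C (coeff 0 (pderiv j p)) := fun j => by
    have := hp.pderiv (i := j)
    exact totalDegree_eq_zero_iff_eq_C.1 ((totalDegree_zero_iff_isHomogeneous σ).2 this)
  have h1 := congrArg (eval y) hE
  rw [one_smul] at h1
  rw [← h1, map_sum]
  refine Finset.sum_congr rfl fun j _ => ?_
  rw [map_mul, eval_X]
  congr 1
  conv_lhs => rw [hc j]
  rw [eval_C]

/-- Chain rule for partial derivatives of a composite polynomial. -/
theorem pderiv_aeval [Fintype σ] (L : σ → MvPolynomial τ k) (f : MvPolynomial σ k) (j : τ) :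
    pderiv j (aeval L f) = ∑ i, aeval L (pderiv i f) * pderiv j (L i) := by
  classical
  induction f using MvPolynomial.induction_on with
  | C a => simp
  | add p q hp hq =>
    rw [map_add, map_add, hp, hq]
    simp only [map_add, add_mul, Finset.sum_add_distrib]
  | mul_X p n hp =>
    simp only [map_mul, aeval_X, Derivation.leibniz, pderiv_X, smul_eq_mul, map_add, hp]
    simp only [add_mul, Finset.sum_add_distrib, Finset.mul_sum, mul_assoc, Pi.single_apply,
      apply_ite (aeval L), map_one, map_zero, ite_mul, one_mul, zero_mul, mul_ite, mul_zero,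
      Finset.sum_ite_eq, Finset.mem_univ, if_true]

theorem eval_aeval (L : σ → MvPolynomial τ k) (f : MvPolynomial σ k) (y : τ → k) :
    eval y (aeval L f) = eval (fun i => eval y (L i)) f := by
  induction f using MvPolynomial.induction_on with
  | C a => simp
  | add p q hp hq => rw [map_add, map_add, map_add, hp, hq]
  | mul_X p n hp => rw [map_mul, map_mul, map_mul, hp, aeval_X, eval_X]

end linear

section linalg

variable {k : Type*} [Field k]

theorem rank_three_facts (A : Matrix (Fin 4) (Fin 3) k) (hA : A.rank = 3) :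
    (∀ y : Fin 3 → k, A.mulVec y = 0 → y = 0) ∧
    ∃ i₀ : Fin 4, ∀ u : Fin 4 → k, (∀ j, ∑ i, u i * A i j = 0) → u i₀ = 0 → u = 0 := by
  constructor
  · intro y hy
    have h1 := LinearMap.finrank_range_add_finrank_ker A.mulVecLin
    have h2 : Module.finrank k (LinearMap.range A.mulVecLin) = 3 := hA
    rw [h2, Module.finrank_fin_fun] at h1
    have h3 : Module.finrank k (LinearMap.ker A.mulVecLin) = 0 := by omega
    rw [Submodule.finrank_eq_zero] at h3
    have : y ∈ LinearMap.ker A.mulVecLin := by
      rw [LinearMap.mem_ker]; exact hy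
    rw [h3] at this
    exact (Submodule.mem_bot k).1 this
  · have hB : A.transpose.rank = 3 := by rw [Matrix.rank_transpose, hA]
    have h1 := LinearMap.finrank_range_add_finrank_ker A.transpose.mulVecLin
    have h2 : Module.finrank k (LinearMap.range A.transpose.mulVecLin) = 3 := hB
    rw [h2, Module.finrank_fin_fun] at h1
    have h3 : Module.finrank k (LinearMap.ker A.transpose.mulVecLin) = 1 := by omega
    obtain ⟨⟨n, hn⟩, hn0, hspan⟩ := finrank_eq_one_iff'.1 h3
    have hn0' : n ≠ 0 := fun h => hn0 (Subtype.ext h)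
    obtain ⟨i₀, hi₀⟩ := Function.ne_iff.1 hn0'
    refine ⟨i₀, fun u hu hu0 => ?_⟩
    have hmem : u ∈ LinearMap.ker A.transpose.mulVecLin := by
      rw [LinearMap.mem_ker]
      ext j
      simp only [Matrix.mulVecLin_apply, Matrix.mulVec, dotProduct, Matrix.transpose_apply,
        Pi.zero_apply]
      rw [← hu j]
      exact Finset.sum_congr rfl fun i _ => mul_comm _ _
    obtain ⟨c, hc⟩ := hspan ⟨u, hmem⟩
    have hc' : c • n = u := congrArg Subtype.val hc
    have : c * n i₀ = 0 := by
      have := congrFun hc' i₀
      simp only [Pi.smul_apply, smul_eq_mul] at this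
      rw [this, hu0]
    rcases mul_eq_zero.1 this with h | h
    · rw [← hc', h, zero_smul]
    · exact absurd h hi₀

end linalg

section zero

variable {k : Type*} [Field k]

theorem polyEval_aeval {σ : Type*} (g : σ → Polynomial k) (q : MvPolynomial σ k) (t : k) :
    Polynomial.eval t (aeval g q) = eval (fun j => Polynomial.eval t (g j)) q := by
  induction q using MvPolynomial.induction_on with
  | C a => simp
  | add p q hp hq => rw [map_add, map_add, Polynomial.eval_add, hp, hq]
  | mul_X p n hp => rw [map_mul, map_mul, Polynomial.eval_mul, hp, aeval_X, eval_X]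

theorem exists_plane_vectors (a : Fin 3 → k) :
    ∃ y1 y2 : Fin 3 → k, ∑ j, a j * y1 j = 0 ∧ ∑ j, a j * y2 j = 0 ∧ y2 ≠ 0 ∧
      ∀ t : k, y1 + t • y2 ≠ 0 := by
  by_cases h0 : a 0 = 0
  · by_cases h12 : a 1 = 0 ∧ a 2 = 0
    · refine ⟨![1, 0, 0], ![0, 1, 0], ?_, ?_, ?_, ?_⟩
      · simp [Fin.sum_univ_three, h0]
      · simp [Fin.sum_univ_three, h12.1]
      · intro h; have := congrFun h 1; simp at this
      · intro t h; have := congrFun h 0; simp at this
    · refine ⟨![1, 0, 0], ![0, a 2, -a 1], ?_, ?_, ?_, ?_⟩
      · simp [Fin.sum_univ_three, h0]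
      · simp [Fin.sum_univ_three]; ring
      · intro h
        apply h12
        have h1 := congrFun h 1
        have h2 := congrFun h 2
        simp at h1 h2
        exact ⟨h2, h1⟩
      · intro t h; have := congrFun h 0; simp at this
  · refine ⟨![a 1, -a 0, 0], ![a 2, 0, -a 0], ?_, ?_, ?_, ?_⟩
    · simp [Fin.sum_univ_three]; ring
    · simp [Fin.sum_univ_three]; ring
    · intro h; have := congrFun h 2; simp at this; exact h0 this
    · intro t h; have := congrFun h 1; simp at this; exact h0 this

theorem exists_common_zero [IsAlgClosed k] (a : Fin 3 → k) {q : MvPolynomial (Fin 3) k}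
    (hq : q.IsHomogeneous 2) :
    ∃ y : Fin 3 → k, y ≠ 0 ∧ ∑ j, a j * y j = 0 ∧ eval y q = 0 := by
  obtain ⟨y1, y2, h1, h2, hy2, hy12⟩ := exists_plane_vectors a
  have hlin : ∀ s t : k, ∑ j, a j * (s • y1 + t • y2) j = 0 := by
    intro s t
    have : ∀ j, a j * (s • y1 + t • y2) j = s * (a j * y1 j) + t * (a j * y2 j) := by
      intro j; simp only [Pi.add_apply, Pi.smul_apply, smul_eq_mul]; ring
    simp only [this, Finset.sum_add_distrib, ← Finset.mul_sum, h1, h2, mul_zero, add_zero]
  let P : Polynomial k := aeval (fun j => Polynomial.C (y1 j) + Polynomial.X * Polynomial.C (y2 j)) q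
  have hP : ∀ t : k, Polynomial.eval t P = eval (y1 + t • y2) q := by
    intro t
    rw [polyEval_aeval]
    have : (fun j => Polynomial.eval t (Polynomial.C (y1 j) + Polynomial.X * Polynomial.C (y2 j)))
        = y1 + t • y2 := by
      funext j
      simp only [Polynomial.eval_add, Polynomial.eval_C, Polynomial.eval_mul, Polynomial.eval_X,
        Pi.add_apply, Pi.smul_apply, smul_eq_mul]
    rw [this]
  by_cases hroot : ∃ t, P.IsRoot t
  · obtain ⟨t, ht⟩ := hroot
    refine ⟨y1 + t • y2, hy12 t, ?_, ?_⟩
    · have := hlin 1 t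
      rwa [one_smul] at this
    · rw [← hP]; exact ht
  · have hdeg : P.degree = 0 := by
      by_contra hd
      exact hroot (IsAlgClosed.exists_root P hd)
    have hc := Polynomial.eq_C_of_degree_eq_zero hdeg
    set c := P.coeff 0 with hcdef
    have hc0 : c ≠ 0 := by
      intro h
      apply hroot
      refine ⟨0, ?_⟩
      rw [Polynomial.IsRoot, hc, h]; simp
    have hconst : ∀ t : k, eval (y1 + t • y2) q = c := by
      intro t; rw [← hP, hc]; simp
    let Q : Polynomial k :=
      aeval (fun j => Polynomial.X * Polynomial.C (y1 j) + Polynomial.C (y2 j)) q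
        - Polynomial.C c * Polynomial.X ^ 2
    have hQ : ∀ s : k, Polynomial.eval s Q = eval (s • y1 + y2) q - c * s ^ 2 := by
      intro s
      simp only [Q, Polynomial.eval_sub, Polynomial.eval_mul, Polynomial.eval_C,
        Polynomial.eval_pow, Polynomial.eval_X]
      rw [polyEval_aeval]
      have : (fun j => Polynomial.eval s (Polynomial.X * Polynomial.C (y1 j) + Polynomial.C (y2 j)))
          = s • y1 + y2 := by
        funext j
        simp only [Polynomial.eval_add, Polynomial.eval_C, Polynomial.eval_mul, Polynomial.eval_X,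
          Pi.add_apply, Pi.smul_apply, smul_eq_mul]
      rw [this]
    have hQroot : ∀ s : k, s ≠ 0 → Q.IsRoot s := by
      intro s hs
      rw [Polynomial.IsRoot, hQ]
      have : s • y1 + y2 = s • (y1 + s⁻¹ • y2) := by
        rw [smul_add, smul_smul, mul_inv_cancel₀ hs, one_smul]
      rw [this, eval_smul_of_isHomogeneous hq, hconst]
      ring
    have hQ0 : Q = 0 := by
      apply Polynomial.eq_zero_of_infinite_isRoot
      refine Set.Infinite.mono (s := {(0 : k)}ᶜ) ?_ (Set.finite_singleton 0).infinite_compl
      intro s hs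
      exact hQroot s hs
    refine ⟨y2, hy2, h2, ?_⟩
    have := hQ 0
    rw [hQ0] at this
    simpa using this.symm

end zero

end Groth.Agent.H62.Cubic
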