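import Groth.Agent.H62.FFLead

/-!
Artin–Schreier normal form over a genus-zero function field in characteristic two over a perfect
constant field: every class `f + {g² + g}` contains an element all of whose poles have odd order.
-/

set_option autoImplicit false
set_option linter.unusedSectionVars false

namespace Groth.Agent.H62.FFAS

open FunFld WithZero Module IntermediateField Groth.Agent.H55 Polynomial
open Groth.Agent.H62.FFLead

variable {k K : Type*} [Field k] [Field K] [Algebra k K]

/-- bounding the pole order by the valuation -/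
theorem poleOrd_le_of_val_le (Q : Place k K) {x : K} {n : ℤ} (hn : 0 ≤ n) (h : Q.1 x ≤ exp n) :
    max (-Q.ord x) 0 ≤ n := by
  by_cases hx : x = 0
  · rw [hx, Place.ord_zero, neg_zero, max_self]; exact hn
  · have := (Place.le_ord_iff Q hx (-n)).mpr (by rwa [neg_neg])
    exact max_le (by omega) hn

/-- the valuation is bounded by the pole order -/
theorem val_le_exp_poleOrd (Q : Place k K) (x : K) : Q.1 x ≤ exp (max (-Q.ord x) 0) := by
  by_cases hx : x = 0
  · rw [hx, map_zero]; exact zero_le
  · rw [Place.val_eq_exp_neg_ord Q hx, exp_le_exp]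
    exact le_max_left _ _

/-- adding an element integral at `Q` does not increase the pole order at `Q` -/
theorem poleOrd_add_le (Q : Place k K) (f h : K) (hh : Q.1 h ≤ 1) :
    max (-Q.ord (f + h)) 0 ≤ max (-Q.ord f) 0 := by
  apply poleOrd_le_of_val_le Q (le_max_right _ _)
  refine (Q.1.map_add f h).trans (max_le (val_le_exp_poleOrd Q f) (hh.trans ?_))
  rw [← exp_zero, exp_le_exp]
  exact le_max_right _ _

/-- lowering an even pole order -/
theorem improve (hK : IsFunctionField k K) (hgenus : genus k K = 0) [PerfectField k]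
    (h2 : (2 : k) = 0) (f : K) (P : Place k K) (m : ℤ) (hm : 1 ≤ m) (hord : P.ord f = -(2 * m)) :
    ∃ g : K, (∀ Q : Place k K, Q ≠ P → Q.1 g ≤ 1) ∧ P.1 (f + g ^ 2 + g) ≤ exp (2 * m - 1) := by
  classical
  have hf0 : f ≠ 0 := by
    rintro rfl
    rw [Place.ord_zero] at hord
    omega
  obtain ⟨t, ht⟩ := Place.exists_uniformizer P
  have ht0 : t ≠ 0 := Place.ne_zero_of_val_eq_exp P ht
  have hvf : P.1 f = exp (2 * m) := by
    rw [Place.val_eq_exp_neg_ord P hf0, hord, neg_neg]
  -- the unit `u = f t^(2m)`
  set u : K := f * t ^ (2 * m) with hu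
  have hvu : P.1 u = 1 := by
    rw [hu, map_mul, map_zpow₀, hvf, ht, ← exp_zsmul, ← exp_add, ← exp_zero]
    congr 1
    simp
  have huO : u ∈ P.O := (Valuation.mem_valuationSubring_iff P.1 u).mpr hvu.le
  -- a square root of the residue of `u`
  have hfinF : FiniteDimensional k (IsLocalRing.ResidueField P.O) :=
    Place.finiteDimensional_residue hK P
  let alg : Algebra k (IsLocalRing.ResidueField P.O) := IsLocalRing.ResidueField.algebra _
  have halg : Algebra.IsAlgebraic k (IsLocalRing.ResidueField P.O) := Algebra.IsAlgebraic.of_finite k _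
  have hperf : PerfectField (IsLocalRing.ResidueField P.O) :=
    Algebra.IsAlgebraic.perfectField k
  have hchar : CharP (IsLocalRing.ResidueField P.O) 2 := by
    have h2F : (2 : IsLocalRing.ResidueField P.O) = 0 := by
      have : (2 : IsLocalRing.ResidueField P.O) = algebraMap k _ 2 := by rw [map_ofNat]
      rw [this, h2, map_zero]
    exact CharTwo.of_one_ne_zero_of_two_eq_zero one_ne_zero h2F
  have hpr : PerfectRing (IsLocalRing.ResidueField P.O) 2 := PerfectField.toPerfectRing 2
  obtain ⟨cbar, hcbar⟩ := surjective_frobenius (IsLocalRing.ResidueField P.O) 2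
    (IsLocalRing.residue P.O ⟨u, huO⟩)
  obtain ⟨c, rfl⟩ := IsLocalRing.residue_surjective cbar
  rw [frobenius_def, ← map_pow] at hcbar
  have hvc : P.1 (c : K) ≤ 1 := (Valuation.mem_valuationSubring_iff P.1 _).mp c.2
  have hres : P.1 ((c : K) ^ 2 - u) < 1 := by
    have h1 : IsLocalRing.residue P.O (c ^ 2 - ⟨u, huO⟩) = 0 := by
      rw [map_sub, hcbar, sub_self]
    exact (Place.residue_eq_zero_iff P _).mp h1
  -- the approximating element
  set w : K := (c : K) * t ^ (-m) with hw
  have hvw : P.1 w ≤ exp m := by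
    rw [hw, map_mul, map_zpow₀, ht, ← exp_zsmul]
    calc P.1 (c : K) * exp (-m • (-1 : ℤ)) ≤ 1 * exp (-m • (-1 : ℤ)) := by gcongr
      _ = exp m := by rw [one_mul]; congr 1; simp
  obtain ⟨g, hgL, hgw⟩ := exists_mem_L_approx hK P m (by rw [hgenus]; push_cast; nlinarith [Place.deg_pos hK P]) w hvw
  have hvg : P.1 g ≤ exp m := by
    have := mem_L.mp hgL P
    rwa [Finsupp.single_eq_same] at this
  refine ⟨g, ?_, ?_⟩
  · intro Q hQ
    have := mem_L.mp hgL Q
    rwa [Finsupp.single_apply, if_neg (Ne.symm hQ), exp_zero] at this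
  · -- `f + g² + g = (f - w²) - (g - w)(g + w) + 2 g² + g`
    have h2K : (2 : K) = 0 := by
      have : (2 : K) = algebraMap k K 2 := by rw [map_ofNat]
      rw [this, h2, map_zero]
    have hdecomp : f + g ^ 2 + g = (f - w ^ 2) + (g - w) * (g + w) + g := by
      have : f + g ^ 2 + g = (f - w ^ 2) + (g - w) * (g + w) + g + 2 * w ^ 2 := by ring
      rw [this, h2K, zero_mul, add_zero]
    have hfw : f - w ^ 2 = -(((c : K) ^ 2 - u) * t ^ (-(2 * m))) := by
      rw [hw, hu, mul_pow, ← zpow_natCast (t ^ (-m)) 2, ← zpow_mul, sub_mul, mul_assoc f,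
        ← zpow_add₀ ht0]
      have : (2 * m + -(2 * m)) = 0 := by ring
      rw [this, zpow_zero, mul_one]
      have h3 : (-m * ((2 : ℕ) : ℤ)) = -(2 * m) := by push_cast; ring
      rw [h3]
      ring
    have hv1 : P.1 (f - w ^ 2) ≤ exp (2 * m - 1) := by
      rw [hfw, Valuation.map_neg, map_mul, map_zpow₀, ht, ← exp_zsmul]
      have h4 : P.1 ((c : K) ^ 2 - u) ≤ exp (-1 : ℤ) := by
        by_cases h0 : (c : K) ^ 2 - u = 0
        · rw [h0, map_zero]; exact zero_le
        · have := (Place.ord_pos_iff P h0).mpr hres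
          rw [Place.val_eq_exp_neg_ord P h0, exp_le_exp]
          omega
      calc P.1 ((c : K) ^ 2 - u) * exp (-(2 * m) • (-1 : ℤ))
          ≤ exp (-1 : ℤ) * exp (-(2 * m) • (-1 : ℤ)) := by gcongr
        _ = exp (2 * m - 1) := by rw [← exp_add]; congr 1; simp; ring
    have hv2 : P.1 ((g - w) * (g + w)) ≤ exp (2 * m - 1) := by
      rw [map_mul]
      have h5 : P.1 (g + w) ≤ exp m := (P.1.map_add g w).trans (max_le hvg hvw)
      calc P.1 (g - w) * P.1 (g + w) ≤ exp (m - 1) * exp m := by gcongr
        _ = exp (2 * m - 1) := by rw [← exp_add]; congr 1; ring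
    have hv3 : P.1 g ≤ exp (2 * m - 1) := hvg.trans (exp_le_exp.mpr (by omega))
    rw [hdecomp]
    exact (P.1.map_add _ _).trans (max_le ((P.1.map_add _ _).trans (max_le hv1 hv2)) hv3)

/-- every Artin–Schreier class contains an element with only odd poles -/
theorem exists_odd_poles (hK : IsFunctionField k K) (hgenus : genus k K = 0) [PerfectField k]
    (h2 : (2 : k) = 0) (f : K) :
    ∃ g : K, ∀ P : Place k K, P.ord (f + g ^ 2 + g) < 0 → Odd (P.ord (f + g ^ 2 + g)) := by
  classical
  have h2K : (2 : K) = 0 := by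
    have : (2 : K) = algebraMap k K 2 := by rw [map_ofNat]
    rw [this, h2, map_zero]
  have key : ∀ n : ℕ, ∀ f : K, (poleDiv k f).deg.toNat = n →
      ∃ g : K, ∀ P : Place k K, P.ord (f + g ^ 2 + g) < 0 → Odd (P.ord (f + g ^ 2 + g)) := by
    intro n
    induction n using Nat.strong_induction_on with
    | _ n ih =>
      intro f hn
      by_cases hall : ∀ P : Place k K, P.ord f < 0 → Odd (P.ord f)
      · refine ⟨0, ?_⟩
        simpa using hall
      · push Not at hall
        obtain ⟨P, hneg, hnodd⟩ := hall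
        rw [Int.not_odd_iff_even] at hnodd
        obtain ⟨j, hj⟩ := hnodd
        have hm : 1 ≤ -j := by omega
        have hord : P.ord f = -(2 * (-j)) := by omega
        obtain ⟨g₁, hg₁, hP⟩ := improve hK hgenus h2 f P (-j) hm hord
        set f₁ := f + g₁ ^ 2 + g₁ with hf₁
        have hle : poleDiv k f₁ + Finsupp.single P 1 ≤ poleDiv k f := by
          intro Q
          rw [Finsupp.add_apply, poleDiv_apply hK, poleDiv_apply hK, Finsupp.single_apply]
          by_cases hQ : P = Q
          · subst hQ
            rw [if_pos rfl, hord]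
            have := poleOrd_le_of_val_le P (by omega) hP
            have h3 : max (- -(2 * -j)) 0 = 2 * -j := by
              rw [neg_neg]; exact max_eq_left (by omega)
            rw [h3]
            omega
          · rw [if_neg hQ, add_zero]
            have hQ' : Q.1 (g₁ ^ 2 + g₁) ≤ 1 := by
              have h4 := hg₁ Q (Ne.symm hQ)
              refine (Q.1.map_add _ _).trans (max_le ?_ h4)
              rw [map_pow]
              exact pow_le_one₀ zero_le h4
            have := poleOrd_add_le Q f (g₁ ^ 2 + g₁) hQ'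
            rwa [← add_assoc] at this
        have hdeg := Divisor.deg_mono hle
        rw [Divisor.deg_add, Divisor.deg_single, one_mul] at hdeg
        have hdegP : (1 : ℤ) ≤ P.deg := by exact_mod_cast Place.deg_pos hK P
        have h0 : 0 ≤ (poleDiv k f₁).deg := Divisor.deg_nonneg (poleDiv_nonneg f₁)
        have hlt : (poleDiv k f₁).deg.toNat < n := by
          rw [← hn]
          omega
        obtain ⟨g₂, hg₂⟩ := ih _ hlt f₁ rfl
        refine ⟨g₁ + g₂, ?_⟩
        have heq : f + (g₁ + g₂) ^ 2 + (g₁ + g₂) = f₁ + g₂ ^ 2 + g₂ := by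
          have : f + (g₁ + g₂) ^ 2 + (g₁ + g₂) = f₁ + g₂ ^ 2 + g₂ + 2 * (g₁ * g₂) := by
            rw [hf₁]; ring
          rw [this, h2K, zero_mul, add_zero]
        rw [heq]
        exact hg₂
  exact key _ f rfl

end Groth.Agent.H62.FFAS
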