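import Groth.Agent.H55.FFZeros

/-!
# Local analysis for Artin–Schreier extensions `y² + y = f` in characteristic two

For a place `P`, elements `a b f` and integers `n, d`: if `v(b) ≥ -n`, `v(a² + ab + b² f) ≥ -2n` and
`f` is either integral at `P` (`d = 0`) or has a pole of odd order `2d - 1`, then `v(a) ≥ -n` and
`v(b) ≥ d - n`.
-/

set_option autoImplicit false

namespace Groth.Agent.H62.FFASLocal

open FunFld WithZero Groth.Agent.H55

variable {k K : Type*} [Field k] [Field K] [Algebra k K]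

theorem exp_sq (n : ℤ) : (exp n : WithZero (Multiplicative ℤ)) ^ 2 = exp (2 * n) := by
  rw [← exp_nsmul]; congr 1

/-- `v(a² + ab) ≤ e^{2n}`, `v(b) ≤ e^n` ⟹ `v(a) ≤ e^n` -/
theorem val_le_of_sq_add_mul (P : Place k K) {a b : K} {n : ℤ} (hb : P.1 b ≤ exp n)
    (h : P.1 (a ^ 2 + a * b) ≤ exp (2 * n)) : P.1 a ≤ exp n := by
  by_contra h'
  push Not at h'
  have ha0 : 0 < P.1 a := lt_of_le_of_lt zero_le h'
  have h1 : P.1 (a * b) < P.1 (a ^ 2) := by
    rw [map_mul, map_pow, sq]
    exact mul_lt_mul_of_pos_left (hb.trans_lt h') ha0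
  have h2 : P.1 (a ^ 2 + a * b) = P.1 (a ^ 2) := Valuation.map_add_eq_of_lt_left P.1 h1
  rw [h2, map_pow, ← exp_sq] at h
  have := (pow_le_pow_iff_left₀ zero_le zero_le two_ne_zero).mp h
  exact absurd this (not_le.mpr h')

/-- the local lemma -/
theorem local_bound (P : Place k K) {a b f : K} {n d : ℤ}
    (hf : (P.1 f ≤ 1 ∧ d = 0) ∨ (f ≠ 0 ∧ 1 ≤ d ∧ P.ord f = -(2 * d - 1)))
    (hb : P.1 b ≤ exp n) (hN : P.1 (a ^ 2 + a * b + b ^ 2 * f) ≤ exp (2 * n)) :
    P.1 a ≤ exp n ∧ P.1 b ≤ exp (n - d) := by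
  have hsplit : a ^ 2 + a * b = (a ^ 2 + a * b + b ^ 2 * f) - b ^ 2 * f := by ring
  rcases hf with ⟨hf1, rfl⟩ | ⟨hf0, hd, hordf⟩
  · rw [sub_zero]
    refine ⟨?_, hb⟩
    apply val_le_of_sq_add_mul P hb
    rw [hsplit]
    refine (Valuation.map_sub _ _ _).trans (max_le hN ?_)
    rw [map_mul, map_pow, ← exp_sq]
    calc P.1 b ^ 2 * P.1 f ≤ exp n ^ 2 * 1 :=
          mul_le_mul' (pow_le_pow_left₀ zero_le hb 2) hf1
      _ = exp n ^ 2 := mul_one _
  · have hfval : P.1 f = exp (2 * d - 1) := by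
      rw [Place.val_eq_exp_neg_ord P hf0, hordf, neg_neg]
    have hb' : P.1 b ≤ exp (n - d) := by
      by_contra hcon
      push Not at hcon
      have hb0 : b ≠ 0 := by
        rintro rfl
        rw [map_zero] at hcon
        exact not_lt_zero hcon
      have hbval := Place.val_eq_exp_neg_ord P hb0
      rw [hbval, exp_lt_exp] at hcon
      set β := P.ord b with hβ
      have hbf : P.1 (b ^ 2 * f) = exp (-2 * β + 2 * d - 1) := by
        rw [map_mul, map_pow, hbval, hfval, exp_sq, ← exp_add]; congr 1; ring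
      have hlt : P.1 (a ^ 2 + a * b + b ^ 2 * f) < P.1 (b ^ 2 * f) := by
        refine hN.trans_lt ?_
        rw [hbf, exp_lt_exp]; omega
      have heqv : P.1 (a ^ 2 + a * b) = exp (-2 * β + 2 * d - 1) := by
        rw [hsplit, Valuation.map_sub_eq_of_lt_right P.1 hlt, hbf]
      have ha0 : a ≠ 0 := by
        rintro rfl
        rw [zero_pow two_ne_zero, zero_mul, add_zero, map_zero] at heqv
        exact exp_ne_zero heqv.symm
      have haval := Place.val_eq_exp_neg_ord P ha0
      set α := P.ord a with hα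
      have ha2 : P.1 (a ^ 2) = exp (-2 * α) := by
        rw [map_pow, haval, exp_sq]; congr 1; ring
      have hab : P.1 (a * b) = exp (-α - β) := by
        rw [map_mul, haval, hbval, ← exp_add]; congr 1
      rcases lt_trichotomy α β with hlt' | heq' | hgt'
      · have h1 : P.1 (a * b) < P.1 (a ^ 2) := by
          rw [ha2, hab, exp_lt_exp]; omega
        rw [Valuation.map_add_eq_of_lt_left P.1 h1, ha2, exp_inj] at heqv
        omega
      · have h1 : P.1 (a ^ 2 + a * b) ≤ exp (-2 * β) := by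
          refine (Valuation.map_add _ _ _).trans (max_le ?_ ?_)
          · rw [ha2, exp_le_exp]; omega
          · rw [hab, exp_le_exp]; omega
        rw [heqv, exp_le_exp] at h1
        omega
      · have h1 : P.1 (a ^ 2) < P.1 (a * b) := by
          rw [ha2, hab, exp_lt_exp]; omega
        rw [Valuation.map_add_eq_of_lt_right P.1 h1, hab, exp_inj] at heqv
        omega
    refine ⟨?_, hb'⟩
    have hbn : P.1 b ≤ exp n := hb'.trans (exp_le_exp.mpr (by omega))
    apply val_le_of_sq_add_mul P hbn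
    rw [hsplit]
    refine (Valuation.map_sub _ _ _).trans (max_le hN ?_)
    rw [map_mul, map_pow, hfval]
    calc P.1 b ^ 2 * exp (2 * d - 1) ≤ exp (n - d) ^ 2 * exp (2 * d - 1) :=
          mul_le_mul' (pow_le_pow_left₀ zero_le hb' 2) le_rfl
      _ = exp (2 * n - 1) := by rw [exp_sq, ← exp_add]; congr 1; ring
      _ ≤ exp (2 * n) := exp_le_exp.mpr (by omega)

end Groth.Agent.H62.FFASLocal
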