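import Groth.Agent.H62.FFQuad

/-!
# Conjugation in a quadratic extension: general form
-/

set_option autoImplicit false

namespace Groth.Agent.H62.FFQuad

open Module IntermediateField Polynomial

variable {K K' : Type*} [Field K] [Field K'] [Algebra K K']

/-- if `y ∉ K` and `y, y'` are roots of the same monic quadratic over `K`, some `K`-automorphism
sends `y` to `y'` -/
theorem exists_algEquiv_of_root (hdeg : finrank K K' = 2) {y y' : K'}
    (hy : y ∉ Set.range (algebraMap K K')) {p : K[X]} (hp : p.Monic) (hpd : p.natDegree = 2)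
    (hroot : aeval y p = 0) (hroot' : aeval y' p = 0) :
    ∃ σ : K' ≃ₐ[K] K', σ y = y' := by
  have hfd : FiniteDimensional K K' := Module.finite_of_finrank_pos (by omega)
  have hint : IsIntegral K y := IsIntegral.of_finite K y
  have hmin : minpoly K y = p :=
    (Polynomial.eq_of_monic_of_dvd_of_natDegree_le (minpoly.monic hint) hp
      (minpoly.dvd K y hroot) (by rw [hpd, natDegree_minpoly_eq_two hdeg hy])).symm
  have htop := adjoin_eq_top hdeg hy
  let e : K⟮y⟯ ≃ₐ[K] K' := (IntermediateField.equivOfEq htop).trans IntermediateField.topEquiv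
  let pb : PowerBasis K K' := (IntermediateField.adjoin.powerBasis hint).map e
  have hgen : pb.gen = y := by
    show e (IntermediateField.adjoin.powerBasis hint).gen = y
    rw [IntermediateField.adjoin.powerBasis_gen]
    rfl
  have h : aeval y' (minpoly K pb.gen) = 0 := by
    rw [hgen, hmin]; exact hroot'
  let σ₀ : K' →ₐ[K] K' := pb.lift y' h
  have hσ₀ : σ₀ y = y' := by
    have := pb.lift_gen y' h
    rwa [hgen] at this
  have halg : Algebra.IsAlgebraic K K' := Algebra.IsAlgebraic.of_finite K K'
  exact ⟨AlgEquiv.ofBijective σ₀ (Algebra.IsAlgebraic.algHom_bijective σ₀), hσ₀⟩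

end Groth.Agent.H62.FFQuad
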