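import Groth.Agent.H62.FFConormL
import Groth.Agent.H62.FFASLocal
import Groth.Agent.H62.FFQuad2
import Groth.Agent.H55.FFRiemannRoch
import Groth.Agent.H55.FFRational

/-!
# Genus of an Artin–Schreier extension `y² + y = f` of `k(x)` in characteristic two
-/

set_option autoImplicit false
set_option linter.unusedSectionVars false

namespace Groth.Agent.H62.FFASGenus

open FunFld WithZero Module Polynomial Groth.Agent.H55 Groth.Agent.H62.FFRat
  Groth.Agent.H62.FFConormL Groth.Agent.H62.FFASLocal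

variable {k K : Type*} [Field k] [Field K] [Algebra k K]
  [Algebra (RatFunc k) K] [IsScalarTower k (RatFunc k) K]

/-- the conjugation `y ↦ y + 1` -/
theorem exists_conj (h2 : (2 : K) = 0) (hdeg : finrank (RatFunc k) K = 2) {y : K}
    (hy : y ∉ Set.range (algebraMap (RatFunc k) K)) {f : RatFunc k}
    (heq : y ^ 2 + y = algebraMap (RatFunc k) K f) :
    ∃ σ : K ≃ₐ[RatFunc k] K, σ y = y + 1 := by
  have hp : (X ^ 2 + X - C f : (RatFunc k)[X]).Monic := by
    have h1 : (X ^ 2 + X - C f : (RatFunc k)[X]) = X ^ 2 + (X - C f) := by ring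
    rw [h1]
    apply Monic.add_of_left (monic_X_pow 2)
    rw [degree_X_pow, degree_X_sub_C]
    norm_num
  have hpd : (X ^ 2 + X - C f : (RatFunc k)[X]).natDegree = 2 := by
    have h1 : (X ^ 2 + X - C f : (RatFunc k)[X]) = X ^ 2 + (X - C f) := by ring
    rw [h1, natDegree_add_eq_left_of_natDegree_lt]
    · exact natDegree_X_pow 2
    · rw [natDegree_X_pow, natDegree_X_sub_C]; norm_num
  have hroot : aeval y (X ^ 2 + X - C f : (RatFunc k)[X]) = 0 := by
    rw [map_sub, map_add, map_pow, aeval_X, aeval_C, heq, sub_self]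
  have hroot' : aeval (y + 1) (X ^ 2 + X - C f : (RatFunc k)[X]) = 0 := by
    rw [map_sub, map_add, map_pow, aeval_X, aeval_C, ← heq]
    linear_combination (y + 1) * h2
  exact FFQuad.exists_algEquiv_of_root hdeg hy hp hpd hroot hroot'

/-- the divisor `E = ∑ d_P P` over the poles of `f`, `d_P = (1 - ord_P f)/2` -/
noncomputable def E (f : RatFunc k) : Divisor k (RatFunc k) :=
  ∑ P ∈ (FunFld.div k f).support with FunFld.div k f P < 0,
    Finsupp.single P ((1 - FunFld.div k f P) / 2)

theorem E_apply (f : RatFunc k) (P : Place k (RatFunc k)) :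
    E f P = if FunFld.div k f P < 0 then (1 - FunFld.div k f P) / 2 else 0 := by
  classical
  unfold E
  rw [Finsupp.finsetSum_apply]
  simp only [Finsupp.single_apply]
  rw [Finset.sum_ite_eq']
  by_cases h : FunFld.div k f P < 0
  · rw [if_pos h, if_pos]
    rw [Finset.mem_filter, Finsupp.mem_support_iff]
    exact ⟨h.ne, h⟩
  · rw [if_neg h, if_neg]
    rw [Finset.mem_filter]
    exact fun h' => h h'.2

theorem deg_E (f : RatFunc k) :
    (E f).deg = ∑ P ∈ (FunFld.div k f).support with FunFld.div k f P < 0,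
      (1 - FunFld.div k f P) / 2 * (P.deg : ℤ) := by
  unfold E
  rw [Divisor.deg_sum]
  exact Finset.sum_congr rfl fun P _ => Divisor.deg_single P _

/-- the local dichotomy at a place of `k(x)` -/
theorem local_cases {f : RatFunc k}
    (hodd : ∀ P : Place k (RatFunc k), FunFld.div k f P < 0 → Odd (FunFld.div k f P))
    (P : Place k (RatFunc k)) :
    (P.1 f ≤ 1 ∧ E f P = 0) ∨ (f ≠ 0 ∧ 1 ≤ E f P ∧ P.ord f = -(2 * E f P - 1)) := by
  have hK₀ := isFunctionField_ratFunc (k := k)
  have hdiv : FunFld.div k f P = P.ord f := Place.div_apply hK₀ f P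
  rw [E_apply]
  by_cases h : FunFld.div k f P < 0
  · right
    rw [if_pos h]
    obtain ⟨m, hm⟩ := hodd P h
    have hf0 : f ≠ 0 := by
      rintro rfl
      rw [hdiv, Place.ord_zero] at h
      exact lt_irrefl _ h
    rw [← hdiv]
    refine ⟨hf0, ?_, ?_⟩ <;> omega
  · left
    rw [if_neg h]
    refine ⟨?_, rfl⟩
    by_cases hf0 : f = 0
    · rw [hf0, map_zero]; exact zero_le
    · rw [← Place.ord_nonneg_iff P hf0, ← hdiv]; omega

section main

variable (hK : IsFunctionField k K) (h2 : (2 : K) = 0) (hdeg : finrank (RatFunc k) K = 2)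
  {y : K} (hy : y ∉ Set.range (algebraMap (RatFunc k) K)) {f : RatFunc k}
  (heq : y ^ 2 + y = algebraMap (RatFunc k) K f)
  (hodd : ∀ P : Place k (RatFunc k), FunFld.div k f P < 0 → Odd (FunFld.div k f P))

include h2 hdeg hy heq hodd in
/-- forward direction -/
theorem mem_L_of_mem_L_conorm (A : Divisor k (RatFunc k)) {a b : RatFunc k}
    (hz : algebraMap (RatFunc k) K a + algebraMap (RatFunc k) K b * y ∈ L (conorm K A)) :
    a ∈ L A ∧ b ∈ L (A - E f) := by
  have hK₀ := isFunctionField_ratFunc (k := k)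
  have hfd : FiniteDimensional (RatFunc k) K := Module.finite_of_finrank_pos (by omega)
  obtain ⟨σ, hσ⟩ := exists_conj h2 hdeg hy heq
  set z := algebraMap (RatFunc k) K a + algebraMap (RatFunc k) K b * y with hzdef
  have hσz : σ z = z + algebraMap (RatFunc k) K b := by
    rw [hzdef, map_add, map_mul, σ.commutes, σ.commutes, hσ]; ring
  have hσzL : σ z ∈ L (conorm K A) := L_conorm_stable hK₀ A σ hz
  have hbL : algebraMap (RatFunc k) K b ∈ L (conorm K A) := by
    have : algebraMap (RatFunc k) K b = σ z - z := by rw [hσz]; ring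
    rw [this]; exact sub_mem hσzL hz
  have hbA : b ∈ L A := (algebraMap_mem_L_conorm_iff hK₀ A).mp hbL
  have hN : algebraMap (RatFunc k) K (a ^ 2 + a * b + b ^ 2 * f) = z * σ z := by
    rw [hσz, hzdef, map_add, map_add, map_mul, map_mul, map_pow, map_pow, ← heq]
    linear_combination
      (-(algebraMap (RatFunc k) K a * algebraMap (RatFunc k) K b * y)) * h2
  rw [mem_L_conorm_iff hK₀] at hz hσzL
  have hloc : ∀ P : Place k (RatFunc k), P.1 a ≤ exp (A P) ∧ P.1 b ≤ exp (A P - E f P) := by
    intro P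
    apply local_bound P (local_cases hodd P) (hbA P)
    apply val_le_of_forall_isOverWith (K' := K) hK₀
    intro Q e he
    rw [hN, map_mul]
    calc Q.1 z * Q.1 (σ z) ≤ exp (A P) ^ e * exp (A P) ^ e :=
          mul_le_mul' (hz Q P e he) (hσzL Q P e he)
      _ = exp (2 * A P) ^ e := by
          rw [← mul_pow, ← exp_add]; congr 2; ring
  refine ⟨fun P => (hloc P).1, fun P => ?_⟩
  rw [Finsupp.sub_apply]
  exact (hloc P).2

include heq hodd in
/-- the order of `y` at a place above `P` -/
theorem val_y_le {Q : Place k K} {P : Place k (RatFunc k)} {e : ℕ} (he : IsOverWith Q P e) :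
    Q.1 y ≤ exp (E f P) ^ e := by
  have hfQ : Q.1 (y ^ 2 + y) = P.1 f ^ e := by rw [heq, he f]
  by_cases hy1 : Q.1 y ≤ 1
  · refine hy1.trans (one_le_pow₀ ?_)
    rw [← exp_zero, exp_le_exp]
    rcases local_cases hodd P with ⟨-, h0⟩ | ⟨-, h1, -⟩ <;> omega
  · push Not at hy1
    have h1 : Q.1 y < Q.1 (y ^ 2) := by
      rw [map_pow, sq]
      exact lt_mul_of_one_lt_left (zero_lt_one.trans hy1) hy1
    rw [Valuation.map_add_eq_of_lt_left Q.1 h1, map_pow] at hfQ
    rcases local_cases hodd P with ⟨hf1, -⟩ | ⟨hf0, hd, hord⟩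
    · exfalso
      have h3 : Q.1 y ^ 2 ≤ 1 := by rw [hfQ]; exact pow_le_one₀ zero_le hf1
      have h4 : (1 : WithZero (Multiplicative ℤ)) < Q.1 y ^ 2 := one_lt_pow₀ hy1 two_ne_zero
      exact absurd h3 (not_le.mpr h4)
    · have hfval : P.1 f = exp (2 * E f P - 1) := by
        rw [Place.val_eq_exp_neg_ord P hf0, hord, neg_neg]
      rw [← pow_le_pow_iff_left₀ zero_le zero_le two_ne_zero, hfQ, hfval, ← pow_mul, mul_comm e 2,
        pow_mul, exp_sq]
      exact pow_le_pow_left₀ zero_le (exp_le_exp.mpr (by omega)) e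

include heq hodd in
/-- backward direction -/
theorem mem_L_conorm_of_mem_L (A : Divisor k (RatFunc k)) {a b : RatFunc k}
    (ha : a ∈ L A) (hb : b ∈ L (A - E f)) (hfd : FiniteDimensional (RatFunc k) K) :
    algebraMap (RatFunc k) K a + algebraMap (RatFunc k) K b * y ∈ L (conorm K A) := by
  have hK₀ := isFunctionField_ratFunc (k := k)
  rw [mem_L_conorm_iff hK₀]
  intro Q P e he
  refine (Q.1.map_add _ _).trans (max_le ?_ ?_)
  · rw [he a]; exact pow_le_pow_left₀ zero_le (ha P) e
  · rw [map_mul, he b]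
    have h1 := hb P
    rw [Finsupp.sub_apply] at h1
    calc P.1 b ^ e * Q.1 y ≤ exp (A P - E f P) ^ e * exp (E f P) ^ e :=
          mul_le_mul' (pow_le_pow_left₀ zero_le h1 e) (val_y_le heq hodd he)
      _ = exp (A P) ^ e := by rw [← mul_pow, ← exp_add]; congr 2; ring

end main

end Groth.Agent.H62.FFASGenus
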