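import Groth.Agent.H62.FFASGenus

/-!
# Genus of an Artin–Schreier extension: the dimension count
-/

set_option autoImplicit false
set_option linter.unusedSectionVars false

namespace Groth.Agent.H62.FFASGenus

open FunFld WithZero Module Polynomial Groth.Agent.H55 Groth.Agent.H62.FFRat
  Groth.Agent.H62.FFConormL Groth.Agent.H62.FFASLocal

variable {k K : Type*} [Field k] [Field K] [Algebra k K]
  [Algebra (RatFunc k) K] [IsScalarTower k (RatFunc k) K]

/-- the parametrisation `(a, b) ↦ a + b y` -/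
noncomputable def Phi (y : K) (D₁ D₂ : Divisor k (RatFunc k)) : (L D₁ × L D₂) →ₗ[k] K :=
  (((IsScalarTower.toAlgHom k (RatFunc k) K).toLinearMap).comp (L D₁).subtype).coprod
    (((LinearMap.mulRight k y).comp (IsScalarTower.toAlgHom k (RatFunc k) K).toLinearMap).comp
      (L D₂).subtype)

theorem Phi_apply (y : K) (D₁ D₂ : Divisor k (RatFunc k)) (p : L D₁ × L D₂) :
    Phi y D₁ D₂ p = algebraMap (RatFunc k) K (p.1 : RatFunc k) +
      algebraMap (RatFunc k) K (p.2 : RatFunc k) * y := rfl

theorem Phi_injective {y : K} (hy : y ∉ Set.range (algebraMap (RatFunc k) K))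
    (D₁ D₂ : Divisor k (RatFunc k)) : Function.Injective (Phi (K := K) y D₁ D₂) := by
  rw [← LinearMap.ker_eq_bot, LinearMap.ker_eq_bot']
  intro p hp
  rw [Phi_apply] at hp
  have h0 : algebraMap (RatFunc k) K (p.1 : RatFunc k) +
      algebraMap (RatFunc k) K (p.2 : RatFunc k) * y =
      algebraMap (RatFunc k) K 0 + algebraMap (RatFunc k) K 0 * y := by
    rw [hp, map_zero, zero_mul, add_zero]
  obtain ⟨h1, h2⟩ := FFQuad.repr_unique hy h0
  exact Prod.ext (Subtype.ext h1) (Subtype.ext h2)

section main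

variable (hK : IsFunctionField k K) (h2 : (2 : K) = 0) (hdeg : finrank (RatFunc k) K = 2)
  {y : K} (hy : y ∉ Set.range (algebraMap (RatFunc k) K)) {f : RatFunc k}
  (heq : y ^ 2 + y = algebraMap (RatFunc k) K f)
  (hodd : ∀ P : Place k (RatFunc k), FunFld.div k f P < 0 → Odd (FunFld.div k f P))

include h2 hdeg hy heq hodd in
theorem range_Phi (A : Divisor k (RatFunc k)) :
    LinearMap.range (Phi (K := K) y A (A - E f)) = L (conorm K A) := by
  have hfd : FiniteDimensional (RatFunc k) K := Module.finite_of_finrank_pos (by omega)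
  apply le_antisymm
  · rintro _ ⟨p, rfl⟩
    rw [Phi_apply]
    exact mem_L_conorm_of_mem_L heq hodd A p.1.2 p.2.2 hfd
  · intro z hz
    obtain ⟨a, b, rfl⟩ := FFParity.exists_eq_add_mul hdeg hy z
    obtain ⟨ha, hb⟩ := mem_L_of_mem_L_conorm h2 hdeg hy heq hodd A hz
    exact ⟨(⟨a, ha⟩, ⟨b, hb⟩), rfl⟩

include h2 hdeg hy heq hodd in
theorem ell_conorm (A : Divisor k (RatFunc k)) :
    ell (conorm K A) = ell A + ell (A - E f) := by
  have hK₀ := isFunctionField_ratFunc (k := k)
  have hinj := Phi_injective (K := K) hy A (A - E f)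
  have e := LinearEquiv.ofInjective _ hinj
  have h1 := e.finrank_eq
  have hf1 : Module.Finite k (L A) := L_finite hK₀ A
  have hf2 : Module.Finite k (L (A - E f)) := L_finite hK₀ _
  rw [Module.finrank_prod] at h1
  unfold ell
  rw [← range_Phi h2 hdeg hy heq hodd A, ← h1]

theorem genus_ratFunc : genus k (RatFunc k) = 0 :=
  genus_eq_zero_of_adjoin_eq_top (isFunctionField_ratFunc (k := k)) RatFunc.adjoin_X

include hK h2 hdeg hy heq hodd in
/-- the genus of an Artin–Schreier extension in characteristic two -/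
theorem genus_eq : (genus k K : ℤ) = -1 + (E f).deg := by
  have hK₀ := isFunctionField_ratFunc (k := k)
  have hfd : FiniteDimensional (RatFunc k) K := Module.finite_of_finrank_pos (by omega)
  obtain ⟨N, hN⟩ := riemann hK
  obtain ⟨P₀⟩ := exists_place hK₀
  have hP₀ : 0 < P₀.deg := W.Place.deg_pos hK₀.weak P₀
  set n : ℕ := N.toNat + (E f).deg.toNat + 1 with hn
  set A : Divisor k (RatFunc k) := Finsupp.single P₀ (n : ℤ) with hA
  have hdegA : A.deg = n * P₀.deg := Divisor.deg_single P₀ _
  have hdegA' : (n : ℤ) ≤ A.deg := by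
    rw [hdegA]
    have : (1 : ℤ) ≤ P₀.deg := by exact_mod_cast hP₀
    nlinarith
  have hNle : N ≤ n := by have := Int.self_le_toNat N; omega
  have hEle : (E f).deg ≤ n := by have := Int.self_le_toNat (E f).deg; omega
  have hdegC : (conorm K A).deg = 2 * A.deg := by
    rw [FFConormL.deg_conorm hK₀, hdeg]; push_cast; ring
  have h1 := hN (conorm K A) (by rw [hdegC]; omega)
  have h3 := ell_of_deg_ge hK₀ A (by rw [genus_ratFunc]; push_cast; omega)
  have h4 := ell_of_deg_ge hK₀ (A - E f) (by
    rw [genus_ratFunc, Divisor.deg_sub]; push_cast; omega)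
  rw [genus_ratFunc, Divisor.deg_sub] at h4
  rw [genus_ratFunc] at h3
  rw [hdegC, ell_conorm h2 hdeg hy heq hodd A] at h1
  push_cast at h1 h3 h4
  omega

end main

end Groth.Agent.H62.FFASGenus
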