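import Mathlib
import Groth.Agent.H55.FFRiemannRoch
import Groth.Agent.H55.FFMisc
import Groth.Agent.H76.CurveFF

/-!
# helper62: base places of a complete linear system and the drop of the index of speciality
-/

set_option autoImplicit false
open FunFld Module Groth.Agent.H55

namespace Groth.Agent.H62.FFBaseLocus

variable {k : Type*} {K : Type*} [Field k] [Field K] [Algebra k K]

/-- the index of speciality `g - (deg D + 1 - ℓ(D))` is `ℓ(W - D)` -/
theorem index_eq_ell (hK : IsFunctionField k K) {W : Divisor k K} (hW : IsCanonical k K W)
    (D : Divisor k K) :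
    (genus k K : ℤ) - (D.deg + 1 - ell D) = ell (W - D) := by
  have := Groth.Agent.H55.riemann_roch hK hW D
  linarith

theorem sub_single_le (E : Divisor k K) (Q : Place k K) : E - Finsupp.single Q 1 ≤ E := by
  classical
  intro R
  rw [Finsupp.sub_apply, Finsupp.single_apply]
  split_ifs <;> omega

/-- the places at which a nonempty complete linear system does not drop are finite in number -/
theorem finite_base (hK : IsFunctionField k K) (E : Divisor k K) (hE : L E ≠ ⊥) :
    {Q : Place k K | ell (E - Finsupp.single Q 1) = ell E}.Finite := by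
  classical
  obtain ⟨w, hwE, hw0⟩ := Submodule.exists_mem_ne_zero_of_ne_bot hE
  refine Set.Finite.subset (E + div k w).support.finite_toSet ?_
  intro Q hQ
  change ell (E - Finsupp.single Q 1) = ell E at hQ
  haveI := L_finite hK E
  have hle : L (E - Finsupp.single Q 1) ≤ L E := Groth.Agent.H55.L_mono (sub_single_le E Q)
  have heq : L (E - Finsupp.single Q 1) = L E := by
    apply Submodule.eq_of_le_of_finrank_eq hle
    exact hQ
  have hw' : w ∈ L (E - Finsupp.single Q 1) := heq ▸ hwE
  rw [Groth.Agent.H55.mem_L_iff_div hK hw0] at hw'
  have h1 := hw' Q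
  rw [Finsupp.zero_apply, Finsupp.add_apply, Finsupp.sub_apply, Finsupp.single_apply,
    if_pos rfl] at h1
  rw [Finset.mem_coe, Finsupp.mem_support_iff, Finsupp.add_apply]
  omega

/-- at a rational place the complete linear system drops by at most one -/
theorem ell_sub_single (hK : IsFunctionField k K) (E : Divisor k K) {Q : Place k K}
    (hQ : Q.deg = 1) :
    ell (E - Finsupp.single Q 1) = ell E ∨ ell (E - Finsupp.single Q 1) + 1 = ell E := by
  by_cases h : ell (E - Finsupp.single Q 1) = ell E
  · exact Or.inl h
  · exact Or.inr (Groth.Agent.H76.Curve.ell_sub_single_add_one hK E hQ h)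

end Groth.Agent.H62.FFBaseLocus
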