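import Groth.Agent.H62.RH4
import Groth.Agent.H62.FFUnram2

/-!
# Galois counting II: the number of places above the rational points
-/

set_option autoImplicit false
set_option linter.unusedSectionVars false

namespace Groth.Agent.H62.RH

open FunFld WithZero Module Groth.Agent.H55
open scoped IntermediateField

attribute [-instance] FunFld.Place.algRes

section unram

variable {k K K' : Type*} [Field k] [Field K] [Field K'] [Algebra k K] [Algebra K K']
  [Algebra k K'] [IsScalarTower k K K']

/-- an unramified place has ramification index one -/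
theorem eq_one_of_surjective {Q : Place k K'} {P : Place k K} {e : ℕ} (he : IsOverWith Q P e)
    (hs : Function.Surjective (Q.1.comap (algebraMap K K'))) : e = 1 := by
  obtain ⟨x, hx⟩ := hs (exp (-1 : ℤ))
  have h1 : Q.1 (algebraMap K K' x) = exp (-1 : ℤ) := hx
  rw [he x] at h1
  have hx0 : P.1 x ≠ 0 := by
    intro h0
    rw [h0, zero_pow (isOverWith_pos he).ne'] at h1
    exact exp_ne_zero h1.symm
  obtain ⟨n, hn⟩ : ∃ n : ℤ, P.1 x = exp n := ⟨_, (exp_log hx0).symm⟩
  rw [hn, ← exp_nsmul, exp_inj] at h1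
  have h2 : (e : ℤ) * n = -1 := by simpa using h1
  have h3 : (e : ℤ) ∣ 1 := ⟨-n, by linarith⟩
  have h4 := Int.eq_one_of_dvd_one (by positivity) h3
  exact_mod_cast h4

/-- over an algebraically closed constant field, an unramified place has exactly `[K' : K]`
places above it -/
theorem card_over_of_unramified [IsAlgClosed k] [FiniteDimensional K K']
    (hK : IsFunctionField k K) (hK' : IsFunctionField k K') (P : Place k K)
    (hP : ∀ Q : Place k K', IsOver Q P → Function.Surjective (Q.1.comap (algebraMap K K')))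
    (Qs : Finset (Place k K')) (hQs : ∀ Q, Q ∈ Qs ↔ IsOver Q P) :
    Qs.card = finrank K K' := by
  have h1 := (sum_ramIdx_mul_deg (K' := K') hK P).2 Qs hQs
  rw [Place.deg_eq_one_of_isAlgClosed hK P, mul_one] at h1
  rw [← h1, Finset.card_eq_sum_ones]
  apply Finset.sum_congr rfl
  intro Q hQ
  have hover := (hQs Q).mp hQ
  have he := isOverWith_ramIdx hover
  rw [eq_one_of_surjective he (hP Q hover), Place.deg_eq_one_of_isAlgClosed hK' Q]

end unram

section count

variable {kb Lb Eb : Type*} [Field kb] [Field Lb] [Field Eb] [Algebra kb Lb] [Algebra kb Eb]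
  [Algebra Lb Eb] [IsScalarTower kb Lb Eb]

/-- a translate of a generator is a generator -/
theorem adjoin_sub_eq_top {x : Lb} (hx : kb⟮x⟯ = ⊤) (c : kb) :
    kb⟮x - algebraMap kb Lb c⟯ = ⊤ := by
  rw [eq_top_iff, ← hx, IntermediateField.adjoin_simple_le_iff]
  have h1 : x = (x - algebraMap kb Lb c) + algebraMap kb Lb c := by ring
  have h2 : (x - algebraMap kb Lb c) + algebraMap kb Lb c ∈ kb⟮x - algebraMap kb Lb c⟯ :=
    add_mem (IntermediateField.mem_adjoin_simple_self kb _)
      (IntermediateField.algebraMap_mem _ c)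
  rwa [← h1] at h2

/-- the places above the point `x = c` are the places above a place of `Lb` -/
theorem exists_place_pt [FiniteDimensional Lb Eb] (hLb : IsFunctionField kb Lb) {x : Lb}
    (hx : kb⟮x⟯ = ⊤) (c : kb) :
    ∃ P : Place kb Lb, ∀ Q : Place kb Eb,
      Q.1 (algebraMap Lb Eb (x - algebraMap kb Lb c)) < 1 ↔ IsOver Q P := by
  have hytop := adjoin_sub_eq_top hx c
  have hytr : Transcendental kb (x - algebraMap kb Lb c) :=
    transcendental_of_adjoin_eq_top hLb hytop
  obtain ⟨P, hP⟩ := exists_zero hLb hytr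
  refine ⟨P, fun Q => ⟨fun hQ => ?_, fun hQ => ?_⟩⟩
  · have : Algebra.IsAlgebraic Lb Eb := Algebra.IsAlgebraic.of_finite Lb Eb
    obtain ⟨P', e, he⟩ := exists_place_under hLb Q
    have hP' : P'.1 (x - algebraMap kb Lb c) < 1 := (isOverWith_lt_one_iff he _).mp hQ
    have := (FFRat.zero_of_adjoin_eq_top hLb.weak hytop hytr P hP).2.2 P' hP'
    rw [← this]
    exact ⟨e, he⟩
  · obtain ⟨e, he⟩ := hQ
    exact (isOverWith_lt_one_iff he _).mpr hP

variable [IsAlgClosed kb] [FiniteDimensional Lb Eb] [Algebra.IsSeparable Lb Eb]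

/-- **(C2)** the number of places above the points `x = c`, `c ∈ C` -/
theorem card_over_points_ge (hLb : IsFunctionField kb Lb) (hEb : IsFunctionField kb Eb) {x : Lb}
    (hx : kb⟮x⟯ = ⊤) (C : Finset kb) :
    {Q : Place kb Eb | ∃ c ∈ C, Q.1 (algebraMap Lb Eb (x - algebraMap kb Lb c)) < 1}.Finite ∧
    finrank Lb Eb * C.card ≤
      Set.ncard {Q : Place kb Eb |
        ∃ c ∈ C, Q.1 (algebraMap Lb Eb (x - algebraMap kb Lb c)) < 1} +
      finrank Lb Eb *
        Set.ncard {Q : Place kb Eb | ¬ Function.Surjective (Q.1.comap (algebraMap Lb Eb))} := by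
  classical
  have hbad := FFUnram.finite_ramified (K' := Eb) hLb
  set Bad := {Q : Place kb Eb | ¬ Function.Surjective (Q.1.comap (algebraMap Lb Eb))} with hBad
  choose P hP using fun c => exists_place_pt (Eb := Eb) hLb hx c
  have hfin : ∀ c, {Q : Place kb Eb | IsOver Q (P c)}.Finite := fun c =>
    (sum_ramIdx_mul_deg (K' := Eb) hLb (P c)).1
  let Tc : kb → Finset (Place kb Eb) := fun c => (hfin c).toFinset
  have hTc : ∀ c Q, Q ∈ Tc c ↔ Q.1 (algebraMap Lb Eb (x - algebraMap kb Lb c)) < 1 := by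
    intro c Q
    rw [Set.Finite.mem_toFinset, Set.mem_ofPred_eq, hP c Q]
  have hTc' : ∀ c Q, Q ∈ Tc c ↔ IsOver Q (P c) := by
    intro c Q
    rw [Set.Finite.mem_toFinset, Set.mem_ofPred_eq]
  have hset : {Q : Place kb Eb | ∃ c ∈ C, Q.1 (algebraMap Lb Eb (x - algebraMap kb Lb c)) < 1} =
      ↑(C.biUnion Tc) := by
    ext Q
    simp only [Set.mem_ofPred_eq, Finset.coe_biUnion, Set.mem_iUnion, Finset.mem_coe, hTc,
      exists_prop]
  have hdisj : (C : Set kb).PairwiseDisjoint Tc := by
    intro c _ c' _ hne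
    rw [Function.onFun, Finset.disjoint_left]
    intro Q hQ hQ'
    rw [hTc] at hQ hQ'
    have h1 : algebraMap Lb Eb (x - algebraMap kb Lb c') - algebraMap Lb Eb (x - algebraMap kb Lb c)
        = algebraMap kb Eb (c - c') := by
      rw [← map_sub, IsScalarTower.algebraMap_apply kb Lb Eb (c - c'), map_sub (algebraMap kb Lb)]
      congr 1
      ring
    have h2 : Q.1 (algebraMap kb Eb (c - c')) < 1 := by
      rw [← h1]
      exact (Valuation.map_sub _ _ _).trans_lt (max_lt hQ' hQ)
    rw [Place.val_algebraMap_eq_one Q (sub_ne_zero.mpr hne)] at h2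
    exact lt_irrefl _ h2
  rw [hset]
  refine ⟨Finset.finite_toSet _, ?_⟩
  rw [Set.ncard_coe_finset, Finset.card_biUnion hdisj]
  -- the key inequality for every `c`
  have hkey : ∀ c ∈ C, finrank Lb Eb ≤
      (Tc c).card + finrank Lb Eb * ((Tc c) ∩ hbad.toFinset).card := by
    intro c _
    by_cases hc : (Tc c) ∩ hbad.toFinset = ∅
    · rw [hc, Finset.card_empty, mul_zero, add_zero]
      apply le_of_eq
      symm
      apply card_over_of_unramified hLb hEb (P c) _ (Tc c) (hTc' c)
      intro Q hQ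
      by_contra hcon
      have : Q ∈ (Tc c) ∩ hbad.toFinset := by
        rw [Finset.mem_inter, hTc', Set.Finite.mem_toFinset]
        exact ⟨hQ, hcon⟩
      rw [hc] at this
      exact absurd this (Finset.notMem_empty Q)
    · have h1 : 1 ≤ ((Tc c) ∩ hbad.toFinset).card :=
        Finset.card_pos.mpr (Finset.nonempty_iff_ne_empty.mpr hc)
      calc finrank Lb Eb = finrank Lb Eb * 1 := (mul_one _).symm
        _ ≤ finrank Lb Eb * ((Tc c) ∩ hbad.toFinset).card := Nat.mul_le_mul_left _ h1
        _ ≤ _ := Nat.le_add_left _ _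
  have hsum : ∑ c ∈ C, ((Tc c) ∩ hbad.toFinset).card ≤ Set.ncard Bad := by
    rw [← Finset.card_biUnion]
    · rw [Set.ncard_eq_toFinset_card Bad hbad]
      apply Finset.card_le_card
      intro Q hQ
      rw [Finset.mem_biUnion] at hQ
      obtain ⟨c, _, hQ⟩ := hQ
      exact (Finset.mem_inter.mp hQ).2
    · intro c hc c' hc' hne
      exact (hdisj hc hc' hne).mono Finset.inter_subset_left Finset.inter_subset_left
  calc finrank Lb Eb * C.card = ∑ _c ∈ C, finrank Lb Eb := by
        rw [Finset.sum_const, smul_eq_mul, mul_comm]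
    _ ≤ ∑ c ∈ C, ((Tc c).card + finrank Lb Eb * ((Tc c) ∩ hbad.toFinset).card) :=
        Finset.sum_le_sum hkey
    _ = ∑ c ∈ C, (Tc c).card + finrank Lb Eb * ∑ c ∈ C, ((Tc c) ∩ hbad.toFinset).card := by
        rw [Finset.sum_add_distrib, Finset.mul_sum]
    _ ≤ _ := Nat.add_le_add_left (Nat.mul_le_mul_left _ hsum) _

end count

end Groth.Agent.H62.RH
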