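import Groth.Agent.H62.FFUniq4
import Groth.Agent.H62.RH5
import Groth.Agent.H62.FFSepPlaces1

/-!
# helper62: the Castelnuovo–Severi inequality for two subfields of index two

If a function field `K/k` (`k` algebraically closed of characteristic zero) has two distinct
subfields `F₁, F₂` of index two, then `g(K) ≤ 2 g(F₁) + 2 g(F₂) + 1`.
-/

set_option autoImplicit false
set_option linter.unusedSectionVars false
set_option linter.style.haveILetI false

namespace Groth.Agent.H62.FFCS

open FunFld WithZero Module IntermediateField Groth.Agent.H55 Groth.Agent.H62.FFTower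
  Groth.Agent.H62.FFExtDeg Groth.Agent.H62.FFConormL Groth.Agent.H62.FFUniq

attribute [-instance] FunFld.Place.algRes

section count

variable {k F K : Type*} [Field k] [Field F] [Field K] [Algebra k F] [Algebra k K] [Algebra F K]
  [IsScalarTower k F K]

/-- a function in `L(A')` outside a subfield `F` of index two bounds the genus:
`g(K) ≤ 2 g(F) - 1 + deg A'` -/
theorem genus_le_of_notMem_range [FiniteDimensional F K] (hF : IsFunctionField k F)
    (hK : IsFunctionField k K) (hdeg : finrank F K = 2) {t : K} {A' : Divisor k K}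
    (hA' : 0 ≤ A') (ht : t ∈ L A') (htr : t ∉ Set.range (algebraMap F K)) :
    (genus k K : ℤ) ≤ 2 * genus k F - 1 + A'.deg := by
  classical
  obtain ⟨P₁⟩ := exists_place hF
  have hd : (1 : ℤ) ≤ P₁.deg := by exact_mod_cast Place.deg_pos hF P₁
  set m : ℤ := 2 * genus k F + genus k K + 1 with hm
  set B : Divisor k F := Finsupp.single P₁ m with hB
  have hBdeg : B.deg = m * P₁.deg := Divisor.deg_single P₁ m
  have hm0 : 0 ≤ m := by positivity
  have hBm : m ≤ B.deg := by
    rw [hBdeg]
    nlinarith
  have hA'deg : 0 ≤ A'.deg := Divisor.deg_nonneg hA'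
  have h1 := ell_of_deg_ge hF B (by linarith)
  have h2 := ell_of_deg_ge hK (conorm K B + A') (by
    rw [Divisor.deg_add, FFConormL.deg_conorm hF, hdeg]
    push_cast
    linarith)
  rw [Divisor.deg_add, FFConormL.deg_conorm hF, hdeg] at h2
  haveI := L_finite hK (conorm K B + A')
  have h3 := Submodule.finrank_mono (range_Phi_le hF B hA' ht)
  rw [finrank_range_Phi hF B htr] at h3
  have h4 : ((2 * ell B : ℕ) : ℤ) ≤ ell (conorm K B + A') := by
    unfold ell at *
    exact_mod_cast h3
  push_cast at h1 h2 h4
  linarith

end count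

section gen

variable {k F : Type*} [Field k] [Field F] [Algebra k F]

theorem exists_not_mem_span_one' {V : Submodule k F} [FiniteDimensional k V]
    (hV : 2 ≤ finrank k V) :
    ∃ y₁ ∈ V, y₁ ∉ Submodule.span k {(1 : F)} := by
  classical
  by_contra hcon
  push Not at hcon
  have hle : V ≤ Submodule.span k {(1 : F)} := fun y hy => hcon y hy
  have h1 := Submodule.finrank_mono hle
  have h2 : finrank k (Submodule.span k ({(1 : F)} : Set F)) = 1 :=
    finrank_span_singleton one_ne_zero
  omega

/-- over an algebraically closed field, every place `P` carries a nonconstant function with a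
pole of order at most `g + 1` at `P` and no other pole -/
theorem exists_transcendental_mem_L [IsAlgClosed k] (hF : IsFunctionField k F) (P : Place k F) :
    ∃ t : F, t ∈ L (Finsupp.single P ((genus k F : ℤ) + 1) : Divisor k F) ∧
      Transcendental k t := by
  classical
  obtain ⟨W, hW⟩ := exists_canonical hF
  set D : Divisor k F := Finsupp.single P ((genus k F : ℤ) + 1) with hD
  have hDdeg : D.deg = (genus k F : ℤ) + 1 :=
    deg_single_of_deg_one (Place.deg_eq_one_of_isAlgClosed hF P) _
  have h1 := riemann_roch hF hW D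
  rw [hDdeg] at h1
  have h2 : 2 ≤ ell D := by
    have : (2 : ℤ) ≤ ell D := by
      rw [h1]
      have : (0 : ℤ) ≤ ell (W - D) := by positivity
      linarith
    exact_mod_cast this
  haveI := L_finite hF D
  obtain ⟨y, hyL, hy⟩ := exists_not_mem_span_one' (V := L D) h2
  rw [mem_span_one_iff] at hy
  exact ⟨y, hyL, fun halg => hy (hF.2 y halg)⟩

/-- a transcendental function with poles only at `P` has a pole at `P` -/
theorem ord_neg_of_mem_L_single (hF : IsFunctionField k F) {P : Place k F} {n : ℤ} {t : F}
    (ht : t ∈ L (Finsupp.single P n : Divisor k F)) (htr : Transcendental k t) :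
    P.ord t < 0 := by
  classical
  have ht0 : t ≠ 0 := fun h => htr (h ▸ isAlgebraic_zero)
  by_contra hcon
  push Not at hcon
  have hmem : t ∈ L (0 : Divisor k F) := by
    rw [mem_L_iff_ord ht0]
    intro Q
    rw [Finsupp.zero_apply, neg_zero]
    by_cases hQ : Q = P
    · rw [hQ]
      exact hcon
    · have := (mem_L_iff_ord ht0).mp ht Q
      rwa [Finsupp.single_apply, if_neg (fun h => hQ h.symm), neg_zero] at this
  rw [L_zero hF, Submodule.mem_one] at hmem
  obtain ⟨c, hc⟩ := hmem
  exact htr (hc ▸ isAlgebraic_algebraMap c)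

/-- **generation by functions with a single pole**: over an algebraically closed field of
characteristic zero, a proper intermediate field misses some function with a single pole of
order at most `g + 1` -/
theorem exists_mem_L_notMem [IsAlgClosed k] [CharZero k] (hF : IsFunctionField k F)
    (S : IntermediateField k F) (hS : S ≠ ⊤) :
    ∃ (P : Place k F) (t : F),
      t ∈ L (Finsupp.single P ((genus k F : ℤ) + 1) : Divisor k F) ∧ t ∉ S := by
  classical
  by_contra hcon
  push Not at hcon
  -- `F` is finite over `S`
  obtain ⟨P₀⟩ := exists_place hF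
  obtain ⟨t₀, ht₀L, ht₀tr⟩ := exists_transcendental_mem_L hF P₀
  have ht₀S : t₀ ∈ S := hcon P₀ t₀ ht₀L
  haveI := finiteDimensional_adjoin_of_transcendental hF ht₀tr
  have hle : k⟮t₀⟯ ≤ S := by
    rw [adjoin_simple_le_iff]
    exact ht₀S
  letI alg : Algebra k⟮t₀⟯ S := (IntermediateField.inclusion hle).toRingHom.toAlgebra
  haveI : IsScalarTower k⟮t₀⟯ S F := IsScalarTower.of_algebraMap_eq (fun x => rfl)
  haveI hfin : FiniteDimensional S F := Module.Finite.of_restrictScalars_finite k⟮t₀⟯ S F
  have hSF : IsFunctionField k S := FFInvol.isFunctionField_of_finite hF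
  haveI : CharZero S := charZero_of_injective_algebraMap (algebraMap k S).injective
  haveI : Algebra.IsAlgebraic S F := Algebra.IsAlgebraic.of_finite S F
  haveI : Algebra.IsSeparable S F := Algebra.IsAlgebraic.isSeparable_of_perfectField
  have hdeg2 : 2 ≤ finrank S F := by
    have hpos : 0 < finrank S F := Module.finrank_pos
    have hne1 : finrank S F ≠ 1 := fun h1 => hS (IntermediateField.finrank_eq_one_iff_eq_top.mp h1)
    omega
  -- every place is ramified
  have hram : ∀ P : Place k F, ¬ Function.Surjective (P.1.comap (algebraMap S F)) := by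
    intro P hsurj
    obtain ⟨t, htL, httr⟩ := exists_transcendental_mem_L hF P
    have htS : t ∈ S := hcon P t htL
    have ht0 : t ≠ 0 := fun h => httr (h ▸ isAlgebraic_zero)
    obtain ⟨p, e, he⟩ := exists_place_under hSF P
    have hordP : P.ord t < 0 := ord_neg_of_mem_L_single hF htL httr
    have hts : algebraMap S F ⟨t, htS⟩ = t := rfl
    have hordp : p.ord (⟨t, htS⟩ : S) < 0 := by
      have h1 := isOverWith_ord_eq he (⟨t, htS⟩ : S)
      rw [hts] at h1
      have hepos : (0 : ℤ) < e := by exact_mod_cast isOverWith_pos he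
      by_contra h2
      push Not at h2
      have : (0 : ℤ) ≤ e * p.ord (⟨t, htS⟩ : S) := mul_nonneg hepos.le h2
      omega
    have honly : ∀ Q : Place k F, Q ∈ ({P} : Finset (Place k F)) ↔ IsOver Q p := by
      intro Q
      rw [Finset.mem_singleton]
      constructor
      · rintro rfl
        exact ⟨e, he⟩
      · rintro ⟨e', he'⟩
        by_contra hQ
        have h1 := isOverWith_ord_eq he' (⟨t, htS⟩ : S)
        rw [hts] at h1
        have hepos : (0 : ℤ) < e' := by exact_mod_cast isOverWith_pos he'
        have h2 := (mem_L_iff_ord ht0).mp htL Q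
        rw [Finsupp.single_apply, if_neg (fun h => hQ h.symm), neg_zero] at h2
        have : (e' : ℤ) * p.ord (⟨t, htS⟩ : S) < 0 := mul_neg_of_pos_of_neg hepos hordp
        omega
    have hsum := (sum_ramIdx_mul_deg (K' := F) hSF p).2 {P} honly
    rw [Finset.sum_singleton, ramIdx_eq he, Place.deg_eq_one_of_isAlgClosed hF P,
      Place.deg_eq_one_of_isAlgClosed hSF p, mul_one, mul_one] at hsum
    have he1 := Groth.Agent.H62.RH.eq_one_of_surjective he hsurj
    omega
  have hfinite := FFUnram.finite_ramified (k := k) (K := S) (K' := F) hSF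
  have huniv : {Q : Place k F | ¬ Function.Surjective (Q.1.comap (algebraMap S F))} = Set.univ :=
    Set.eq_univ_of_forall hram
  rw [huniv] at hfinite
  haveI := FFSepPlaces.infinite_places hF
  exact Set.infinite_univ hfinite

end gen

section cs

variable {k F₁ F₂ K : Type*} [Field k] [Field F₁] [Field F₂] [Field K] [Algebra k F₁]
  [Algebra k F₂] [Algebra k K] [Algebra F₁ K] [Algebra F₂ K] [IsScalarTower k F₁ K]
  [IsScalarTower k F₂ K]

/-- **Castelnuovo–Severi for two distinct subfields of index two** -/
theorem castelnuovo_severi_two [IsAlgClosed k] [CharZero k] [FiniteDimensional F₁ K]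
    [FiniteDimensional F₂ K] (hF₁ : IsFunctionField k F₁) (hF₂ : IsFunctionField k F₂)
    (hK : IsFunctionField k K) (hdeg₁ : finrank F₁ K = 2) (hdeg₂ : finrank F₂ K = 2)
    (hne : Set.range (algebraMap F₁ K) ≠ Set.range (algebraMap F₂ K)) :
    (genus k K : ℤ) ≤ 2 * genus k F₁ + 2 * genus k F₂ + 1 := by
  classical
  have hS : pullField k F₁ F₂ K ≠ ⊤ := by
    intro htop
    have h1 : Set.range (algebraMap F₂ K) ⊆ Set.range (algebraMap F₁ K) := by
      rintro _ ⟨z, rfl⟩
      exact mem_pullField.mp (htop ▸ mem_top (x := z))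
    exact hne (Set.Subset.antisymm (range_eq_of_range_le hdeg₂ hdeg₁ h1) h1)
  obtain ⟨P, t, htL, htS⟩ := exists_mem_L_notMem hF₂ (pullField k F₁ F₂ K) hS
  rw [mem_pullField] at htS
  set D : Divisor k F₂ := Finsupp.single P ((genus k F₂ : ℤ) + 1) with hD
  have hD0 : 0 ≤ D := by
    intro Q
    rw [Finsupp.zero_apply, hD, Finsupp.single_apply]
    split_ifs
    · positivity
    · exact le_rfl
  have hDdeg : D.deg = (genus k F₂ : ℤ) + 1 :=
    deg_single_of_deg_one (Place.deg_eq_one_of_isAlgClosed hF₂ P) _
  have hA'0 : 0 ≤ conorm K D := conorm_nonneg hF₂ hD0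
  have hA'deg : (conorm K D).deg = 2 * ((genus k F₂ : ℤ) + 1) := by
    rw [FFConormL.deg_conorm hF₂, hdeg₂, hDdeg]
    norm_num
  have htL' : algebraMap F₂ K t ∈ L (conorm K D) := (algebraMap_mem_L_conorm_iff hF₂ D).mpr htL
  have := genus_le_of_notMem_range hF₁ hK hdeg₁ hA'0 htL' htS
  rw [hA'deg] at this
  linarith

end cs

end Groth.Agent.H62.FFCS
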