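import Groth.Agent.H62.FFIntClos2
import Mathlib.RingTheory.TensorProduct.Free

/-!
# The conductor of `O_P[k']` in its integral closure, for a constant field extension
-/

set_option autoImplicit false
set_option linter.unusedSectionVars false

namespace Groth.Agent.H62.FFCondConst

open FunFld WithZero Module Groth.Agent.H55 Groth.Agent.H62.FFIntClos
open scoped TensorProduct

variable {k k' K K' : Type*} [Field k] [Field k'] [Field K] [Field K']
  [Algebra k k'] [Algebra k K] [Algebra K K'] [Algebra k' K'] [Algebra k K']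
  [IsScalarTower k k' K'] [IsScalarTower k K K']

/-- a `K`-basis of `K' = k' ⊗ K` coming from a `k`-basis of `k'` -/
theorem exists_basis [FiniteDimensional k k']
    (h : Function.Bijective (Algebra.TensorProduct.productMap
      (IsScalarTower.toAlgHom k k' K') (IsScalarTower.toAlgHom k K K'))) :
    ∃ (n : ℕ) (b : Module.Basis (Fin n) K K'), ∀ i, b i ∈ Set.range (algebraMap k' K') := by
  let f : K ⊗[k] k' →ₐ[K] K' := Algebra.TensorProduct.productLeftAlgHom (Algebra.ofId K K')
    (IsScalarTower.toAlgHom k k' K')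
  have hf : ∀ z : K ⊗[k] k', f z = Algebra.TensorProduct.productMap
      (IsScalarTower.toAlgHom k k' K') (IsScalarTower.toAlgHom k K K')
      (Algebra.TensorProduct.comm k K k' z) := by
    intro z
    induction z using TensorProduct.induction_on with
    | zero => simp
    | tmul a b =>
      show algebraMap K K' a * algebraMap k' K' b = _
      rw [Algebra.TensorProduct.comm_tmul, Algebra.TensorProduct.productMap_apply_tmul]
      exact mul_comm _ _
    | add x y hx hy => rw [map_add, map_add, map_add, hx, hy]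
  have hbij : Function.Bijective f.toLinearMap := by
    constructor
    · intro z w hzw
      have h1 : f z = f w := hzw
      rw [hf, hf] at h1
      exact (Algebra.TensorProduct.comm k K k').injective (h.1 h1)
    · intro z
      obtain ⟨w, hw⟩ := h.2 z
      refine ⟨(Algebra.TensorProduct.comm k K k').symm w, ?_⟩
      show f _ = z
      rw [hf, AlgEquiv.apply_symm_apply, hw]
  let e := Module.finBasis k k'
  let B₀ : Module.Basis (Fin (finrank k k')) K (K ⊗[k] k') := Algebra.TensorProduct.basis K e
  refine ⟨finrank k k', B₀.map (LinearEquiv.ofBijective f.toLinearMap hbij), fun i => ?_⟩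
  refine ⟨e i, ?_⟩
  rw [Module.Basis.map_apply, Algebra.TensorProduct.basis_apply]
  show algebraMap k' K' (e i) = algebraMap K K' 1 * algebraMap k' K' (e i)
  rw [map_one, one_mul]

/-- a common denominator in `O_P` -/
theorem exists_common_denominator (P : Place k K) {ι : Type*} [Fintype ι] (α : ι → K) :
    ∃ c : K, c ≠ 0 ∧ P.1 c ≤ 1 ∧ ∀ i, P.1 (c * α i) ≤ 1 := by
  classical
  let d : ι → K := fun i => if P.1 (α i) ≤ 1 then 1 else (α i)⁻¹
  have hd0 : ∀ i, d i ≠ 0 := by
    intro i
    show (if P.1 (α i) ≤ 1 then (1 : K) else (α i)⁻¹) ≠ 0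
    split_ifs with hi
    · exact one_ne_zero
    · apply inv_ne_zero
      rintro h0
      rw [h0, map_zero] at hi
      exact hi zero_le
  have hd1 : ∀ i, P.1 (d i) ≤ 1 := by
    intro i
    show P.1 (if P.1 (α i) ≤ 1 then (1 : K) else (α i)⁻¹) ≤ 1
    split_ifs with hi
    · rw [map_one]
    · push Not at hi
      rw [map_inv₀]
      exact inv_le_one_of_one_le₀ hi.le
  have hdα : ∀ i, P.1 (d i * α i) ≤ 1 := by
    intro i
    show P.1 ((if P.1 (α i) ≤ 1 then (1 : K) else (α i)⁻¹) * α i) ≤ 1
    split_ifs with hi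
    · rw [one_mul]; exact hi
    · have h0 : α i ≠ 0 := by
        rintro h0
        rw [h0, map_zero] at hi
        exact hi zero_le
      rw [inv_mul_cancel₀ h0, map_one]
  refine ⟨∏ i, d i, Finset.prod_ne_zero_iff.mpr fun i _ => hd0 i, ?_, fun i => ?_⟩
  · rw [map_prod]
    exact Finset.prod_le_one' fun i _ => hd1 i
  · rw [← Finset.prod_erase_mul _ _ (Finset.mem_univ i), mul_assoc, map_mul, map_prod]
    exact mul_le_one' (Finset.prod_le_one' fun j _ => hd1 j) (hdα i)

/-- **S12526** -/
theorem conductor [FiniteDimensional k k']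
    (h : Function.Bijective (Algebra.TensorProduct.productMap
      (IsScalarTower.toAlgHom k k' K') (IsScalarTower.toAlgHom k K K')))
    (hK : IsFunctionField k K) (P : Place k K) [Algebra P.O K'] [IsScalarTower P.O K K'] :
    (∃ V : Submodule k K', FiniteDimensional k V ∧ ∀ r ∈ integralClosure P.O K',
        ∃ s ∈ Algebra.adjoin P.O (Set.range (algebraMap k' K')), r - s ∈ V) ∧
    (∃ c ∈ integralClosure P.O K', c ≠ 0 ∧ ∀ r ∈ integralClosure P.O K',
        c * r ∈ Algebra.adjoin P.O (Set.range (algebraMap k' K'))) := by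
  classical
  obtain ⟨n, b, hb⟩ := exists_basis (K := K) h
  have hfd : FiniteDimensional K K' := Module.Finite.of_basis b
  have hK' : W.IsWeakFF k K' := W.weak_of_finite hK.weak
  obtain ⟨D', hD'⟩ := exists_decomp hK P b
  have hLfin : Module.Finite k (L D') := W.L_finite hK' D'
  set R' := Algebra.adjoin P.O (Set.range (algebraMap k' K')) with hR'
  have hbR : ∀ i, b i ∈ R' := fun i => Algebra.subset_adjoin (hb i)
  have hsum_mem : ∀ a : Fin n → K, (∀ i, P.1 (a i) ≤ 1) → ∑ i, a i • b i ∈ R' := by
    intro a ha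
    apply Subalgebra.sum_mem
    intro i _
    have h2 : a i • b i =
        (⟨a i, (Valuation.mem_valuationSubring_iff P.1 _).mpr (ha i)⟩ : P.O) • b i := by
      rw [smul_eq_of_tower]
    rw [h2]
    exact Subalgebra.smul_mem _ (hbR i) _
  have part1 : ∀ r ∈ integralClosure P.O K', ∃ s ∈ R', r - s ∈ L D' := by
    intro r hr
    obtain ⟨a, ha, hv⟩ := hD' r (fun Q e he => val_le_one_of_isIntegral P hr he)
    exact ⟨∑ i, a i • b i, hsum_mem a ha, hv⟩
  refine ⟨⟨L D', hLfin, part1⟩, ?_⟩
  -- the conductor
  obtain ⟨T, hT⟩ := Module.Finite.iff_fg.mp hLfin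
  let α : (T × Fin n) → K := fun p => b.repr (p.1 : K') p.2
  obtain ⟨c₀, hc₀0, hc₀1, hc₀α⟩ := exists_common_denominator P α
  let c₀' : P.O := ⟨c₀, (Valuation.mem_valuationSubring_iff P.1 _).mpr hc₀1⟩
  set c : K' := algebraMap K K' c₀ with hc
  have hcalg : c = algebraMap P.O K' c₀' := by
    rw [IsScalarTower.algebraMap_apply P.O K K']; rfl
  have hcR : c ∈ R' := by rw [hcalg]; exact Subalgebra.algebraMap_mem _ _
  have hcT : ∀ w ∈ T, c * w ∈ R' := by
    intro w hw
    have h1 : c * w = ∑ i, (c₀ * b.repr w i) • b i := by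
      conv_lhs => rw [← b.sum_repr w]
      rw [Finset.mul_sum]
      apply Finset.sum_congr rfl
      intro i _
      rw [hc, mul_smul, Algebra.smul_def c₀]
    rw [h1]
    exact hsum_mem _ (fun i => hc₀α (⟨w, hw⟩, i))
  have hcV : ∀ v ∈ L D', c * v ∈ R' := by
    intro v hv
    have hv' : v ∈ Submodule.span k (T : Set K') := by rw [hT]; exact hv
    refine Submodule.span_induction (p := fun w _ => c * w ∈ R') ?_ ?_ ?_ ?_ hv'
    · intro w hw; exact hcT w hw
    · rw [mul_zero]; exact zero_mem _
    · intro x y _ _ hx hy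
      rw [mul_add]; exact add_mem hx hy
    · intro a x _ hx
      rw [mul_smul_comm, ← algebraMap_smul_eq P a (c * x)]
      exact Subalgebra.smul_mem _ hx _
  refine ⟨c, ?_, ?_, ?_⟩
  · rw [hcalg]; exact isIntegral_algebraMap
  · rw [hc, Ne, map_eq_zero_iff _ (algebraMap K K').injective]; exact hc₀0
  · intro r hr
    obtain ⟨s, hs, hv⟩ := part1 r hr
    have : c * r = c * s + c * (r - s) := by ring
    rw [this]
    exact add_mem (mul_mem hcR hs) (hcV _ hv)

end Groth.Agent.H62.FFCondConst
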