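import Groth.Agent.H62.FFHyper2
import Groth.Agent.H55.WGal

/-!
# `L` of a conorm divisor in a finite extension of function fields
-/

set_option autoImplicit false

namespace Groth.Agent.H62.FFConormL

open FunFld WithZero Module Groth.Agent.H55 Groth.Agent.H62.FFTower Groth.Agent.H62.FFExtDeg

variable {k K K' : Type*} [Field k] [Field K] [Field K'] [Algebra k K] [Algebra K K']
  [Algebra k K'] [IsScalarTower k K K']

/-- the value of a conorm divisor at a place above `P` -/
theorem conorm_apply_of_isOverWith [FiniteDimensional K K'] (hK : IsFunctionField k K)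
    (A : Divisor k K) {Q : Place k K'} {P : Place k K} {e : ℕ} (h : IsOverWith Q P e) :
    conorm K' A Q = e * A P := by
  classical
  rw [conorm_eq_sum, Finsupp.sum, Finsupp.finsetSum_apply]
  have hterm : ∀ P' ∈ A.support, (A P' • conormPlace K' P') Q =
      if P' = P then (e : ℤ) * A P else 0 := by
    intro P' _
    rw [Finsupp.smul_apply, conormPlace_apply (sum_ramIdx_mul_deg (K' := K') hK P').1]
    by_cases hP : P' = P
    · subst hP
      rw [if_pos ⟨e, h⟩, if_pos rfl, ramIdx_eq h, smul_eq_mul, mul_comm]
    · rw [if_neg hP, if_neg, smul_zero]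
      intro hov
      exact hP (isOver_unique hov ⟨e, h⟩)
  rw [Finset.sum_congr rfl hterm, Finset.sum_ite_eq']
  by_cases hP : P ∈ A.support
  · rw [if_pos hP]
  · rw [if_neg hP, Finsupp.notMem_support_iff.mp hP, mul_zero]

theorem mem_L_conorm_iff [FiniteDimensional K K'] (hK : IsFunctionField k K)
    (A : Divisor k K) {z : K'} :
    z ∈ L (conorm K' A) ↔
      ∀ (Q : Place k K') (P : Place k K) (e : ℕ), IsOverWith Q P e → Q.1 z ≤ exp (A P) ^ e := by
  have halg : Algebra.IsAlgebraic K K' := Algebra.IsAlgebraic.of_finite K K'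
  rw [mem_L]
  constructor
  · intro h Q P e he
    have := h Q
    rwa [conorm_apply_of_isOverWith hK A he, ← nsmul_eq_mul, exp_nsmul] at this
  · intro h Q
    obtain ⟨P, e, he⟩ := exists_place_under hK Q
    rw [conorm_apply_of_isOverWith hK A he, ← nsmul_eq_mul, exp_nsmul]
    exact h Q P e he

/-- `L` of a conorm is stable under `K`-automorphisms -/
theorem L_conorm_stable [FiniteDimensional K K'] (hK : IsFunctionField k K)
    (A : Divisor k K) (σ : K' ≃ₐ[K] K') {z : K'} (hz : z ∈ L (conorm K' A)) :
    σ z ∈ L (conorm K' A) := by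
  rw [mem_L_conorm_iff hK] at hz ⊢
  intro Q P e he
  have := hz (Place.comapK Q σ) P e (comapK_isOverWith he σ)
  rwa [Place.comapK_val] at this

/-- descent of a pointwise bound from `K'` to `K` -/
theorem val_le_of_forall_isOverWith [FiniteDimensional K K'] (hK : IsFunctionField k K)
    {a : K} {P : Place k K} {n : ℤ}
    (h : ∀ (Q : Place k K') (e : ℕ), IsOverWith Q P e → Q.1 (algebraMap K K' a) ≤ exp n ^ e) :
    P.1 a ≤ exp n := by
  obtain ⟨Q, e, he⟩ := exists_isOver (K' := K') hK P
  have h1 := h Q e he
  rw [he a] at h1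
  exact (pow_le_pow_iff_left₀ zero_le zero_le (isOverWith_pos he).ne').mp h1

theorem algebraMap_mem_L_conorm_iff [FiniteDimensional K K'] (hK : IsFunctionField k K)
    (A : Divisor k K) {a : K} : algebraMap K K' a ∈ L (conorm K' A) ↔ a ∈ L A := by
  rw [mem_L_conorm_iff hK, mem_L]
  constructor
  · intro h P
    exact val_le_of_forall_isOverWith hK fun Q e he => h Q P e he
  · intro h Q P e he
    rw [he a]
    exact pow_le_pow_left₀ zero_le (h P) e

/-- the degree as an additive homomorphism -/
noncomputable def degHom : Divisor k K →+ ℤ where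
  toFun := FunFld.Divisor.deg
  map_zero' := Divisor.deg_zero
  map_add' := Divisor.deg_add

theorem deg_zsmul (n : ℤ) (D : Divisor k K) : (n • D).deg = n * D.deg := by
  have := map_zsmul (degHom (k := k) (K := K)) n D
  rw [smul_eq_mul] at this
  exact this

/-- `deg N*(A) = [K':K] deg A` -/
theorem deg_conorm [FiniteDimensional K K'] (hK : IsFunctionField k K) (A : Divisor k K) :
    (conorm K' A).deg = finrank K K' * A.deg := by
  classical
  rw [conorm_eq_sum, Finsupp.sum, Divisor.deg_sum]
  have : ∀ P ∈ A.support, FunFld.Divisor.deg (A P • conormPlace K' P) =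
      finrank K K' * (A P * P.deg) := by
    intro P _
    rw [deg_zsmul, FFHyper2.deg_conormPlace hK]
    ring
  rw [Finset.sum_congr rfl this, ← Finset.mul_sum]
  rfl

end Groth.Agent.H62.FFConormL
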