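import Groth.Agent.H62.FFInertia3
import Mathlib.FieldTheory.AlgebraicClosure

/-!
# The exact constant field of a finite extension of a function field

For a finite extension `K'/K` of a function field `K/k`, `K'` is a function field over the
algebraic closure `k₁` of `k` in `K'`; places of `K'/k` are places of `K'/k₁`.
-/

set_option autoImplicit false
set_option linter.unusedSectionVars false

namespace Groth.Agent.H62.FFConstField

open FunFld WithZero Module Polynomial IntermediateField Groth.Agent.H55

variable {k K K' : Type*} [Field k] [Field K] [Field K'] [Algebra k K] [Algebra K K']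
  [Algebra k K'] [IsScalarTower k K K']

/-- algebraic elements over the constants are integral at every place -/
theorem val_le_one_of_isAlgebraic (Q : Place k K') {z : K'} (hz : IsAlgebraic k z) :
    Q.1 z ≤ 1 := by
  have hint : IsIntegral k z := hz.isIntegral
  apply FFUnram.val_le_one_of_monic_root (K := k) Q (minpoly.monic hint) (minpoly.aeval k z)
  intro i
  exact Q.2.1 _

/-- `K'` is a function field over the algebraic closure of `k` in `K'` -/
theorem isFunctionField_constField [FiniteDimensional K K'] (hK : IsFunctionField k K) :
    IsFunctionField (algebraicClosure k K') K' := by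
  obtain ⟨⟨x₀, hx₀, hfin₀⟩, -⟩ := hK
  set x : K' := algebraMap K K' x₀ with hx
  have hxtr : Transcendental k x := transcendental_algebraMap hx₀
  have hfin : FiniteDimensional k⟮x⟯ K' := finiteDimensional_adjoin_algebraMap x₀
  refine ⟨⟨x, ?_, ?_⟩, ?_⟩
  · intro halg
    exact hxtr (halg.restrictScalars k)
  · -- finite over the bigger field
    obtain ⟨S, hS⟩ := (Module.Finite.fg_top : (⊤ : Submodule k⟮x⟯ K').FG)
    refine ⟨⟨S, ?_⟩⟩
    rw [eq_top_iff]
    intro y _
    have hy : y ∈ Submodule.span k⟮x⟯ (S : Set K') := by rw [hS]; trivial
    have hle : k⟮x⟯ ≤ ((algebraicClosure k K')⟮x⟯).restrictScalars k := by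
      rw [adjoin_le_iff]
      intro w hw
      rw [Set.mem_singleton_iff] at hw
      subst hw
      exact mem_adjoin_simple_self _ _
    refine Submodule.span_induction
      (p := fun w _ => w ∈ Submodule.span (algebraicClosure k K')⟮x⟯ (S : Set K')) ?_ ?_ ?_ ?_ hy
    · intro w hw
      exact Submodule.subset_span hw
    · exact zero_mem _
    · intro a b _ _ ha hb
      exact add_mem ha hb
    · intro a w _ hw
      have hmem : (a : K') ∈ (algebraicClosure k K')⟮x⟯ := hle a.2
      have h1 : a • w = (⟨(a : K'), hmem⟩ : (algebraicClosure k K')⟮x⟯) • w := rfl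
      rw [h1]
      exact Submodule.smul_mem _ _ hw
  · intro y hy
    have hy' : IsAlgebraic k y := hy.restrictScalars k
    exact ⟨⟨y, (mem_algebraicClosure_iff).mpr hy'⟩, rfl⟩

/-- a place over `k` is a place over any algebraic extension of the constants inside `K'` -/
def extendConst (k₁ : Type*) [Field k₁] [Algebra k k₁] [Algebra k₁ K'] [IsScalarTower k k₁ K']
    [Algebra.IsAlgebraic k k₁] (Q : Place k K') : Place k₁ K' :=
  ⟨Q.1, fun c => val_le_one_of_isAlgebraic Q
    ((Algebra.IsAlgebraic.isAlgebraic (R := k) c).algebraMap), Q.2.2⟩

theorem extendConst_val (k₁ : Type*) [Field k₁] [Algebra k k₁] [Algebra k₁ K']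
    [IsScalarTower k k₁ K'] [Algebra.IsAlgebraic k k₁] (Q : Place k K') :
    (extendConst k₁ Q).1 = Q.1 := rfl

/-- separability of the residue field over the bigger constants -/
theorem isSeparable_extendConst (k₁ : Type*) [Field k₁] [Algebra k k₁] [Algebra k₁ K']
    [IsScalarTower k k₁ K'] [Algebra.IsAlgebraic k k₁] (Q : Place k K')
    [hsep : Algebra.IsSeparable k (IsLocalRing.ResidueField Q.O)] :
    Algebra.IsSeparable k₁ (IsLocalRing.ResidueField (extendConst k₁ Q).O) := by
  let _ : Algebra k₁ (IsLocalRing.ResidueField Q.O) := Place.algRes (extendConst k₁ Q)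
  have htower : IsScalarTower k k₁ (IsLocalRing.ResidueField Q.O) := by
    apply IsScalarTower.of_algebraMap_eq
    intro c
    show IsLocalRing.residue Q.O (algebraMap k Q.O c) =
      IsLocalRing.residue Q.O (algebraMap k₁ (extendConst k₁ Q).O (algebraMap k k₁ c))
    congr 1
    apply Subtype.ext
    exact IsScalarTower.algebraMap_apply k k₁ K' c
  exact Algebra.isSeparable_tower_top_of_isSeparable k k₁ (IsLocalRing.ResidueField Q.O)

section intermediate

variable [FiniteDimensional K K'] [IsGalois K K']

/-- **the inertia group over an intermediate field** has order `e` -/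
theorem card_inertia_intermediate (hK : IsFunctionField k K) (E : IntermediateField K K')
    {Q : Place k K'} {QE : Place k E} {e : ℕ} (he : IsOverWith Q QE e)
    [hsep : Algebra.IsSeparable k (IsLocalRing.ResidueField Q.O)] :
    Nat.card (ValuationSubring.inertiaSubgroup E Q.O) = e := by
  have h0 : IsScalarTower k E K' := IsScalarTower.of_algebraMap_eq (fun c => rfl)
  have h1 : IsScalarTower (algebraicClosure k E) E K' := inferInstance
  have h2 : IsScalarTower k (algebraicClosure k E) K' := by
    apply IsScalarTower.of_algebraMap_eq
    intro c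
    rfl
  have hE : IsFunctionField (algebraicClosure k E) E :=
    isFunctionField_constField (K := K) (K' := E) hK
  have he' : IsOverWith (extendConst (algebraicClosure k E) Q)
      (extendConst (algebraicClosure k E) QE) e := he
  have hsep' := isSeparable_extendConst (algebraicClosure k E) Q
  have key := FFInertia.card_inertia hE he'
  have hO : (extendConst (algebraicClosure k E) Q).O = Q.O := rfl
  rw [hO] at key
  exact key

end intermediate

end Groth.Agent.H62.FFConstField
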