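import Groth.Agent.H62.FFDegTwo

/-!
# helper62: divisors of degree one with two independent sections force the function field to be
rational
-/

set_option autoImplicit false
set_option linter.unusedSectionVars false
set_option linter.style.haveILetI false

namespace Groth.Agent.H62.FFDegOne

open FunFld WithZero Module IntermediateField Polynomial Groth.Agent.H55
  Groth.Agent.H62.FFHypGenus Groth.Agent.H62.FFHE Groth.Agent.H62.FFUniq

variable {k K : Type*} [Field k] [Field K] [Algebra k K]

/-- a divisor of degree one with two independent sections gives a generator of the function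
field -/
theorem exists_adjoin_eq_top (hK : IsFunctionField k K) (D : Divisor k K)
    (hdeg : D.deg = 1) (hell : 2 ≤ ell D) :
    ∃ t : K, k⟮t⟯ = ⊤ := by
  classical
  have hne : L D ≠ ⊥ := by
    intro h
    unfold ell at hell
    rw [h, finrank_bot] at hell
    omega
  obtain ⟨z, hz0, hz⟩ := (L_ne_bot_iff hK D).mp hne
  set D' : Divisor k K := D + div k z with hD'
  have hD'deg : D'.deg = 1 := by rw [hD', deg_add_div hK, hdeg]
  have hD'ell : 2 ≤ ell D' := by rw [hD', ell_add_div hK D hz0]; exact hell
  haveI := L_finite hK D'
  obtain ⟨y, hyL, hy⟩ : ∃ y ∈ L D', y ∉ Submodule.span k {(1 : K)} := by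
    by_contra hcon
    push Not at hcon
    have hle : L D' ≤ Submodule.span k {(1 : K)} := fun y hy => hcon y hy
    have h1 := Submodule.finrank_mono hle
    have h2 : finrank k (Submodule.span k ({(1 : K)} : Set K)) = 1 :=
      finrank_span_singleton one_ne_zero
    unfold ell at hD'ell
    omega
  rw [mem_span_one_iff] at hy
  have hytr : Transcendental k y := fun halg => hy (hK.2 y halg)
  have hy0 : y ≠ 0 := fun h => hytr (h ▸ isAlgebraic_zero)
  haveI := finiteDimensional_adjoin_of_transcendental hK hytr
  have hpd := poleDiv_le_of_mem_L hK hz hy0 hyL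
  have hpdeg := Divisor.deg_mono hpd
  rw [deg_poleDiv hK hytr, hD'deg] at hpdeg
  have hpos : 0 < finrank k⟮y⟯ K := Module.finrank_pos
  have hle1 : finrank k⟮y⟯ K ≤ 1 := by exact_mod_cast hpdeg
  exact ⟨y, finrank_eq_one_iff_eq_top.mp (by omega)⟩

/-- the pole divisor of a nonconstant function has at least two independent sections -/
theorem two_le_ell_poleDiv (hK : IsFunctionField k K) {t : K} (ht : Transcendental k t) :
    2 ≤ ell (poleDiv k t) := by
  classical
  have ht0 : t ≠ 0 := fun h => ht (h ▸ isAlgebraic_zero)
  set D : Divisor k K := poleDiv k t with hD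
  haveI := L_finite hK D
  have h1L : (1 : K) ∈ L D := by
    intro Q
    rw [map_one, ← exp_zero, exp_le_exp]
    exact (poleDiv_nonneg t) Q
  have htL : t ∈ L D := self_mem_L_poleDiv hK ht0
  have hli : LinearIndependent k ![(1 : K), t] := by
    have htk : t ∉ Set.range (algebraMap k K) := by
      rintro ⟨c, hc⟩
      exact ht (hc ▸ isAlgebraic_algebraMap c)
    exact FFInvol.linearIndependent_one_y (F := k) (K := K) htk
  have hle : Submodule.span k (Set.range ![(1 : K), t]) ≤ L D := by
    rw [Submodule.span_le]
    rintro _ ⟨i, rfl⟩
    fin_cases i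
    · exact h1L
    · exact htL
  have h1 := Submodule.finrank_mono hle
  rw [finrank_span_eq_card hli] at h1
  unfold ell
  simpa using h1

end Groth.Agent.H62.FFDegOne
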