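import Groth.Agent.H62.FFParity
import Mathlib.FieldTheory.PrimitiveElement
import Mathlib.RingTheory.PowerBasis
import Mathlib.FieldTheory.Minpoly.Field

/-!
# Conjugation in a quadratic extension `K' = K(y)`, `y² ∈ K`
-/

set_option autoImplicit false

namespace Groth.Agent.H62.FFQuad

open Module IntermediateField Polynomial

variable {K K' : Type*} [Field K] [Field K'] [Algebra K K']

theorem natDegree_minpoly_eq_two (hdeg : finrank K K' = 2) {y : K'}
    (hy : y ∉ Set.range (algebraMap K K')) : (minpoly K y).natDegree = 2 := by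
  have hfd : FiniteDimensional K K' := Module.finite_of_finrank_pos (by omega)
  have hint : IsIntegral K y := IsIntegral.of_finite K y
  apply le_antisymm
  · rw [← hdeg]; exact minpoly.natDegree_le y
  · exact (minpoly.two_le_natDegree_iff hint).mpr hy

theorem minpoly_eq (hdeg : finrank K K' = 2) {y : K'} {F : K}
    (hy : y ∉ Set.range (algebraMap K K')) (heq : y ^ 2 = algebraMap K K' F) :
    minpoly K y = X ^ 2 - C F := by
  have hq : (X ^ 2 - C F : K[X]).Monic := monic_X_pow_sub_C F two_ne_zero
  have hqdeg : (X ^ 2 - C F : K[X]).natDegree = 2 := natDegree_X_pow_sub_C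
  have hroot : aeval y (X ^ 2 - C F : K[X]) = 0 := by
    rw [map_sub, map_pow, aeval_X, aeval_C, heq, sub_self]
  have hdvd : minpoly K y ∣ X ^ 2 - C F := minpoly.dvd K y hroot
  have hfd : FiniteDimensional K K' := Module.finite_of_finrank_pos (by omega)
  have hint : IsIntegral K y := IsIntegral.of_finite K y
  exact (Polynomial.eq_of_monic_of_dvd_of_natDegree_le (minpoly.monic hint) hq hdvd
    (by rw [hqdeg, natDegree_minpoly_eq_two hdeg hy])).symm

theorem adjoin_eq_top (hdeg : finrank K K' = 2) {y : K'}
    (hy : y ∉ Set.range (algebraMap K K')) : K⟮y⟯ = ⊤ := by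
  have hfd : FiniteDimensional K K' := Module.finite_of_finrank_pos (by omega)
  exact (Field.primitive_element_iff_minpoly_natDegree_eq K y).mpr
    ((natDegree_minpoly_eq_two hdeg hy).trans hdeg.symm)

/-- the conjugation `y ↦ -y` -/
theorem exists_algEquiv_neg (hdeg : finrank K K' = 2) {y : K'} {F : K}
    (hy : y ∉ Set.range (algebraMap K K')) (heq : y ^ 2 = algebraMap K K' F) :
    ∃ σ : K' ≃ₐ[K] K', σ y = -y := by
  have hfd : FiniteDimensional K K' := Module.finite_of_finrank_pos (by omega)
  have hint : IsIntegral K y := IsIntegral.of_finite K y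
  have htop := adjoin_eq_top hdeg hy
  let e : K⟮y⟯ ≃ₐ[K] K' := (IntermediateField.equivOfEq htop).trans IntermediateField.topEquiv
  let pb : PowerBasis K K' := (IntermediateField.adjoin.powerBasis hint).map e
  have hgen : pb.gen = y := by
    show e (IntermediateField.adjoin.powerBasis hint).gen = y
    rw [IntermediateField.adjoin.powerBasis_gen]
    rfl
  have h : aeval (-y) (minpoly K pb.gen) = 0 := by
    rw [hgen, minpoly_eq hdeg hy heq, map_sub, map_pow, aeval_X, aeval_C, neg_sq, heq, sub_self]
  let σ₀ : K' →ₐ[K] K' := pb.lift (-y) h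
  have hσ₀ : σ₀ y = -y := by
    have := pb.lift_gen (-y) h
    rwa [hgen] at this
  have halg : Algebra.IsAlgebraic K K' := Algebra.IsAlgebraic.of_finite K K'
  refine ⟨AlgEquiv.ofBijective σ₀ (Algebra.IsAlgebraic.algHom_bijective σ₀), ?_⟩
  exact hσ₀

/-- the conjugate of `a + b y` is `a - b y` -/
theorem conj_apply {y : K'} (σ : K' ≃ₐ[K] K') (hσ : σ y = -y) (a b : K) :
    σ (algebraMap K K' a + algebraMap K K' b * y) = algebraMap K K' a - algebraMap K K' b * y := by
  rw [map_add, map_mul, σ.commutes, σ.commutes, hσ]
  ring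

/-- uniqueness of the representation `a + b y` -/
theorem repr_unique {y : K'} (hy : y ∉ Set.range (algebraMap K K')) {a b a' b' : K}
    (h : algebraMap K K' a + algebraMap K K' b * y = algebraMap K K' a' + algebraMap K K' b' * y) :
    a = a' ∧ b = b' := by
  have hb : b = b' := by
    by_contra hne
    apply hy
    refine ⟨(a' - a) / (b - b'), ?_⟩
    have h1 : algebraMap K K' (b - b') ≠ 0 := by
      rw [Ne, map_eq_zero_iff _ (algebraMap K K').injective, sub_eq_zero]
      exact hne
    rw [map_div₀, div_eq_iff h1, map_sub, map_sub]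
    linear_combination -h
  subst hb
  refine ⟨?_, rfl⟩
  have : algebraMap K K' a = algebraMap K K' a' := by linear_combination h
  exact (algebraMap K K').injective this

end Groth.Agent.H62.FFQuad
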