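import Groth.Agent.H62.FFHypGenus2
import Groth.Agent.H62.FFQuad

/-!
# helper62: hyperelliptic normal form in any characteristic

Let `K/k` be a function field of genus `g` and `t ∈ K` with `[K : k(t)] = 2`. Then `K = k(t, y)` with
`y² + Q(t) y = P(t)` and `2g + 1 ≤ max(2 deg Q, deg P) ≤ 2g + 2`; if `2 ≠ 0` in `k` one can take
`Q = 0`. The proofs are dimension counts with Riemann–Roch for the multiples of the pole divisor of
`t`.
-/

set_option autoImplicit false
set_option linter.style.haveILetI false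

namespace Groth.Agent.H62.FFHE

open FunFld WithZero Module IntermediateField Polynomial Groth.Agent.H55 Groth.Agent.H62.FFRat
  Groth.Agent.H62.FFHol Groth.Agent.H62.FFHypRepr Groth.Agent.H62.FFHypGenus

variable {k K : Type*} [Field k] [Field K] [Algebra k K]

theorem transcendental_of_finrank (hK : IsFunctionField k K) {t : K}
    (hdeg : finrank k⟮t⟯ K = 2) : Transcendental k t := by
  intro halg
  haveI : FiniteDimensional k k⟮t⟯ := IntermediateField.adjoin.finiteDimensional halg.isIntegral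
  haveI : FiniteDimensional k⟮t⟯ K := Module.finite_of_finrank_pos (by omega)
  haveI : FiniteDimensional k K := FiniteDimensional.trans k k⟮t⟯ K
  obtain ⟨⟨x, hx, -⟩, -⟩ := hK
  exact hx (Algebra.IsAlgebraic.isAlgebraic x)

section main

variable (hK : IsFunctionField k K) {t : K} (ht : Transcendental k t)
  (hdeg : finrank k⟮t⟯ K = 2)

include hK ht hdeg in
theorem deg_poleDiv_eq : (poleDiv k t).deg = 2 := by
  rw [deg_poleDiv hK ht, hdeg]
  rfl

include hK ht hdeg in
theorem ell_nsmul {r : ℕ} (hr : genus k K ≤ r) :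
    (ell (r • poleDiv k t) : ℤ) = 2 * r + 1 - genus k K := by
  have h := ell_of_deg_ge hK (r • poleDiv k t)
    (by rw [Divisor.deg_nsmul, deg_poleDiv_eq hK ht hdeg]; omega)
  rw [h, Divisor.deg_nsmul, deg_poleDiv_eq hK ht hdeg]
  ring

include hK ht in
/-- rational functions of `t` in `L(r (t)_∞)` are polynomials of degree at most `r` -/
theorem exists_poly_of_mem (r : ℕ) {z : K} (hz : z ∈ L (r • poleDiv k t)) (hzt : z ∈ k⟮t⟯) :
    ∃ a : k[X], a.natDegree ≤ r ∧ z = aeval t a := by
  have ht0 : t ≠ 0 := fun h => ht (h ▸ isAlgebraic_zero)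
  obtain ⟨ρ, hρ⟩ := exists_ev_eq ht hzt
  have hhol : ev ht ρ ∈ Hol (k := k) t := by
    rw [hρ]
    exact mem_Hol_of_mem_L hK ht0 r hz
  obtain ⟨a, ha⟩ := exists_poly_of_mem_Hol hK.weak ht ρ hhol
  have hza : z = aeval t a := by rw [← hρ, ha, ev_algebraMap]
  refine ⟨a, ?_, hza⟩
  by_cases ha0 : a = 0
  · rw [ha0, natDegree_zero]; exact Nat.zero_le r
  obtain ⟨P, hP⟩ := exists_pole hK ht
  have h1 := (mem_L_nsmul_poleDiv hK ht0 r).mp hz P
  rw [hza, val_aeval_pole P hP ha0, max_eq_left hP.le] at h1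
  exact (pow_le_pow_iff_right₀ hP).mp h1

include hK ht in
theorem mul_mem_L {r s : ℕ} {u v : K} (hu : u ∈ L (r • poleDiv k t))
    (hv : v ∈ L (s • poleDiv k t)) : u * v ∈ L ((r + s) • poleDiv k t) := by
  have ht0 : t ≠ 0 := fun h => ht (h ▸ isAlgebraic_zero)
  rw [mem_L_nsmul_poleDiv hK ht0] at hu hv ⊢
  intro P
  rw [map_mul, pow_add]
  exact mul_le_mul' (hu P) (hv P)

include hK ht hdeg in
/-- a function with poles of order at most `g + 1` at the poles of `t` which is not in `k(t)` -/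
theorem exists_y : ∃ y ∈ L ((genus k K + 1) • poleDiv k t), y ∉ k⟮t⟯ := by
  by_contra hcon
  push Not at hcon
  set g := genus k K with hg
  let Φ : degreeLT k (g + 2) →ₗ[k] K := ((aeval t).toLinearMap).comp (degreeLT k (g + 2)).subtype
  have hle : L ((g + 1) • poleDiv k t) ≤ LinearMap.range Φ := by
    intro z hz
    obtain ⟨a, ha, rfl⟩ := exists_poly_of_mem hK ht (g + 1) hz (hcon z hz)
    exact ⟨⟨a, mem_degreeLT_of_natDegree_lt (by omega)⟩, rfl⟩
  have h1 : finrank k (L ((g + 1) • poleDiv k t)) ≤ finrank k (LinearMap.range Φ) :=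
    Submodule.finrank_mono hle
  have h2 : finrank k (LinearMap.range Φ) ≤ g + 2 := by
    have := LinearMap.finrank_range_le Φ
    rwa [finrank_degreeLT] at this
  have h3 := ell_nsmul hK ht hdeg (r := g + 1) (by omega)
  unfold ell at h3
  push_cast at h3
  omega

variable {y : K} (hyL : y ∈ L ((genus k K + 1) • poleDiv k t)) (hy : y ∉ k⟮t⟯)

include hK ht hdeg hyL hy in
theorem range_Phi_eq :
    LinearMap.range (Phi (k := k) t y (2 * genus k K + 3) (genus k K + 2)) =
      L ((2 * genus k K + 2) • poleDiv k t) := by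
  set g := genus k K with hg
  have hle : LinearMap.range (Phi (k := k) t y (2 * g + 3) (g + 2)) ≤
      L ((2 * g + 2) • poleDiv k t) := by
    rintro _ ⟨p, rfl⟩
    rw [Phi_apply]
    apply add_mem
    · apply aeval_mem_L hK ht
      by_cases h0 : (p.1 : k[X]) = 0
      · rw [h0, natDegree_zero]; exact Nat.zero_le _
      · have := natDegree_lt_of_mem_degreeLT p.1.2 h0
        omega
    · have h1 : aeval t (p.2 : k[X]) ∈ L ((g + 1) • poleDiv k t) := by
        apply aeval_mem_L hK ht
        by_cases h0 : (p.2 : k[X]) = 0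
        · rw [h0, natDegree_zero]; exact Nat.zero_le _
        · have := natDegree_lt_of_mem_degreeLT p.2.2 h0
          omega
      have h2 := mul_mem_L hK ht h1 hyL
      have e : g + 1 + (g + 1) = 2 * g + 2 := by ring
      rwa [e] at h2
  haveI : Module.Finite k (L ((2 * g + 2) • poleDiv k t)) := L_finite hK _
  apply Submodule.eq_of_le_of_finrank_eq hle
  have hinj := Phi_injective (k := k) ht hy (2 * g + 3) (g + 2)
  have h1 := (LinearEquiv.ofInjective _ hinj).finrank_eq
  rw [Module.finrank_prod, finrank_degreeLT, finrank_degreeLT] at h1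
  have h3 := ell_nsmul hK ht hdeg (r := 2 * g + 2) (by omega)
  unfold ell at h3
  push_cast at h3
  omega

include hK ht hdeg hyL hy in
/-- the equation, with the upper bounds on the degrees -/
theorem exists_equation : ∃ P Q : k[X], y ^ 2 + aeval t Q * y = aeval t P ∧
    P.natDegree ≤ 2 * genus k K + 2 ∧ Q.natDegree ≤ genus k K + 1 := by
  set g := genus k K with hg
  have h1 : y ^ 2 ∈ L ((2 * g + 2) • poleDiv k t) := by
    have h2 := mul_mem_L hK ht hyL hyL
    have e : g + 1 + (g + 1) = 2 * g + 2 := by ring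
    rw [e, ← sq] at h2
    exact h2
  rw [← range_Phi_eq hK ht hdeg hyL hy] at h1
  obtain ⟨p, hp⟩ := h1
  rw [Phi_apply] at hp
  refine ⟨p.1, -p.2, ?_, ?_, ?_⟩
  · rw [← hp, map_neg]
    ring
  · by_cases h0 : (p.1 : k[X]) = 0
    · rw [h0, natDegree_zero]; exact Nat.zero_le _
    · have := natDegree_lt_of_mem_degreeLT p.1.2 h0
      omega
  · rw [natDegree_neg]
    by_cases h0 : (p.2 : k[X]) = 0
    · rw [h0, natDegree_zero]; exact Nat.zero_le _
    · have := natDegree_lt_of_mem_degreeLT p.2.2 h0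
      omega

end main

section bounds

variable (hK : IsFunctionField k K) {t : K} (ht : Transcendental k t)
  (hdeg : finrank k⟮t⟯ K = 2) {y : K} {P Q : k[X]}
  (heq : y ^ 2 + aeval t Q * y = aeval t P)

include heq in
/-- integrality: where `t` is finite so is `y` -/
theorem val_le_one_of_eq (v : Place k K) (hv : v.1 t ≤ 1) : v.1 y ≤ 1 := by
  by_contra hlt
  push Not at hlt
  have h1 : v.1 (aeval t Q) ≤ 1 := Place.aeval_mem v Q hv
  have h2 : v.1 (aeval t P) ≤ 1 := Place.aeval_mem v P hv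
  have h3 : y ^ 2 = aeval t P - aeval t Q * y := by rw [← heq]; ring
  have h4 : v.1 (y ^ 2) ≤ max (v.1 (aeval t P)) (v.1 (aeval t Q * y)) := by
    rw [h3]; exact Valuation.map_sub _ _ _
  rw [map_pow, map_mul] at h4
  have h5 : v.1 y ^ 2 ≤ v.1 y :=
    h4.trans (max_le (h2.trans hlt.le) (mul_le_of_le_one_left' h1))
  have hy0 : 0 < v.1 y := lt_trans zero_lt_one hlt
  have h6 : v.1 y < v.1 y ^ 2 := by
    rw [sq]
    exact lt_mul_of_one_lt_left hy0 hlt
  exact absurd h5 (not_le.mpr h6)

include heq in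
/-- the pole orders of `y` at the poles of `t` -/
theorem val_le_pow_of_eq {s : ℕ} (hQ : Q.natDegree ≤ s) (hP : P.natDegree ≤ 2 * s)
    (v : Place k K) (hv : 1 < v.1 t) : v.1 y ≤ v.1 t ^ s := by
  by_contra hlt
  push Not at hlt
  have hQv : v.1 (aeval t Q) ≤ v.1 t ^ s := by
    by_cases hQ0 : Q = 0
    · rw [hQ0, map_zero, map_zero]; exact zero_le
    · rw [val_aeval_pole v hv hQ0]; exact pow_le_pow_right₀ hv.le hQ
  have hPv : v.1 (aeval t P) ≤ v.1 t ^ (2 * s) := by
    by_cases hP0 : P = 0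
    · rw [hP0, map_zero, map_zero]; exact zero_le
    · rw [val_aeval_pole v hv hP0]; exact pow_le_pow_right₀ hv.le hP
  have hy0 : 0 < v.1 y := lt_of_le_of_lt zero_le hlt
  have h1 : v.1 (aeval t Q * y) < v.1 y ^ 2 := by
    rw [map_mul, sq]
    exact lt_of_le_of_lt (mul_le_mul_left hQv _) (mul_lt_mul_of_pos_right hlt hy0)
  have h2 : v.1 (aeval t P) < v.1 y ^ 2 := by
    refine hPv.trans_lt ?_
    rw [mul_comm, pow_mul]
    exact pow_lt_pow_left₀ hlt zero_le two_ne_zero
  have h3 : y ^ 2 = aeval t P - aeval t Q * y := by rw [← heq]; ring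
  have h4 : v.1 (y ^ 2) ≤ max (v.1 (aeval t P)) (v.1 (aeval t Q * y)) := by
    rw [h3]; exact Valuation.map_sub _ _ _
  rw [map_pow] at h4
  exact absurd h4 (not_le.mpr (max_lt h2 h1))

include hK ht heq in
theorem mem_L_of_eq {s : ℕ} (hQ : Q.natDegree ≤ s) (hP : P.natDegree ≤ 2 * s) :
    y ∈ L (s • poleDiv k t) := by
  have ht0 : t ≠ 0 := fun h => ht (h ▸ isAlgebraic_zero)
  rw [mem_L_nsmul_poleDiv hK ht0]
  intro v
  rcases le_or_gt (v.1 t) 1 with hv | hv
  · rw [max_eq_right hv, one_pow]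
    exact val_le_one_of_eq heq v hv
  · rw [max_eq_left hv.le]
    exact val_le_pow_of_eq heq hQ hP v hv

include hK ht hdeg heq in
/-- **the lower bound** `2g + 1 ≤ max(2 deg Q, deg P)` -/
theorem lower_bound (hy : y ∉ k⟮t⟯) :
    2 * genus k K + 1 ≤ max (2 * Q.natDegree) P.natDegree := by
  by_contra hlt
  push Not at hlt
  set g := genus k K with hg
  set m := max (2 * Q.natDegree) P.natDegree with hm
  set s := (m + 1) / 2 with hs
  have hQ : Q.natDegree ≤ s := by
    have : 2 * Q.natDegree ≤ m := le_max_left _ _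
    omega
  have hP : P.natDegree ≤ 2 * s := by
    have : P.natDegree ≤ m := le_max_right _ _
    omega
  have hsg : s ≤ g := by omega
  have hyL := mem_L_of_eq hK ht heq hQ hP
  -- the dimension count in `L(g (t)_∞)`
  have hle : LinearMap.range (Phi (k := k) t y (g + 1) (g - s + 1)) ≤ L (g • poleDiv k t) := by
    rintro _ ⟨p, rfl⟩
    rw [Phi_apply]
    apply add_mem
    · apply aeval_mem_L hK ht
      by_cases h0 : (p.1 : k[X]) = 0
      · rw [h0, natDegree_zero]; exact Nat.zero_le _
      · have := natDegree_lt_of_mem_degreeLT p.1.2 h0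
        omega
    · have h1 : aeval t (p.2 : k[X]) ∈ L ((g - s) • poleDiv k t) := by
        apply aeval_mem_L hK ht
        by_cases h0 : (p.2 : k[X]) = 0
        · rw [h0, natDegree_zero]; exact Nat.zero_le _
        · have := natDegree_lt_of_mem_degreeLT p.2.2 h0
          omega
      have h2 := mul_mem_L hK ht h1 hyL
      have e : g - s + s = g := by omega
      rwa [e] at h2
  haveI : Module.Finite k (L (g • poleDiv k t)) := L_finite hK _
  have h1 := Submodule.finrank_mono hle
  have hinj := Phi_injective (k := k) ht hy (g + 1) (g - s + 1)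
  have h2 := (LinearEquiv.ofInjective _ hinj).finrank_eq
  rw [Module.finrank_prod, finrank_degreeLT, finrank_degreeLT] at h2
  have h3 := ell_nsmul hK ht hdeg (r := g) le_rfl
  unfold ell at h3
  push_cast at h3
  omega

end bounds

theorem adjoin_pair_eq_top {t y : K} (hdeg : finrank k⟮t⟯ K = 2) (hy : y ∉ k⟮t⟯) :
    adjoin k ({t, y} : Set K) = ⊤ := by
  have h1 : k⟮t⟯⟮y⟯ = ⊤ := Groth.Agent.H62.FFQuad.adjoin_eq_top hdeg (not_mem_range hy)
  have h2 := IntermediateField.adjoin_adjoin_left k ({t} : Set K) ({y} : Set K)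
  rw [h1] at h2
  have h3 : ({t, y} : Set K) = {t} ∪ {y} := by
    ext z
    simp [or_comm]
  rw [h3, ← h2]
  rfl

/-- **hyperelliptic normal form**: a function field of genus `g` which is a quadratic extension of
`k(t)` is `k(t, y)` with `y² + Q(t) y = P(t)` and `2g + 1 ≤ max(2 deg Q, deg P) ≤ 2g + 2`; if
`2 ≠ 0` one can take `Q = 0`. -/
theorem hyperelliptic_equation (hK : IsFunctionField k K) {t : K} (hdeg : finrank k⟮t⟯ K = 2) :
    ∃ (y : K) (P Q : k[X]), adjoin k ({t, y} : Set K) = ⊤ ∧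
      y ^ 2 + aeval t Q * y = aeval t P ∧
      2 * genus k K + 1 ≤ max (2 * Q.natDegree) P.natDegree ∧
      max (2 * Q.natDegree) P.natDegree ≤ 2 * genus k K + 2 ∧
      ((2 : k) ≠ 0 → ∃ (y' : K) (P' : k[X]), adjoin k ({t, y'} : Set K) = ⊤ ∧
        y' ^ 2 = aeval t P' ∧ 2 * genus k K + 1 ≤ P'.natDegree ∧
        P'.natDegree ≤ 2 * genus k K + 2) := by
  have ht := transcendental_of_finrank hK hdeg
  obtain ⟨y, hyL, hy⟩ := exists_y hK ht hdeg
  obtain ⟨P, Q, heq, hP, hQ⟩ := exists_equation hK ht hdeg hyL hy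
  have hlow := lower_bound hK ht hdeg heq hy
  have hup : max (2 * Q.natDegree) P.natDegree ≤ 2 * genus k K + 2 := max_le (by omega) hP
  refine ⟨y, P, Q, adjoin_pair_eq_top hdeg hy, heq, hlow, hup, fun h2 => ?_⟩
  set c : K := algebraMap k K (2⁻¹ : k) with hc
  have h2c : 2 * c = 1 := by
    rw [hc, ← map_ofNat (algebraMap k K) 2, ← map_mul, mul_inv_cancel₀ h2, map_one]
  set P' : k[X] := P + C ((2⁻¹ : k) ^ 2) * Q ^ 2 with hP'
  set y' : K := y + c * aeval t Q with hy'
  have hy'notin : y' ∉ k⟮t⟯ := by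
    intro hmem
    apply hy
    have : y = y' - c * aeval t Q := by rw [hy']; ring
    rw [this]
    exact sub_mem hmem (mul_mem (IntermediateField.algebraMap_mem _ _) (aeval_mem_adjoin t Q))
  have heq' : y' ^ 2 = aeval t P' := by
    rw [hP', map_add, map_mul, C_pow, map_pow, map_pow, aeval_C, ← hc, ← heq, hy']
    have : (y + c * aeval t Q) ^ 2 = y ^ 2 + (2 * c) * (aeval t Q * y) + c ^ 2 * aeval t Q ^ 2 := by
      ring
    rw [this, h2c, one_mul]
  have heq'' : y' ^ 2 + aeval t (0 : k[X]) * y' = aeval t P' := by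
    rw [map_zero, zero_mul, add_zero, heq']
  have hlow' := lower_bound hK ht hdeg heq'' hy'notin
  rw [natDegree_zero, mul_zero, max_eq_right (Nat.zero_le _)] at hlow'
  refine ⟨y', P', adjoin_pair_eq_top hdeg hy'notin, heq', hlow', ?_⟩
  refine (natDegree_add_le _ _).trans (max_le hP ?_)
  refine (natDegree_C_mul_le _ _).trans ((natDegree_pow_le).trans ?_)
  omega

end Groth.Agent.H62.FFHE
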