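import Groth.Agent.H62.FFUniq4
import Groth.Agent.H62.FFHE

/-!
# helper62: divisors of degree two and dimension two on a function field of positive genus
-/

set_option autoImplicit false
set_option linter.unusedSectionVars false
set_option linter.style.haveILetI false

namespace Groth.Agent.H62.FFDegTwo

open FunFld WithZero Module IntermediateField Polynomial Groth.Agent.H55
  Groth.Agent.H62.FFHypGenus Groth.Agent.H62.FFHE Groth.Agent.H62.FFUniq

variable {k K : Type*} [Field k] [Field K] [Algebra k K]

/-- a divisor of degree two with two independent sections on a function field of positive genus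
gives a function of degree two -/
theorem exists_finrank_two (hK : IsFunctionField k K) (hg : 1 ≤ genus k K) (D : Divisor k K)
    (hdeg : D.deg = 2) (hell : 2 ≤ ell D) :
    ∃ t : K, Transcendental k t ∧ finrank k⟮t⟯ K = 2 := by
  classical
  have hne : L D ≠ ⊥ := by
    intro h
    unfold ell at hell
    rw [h, finrank_bot] at hell
    omega
  obtain ⟨z, hz0, hz⟩ := (L_ne_bot_iff hK D).mp hne
  set D' : Divisor k K := D + div k z with hD'
  have hD'deg : D'.deg = 2 := by rw [hD', deg_add_div hK, hdeg]
  have hD'ell : 2 ≤ ell D' := by rw [hD', ell_add_div hK D hz0]; exact hell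
  haveI := L_finite hK D'
  -- a nonconstant element
  obtain ⟨y, hyL, hy⟩ : ∃ y ∈ L D', y ∉ Submodule.span k {(1 : K)} := by
    by_contra hcon
    push Not at hcon
    have hle : L D' ≤ Submodule.span k {(1 : K)} := fun y hy => hcon y hy
    have h1 := Submodule.finrank_mono hle
    have h2 : finrank k (Submodule.span k ({(1 : K)} : Set K)) = 1 :=
      finrank_span_singleton one_ne_zero
    unfold ell at hD'ell
    omega
  rw [mem_span_one_iff] at hy
  have hytr : Transcendental k y := fun halg => hy (hK.2 y halg)
  have hy0 : y ≠ 0 := fun h => hytr (h ▸ isAlgebraic_zero)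
  haveI := finiteDimensional_adjoin_of_transcendental hK hytr
  have hpd := poleDiv_le_of_mem_L hK hz hy0 hyL
  have hpdeg := Divisor.deg_mono hpd
  rw [deg_poleDiv hK hytr, hD'deg] at hpdeg
  have hpos : 0 < finrank k⟮y⟯ K := Module.finrank_pos
  have hle2 : finrank k⟮y⟯ K ≤ 2 := by exact_mod_cast hpdeg
  have hne1 : finrank k⟮y⟯ K ≠ 1 := by
    intro h1
    have htop : k⟮y⟯ = ⊤ := finrank_eq_one_iff_eq_top.mp h1
    have := genus_eq_zero_of_adjoin_eq_top hK htop
    omega
  exact ⟨y, hytr, by omega⟩

/-- the pole divisor of a function of degree two on a function field of positive genus has exactly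
two independent sections -/
theorem ell_poleDiv_eq_two (hK : IsFunctionField k K) (hg : 1 ≤ genus k K) {t : K}
    (hdeg : finrank k⟮t⟯ K = 2) : ell (poleDiv k t) = 2 := by
  classical
  have ht : Transcendental k t := transcendental_of_finrank hK hdeg
  have ht0 : t ≠ 0 := fun h => ht (h ▸ isAlgebraic_zero)
  set D : Divisor k K := poleDiv k t with hD
  haveI := L_finite hK D
  have h1L : (1 : K) ∈ L D := by
    intro Q
    rw [map_one, ← exp_zero, exp_le_exp]
    exact (poleDiv_nonneg t) Q
  have htL : t ∈ L D := self_mem_L_poleDiv hK ht0
  apply le_antisymm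
  · -- at most two
    by_contra hlt
    push Not at hlt
    obtain ⟨y, hyL, hy⟩ : ∃ y ∈ L D, y ∉ Submodule.span k {(1 : K), t} := by
      by_contra hcon
      push Not at hcon
      have hle : L D ≤ Submodule.span k {(1 : K), t} := fun y hy => hcon y hy
      haveI : FiniteDimensional k (Submodule.span k ({(1 : K), t} : Set K)) :=
        FiniteDimensional.span_of_finite k (Set.toFinite _)
      have h1 := Submodule.finrank_mono hle
      have h2 : finrank k (Submodule.span k ({(1 : K), t} : Set K)) ≤ 2 := by
        have h3 := finrank_span_finset_le_card (R := k) ({(1 : K), t} : Finset K)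
        have h4 : ({(1 : K), t} : Finset K).card ≤ 2 := Finset.card_le_two
        have h5 : ((({(1 : K), t} : Finset K) : Set K)) = {(1 : K), t} := by
          simp
        rw [h5] at h3
        unfold Set.finrank at h3
        omega
      unfold ell at hlt
      omega
    have hyk : y ∉ k⟮t⟯ := by
      intro hmem
      obtain ⟨c₀, c₁, hc⟩ := exists_eq_add_mul_of_mem_L_poleDiv hK ht hmem hyL
      apply hy
      rw [Submodule.mem_span_pair]
      refine ⟨c₀, c₁, ?_⟩
      rw [hc, Algebra.smul_def, Algebra.smul_def, mul_one]
    -- the dimension count in `L((m+1) (t)_∞)`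
    set g := genus k K with hgdef
    set m := g with hm
    have hyL1 : y ∈ L (1 • poleDiv k t) := by rwa [one_nsmul]
    have hle : LinearMap.range (FFHypGenus.Phi (k := k) t y (m + 2) (m + 1)) ≤
        L ((m + 1) • poleDiv k t) := by
      rintro _ ⟨p, rfl⟩
      rw [FFHypGenus.Phi_apply]
      apply add_mem
      · apply aeval_mem_L hK ht
        by_cases h0 : (p.1 : k[X]) = 0
        · rw [h0, natDegree_zero]; exact Nat.zero_le _
        · have := FFHypGenus.natDegree_lt_of_mem_degreeLT p.1.2 h0
          omega
      · have h1 : aeval t (p.2 : k[X]) ∈ L (m • poleDiv k t) := by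
          apply aeval_mem_L hK ht
          by_cases h0 : (p.2 : k[X]) = 0
          · rw [h0, natDegree_zero]; exact Nat.zero_le _
          · have := FFHypGenus.natDegree_lt_of_mem_degreeLT p.2.2 h0
            omega
        exact FFHE.mul_mem_L hK ht h1 hyL1
    haveI : Module.Finite k (L ((m + 1) • poleDiv k t)) := L_finite hK _
    have h1 := Submodule.finrank_mono hle
    have hinj := FFHypGenus.Phi_injective (k := k) ht hyk (m + 2) (m + 1)
    have h2 := (LinearEquiv.ofInjective _ hinj).finrank_eq
    rw [Module.finrank_prod, FFHypGenus.finrank_degreeLT, FFHypGenus.finrank_degreeLT] at h2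
    have h3 := ell_nsmul hK ht hdeg (r := m + 1) (by omega)
    unfold ell at h3
    push_cast at h3
    omega
  · -- at least two
    have hli : LinearIndependent k ![(1 : K), t] := by
      have htk : t ∉ Set.range (algebraMap k K) := by
        rintro ⟨c, hc⟩
        exact ht (hc ▸ isAlgebraic_algebraMap c)
      exact FFInvol.linearIndependent_one_y (F := k) (K := K) htk
    have hle : Submodule.span k (Set.range ![(1 : K), t]) ≤ L D := by
      rw [Submodule.span_le]
      rintro _ ⟨i, rfl⟩
      fin_cases i
      · exact h1L
      · exact htL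
    have h1 := Submodule.finrank_mono hle
    rw [finrank_span_eq_card hli] at h1
    unfold ell
    simpa using h1

end Groth.Agent.H62.FFDegTwo
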