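import Mathlib

/-!
# helper62: an inseparable quadratic extension lives in characteristic two and all squares lie in
the base field
-/

set_option autoImplicit false
set_option linter.style.haveILetI false
open Polynomial IntermediateField Module

namespace Groth.Agent.H62.PM

variable {F K : Type*} [Field F] [Field K] [Algebra F K]

/-- **inseparable quadratic extensions** -/
theorem sq_mem_of_finrank_two (h2 : finrank F K = 2) (hns : ¬ Algebra.IsSeparable F K) :
    CharP F 2 ∧ ∀ w : K, w ^ 2 ∈ (algebraMap F K).range := by
  haveI : FiniteDimensional F K := FiniteDimensional.of_finrank_pos (by omega)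
  -- a non-separable element
  have hex : ∃ z : K, ¬ IsSeparable F z := by
    by_contra hcon
    push Not at hcon
    exact hns ⟨hcon⟩
  obtain ⟨z, hz⟩ := hex
  have hint : IsIntegral F z := IsIntegral.of_finite F z
  have hirr := minpoly.irreducible hint
  have hder : derivative (minpoly F z) = 0 := by
    by_contra hne
    exact hz ((separable_iff_derivative_ne_zero hirr).mpr hne)
  -- the degree of the minimal polynomial is two
  have hdvd : (minpoly F z).natDegree ∣ 2 := by
    rw [← h2, ← IntermediateField.adjoin.finrank hint]
    exact ⟨finrank F⟮z⟯ K, (finrank_mul_finrank F F⟮z⟯ K).symm⟩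
  have hpos : 0 < (minpoly F z).natDegree := minpoly.natDegree_pos hint
  have hne1 : (minpoly F z).natDegree ≠ 1 := by
    intro h1
    obtain ⟨a, rfl⟩ := minpoly.natDegree_eq_one_iff.mp h1
    exact hz (isSeparable_algebraMap a)
  have hdeg : (minpoly F z).natDegree = 2 := by
    rcases (Nat.dvd_prime Nat.prime_two).mp hdvd with h | h
    · exact absurd h hne1
    · exact h
  have hmonic := minpoly.monic hint
  -- characteristic two
  have hchar : (2 : F) = 0 := by
    have := congrArg (fun p => p.coeff 1) hder
    simp only [coeff_derivative, coeff_zero] at this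
    have hc : (minpoly F z).coeff 2 = 1 := by
      have := hmonic.coeff_natDegree
      rwa [hdeg] at this
    rw [show (1 + 1 : ℕ) = 2 from rfl, hc, one_mul] at this
    exact_mod_cast this
  haveI hcp : CharP F 2 := by
    apply CharTwo.of_one_ne_zero_of_two_eq_zero one_ne_zero hchar
  haveI : CharP K 2 := charP_of_injective_algebraMap (algebraMap F K).injective 2
  refine ⟨hcp, ?_⟩
  -- `z² ∈ F`
  have hb : (minpoly F z).coeff 1 = 0 := by
    have := congrArg (fun p => p.coeff 0) hder
    simp only [coeff_derivative, coeff_zero] at this
    simpa using this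
  have hz2 : z ^ 2 ∈ (algebraMap F K).range := by
    have hev := minpoly.aeval F z
    rw [aeval_eq_sum_range, hdeg, Finset.sum_range_succ, Finset.sum_range_succ,
      Finset.sum_range_one, hb] at hev
    have hc : (minpoly F z).coeff 2 = 1 := by
      have := hmonic.coeff_natDegree
      rwa [hdeg] at this
    rw [hc, one_smul, zero_smul, add_zero, pow_zero] at hev
    refine ⟨-(minpoly F z).coeff 0, ?_⟩
    rw [map_neg, ← Algebra.algebraMap_eq_smul_one] at *
    linear_combination -hev
  -- the subfield of elements whose square lies in `F`
  let S : IntermediateField F K :=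
    { ((algebraMap F K).fieldRange).comap (frobenius K 2) with
      algebraMap_mem' := fun a => by
        change (frobenius K 2) (algebraMap F K a) ∈ (algebraMap F K).fieldRange
        rw [frobenius_def, ← map_pow]
        exact ⟨a ^ 2, rfl⟩ }
  have hzS : z ∈ S := by
    change (frobenius K 2) z ∈ (algebraMap F K).fieldRange
    rw [frobenius_def]
    exact hz2
  have hzF : z ∉ (⊥ : IntermediateField F K) := by
    intro hmem
    rw [IntermediateField.mem_bot] at hmem
    obtain ⟨a, rfl⟩ := hmem
    rw [minpoly.eq_X_sub_C_of_algebraMap_inj a (algebraMap F K).injective] at hdeg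
    simp at hdeg
  have hStop : S = ⊤ := by
    have h1 : F⟮z⟯ ≤ S := by
      rw [IntermediateField.adjoin_le_iff]
      rintro _ rfl
      exact hzS
    have h3 : F⟮z⟯ = ⊤ := by
      apply IntermediateField.eq_of_le_of_finrank_eq le_top
      rw [IntermediateField.adjoin.finrank hint, hdeg, IntermediateField.finrank_top', h2]
    rw [eq_top_iff, ← h3]
    exact h1
  intro w
  have hw : w ∈ S := by rw [hStop]; trivial
  have : (frobenius K 2) w ∈ (algebraMap F K).fieldRange := hw
  rw [frobenius_def] at this
  exact this

end Groth.Agent.H62.PM
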