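import Mathlib

/-!
# helper62: in characteristic two over a perfect field `L`, an extension `K'/L` in which every
square lies in `L(t)` is generated by one element (`t` or a square root of `t`)
-/

set_option autoImplicit false
set_option linter.style.haveILetI false
open Polynomial IntermediateField

namespace Groth.Agent.H62.PM

variable {L : Type*} [Field L] [CharP L 2] [PerfectField L]

/-- square roots in a perfect field of characteristic two -/
theorem exists_sq_eq (a : L) : ∃ b : L, b ^ 2 = a := by
  haveI : PerfectRing L 2 := PerfectField.toPerfectRing 2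
  exact ⟨(frobeniusEquiv L 2).symm a, frobeniusEquiv_symm_pow_p L 2 a⟩

/-- even/odd decomposition of a polynomial over a perfect field of characteristic two -/
theorem exists_even_odd (c : L[X]) : ∃ E O : L[X], c = E ^ 2 + X * O ^ 2 := by
  haveI : CharP L[X] 2 := inferInstance
  induction c using Polynomial.induction_on' with
  | add p q hp hq =>
    obtain ⟨E₁, O₁, rfl⟩ := hp
    obtain ⟨E₂, O₂, rfl⟩ := hq
    refine ⟨E₁ + E₂, O₁ + O₂, ?_⟩
    rw [add_pow_char, add_pow_char]
    ring
  | monomial n a =>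
    obtain ⟨b, rfl⟩ := exists_sq_eq a
    rcases Nat.even_or_odd' n with ⟨m, rfl | rfl⟩
    · refine ⟨monomial m b, 0, ?_⟩
      rw [monomial_pow, mul_comm m 2]
      simp
    · refine ⟨0, monomial m b, ?_⟩
      rw [monomial_pow, zero_pow two_ne_zero, zero_add, ← monomial_one_one_eq_X, monomial_mul_monomial]
      congr 1
      · ring_nf
      · ring_nf

/-- a polynomial in `X²` is a square -/
theorem exists_comp_sq (P : L[X]) : ∃ P' : L[X], P.comp (X ^ 2) = P' ^ 2 := by
  haveI : CharP L[X] 2 := inferInstance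
  induction P using Polynomial.induction_on' with
  | add p q hp hq =>
    obtain ⟨p', hp'⟩ := hp
    obtain ⟨q', hq'⟩ := hq
    refine ⟨p' + q', ?_⟩
    rw [add_comp, hp', hq', add_pow_char]
  | monomial n a =>
    obtain ⟨b, rfl⟩ := exists_sq_eq a
    refine ⟨monomial n b, ?_⟩
    rw [monomial_comp, monomial_pow, ← C_mul_X_pow_eq_monomial, ← pow_mul, mul_comm 2 n]

theorem charP_two (L' : Type*) [Field L'] [CharP L' 2] (K' : Type*) [Field K'] [Algebra L' K'] :
    CharP K' 2 :=
  charP_of_injective_algebraMap (algebraMap L' K').injective 2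

theorem eq_of_sq_eq (L' : Type*) [Field L'] [CharP L' 2] {K' : Type*} [Field K'] [Algebra L' K']
    {a b : K'} (h : a ^ 2 = b ^ 2) : a = b := by
  haveI : CharP K' 2 := charP_two L' K'
  have : (a - b) ^ 2 = 0 := by rw [sub_pow_char, h, sub_self]
  exact sub_eq_zero.mp (pow_eq_zero_iff two_ne_zero |>.mp this)

variable {K : Type*} [Field K] [Algebra L K]

/-- **rationality**: if every square of `K` lies in `L(t)` then `K` is generated by one element -/
theorem exists_adjoin_eq_top (t : K) (h : ∀ w : K, w ^ 2 ∈ L⟮t⟯) : ∃ s : K, L⟮s⟯ = ⊤ := by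
  haveI : CharP K 2 := charP_two L K
  by_cases hs : ∃ s : K, s ^ 2 = t
  · obtain ⟨s, rfl⟩ := hs
    refine ⟨s, ?_⟩
    rw [eq_top_iff]
    intro w _
    obtain ⟨r, q, hw⟩ := (mem_adjoin_simple_iff L _).mp (h w)
    obtain ⟨r', hr'⟩ := exists_comp_sq r
    obtain ⟨q', hq'⟩ := exists_comp_sq q
    have h1 : ∀ P P' : L[X], P.comp (X ^ 2) = P' ^ 2 → aeval (s ^ 2) P = (aeval s P') ^ 2 := by
      intro P P' hP
      have := congrArg (aeval s) hP
      rwa [aeval_comp, map_pow, map_pow, aeval_X] at this
    rw [h1 r r' hr', h1 q q' hq', ← div_pow] at hw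
    rw [eq_of_sq_eq L hw]
    exact (mem_adjoin_simple_iff L _).mpr ⟨r', q', rfl⟩
  · refine ⟨t, ?_⟩
    rw [eq_top_iff]
    intro w _
    obtain ⟨r, q, hw⟩ := (mem_adjoin_simple_iff L _).mp (h w)
    by_cases hq : aeval t q = 0
    · rw [hq, div_zero] at hw
      rw [pow_eq_zero_iff two_ne_zero |>.mp hw]
      exact zero_mem _
    obtain ⟨E, O, hEO⟩ := exists_even_odd (r * q)
    have h1 : (w * aeval t q) ^ 2 = (aeval t E) ^ 2 + t * (aeval t O) ^ 2 := by
      have h0 : (w * aeval t q) ^ 2 = aeval t (r * q) := by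
        rw [mul_pow, hw, map_mul]
        field_simp
      rw [h0, hEO]
      simp
    have h2 : (w * aeval t q - aeval t E) ^ 2 = t * (aeval t O) ^ 2 := by
      rw [sub_pow_char, h1, add_sub_cancel_left]
    by_cases hO : aeval t O = 0
    · rw [hO, zero_pow two_ne_zero, mul_zero] at h2
      have h3 : w * aeval t q = aeval t E :=
        sub_eq_zero.mp (pow_eq_zero_iff two_ne_zero |>.mp h2)
      have h4 : w = aeval t E / aeval t q := by rw [eq_div_iff hq, h3]
      rw [h4]
      exact (mem_adjoin_simple_iff L _).mpr ⟨E, q, rfl⟩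
    · exfalso
      apply hs
      refine ⟨(w * aeval t q - aeval t E) / aeval t O, ?_⟩
      rw [div_pow, h2, mul_div_assoc, div_self (pow_ne_zero 2 hO), mul_one]

end Groth.Agent.H62.PM
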