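import Groth.Agent.H62.FFInvol5
import Groth.Agent.H62.PM9
import Groth.Agent.H62.PM10
import Groth.Agent.H55.WGal
import Groth.Agent.H55.FFWeil

/-!
# helper62: over an algebraically closed field, the automorphism group of a function field of genus
one acts transitively on its places
-/

set_option autoImplicit false
set_option linter.unusedSectionVars false
set_option linter.style.haveILetI false

namespace Groth.Agent.H62.FFEllAut

open FunFld WithZero Module IntermediateField Groth.Agent.H55 Groth.Agent.H62.FFTower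
  Groth.Agent.H62.FFExtDeg

variable {k K : Type*} [Field k] [Field K] [Algebra k K]

/-- the generator of `k(t)` generates it -/
theorem adjoin_gen_eq_top (t : K) :
    k⟮AdjoinSimple.gen k t⟯ = (⊤ : IntermediateField k k⟮t⟯) := by
  apply IntermediateField.map_injective (k⟮t⟯.val)
  rw [adjoin_map, Set.image_singleton, ← AlgHom.fieldRange_eq_map, fieldRange_val]
  rfl

/-- separability of degree-two subfields in positive genus over a perfect field -/
theorem isSeparable_of_finrank_two_of_genus_pos [PerfectField k] (hK : IsFunctionField k K)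
    (hg : 0 < genus k K) {x : K} (hdeg : finrank k⟮x⟯ K = 2) :
    Algebra.IsSeparable k⟮x⟯ K := by
  by_contra hns
  obtain ⟨hchar, hsq⟩ := Groth.Agent.H62.PM.sq_mem_of_finrank_two hdeg hns
  haveI : CharP k 2 := RingHom.charP (algebraMap k k⟮x⟯) (algebraMap k k⟮x⟯).injective 2
  obtain ⟨s, hs⟩ := Groth.Agent.H62.PM.exists_adjoin_eq_top (L := k) x (fun w => by
    obtain ⟨a, ha⟩ := hsq w
    rw [← ha]
    exact a.2)
  have := genus_eq_zero_of_adjoin_eq_top hK hs
  omega

/-- a pole of `x` lies over the pole of the generator of `k(x)` -/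
theorem isOver_pole (hK : IsFunctionField k K) {x : K} (hF : IsFunctionField k k⟮x⟯)
    [FiniteDimensional k⟮x⟯ K] {R : Place k k⟮x⟯}
    (hR : poleDiv k (AdjoinSimple.gen k x) = Finsupp.single R 1) {P : Place k K}
    (hP : 1 < P.1 x) : IsOver P R := by
  classical
  have halg : Algebra.IsAlgebraic k⟮x⟯ K := Algebra.IsAlgebraic.of_finite _ K
  obtain ⟨P', e, he⟩ := exists_place_under hF P
  have h1 : 1 < P'.1 (AdjoinSimple.gen k x) := by
    by_contra hle
    push Not at hle
    have h2 := he (AdjoinSimple.gen k x)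
    have h3 : P.1 x ≤ 1 := by
      have : algebraMap k⟮x⟯ K (AdjoinSimple.gen k x) = x := rfl
      rw [this] at h2
      rw [h2]
      exact pow_le_one₀ zero_le hle
    exact absurd hP (not_lt.mpr h3)
  have hgen0 : AdjoinSimple.gen k x ≠ 0 := by
    intro h0
    rw [h0, map_zero] at h1
    exact absurd h1 (by simp)
  have h4 : poleDiv k (AdjoinSimple.gen k x) P' ≠ 0 := by
    rw [poleDiv_apply hF]
    have := (Place.ord_neg_iff P' hgen0).mpr h1
    omega
  rw [hR, Finsupp.single_apply] at h4
  have hRP : R = P' := by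
    by_contra hne
    rw [if_neg hne] at h4
    exact h4 rfl
  rw [hRP]
  exact ⟨e, he⟩

/-- **transitivity of the automorphism group on the places, genus one** -/
theorem exists_algEquiv_comapAlg_eq [IsAlgClosed k] (hK : IsFunctionField k K)
    (hg : genus k K = 1) (P Q : Place k K) :
    ∃ σ : K ≃ₐ[k] K, Place.comapAlg P σ = Q := by
  classical
  by_cases hPQ : P = Q
  · exact ⟨AlgEquiv.refl, by rw [← hPQ]; exact Place.ext' (fun x => rfl)⟩
  set D : Divisor k K := Finsupp.single P 1 + Finsupp.single Q 1 with hD
  have hP1 := Place.deg_eq_one_of_isAlgClosed hK P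
  have hQ1 := Place.deg_eq_one_of_isAlgClosed hK Q
  have hDdeg : D.deg = 2 := by
    rw [hD, Divisor.deg_add, deg_single_of_deg_one hP1, deg_single_of_deg_one hQ1]
    norm_num
  have h1 := ell_of_deg_ge hK D (by rw [hDdeg, hg]; norm_num)
  rw [hDdeg, hg] at h1
  have h2 : ell D = 2 := by
    have : (ell D : ℤ) = 2 := by rw [h1]; norm_num
    exact_mod_cast this
  have hnle : ¬ L D ≤ L (0 : Divisor k K) := by
    intro hle
    have hfin := (finrank_L_zero hK).1
    have := Submodule.finrank_mono hle
    rw [(finrank_L_zero hK).2] at this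
    unfold ell at h2
    omega
  obtain ⟨x, hxL, hx0⟩ := Set.not_subset.mp hnle
  have hxk : x ∉ Set.range (algebraMap k K) := by
    intro hmem
    apply hx0
    show x ∈ L (0 : Divisor k K)
    rw [L_zero hK, Submodule.mem_one]
    exact hmem
  have htr := transcendental_of_notMem_range hK hxk
  have hxne : x ≠ 0 := fun h => htr (h ▸ isAlgebraic_zero)
  have hDnn : ∀ R : Place k K, (0 : ℤ) ≤ D R := by
    intro R
    rw [hD, Finsupp.add_apply, Finsupp.single_apply, Finsupp.single_apply]
    split_ifs <;> norm_num
  have hple : poleDiv k x ≤ D := by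
    intro R
    rw [poleDiv_apply hK]
    have h3 := (mem_L_iff_ord hxne).mp hxL R
    exact max_le (by omega) (hDnn R)
  have h5 := Divisor.deg_mono hple
  rw [hDdeg, deg_poleDiv hK htr] at h5
  haveI hfd := finiteDimensional_adjoin_of_transcendental hK htr
  have h6 : 0 < finrank k⟮x⟯ K := Module.finrank_pos
  have hdeg : finrank k⟮x⟯ K = 2 := by
    by_contra hne
    have h7 : finrank k⟮x⟯ K = 1 := by omega
    have htop := eq_top_of_finrank_eq_one _ h7
    have := genus_eq_zero_of_adjoin_eq_top hK htop
    omega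
  have hpole : poleDiv k x = D := by
    apply Divisor.eq_of_le_of_deg_eq hK hple
    rw [hDdeg, deg_poleDiv hK htr, hdeg]
    norm_num
  have hDP : D P = 1 := by
    rw [hD, Finsupp.add_apply, Finsupp.single_apply, Finsupp.single_apply, if_pos rfl,
      if_neg (fun h => hPQ h.symm)]
    norm_num
  have hDQ : D Q = 1 := by
    rw [hD, Finsupp.add_apply, Finsupp.single_apply, Finsupp.single_apply, if_pos rfl,
      if_neg hPQ]
    norm_num
  have hPpole : 1 < P.1 x := by
    rw [← Place.ord_neg_iff P hxne]
    have := congrArg (fun E : Divisor k K => E P) hpole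
    simp only [poleDiv_apply hK, hDP] at this
    omega
  have hQpole : 1 < Q.1 x := by
    rw [← Place.ord_neg_iff Q hxne]
    have := congrArg (fun E : Divisor k K => E Q) hpole
    simp only [poleDiv_apply hK, hDQ] at this
    omega
  have hF : IsFunctionField k k⟮x⟯ := Groth.Agent.H62.FFInvol.isFunctionField_of_finite hK
  obtain ⟨R, -, hR⟩ := poleDiv_of_adjoin_eq_top hF (adjoin_gen_eq_top x)
  obtain ⟨e, he⟩ := isOver_pole hK hF hR hPpole
  obtain ⟨e', he'⟩ := isOver_pole hK hF hR hQpole
  haveI : Algebra.IsSeparable k⟮x⟯ K :=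
    isSeparable_of_finrank_two_of_genus_pos hK (by omega) hdeg
  haveI : Algebra.IsQuadraticExtension k⟮x⟯ K := { finrank_eq_two' := hdeg }
  haveI : IsGalois k⟮x⟯ K := inferInstance
  obtain ⟨σ, hσ⟩ := exists_comapK_eq he he'
  exact ⟨σ.restrictScalars k, hσ⟩

end Groth.Agent.H62.FFEllAut
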