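import Groth.Agent.H62.FFUniq3

/-!
# helper62: subfields of index two and genus zero, part 4: uniqueness
In a function field `K/k` of genus at least two there is at most one subfield `F ⊇ k` with
`[K : F] = 2` which is a function field of genus zero.
-/

set_option autoImplicit false
set_option linter.unusedSectionVars false
set_option linter.style.haveILetI false

namespace Groth.Agent.H62.FFUniq

open FunFld WithZero Module IntermediateField Groth.Agent.H55 Groth.Agent.H62.FFTower
  Groth.Agent.H62.FFExtDeg Groth.Agent.H62.FFConormL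

section aux

variable {k F : Type*} [Field k] [Field F] [Algebra k F]

/-- divisors `A ≤ B` of the same degree are equal -/
theorem eq_of_le_of_deg_eq (hF : IsFunctionField k F) {A B : Divisor k F} (h : A ≤ B)
    (hdeg : A.deg = B.deg) : A = B := by
  by_contra hne
  have h0 : 0 ≤ B - A := sub_nonneg.mpr h
  have hne' : B - A ≠ 0 := fun h0 => hne (sub_eq_zero.mp h0).symm
  have := deg_pos_of_nonneg_ne_zero hF h0 hne'
  rw [Divisor.deg_sub] at this
  omega

/-- the pole divisor of an element of `L(D)`, `D ≥ 0`, is at most `D` -/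
theorem poleDiv_le_of_mem_L (hF : IsFunctionField k F) {D : Divisor k F} (hD : 0 ≤ D) {y : F}
    (hy0 : y ≠ 0) (hy : y ∈ L D) : poleDiv k y ≤ D := by
  rw [mem_L_iff_ord hy0] at hy
  intro P
  rw [poleDiv_apply hF]
  have h1 := hy P
  have h2 := hD P
  rw [Finsupp.zero_apply] at h2
  exact max_le (by omega) h2

/-- an effective divisor of degree two on a function field of genus zero -/
theorem exists_effective_deg_two (hF : IsFunctionField k F) (hg : genus k F = 0) :
    ∃ D : Divisor k F, 0 ≤ D ∧ D.deg = 2 ∧ ell D = 3 := by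
  obtain ⟨W, hW⟩ := exists_canonical hF
  obtain ⟨-, hWdeg⟩ := canonical_ell_deg hF hW
  have hD0deg : (-W).deg = 2 := by
    rw [Divisor.deg_neg, hWdeg, hg]
    norm_num
  have hD0ell := ell_of_deg_ge hF (-W) (by rw [hg, hD0deg]; norm_num)
  rw [hD0deg, hg] at hD0ell
  have hne : L (-W) ≠ ⊥ := by
    intro h
    unfold ell at hD0ell
    rw [h, finrank_bot] at hD0ell
    norm_num at hD0ell
  obtain ⟨z, hz0, hz⟩ := (L_ne_bot_iff hF (-W)).mp hne
  refine ⟨-W + div k z, hz, ?_, ?_⟩
  · rw [deg_add_div hF, hD0deg]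
  · have h1 := ell_of_deg_ge hF (-W + div k z) (by rw [hg, deg_add_div hF, hD0deg]; norm_num)
    rw [deg_add_div hF, hD0deg, hg] at h1
    have : (ell (-W + div k z) : ℤ) = 3 := by rw [h1]; norm_num
    exact_mod_cast this

/-- in a three-dimensional space containing `1` there are `y₁, y₂` with `1, y₁, y₂` independent;
`y₁` may be prescribed outside the line of constants -/
theorem exists_not_mem_span_pair {V : Submodule k F} [FiniteDimensional k V]
    (hV : finrank k V = 3) (y₁ : F) :
    ∃ y₂ ∈ V, y₂ ∉ Submodule.span k {(1 : F), y₁} := by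
  classical
  by_contra hcon
  push Not at hcon
  have hle : V ≤ Submodule.span k {(1 : F), y₁} := fun y hy => hcon y hy
  haveI : FiniteDimensional k (Submodule.span k ({(1 : F), y₁} : Set F)) :=
    FiniteDimensional.span_of_finite k (Set.toFinite _)
  have h1 := Submodule.finrank_mono hle
  have h2 : finrank k (Submodule.span k ({(1 : F), y₁} : Set F)) ≤ 2 := by
    have h3 := finrank_span_finset_le_card (R := k) ({(1 : F), y₁} : Finset F)
    have h4 : ({(1 : F), y₁} : Finset F).card ≤ 2 := Finset.card_le_two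
    have h5 : ((({(1 : F), y₁} : Finset F) : Set F)) = {(1 : F), y₁} := by
      simp
    rw [h5] at h3
    unfold Set.finrank at h3
    omega
  omega

theorem exists_not_mem_span_one {V : Submodule k F} [FiniteDimensional k V]
    (hV : finrank k V = 3) :
    ∃ y₁ ∈ V, y₁ ∉ Submodule.span k {(1 : F)} := by
  classical
  by_contra hcon
  push Not at hcon
  have hle : V ≤ Submodule.span k {(1 : F)} := fun y hy => hcon y hy
  have h1 := Submodule.finrank_mono hle
  have h2 : finrank k (Submodule.span k ({(1 : F)} : Set F)) = 1 :=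
    finrank_span_singleton one_ne_zero
  omega

theorem mem_span_one_iff {y : F} :
    y ∈ Submodule.span k {(1 : F)} ↔ y ∈ Set.range (algebraMap k F) := by
  rw [Submodule.mem_span_singleton]
  constructor
  · rintro ⟨c, rfl⟩
    exact ⟨c, by rw [Algebra.smul_def, mul_one]⟩
  · rintro ⟨c, rfl⟩
    exact ⟨c, by rw [Algebra.smul_def, mul_one]⟩

/-- an effective divisor of degree two and dimension three on `F` generates `F`: an intermediate
field containing `L(D)` is everything -/
theorem eq_top_of_L_le (hF : IsFunctionField k F) {D : Divisor k F} (hD : 0 ≤ D)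
    (hDdeg : D.deg = 2) (hDell : ell D = 3) (S : IntermediateField k F)
    (hS : ∀ y ∈ L D, y ∈ S) : S = ⊤ := by
  classical
  haveI := L_finite hF D
  obtain ⟨y₁, hy₁L, hy₁⟩ := exists_not_mem_span_one (V := L D) hDell
  obtain ⟨y₂, hy₂L, hy₂⟩ := exists_not_mem_span_pair (V := L D) hDell y₁
  rw [mem_span_one_iff] at hy₁
  have hy₁tr : Transcendental k y₁ := fun halg => hy₁ (hF.2 y₁ halg)
  have hy₁0 : y₁ ≠ 0 := fun h => hy₁tr (h ▸ isAlgebraic_zero)
  haveI := finiteDimensional_adjoin_of_transcendental hF hy₁tr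
  have hpd := poleDiv_le_of_mem_L hF hD hy₁0 hy₁L
  have hpdeg := Divisor.deg_mono hpd
  rw [deg_poleDiv hF hy₁tr, hDdeg] at hpdeg
  have hpos : 0 < finrank k⟮y₁⟯ F := Module.finrank_pos
  have hle : k⟮y₁⟯ ≤ S := by
    rw [adjoin_simple_le_iff]
    exact hS y₁ hy₁L
  have hcases : finrank k⟮y₁⟯ F = 1 ∨ finrank k⟮y₁⟯ F = 2 := by
    have : finrank k⟮y₁⟯ F ≤ 2 := by exact_mod_cast hpdeg
    omega
  rcases hcases with h1 | h2
  · have htop : k⟮y₁⟯ = ⊤ := finrank_eq_one_iff_eq_top.mp h1
    rw [htop] at hle
    exact top_le_iff.mp hle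
  · have hpdD : poleDiv k y₁ = D := by
      apply eq_of_le_of_deg_eq hF hpd
      rw [deg_poleDiv hF hy₁tr, hDdeg, h2]
      norm_num
    have hy₂k : y₂ ∉ k⟮y₁⟯ := by
      intro hmem
      obtain ⟨c₀, c₁, hc⟩ := exists_eq_add_mul_of_mem_L_poleDiv hF hy₁tr hmem (hpdD ▸ hy₂L)
      apply hy₂
      rw [Submodule.mem_span_pair]
      refine ⟨c₀, c₁, ?_⟩
      rw [hc, Algebra.smul_def, Algebra.smul_def, mul_one]
    have hy₂r : y₂ ∉ Set.range (algebraMap k⟮y₁⟯ F) := by
      rintro ⟨a, ha⟩
      exact hy₂k (ha ▸ a.2)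
    rw [eq_top_iff]
    intro z _
    obtain ⟨a, b, hab⟩ := FFInvol.exists_repr h2 hy₂r z
    rw [hab]
    exact S.add_mem (hle a.2) (S.mul_mem (hle b.2) (hS y₂ hy₂L))

end aux

variable {k F F' K : Type*} [Field k] [Field F] [Field F'] [Field K] [Algebra k F] [Algebra k F']
  [Algebra k K] [Algebra F K] [Algebra F' K] [IsScalarTower k F K] [IsScalarTower k F' K]

theorem conorm_nonneg [FiniteDimensional F K] (hF : IsFunctionField k F) {D : Divisor k F}
    (hD : 0 ≤ D) : 0 ≤ conorm K D := by
  intro Q
  obtain ⟨P, e, he⟩ := exists_place_under hF Q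
  rw [conorm_apply_of_isOverWith hF _ he, Finsupp.zero_apply]
  have := hD P
  rw [Finsupp.zero_apply] at this
  positivity

/-- the elements of `F'` whose image in `K` lies in `F` -/
noncomputable def pullField (k F F' K : Type*) [Field k] [Field F] [Field F'] [Field K]
    [Algebra k F] [Algebra k F'] [Algebra k K] [Algebra F K] [Algebra F' K] [IsScalarTower k F K]
    [IsScalarTower k F' K] : IntermediateField k F' :=
  ((IsScalarTower.toAlgHom k F K).fieldRange).comap (IsScalarTower.toAlgHom k F' K)

theorem mem_pullField {z : F'} :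
    z ∈ pullField k F F' K ↔ algebraMap F' K z ∈ Set.range (algebraMap F K) := Iff.rfl

/-- **rational case**: a rational subfield of index two lies in every subfield of index two and
genus zero -/
theorem range_le_of_rational [FiniteDimensional F K] (hF : IsFunctionField k F)
    (hK : IsFunctionField k K) (hdeg : finrank F K = 2) (hgF : genus k F = 0)
    (hg : 2 ≤ genus k K) (hdeg' : finrank F' K = 2) {x : F'} (hx : k⟮x⟯ = ⊤) :
    Set.range (algebraMap F' K) ⊆ Set.range (algebraMap F K) := by
  have h1 : finrank k⟮x⟯ F' = 1 := finrank_eq_one_iff_eq_top.mpr hx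
  have htdeg : finrank k⟮algebraMap F' K x⟯ K = 2 := by
    rw [finrank_adjoin_algebraMap, h1, hdeg']
  have ht : algebraMap F' K x ∈ Set.range (algebraMap F K) := by
    by_contra hcon
    have := genus_le_one_of_index_two hF hK hdeg hgF hcon htdeg
    omega
  have hle : k⟮x⟯ ≤ pullField k F F' K := by
    rw [adjoin_simple_le_iff]
    exact ht
  rw [hx] at hle
  rintro _ ⟨z, rfl⟩
  exact mem_pullField.mp (hle (mem_top (x := z)))

/-- **non-rational case**: if `F` is not rational then every subfield of index two and genus zero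
lies in `F` -/
theorem range_le_of_not_rational [FiniteDimensional F K] [FiniteDimensional F' K]
    (hF : IsFunctionField k F) (hF' : IsFunctionField k F') (hK : IsFunctionField k K)
    (hdeg : finrank F K = 2) (hgF : genus k F = 0) (hg : 2 ≤ genus k K)
    (hdeg' : finrank F' K = 2) (hgF' : genus k F' = 0) (hnr : ∀ x : F, k⟮x⟯ ≠ ⊤) :
    Set.range (algebraMap F' K) ⊆ Set.range (algebraMap F K) := by
  classical
  obtain ⟨D', hD'0, hD'deg, hD'ell⟩ := exists_effective_deg_two hF' hgF'
  haveI := L_finite hF' D'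
  set A' : Divisor k K := conorm K D' with hA'
  have hA'0 : 0 ≤ A' := by
    rw [hA']
    exact conorm_nonneg hF' hD'0
  have hA'deg : A'.deg = 4 := by
    rw [hA', FFConormL.deg_conorm hF', hdeg', hD'deg]
    norm_num
  -- degrees of transcendental elements of `F`
  have hdeg2 : ∀ c' : F, Transcendental k c' → (2 : ℤ) ≤ (poleDiv k c').deg := by
    intro c' hc'
    haveI := finiteDimensional_adjoin_of_transcendental hF hc'
    rw [deg_poleDiv hF hc']
    have hpos : 0 < finrank k⟮c'⟯ F := Module.finrank_pos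
    have hne1 : finrank k⟮c'⟯ F ≠ 1 := fun h1 => hnr c' (finrank_eq_one_iff_eq_top.mp h1)
    have : 2 ≤ finrank k⟮c'⟯ F := by omega
    exact_mod_cast this
  have hconst : ∀ c' : F, ¬ Transcendental k c' → c' ∈ Set.range (algebraMap k F) := by
    intro c' hc'
    exact hF.2 c' (by rwa [Transcendental, not_not] at hc')
  -- the key claim
  have hkey : ∀ w ∈ L D', algebraMap F' K w ∈ Set.range (algebraMap F K) := by
    by_contra hcon
    push Not at hcon
    obtain ⟨y₁, hy₁L, ht₁r⟩ := hcon
    obtain ⟨y₂, hy₂L, hy₂⟩ := exists_not_mem_span_pair (V := L D') hD'ell y₁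
    set t₁ := algebraMap F' K y₁ with ht₁
    set t₂ := algebraMap F' K y₂ with ht₂
    have ht₁L : t₁ ∈ L A' := (algebraMap_mem_L_conorm_iff hF' D').mpr hy₁L
    have ht₂L : t₂ ∈ L A' := (algebraMap_mem_L_conorm_iff hF' D').mpr hy₂L
    obtain ⟨a', b', hrepr⟩ := FFInvol.exists_repr hdeg ht₁r t₂
    have ha' : ¬ Transcendental k a' := by
      intro htr
      have h1 := genus_add_deg_le_three hF hK hdeg hgF hA'0 hA'deg ht₁L ht₂L ht₁r hrepr
        (Or.inl rfl) htr
      have h2 := hdeg2 a' htr
      have : (2 : ℤ) ≤ genus k K := by exact_mod_cast hg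
      omega
    have hb' : ¬ Transcendental k b' := by
      intro htr
      have h1 := genus_add_deg_le_three hF hK hdeg hgF hA'0 hA'deg ht₁L ht₂L ht₁r hrepr
        (Or.inr rfl) htr
      have h2 := hdeg2 b' htr
      have : (2 : ℤ) ≤ genus k K := by exact_mod_cast hg
      omega
    obtain ⟨α, hα⟩ := hconst a' ha'
    obtain ⟨β, hβ⟩ := hconst b' hb'
    apply hy₂
    rw [Submodule.mem_span_pair]
    refine ⟨α, β, ?_⟩
    apply (algebraMap F' K).injective
    rw [← ht₂, hrepr, ← hα, ← hβ, Algebra.smul_def, Algebra.smul_def, mul_one, map_add, map_mul,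
      ← IsScalarTower.algebraMap_apply k F K, ← IsScalarTower.algebraMap_apply k F K,
      ← IsScalarTower.algebraMap_apply k F' K, ← IsScalarTower.algebraMap_apply k F' K]
  have htop := eq_top_of_L_le hF' hD'0 hD'deg hD'ell (pullField k F F' K) hkey
  rintro _ ⟨z, rfl⟩
  exact mem_pullField.mp (htop ▸ mem_top (x := z))

/-- one inclusion between subfields of index two forces equality -/
theorem range_eq_of_range_le (hdeg : finrank F K = 2) (hdeg' : finrank F' K = 2)
    (hle : Set.range (algebraMap F K) ⊆ Set.range (algebraMap F' K)) :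
    Set.range (algebraMap F' K) ⊆ Set.range (algebraMap F K) := by
  rintro _ ⟨z, rfl⟩
  by_contra hz
  have hsurj : Function.Surjective (algebraMap F' K) := by
    intro w
    obtain ⟨a, b, hab⟩ := FFInvol.exists_repr hdeg hz w
    obtain ⟨a₁, ha₁⟩ := hle ⟨a, rfl⟩
    obtain ⟨b₁, hb₁⟩ := hle ⟨b, rfl⟩
    exact ⟨a₁ + b₁ * z, by rw [hab, map_add, map_mul, ha₁, hb₁]⟩
  have h1 : finrank F' K = 1 := by
    have e : F' ≃ₗ[F'] K :=
      LinearEquiv.ofBijective (Algebra.linearMap F' K) ⟨(algebraMap F' K).injective, hsurj⟩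
    rw [← e.finrank_eq, Module.finrank_self]
  omega

/-- **uniqueness of the subfield of index two and genus zero** in a function field of genus at
least two -/
theorem range_eq_of_genus_zero_index_two [FiniteDimensional F K] [FiniteDimensional F' K]
    (hF : IsFunctionField k F) (hF' : IsFunctionField k F') (hK : IsFunctionField k K)
    (hdeg : finrank F K = 2) (hgF : genus k F = 0) (hdeg' : finrank F' K = 2)
    (hgF' : genus k F' = 0) (hg : 2 ≤ genus k K) :
    Set.range (algebraMap F K) = Set.range (algebraMap F' K) := by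
  by_cases hr : ∃ x : F, k⟮x⟯ = ⊤
  · obtain ⟨x, hx⟩ := hr
    have h1 : Set.range (algebraMap F K) ⊆ Set.range (algebraMap F' K) :=
      range_le_of_rational hF' hK hdeg' hgF' hg hdeg hx
    exact Set.Subset.antisymm h1 (range_eq_of_range_le hdeg hdeg' h1)
  · push Not at hr
    have h1 : Set.range (algebraMap F' K) ⊆ Set.range (algebraMap F K) :=
      range_le_of_not_rational hF hF' hK hdeg hgF hg hdeg' hgF' hr
    exact Set.Subset.antisymm (range_eq_of_range_le hdeg' hdeg h1) h1

end Groth.Agent.H62.FFUniq
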