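import Groth.Agent.H62.FFEllAut
import Groth.Agent.H62.FFUniq4

/-!
# helper62: in a function field of genus one over an algebraically closed field of characteristic
`≠ 2`, any two rational subfields of index two are conjugate under an automorphism
-/

set_option autoImplicit false
set_option linter.unusedSectionVars false
set_option linter.style.haveILetI false

namespace Groth.Agent.H62.FFEllDeg2

open FunFld WithZero Module IntermediateField Groth.Agent.H55 Groth.Agent.H62.FFTower
  Groth.Agent.H62.FFExtDeg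

variable {k K : Type*} [Field k] [Field K] [Algebra k K]

/-- a ramified place of a function of degree two in genus one -/
theorem exists_ramified [IsAlgClosed k] (hK : IsFunctionField k K) (hg : genus k K = 1)
    (h2 : (2 : k) ≠ 0) {x : K} (hdeg : finrank k⟮x⟯ K = 2) :
    ∃ (Q : Place k K) (P : Place k k⟮x⟯), IsOverWith Q P 2 := by
  classical
  haveI : FiniteDimensional k⟮x⟯ K := Module.finite_of_finrank_pos (by omega)
  have hF : IsFunctionField k k⟮x⟯ := FFInvol.isFunctionField_of_finite hK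
  have hgF : genus k k⟮x⟯ = 0 :=
    genus_eq_zero_of_adjoin_eq_top hF (FFEllAut.adjoin_gen_eq_top x)
  have h2F : (2 : k⟮x⟯) ≠ 0 := by
    intro h
    apply h2
    apply (algebraMap k k⟮x⟯).injective
    rw [map_ofNat, map_zero]
    exact h
  obtain ⟨y, u, hyu, hy⟩ := FFInvol.exists_sqrt_of_finrank_two h2F hdeg
  obtain ⟨σ, hσ⟩ := FFQuad.exists_algEquiv_neg hdeg hy hyu
  have hcard := FFInvol.card_fixed_add hF hK hdeg h2 hyu hy σ hσ
  rw [hgF, hg] at hcard
  have hne : Nat.card {Q : Place k K // Place.comapK Q σ = Q} ≠ 0 := by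
    intro h0
    rw [h0] at hcard
    norm_num at hcard
  obtain ⟨⟨Q, hQ⟩⟩ := (Nat.card_ne_zero.mp hne).1
  have halg : Algebra.IsAlgebraic k⟮x⟯ K := Algebra.IsAlgebraic.of_finite _ K
  obtain ⟨P, e, he⟩ := exists_place_under hF Q
  have hy0 : y ≠ 0 := fun h0 => hy ⟨0, by rw [h0, map_zero]⟩
  have hodd := FFInvol.odd_of_fixed h2 hyu hy0 σ hσ he
    (Place.deg_eq_one_of_isAlgClosed hK Q) hQ
  have h1 := FFHyper.two_mul_ord hyu he
  have he2 : e = 2 := by
    rcases FFHyper.ramIdx_eq_one_or_two hF hdeg he with h | h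
    · exfalso
      subst h
      push_cast at h1
      omega
    · exact h
  exact ⟨Q, P, he2 ▸ he⟩

theorem adjoin_sub_const (x : K) (c : k) : k⟮x - algebraMap k K c⟯ = k⟮x⟯ := by
  apply le_antisymm
  · rw [adjoin_simple_le_iff]
    exact sub_mem (mem_adjoin_simple_self k x) (IntermediateField.algebraMap_mem _ c)
  · rw [adjoin_simple_le_iff]
    have h := add_mem (mem_adjoin_simple_self k (x - algebraMap k K c))
      (IntermediateField.algebraMap_mem k⟮x - algebraMap k K c⟯ c)
    rwa [sub_add_cancel] at h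

/-- a generator of `k(x)` whose pole divisor is twice a given ramified place -/
theorem exists_gen_poleDiv [IsAlgClosed k] (hK : IsFunctionField k K) {x : K}
    (hdeg : finrank k⟮x⟯ K = 2) {Q : Place k K} {P : Place k k⟮x⟯} (he : IsOverWith Q P 2) :
    ∃ x' : K, k⟮x'⟯ = k⟮x⟯ ∧ poleDiv k x' = Finsupp.single Q 2 := by
  classical
  have htr : Transcendental k x := FFHE.transcendental_of_finrank hK hdeg
  have hx0 : x ≠ 0 := fun h => htr (h ▸ isAlgebraic_zero)
  have hQ1 := Place.deg_eq_one_of_isAlgClosed hK Q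
  have key : ∀ z : k⟮x⟯, k⟮(z : K)⟯ = k⟮x⟯ → Q.ord (z : K) < 0 →
      poleDiv k (z : K) = Finsupp.single Q 2 := by
    intro z hz hord
    have h1 := isOverWith_ord_eq he z
    have h1' : Q.ord (z : K) = 2 * P.ord z := by
      have : algebraMap k⟮x⟯ K z = (z : K) := rfl
      rw [this] at h1
      exact_mod_cast h1
    have h2 : Q.ord (z : K) ≤ -2 := by omega
    have hdegz : finrank k⟮(z : K)⟯ K = 2 := by rw [hz]; exact hdeg
    have hztr : Transcendental k (z : K) := FFHE.transcendental_of_finrank hK hdegz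
    symm
    apply FFUniq.eq_of_le_of_deg_eq hK
    · intro R
      rw [Finsupp.single_apply, poleDiv_apply hK]
      split_ifs with h
      · subst h
        exact le_max_of_le_left (by omega)
      · exact le_max_right _ _
    · rw [deg_single_of_deg_one hQ1, deg_poleDiv hK hztr, hdegz]
      norm_num
  by_cases hpole : 1 < Q.1 x
  · exact ⟨x, rfl, key (AdjoinSimple.gen k x) rfl ((Place.ord_neg_iff Q hx0).mpr hpole)⟩
  · push Not at hpole
    obtain ⟨c, hc⟩ := Place.exists_const_sub_lt_one hQ1 hpole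
    have hne : x - algebraMap k K c ≠ 0 := by
      intro h0
      apply htr
      rw [sub_eq_zero] at h0
      rw [h0]
      exact isAlgebraic_algebraMap c
    set z₀ : k⟮x⟯ := (AdjoinSimple.gen k x - algebraMap k k⟮x⟯ c)⁻¹ with hz₀
    have hz₀K : (z₀ : K) = (x - algebraMap k K c)⁻¹ := rfl
    have hadj : k⟮(x - algebraMap k K c)⁻¹⟯ = k⟮x⟯ := by
      rw [adjoin_inv_eq, adjoin_sub_const]
    refine ⟨(x - algebraMap k K c)⁻¹, hadj, ?_⟩
    rw [← hz₀K]
    apply key z₀ (by rw [hz₀K]; exact hadj)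
    rw [hz₀K, Place.ord_inv]
    have := (Place.ord_pos_iff Q hne).mpr hc
    omega

/-- the pole divisor of the image under an automorphism -/
theorem poleDiv_algEquiv (hK : IsFunctionField k K) (σ : K ≃ₐ[k] K) (z : K) (R : Place k K) :
    poleDiv k (σ z) R = poleDiv k z (Place.comapAlg R σ) := by
  rw [poleDiv_apply hK, poleDiv_apply hK, Place.comapAlg_ord]

theorem comapAlg_injective (σ : K ≃ₐ[k] K) {R R' : Place k K}
    (h : Place.comapAlg R σ = Place.comapAlg R' σ) : R = R' := by
  apply Place.ext'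
  intro z
  have h1 := congrArg (fun T : Place k K => T.1 (σ.symm z)) h
  simp only [Place.comapAlg_val, AlgEquiv.apply_symm_apply] at h1
  exact h1

/-- **any two functions of degree two on a function field of genus one are related by an
automorphism of the field and a Möbius transformation** -/
theorem exists_algEquiv_adjoin_eq [IsAlgClosed k] (hK : IsFunctionField k K)
    (hg : genus k K = 1) (h2 : (2 : k) ≠ 0) {x₁ x₂ : K} (hdeg₁ : finrank k⟮x₁⟯ K = 2)
    (hdeg₂ : finrank k⟮x₂⟯ K = 2) :
    ∃ σ : K ≃ₐ[k] K, k⟮σ x₂⟯ = k⟮x₁⟯ := by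
  classical
  obtain ⟨Q₁, P₁, he₁⟩ := exists_ramified hK hg h2 hdeg₁
  obtain ⟨Q₂, P₂, he₂⟩ := exists_ramified hK hg h2 hdeg₂
  obtain ⟨y₁, hy₁, hpd₁⟩ := exists_gen_poleDiv hK hdeg₁ he₁
  obtain ⟨y₂, hy₂, hpd₂⟩ := exists_gen_poleDiv hK hdeg₂ he₂
  obtain ⟨σ, hσ⟩ := FFEllAut.exists_algEquiv_comapAlg_eq hK hg Q₁ Q₂
  refine ⟨σ, ?_⟩
  have hdy₁ : finrank k⟮y₁⟯ K = 2 := by rw [hy₁]; exact hdeg₁
  have hdy₂ : finrank k⟮y₂⟯ K = 2 := by rw [hy₂]; exact hdeg₂
  have htr₁ : Transcendental k y₁ := FFHE.transcendental_of_finrank hK hdy₁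
  have htr₂ : Transcendental k y₂ := FFHE.transcendental_of_finrank hK hdy₂
  have hy₁0 : y₁ ≠ 0 := fun h => htr₁ (h ▸ isAlgebraic_zero)
  have hσtr : Transcendental k (σ y₂) := by
    intro halg
    apply htr₂
    have := (isAlgebraic_algHom_iff (σ : K →ₐ[k] K) σ.injective).mp halg
    exact this
  have hσ0 : σ y₂ ≠ 0 := fun h => hσtr (h ▸ isAlgebraic_zero)
  -- the pole divisor of `σ y₂`
  have hpdσ : poleDiv k (σ y₂) = Finsupp.single Q₁ 2 := by
    ext R
    rw [poleDiv_algEquiv hK, hpd₂, Finsupp.single_apply, Finsupp.single_apply]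
    by_cases hR : Q₁ = R
    · rw [if_pos hR, if_pos (by rw [← hR, hσ])]
    · rw [if_neg hR, if_neg]
      intro h
      apply hR
      apply comapAlg_injective σ
      rw [hσ, h]
  -- `L(2 Q₁)` is spanned by `1` and `y₁`
  set D : Divisor k K := Finsupp.single Q₁ 2 with hD
  have hQ1 := Place.deg_eq_one_of_isAlgClosed hK Q₁
  have hDdeg : D.deg = 2 := deg_single_of_deg_one hQ1 2
  have hell := ell_of_deg_ge hK D (by rw [hDdeg, hg]; norm_num)
  rw [hDdeg, hg] at hell
  have hell2 : ell D = 2 := by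
    have : (ell D : ℤ) = 2 := by rw [hell]; norm_num
    exact_mod_cast this
  haveI := L_finite hK D
  have hy₁L : y₁ ∈ L D := by
    rw [← hpd₁]
    exact FFUniq.self_mem_L_poleDiv hK hy₁0
  have hσL : σ y₂ ∈ L D := by
    rw [← hpdσ]
    exact FFUniq.self_mem_L_poleDiv hK hσ0
  have h1L : (1 : K) ∈ L D := by
    have h0 : (0 : Divisor k K) ≤ D := by
      intro R
      rw [Finsupp.zero_apply, hD, Finsupp.single_apply]
      split_ifs <;> norm_num
    have := L_mono h0 (show (1 : K) ∈ L (0 : Divisor k K) by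
      rw [L_zero hK]; exact Submodule.one_le.mp le_rfl)
    exact this
  have hy₁k : y₁ ∉ Set.range (algebraMap k K) := by
    rintro ⟨c, hc⟩
    exact htr₁ (hc ▸ isAlgebraic_algebraMap c)
  have hli := FFInvol.linearIndependent_one_y (F := k) hy₁k
  have hspan : Submodule.span k (Set.range ![(1 : K), y₁]) = L D := by
    apply Submodule.eq_of_le_of_finrank_eq
    · rw [Submodule.span_le]
      rintro _ ⟨i, rfl⟩
      fin_cases i
      · exact h1L
      · exact hy₁L
    · rw [finrank_span_eq_card hli]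
      unfold ell at hell2
      rw [hell2]
      simp
  have hσmem : σ y₂ ∈ Submodule.span k (Set.range ![(1 : K), y₁]) := hspan ▸ hσL
  rw [Matrix.range_cons, Matrix.range_cons, Matrix.range_empty, Set.union_empty,
    Set.singleton_union, Submodule.mem_span_pair] at hσmem
  obtain ⟨a, b, hab⟩ := hσmem
  have hb : b ≠ 0 := by
    rintro rfl
    apply hσtr
    rw [← hab, zero_smul, add_zero, Algebra.smul_def, mul_one]
    exact isAlgebraic_algebraMap a
  -- conclusion
  have hmap : k⟮σ x₂⟯ = k⟮σ y₂⟯ := by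
    have h1 : k⟮σ x₂⟯ = k⟮x₂⟯.map (σ : K →ₐ[k] K) := by
      rw [adjoin_map, Set.image_singleton]
      rfl
    have h2' : k⟮σ y₂⟯ = k⟮y₂⟯.map (σ : K →ₐ[k] K) := by
      rw [adjoin_map, Set.image_singleton]
      rfl
    rw [h1, h2', hy₂]
  rw [hmap, ← hy₁]
  apply le_antisymm
  · rw [adjoin_simple_le_iff, ← hab]
    refine add_mem ?_ ?_
    · rw [Algebra.smul_def, mul_one]
      exact IntermediateField.algebraMap_mem _ a
    · rw [Algebra.smul_def]
      exact mul_mem (IntermediateField.algebraMap_mem _ b) (mem_adjoin_simple_self k y₁)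
  · rw [adjoin_simple_le_iff]
    have hy₁eq : y₁ = algebraMap k K b⁻¹ * (σ y₂ - algebraMap k K a) := by
      rw [← hab, Algebra.smul_def, Algebra.smul_def, mul_one, add_sub_cancel_left, ← mul_assoc,
        ← map_mul, inv_mul_cancel₀ hb, map_one, one_mul]
    rw [hy₁eq]
    exact mul_mem (IntermediateField.algebraMap_mem _ _) (sub_mem (mem_adjoin_simple_self k _) (IntermediateField.algebraMap_mem _ a))

end Groth.Agent.H62.FFEllDeg2
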