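import Groth.Agent.H62.FFHolRing2

/-!
# The inertia group has order `e`
-/

set_option autoImplicit false
set_option linter.unusedSectionVars false

namespace Groth.Agent.H62.FFInertia

open FunFld WithZero Module Groth.Agent.H55 Groth.Agent.H62.FFHolRing
open scoped Pointwise

variable {k K K' : Type*} [Field k] [Field K] [Field K'] [Algebra k K] [Algebra K K']
  [Algebra k K'] [IsScalarTower k K K']

theorem comapK_one (Q : Place k K') : Place.comapK Q (1 : K' ≃ₐ[K] K') = Q := by
  apply Place.ext'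
  intro x
  rfl

theorem mem_decomp_iff (Q : Place k K') (σ : K' ≃ₐ[K] K') :
    σ ∈ ValuationSubring.decompositionSubgroup K Q.O ↔ Place.comapK Q σ = Q := by
  rw [ValuationSubring.decompositionSubgroup, MulAction.mem_stabilizer_iff, smul_O_eq]
  constructor
  · intro h
    have h1 : Place.comapK Q σ⁻¹ = Q := Place.O_injective h
    calc Place.comapK Q σ = Place.comapK (Place.comapK Q σ⁻¹) σ := by rw [h1]
      _ = Place.comapK Q (σ⁻¹ * σ) := Place.comapK_mul _ _ _
      _ = Q := by rw [inv_mul_cancel, comapK_one]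
  · intro h
    have h1 : Place.comapK Q σ⁻¹ = Q := by
      calc Place.comapK Q σ⁻¹ = Place.comapK (Place.comapK Q σ) σ⁻¹ := by rw [h]
        _ = Place.comapK Q (σ * σ⁻¹) := Place.comapK_mul _ _ _
        _ = Q := by rw [mul_inv_cancel, comapK_one]
    rw [h1]

theorem mem_stabilizer_QB_iff [FiniteDimensional K K'] (hK : IsFunctionField k K)
    {Q : Place k K'} {P : Place k K} {e : ℕ} (he : IsOverWith Q P e) (σ : K' ≃ₐ[K] K') :
    σ ∈ MulAction.stabilizer (K' ≃ₐ[K] K') (QB he) ↔ Place.comapK Q σ = Q := by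
  classical
  rw [MulAction.mem_stabilizer_iff]
  constructor
  · intro h
    by_contra hne
    have hover : IsOver (Place.comapK Q σ) P := ⟨e, comapK_isOverWith he σ⟩
    obtain ⟨b, hb, hbx⟩ := exists_mem_holRing_approx (K' := K') hK P
      (fun Q' => if Q' = Q then (0 : K') else 1) (fun Q' _ => by
        by_cases h : Q' = Q
        · rw [if_pos h, map_zero]; exact zero_le
        · rw [if_neg h, map_one])
    have h1 := hbx Q ⟨e, he⟩
    rw [if_pos rfl, sub_zero] at h1
    have h2 := hbx _ hover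
    rw [if_neg hne] at h2
    have h3 : (⟨b, hb⟩ : holRing K' P) ∈ QB he := (mem_QB he _).mpr h1
    have h4 : σ • (⟨b, hb⟩ : holRing K' P) ∈ σ • QB he :=
      Ideal.smul_mem_pointwise_smul_iff.mpr h3
    rw [h, mem_QB, smul_hol_coe] at h4
    have h5 : (Place.comapK Q σ).1 b < 1 := h4
    have h6 : (Place.comapK Q σ).1 b = 1 := by
      have : b = (b - 1) + 1 := by ring
      rw [this, Valuation.map_add_eq_of_lt_right, map_one]
      rw [map_one]; exact h2
    rw [h6] at h5
    exact lt_irrefl _ h5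
  · intro h
    have h1 : Place.comapK Q σ⁻¹ = Q := by
      calc Place.comapK Q σ⁻¹ = Place.comapK (Place.comapK Q σ) σ⁻¹ := by rw [h]
        _ = Place.comapK Q (σ * σ⁻¹) := Place.comapK_mul _ _ _
        _ = Q := by rw [mul_inv_cancel, comapK_one]
    ext x
    rw [Ideal.mem_pointwise_smul_iff_inv_smul_mem, mem_QB, mem_QB, smul_hol_coe]
    show (Place.comapK Q σ⁻¹).1 (x : K') < 1 ↔ _
    rw [h1]

/-- the stabilizer of `QB` is the decomposition group -/
theorem stabilizer_QB_eq [FiniteDimensional K K'] (hK : IsFunctionField k K)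
    {Q : Place k K'} {P : Place k K} {e : ℕ} (he : IsOverWith Q P e) :
    MulAction.stabilizer (K' ≃ₐ[K] K') (QB he) =
      ValuationSubring.decompositionSubgroup K Q.O := by
  ext σ
  rw [mem_stabilizer_QB_iff hK he, mem_decomp_iff]

/-- the inertia group of `QB` in terms of `Q` -/
theorem mem_inertia_QB_iff [FiniteDimensional K K'] (hK : IsFunctionField k K)
    {Q : Place k K'} {P : Place k K} {e : ℕ} (he : IsOverWith Q P e) (σ : K' ≃ₐ[K] K') :
    σ ∈ (QB he).inertia (K' ≃ₐ[K] K') ↔
      Place.comapK Q σ = Q ∧ ∀ x : K', Q.1 x ≤ 1 → Q.1 (σ x - x) < 1 := by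
  classical
  constructor
  · intro h
    have hstab : Place.comapK Q σ = Q :=
      (mem_stabilizer_QB_iff hK he σ).mp (Ideal.inertia_le_stabilizer _ h)
    refine ⟨hstab, fun x hx => ?_⟩
    obtain ⟨b, hb, hbx⟩ := exists_mem_holRing_approx (K' := K') hK P
      (fun Q' => if Q' = Q then x else 0) (fun Q' _ => by
        by_cases h : Q' = Q
        · subst h; rw [if_pos rfl]; exact hx
        · rw [if_neg h, map_zero]; exact zero_le)
    have h1 := hbx Q ⟨e, he⟩
    rw [if_pos rfl] at h1
    have h2 : Q.1 (σ b - b) < 1 := (mem_QB he _).mp (h ⟨b, hb⟩)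
    have h3 : Q.1 (σ (b - x)) < 1 := by
      have : (Place.comapK Q σ).1 (b - x) < 1 := by rw [hstab]; exact h1
      exact this
    have h4 : σ x - x = (σ b - b) - σ (b - x) + (b - x) := by
      rw [map_sub]; ring
    rw [h4]
    refine (Q.1.map_add _ _).trans_lt (max_lt ?_ h1)
    exact (Q.1.map_sub _ _).trans_lt (max_lt h2 h3)
  · rintro ⟨-, h⟩ b
    exact (mem_QB he _).mpr (h b (b.2 Q e he))

theorem mem_inertiaSubgroup_iff (Q : Place k K')
    (σ : ValuationSubring.decompositionSubgroup K Q.O) :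
    σ ∈ ValuationSubring.inertiaSubgroup K Q.O ↔
      ∀ x : K', Q.1 x ≤ 1 → Q.1 ((σ : K' ≃ₐ[K] K') x - x) < 1 := by
  rw [ValuationSubring.inertiaSubgroup, MonoidHom.mem_ker, RingEquiv.ext_iff]
  constructor
  · intro h x hx
    have h1 := h (IsLocalRing.residue Q.O ⟨x, hx⟩)
    have h2 : IsLocalRing.residue Q.O (σ • (⟨x, hx⟩ : Q.O)) = IsLocalRing.residue Q.O ⟨x, hx⟩ := h1
    rw [← sub_eq_zero, ← map_sub, Place.residue_eq_zero_iff] at h2
    exact h2
  · intro h zbar
    obtain ⟨z, rfl⟩ := IsLocalRing.residue_surjective zbar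
    show IsLocalRing.residue Q.O (σ • z) = IsLocalRing.residue Q.O z
    rw [← sub_eq_zero, ← map_sub, Place.residue_eq_zero_iff]
    exact h z ((Valuation.mem_valuationSubring_iff Q.1 _).mp z.2)

/-- the two inertia groups have the same image in the Galois group -/
theorem map_inertiaSubgroup_eq [FiniteDimensional K K'] (hK : IsFunctionField k K)
    {Q : Place k K'} {P : Place k K} {e : ℕ} (he : IsOverWith Q P e) :
    (ValuationSubring.inertiaSubgroup K Q.O).map
      (ValuationSubring.decompositionSubgroup K Q.O).subtype =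
        (QB he).inertia (K' ≃ₐ[K] K') := by
  ext σ
  rw [mem_inertia_QB_iff hK he, Subgroup.mem_map]
  constructor
  · rintro ⟨τ, hτ, rfl⟩
    exact ⟨(mem_decomp_iff Q _).mp τ.2, (mem_inertiaSubgroup_iff Q τ).mp hτ⟩
  · rintro ⟨h1, h2⟩
    exact ⟨⟨σ, (mem_decomp_iff Q σ).mpr h1⟩, (mem_inertiaSubgroup_iff Q _).mpr h2, rfl⟩

theorem card_inertiaSubgroup_eq [FiniteDimensional K K'] (hK : IsFunctionField k K)
    {Q : Place k K'} {P : Place k K} {e : ℕ} (he : IsOverWith Q P e) :
    Nat.card (ValuationSubring.inertiaSubgroup K Q.O) =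
      Nat.card ((QB he).inertia (MulAction.stabilizer (K' ≃ₐ[K] K') (QB he))) := by
  have h1 : Nat.card (ValuationSubring.inertiaSubgroup K Q.O) =
      Nat.card ((ValuationSubring.inertiaSubgroup K Q.O).map
        (ValuationSubring.decompositionSubgroup K Q.O).subtype) :=
    Nat.card_congr ((ValuationSubring.inertiaSubgroup K Q.O).equivMapOfInjective _
      (Subgroup.subtype_injective _)).toEquiv
  rw [h1, map_inertiaSubgroup_eq hK he]
  have h2 : (QB he).inertia (MulAction.stabilizer (K' ≃ₐ[K] K') (QB he)) =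
      ((QB he).inertia (K' ≃ₐ[K] K')).subgroupOf
        (MulAction.stabilizer (K' ≃ₐ[K] K') (QB he)) := rfl
  rw [h2]
  exact (Nat.card_congr (Subgroup.subgroupOfEquivOfLe
    (Ideal.inertia_le_stabilizer (QB he))).toEquiv).symm

end Groth.Agent.H62.FFInertia
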