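import Groth.Agent.H62.FFDegTwo
import Groth.Agent.H62.FFEllAut
import Groth.Agent.H55.FFStrong

/-!
# helper62: on a function field of genus at least two, any two divisors of degree two with two
independent sections are linearly equivalent (uniqueness of the `g¹₂`)
-/

set_option autoImplicit false
set_option linter.unusedSectionVars false
set_option linter.style.haveILetI false

namespace Groth.Agent.H62.FFLinEq

open FunFld WithZero Module IntermediateField Polynomial Groth.Agent.H55
  Groth.Agent.H62.FFTower Groth.Agent.H62.FFExtDeg Groth.Agent.H62.FFConormL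
  Groth.Agent.H62.FFUniq

section conorm

variable {k F K : Type*} [Field k] [Field F] [Field K] [Algebra k F] [Algebra k K] [Algebra F K]
  [IsScalarTower k F K]

/-- the conorm of a principal divisor is principal -/
theorem conorm_div [FiniteDimensional F K] (hF : IsFunctionField k F) (hK : IsFunctionField k K)
    (h : F) : conorm K (div k h) = div k (algebraMap F K h) := by
  have halg : Algebra.IsAlgebraic F K := Algebra.IsAlgebraic.of_finite F K
  ext Q
  obtain ⟨P, e, he⟩ := exists_place_under hF Q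
  rw [conorm_apply_of_isOverWith hF _ he, Place.div_apply hF, Place.div_apply hK,
    isOverWith_ord_eq he]

end conorm

variable {k K : Type*} [Field k] [Field K] [Algebra k K]

/-- in genus zero, two places of degree one differ by a principal divisor -/
theorem exists_div_eq_of_genus_zero (hK : IsFunctionField k K) (hg : genus k K = 0)
    {A B : Divisor k K} (hAB : A.deg = B.deg) : ∃ h : K, h ≠ 0 ∧ B = A + div k h := by
  classical
  set E : Divisor k K := B - A with hE
  have hEdeg : E.deg = 0 := by rw [hE, Divisor.deg_sub, hAB, sub_self]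
  have h1 := ell_of_deg_ge hK E (by rw [hg, hEdeg]; norm_num)
  rw [hEdeg, hg] at h1
  have hne : L E ≠ ⊥ := by
    intro h
    unfold ell at h1
    rw [h, finrank_bot] at h1
    norm_num at h1
  obtain ⟨z, hz0, hz⟩ := (L_ne_bot_iff hK E).mp hne
  have hzero : (0 : Divisor k K) = E + div k z := by
    apply eq_of_le_of_deg_eq hK hz
    rw [deg_add_div hK, hEdeg, Divisor.deg_zero]
  refine ⟨z⁻¹, inv_ne_zero hz0, ?_⟩
  rw [div_inv hK]
  have : E = -div k z := by
    have := hzero
    rw [eq_comm, add_eq_zero_iff_eq_neg] at this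
    exact this
  rw [← this, hE]
  abel

/-- generators of the same rational subfield have linearly equivalent pole divisors -/
theorem poleDiv_linEquiv_of_adjoin_eq (hK : IsFunctionField k K) {t t' : K}
    (htr : Transcendental k t) (htr' : Transcendental k t') (heq : k⟮t⟯ = k⟮t'⟯) :
    ∃ h : K, h ≠ 0 ∧ poleDiv k t' = poleDiv k t + div k h := by
  classical
  haveI := finiteDimensional_adjoin_of_transcendental hK htr
  have hF : IsFunctionField k k⟮t⟯ := FFInvol.isFunctionField_of_finite hK
  have hgF : genus k k⟮t⟯ = 0 :=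
    genus_eq_zero_of_adjoin_eq_top hF (FFEllAut.adjoin_gen_eq_top t)
  have ht'mem : t' ∈ k⟮t⟯ := heq ▸ mem_adjoin_simple_self k t'
  set u : k⟮t⟯ := AdjoinSimple.gen k t with hu
  set w : k⟮t⟯ := ⟨t', ht'mem⟩ with hw
  have hut : algebraMap k⟮t⟯ K u = t := rfl
  have hwt : algebraMap k⟮t⟯ K w = t' := rfl
  have hdegpos : 0 < finrank k⟮t⟯ K := Module.finrank_pos
  -- `w` generates `k(t)`
  have hwtop : k⟮w⟯ = ⊤ := by
    apply finrank_eq_one_iff_eq_top.mp
    have h1 := finrank_adjoin_algebraMap (k := k) (K := k⟮t⟯) (K' := K) w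
    rw [hwt, ← heq] at h1
    have h2 : finrank k⟮t⟯ K = finrank k⟮w⟯ k⟮t⟯ * finrank k⟮t⟯ K := h1
    have h3 : finrank k⟮w⟯ k⟮t⟯ * finrank k⟮t⟯ K = 1 * finrank k⟮t⟯ K := by omega
    exact Nat.eq_of_mul_eq_mul_right hdegpos h3
  have hutop : k⟮u⟯ = ⊤ := FFEllAut.adjoin_gen_eq_top t
  have hdu : (poleDiv k u).deg = 1 := by
    rw [deg_poleDiv hF (transcendental_of_adjoin_eq_top hF hutop), hutop,
      IntermediateField.finrank_top]
    rfl
  have hdw : (poleDiv k w).deg = 1 := by
    rw [deg_poleDiv hF (transcendental_of_adjoin_eq_top hF hwtop), hwtop,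
      IntermediateField.finrank_top]
    rfl
  obtain ⟨h, hh0, hh⟩ := exists_div_eq_of_genus_zero hF hgF (hdu.trans hdw.symm)
  refine ⟨algebraMap k⟮t⟯ K h, ?_, ?_⟩
  · rwa [Ne, map_eq_zero_iff _ (algebraMap k⟮t⟯ K).injective]
  · have e1 : poleDiv k t = conorm K (poleDiv k u) := poleDiv_algebraMap hF hK u
    have e2 : poleDiv k t' = conorm K (poleDiv k w) := poleDiv_algebraMap hF hK w
    rw [e1, e2, hh, conorm_add, conorm_div hF hK]

/-- a divisor of degree two with two independent sections is linearly equivalent to the pole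
divisor of a function of degree two -/
theorem exists_poleDiv_eq (hK : IsFunctionField k K) (hg : 1 ≤ genus k K) (D : Divisor k K)
    (hdeg : D.deg = 2) (hell : 2 ≤ ell D) :
    ∃ t z : K, z ≠ 0 ∧ finrank k⟮t⟯ K = 2 ∧ poleDiv k t = D + div k z := by
  classical
  have hne : L D ≠ ⊥ := by
    intro h
    unfold ell at hell
    rw [h, finrank_bot] at hell
    omega
  obtain ⟨z, hz0, hz⟩ := (L_ne_bot_iff hK D).mp hne
  set D' : Divisor k K := D + div k z with hD'
  have hD'deg : D'.deg = 2 := by rw [hD', deg_add_div hK, hdeg]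
  have hD'ell : 2 ≤ ell D' := by rw [hD', ell_add_div hK D hz0]; exact hell
  haveI := L_finite hK D'
  obtain ⟨y, hyL, hy⟩ : ∃ y ∈ L D', y ∉ Submodule.span k {(1 : K)} := by
    by_contra hcon
    push Not at hcon
    have hle : L D' ≤ Submodule.span k {(1 : K)} := fun y hy => hcon y hy
    have h1 := Submodule.finrank_mono hle
    have h2 : finrank k (Submodule.span k ({(1 : K)} : Set K)) = 1 :=
      finrank_span_singleton one_ne_zero
    unfold ell at hD'ell
    omega
  rw [mem_span_one_iff] at hy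
  have hytr : Transcendental k y := fun halg => hy (hK.2 y halg)
  have hy0 : y ≠ 0 := fun h => hytr (h ▸ isAlgebraic_zero)
  haveI := finiteDimensional_adjoin_of_transcendental hK hytr
  have hpd := poleDiv_le_of_mem_L hK hz hy0 hyL
  have hpdeg := Divisor.deg_mono hpd
  rw [deg_poleDiv hK hytr, hD'deg] at hpdeg
  have hpos : 0 < finrank k⟮y⟯ K := Module.finrank_pos
  have hle2 : finrank k⟮y⟯ K ≤ 2 := by exact_mod_cast hpdeg
  have hne1 : finrank k⟮y⟯ K ≠ 1 := by
    intro h1
    have htop : k⟮y⟯ = ⊤ := finrank_eq_one_iff_eq_top.mp h1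
    have := genus_eq_zero_of_adjoin_eq_top hK htop
    omega
  have h2 : finrank k⟮y⟯ K = 2 := by omega
  refine ⟨y, z, hz0, h2, ?_⟩
  apply eq_of_le_of_deg_eq hK hpd
  rw [deg_poleDiv hK hytr, h2, hD'deg]
  norm_num

/-- **uniqueness of the `g¹₂`**, function field version -/
theorem exists_div_eq_of_deg_two (hK : IsFunctionField k K) (hg : 2 ≤ genus k K)
    {D D' : Divisor k K} (hdeg : D.deg = 2) (hell : 2 ≤ ell D) (hdeg' : D'.deg = 2)
    (hell' : 2 ≤ ell D') : ∃ h : K, h ≠ 0 ∧ D' = D + div k h := by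
  obtain ⟨t, z, hz0, ht, hpd⟩ := exists_poleDiv_eq hK (by omega) D hdeg hell
  obtain ⟨t', z', hz'0, ht', hpd'⟩ := exists_poleDiv_eq hK (by omega) D' hdeg' hell'
  have htr := FFHE.transcendental_of_finrank hK ht
  have htr' := FFHE.transcendental_of_finrank hK ht'
  have heq := FFIndexTwo.adjoin_eq_of_finrank_two hK hg ht ht'
  obtain ⟨h, hh0, hh⟩ := poleDiv_linEquiv_of_adjoin_eq hK htr htr' heq
  refine ⟨z * h * z'⁻¹, mul_ne_zero (mul_ne_zero hz0 hh0) (inv_ne_zero hz'0), ?_⟩
  rw [div_mul hK (mul_ne_zero hz0 hh0) (inv_ne_zero hz'0), div_mul hK hz0 hh0, div_inv hK]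
  have h1 : D' = poleDiv k t' - div k z' := by rw [hpd']; abel
  rw [h1, hh, hpd]
  abel

end Groth.Agent.H62.FFLinEq
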