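import Groth.Agent.H62.FFEllDeg2
import Groth.Agent.H62.FFLinEq
import Groth.Agent.H62.FFInertia

/-!
# helper62: on a function field of genus one over an algebraically closed field of characteristic
`≠ 2`, for any two places `P`, `Q` there is an involution `σ` with `σ P = Q` and
`R + σ R ∼ P + Q` for every place `R`
-/

set_option autoImplicit false
set_option linter.unusedSectionVars false
set_option linter.style.haveILetI false

namespace Groth.Agent.H62.FFEllInvol

open FunFld WithZero Module IntermediateField Groth.Agent.H55 Groth.Agent.H62.FFTower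
  Groth.Agent.H62.FFExtDeg Groth.Agent.H62.FFConormL

section quad

variable {k F K : Type*} [Field k] [Field F] [Field K] [Algebra k F] [Algebra k K] [Algebra F K]
  [IsScalarTower k F K]

/-- a Galois group of order two consists of the identity and any nontrivial element -/
theorem eq_one_or_eq [FiniteDimensional F K] [IsGalois F K] (hdeg : finrank F K = 2)
    (σ : K ≃ₐ[F] K) (hσ : σ ≠ 1) (τ : K ≃ₐ[F] K) : τ = 1 ∨ τ = σ := by
  have hcard : Nat.card (K ≃ₐ[F] K) = 2 := by rw [IsGalois.card_aut_eq_finrank, hdeg]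
  obtain ⟨y, -, hy⟩ := (Nat.card_eq_two_iff' (1 : K ≃ₐ[F] K)).mp hcard
  by_cases h : τ = 1
  · exact Or.inl h
  · exact Or.inr ((hy τ h).trans (hy σ hσ).symm)

/-- **in a Galois extension of degree two the conorm of a place is `R + σ R`** -/
theorem conorm_single_eq [IsAlgClosed k] [FiniteDimensional F K] [IsGalois F K]
    (hF : IsFunctionField k F) (hK : IsFunctionField k K) (hdeg : finrank F K = 2)
    (σ : K ≃ₐ[F] K) (hσ : ∀ τ : K ≃ₐ[F] K, τ = 1 ∨ τ = σ) {R : Place k K} {p : Place k F}
    {e : ℕ} (he : IsOverWith R p e) :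
    conorm K (Finsupp.single p (1 : ℤ)) =
      Finsupp.single R 1 + Finsupp.single (Place.comapK R σ) 1 := by
  classical
  have halg : Algebra.IsAlgebraic F K := Algebra.IsAlgebraic.of_finite F K
  have hdegE : (conorm K (Finsupp.single p (1 : ℤ))).deg = 2 := by
    rw [FFConormL.deg_conorm hF, hdeg, Divisor.deg_single, Place.deg_eq_one_of_isAlgClosed hF p]
    norm_num
  have hR1 := Place.deg_eq_one_of_isAlgClosed hK R
  have hσR1 := Place.deg_eq_one_of_isAlgClosed hK (Place.comapK R σ)
  have hover : ∀ Q' : Place k K, IsOver Q' p → Q' = R ∨ Q' = Place.comapK R σ := by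
    rintro Q' ⟨e', he'⟩
    obtain ⟨τ, hτ⟩ := exists_comapK_eq he he'
    rcases hσ τ with h | h
    · left
      rw [← hτ, h, FFInertia.comapK_one]
    · right
      rw [← hτ, h]
  have hσover : IsOverWith (Place.comapK R σ) p e := comapK_isOverWith he σ
  have hval : ∀ Q' : Place k K, conorm K (Finsupp.single p (1 : ℤ)) Q' =
      if IsOver Q' p then (e : ℤ) else 0 := by
    intro Q'
    obtain ⟨p', e', he'⟩ := exists_place_under hF Q'
    rw [conorm_apply_of_isOverWith hF _ he', Finsupp.single_apply]
    by_cases hp : p = p'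
    · subst hp
      rw [if_pos rfl, if_pos ⟨e', he'⟩, mul_one]
      have h1 := (isOverWith_and_deg_eq hF.weak he Q' ⟨e', he'⟩).1
      exact_mod_cast isOverWith_unique he' h1
    · rw [if_neg hp, mul_zero, if_neg]
      intro hov
      exact hp (isOver_unique hov ⟨e', he'⟩)
  by_cases hfix : Place.comapK R σ = R
  · -- ramified
    have hE : conorm K (Finsupp.single p (1 : ℤ)) = (e : ℤ) • Finsupp.single R (1 : ℤ) := by
      ext Q'
      rw [hval, Finsupp.smul_apply, Finsupp.single_apply, smul_eq_mul]
      by_cases hQ : R = Q'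
      · subst hQ
        rw [if_pos ⟨e, he⟩, if_pos rfl, mul_one]
      · rw [if_neg hQ, mul_zero, if_neg]
        intro hov
        rcases hover Q' hov with h | h
        · exact hQ h.symm
        · exact hQ (h.trans hfix).symm
    have he2 : (e : ℤ) = 2 := by
      rw [hE, deg_zsmul, deg_single_of_deg_one hR1, mul_one] at hdegE
      exact hdegE
    rw [hE, he2, hfix]
    ext Q'
    rw [Finsupp.smul_apply, Finsupp.add_apply, smul_eq_mul]
    ring
  · -- split
    have hE : conorm K (Finsupp.single p (1 : ℤ)) =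
        (e : ℤ) • (Finsupp.single R (1 : ℤ) + Finsupp.single (Place.comapK R σ) 1) := by
      ext Q'
      rw [hval, Finsupp.smul_apply, Finsupp.add_apply, Finsupp.single_apply,
        Finsupp.single_apply, smul_eq_mul]
      by_cases hQ : R = Q'
      · subst hQ
        rw [if_pos ⟨e, he⟩, if_pos rfl, if_neg hfix, add_zero, mul_one]
      · by_cases hQ' : Place.comapK R σ = Q'
        · subst hQ'
          rw [if_pos ⟨e, hσover⟩, if_neg hQ, if_pos rfl, zero_add, mul_one]
        · rw [if_neg hQ, if_neg hQ', add_zero, mul_zero, if_neg]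
          intro hov
          rcases hover Q' hov with h | h
          · exact hQ h.symm
          · exact hQ' h.symm
    have he1 : (e : ℤ) = 1 := by
      rw [hE, deg_zsmul, Divisor.deg_add, deg_single_of_deg_one hR1,
        deg_single_of_deg_one hσR1] at hdegE
      omega
    rw [hE, he1, one_smul]

end quad

variable {k K : Type*} [Field k] [Field K] [Algebra k K]

/-- **the involution of a function field of genus one attached to two places** -/
theorem exists_involution [IsAlgClosed k] (hK : IsFunctionField k K) (hg : genus k K = 1)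
    (h2 : (2 : k) ≠ 0) (P Q : Place k K) :
    ∃ σ : K ≃ₐ[k] K, (∀ z, σ (σ z) = z) ∧ Place.comapAlg P σ = Q ∧
      ∀ R : Place k K, ∃ g : K, g ≠ 0 ∧
        Finsupp.single R (1 : ℤ) + Finsupp.single (Place.comapAlg R σ) 1 =
          Finsupp.single P 1 + Finsupp.single Q 1 + div k g := by
  classical
  set D : Divisor k K := Finsupp.single P 1 + Finsupp.single Q 1 with hD
  have hP1 := Place.deg_eq_one_of_isAlgClosed hK P
  have hQ1 := Place.deg_eq_one_of_isAlgClosed hK Q
  have hDdeg : D.deg = 2 := by
    rw [hD, Divisor.deg_add, deg_single_of_deg_one hP1, deg_single_of_deg_one hQ1]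
    norm_num
  have h1 := ell_of_deg_ge hK D (by rw [hDdeg, hg]; norm_num)
  rw [hDdeg, hg] at h1
  have h2' : ell D = 2 := by
    have : (ell D : ℤ) = 2 := by rw [h1]; norm_num
    exact_mod_cast this
  have hnle : ¬ L D ≤ L (0 : Divisor k K) := by
    intro hle
    have hfin := (finrank_L_zero hK).1
    have := Submodule.finrank_mono hle
    rw [(finrank_L_zero hK).2] at this
    unfold ell at h2'
    omega
  obtain ⟨x, hxL, hx0⟩ := Set.not_subset.mp hnle
  have hxk : x ∉ Set.range (algebraMap k K) := by
    intro hmem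
    apply hx0
    show x ∈ L (0 : Divisor k K)
    rw [L_zero hK, Submodule.mem_one]
    exact hmem
  have htr := transcendental_of_notMem_range hK hxk
  have hxne : x ≠ 0 := fun h => htr (h ▸ isAlgebraic_zero)
  have hDnn : ∀ R : Place k K, (0 : ℤ) ≤ D R := by
    intro R
    rw [hD, Finsupp.add_apply, Finsupp.single_apply, Finsupp.single_apply]
    split_ifs <;> norm_num
  have hple : poleDiv k x ≤ D := by
    intro R
    rw [poleDiv_apply hK]
    have h3 := (mem_L_iff_ord hxne).mp hxL R
    exact max_le (by omega) (hDnn R)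
  have h5 := Divisor.deg_mono hple
  rw [hDdeg, deg_poleDiv hK htr] at h5
  haveI hfd := finiteDimensional_adjoin_of_transcendental hK htr
  have h6 : 0 < finrank k⟮x⟯ K := Module.finrank_pos
  have hdeg : finrank k⟮x⟯ K = 2 := by
    by_contra hne
    have h7 : finrank k⟮x⟯ K = 1 := by omega
    have htop := eq_top_of_finrank_eq_one _ h7
    have := genus_eq_zero_of_adjoin_eq_top hK htop
    omega
  have hpole : poleDiv k x = D := by
    apply Divisor.eq_of_le_of_deg_eq hK hple
    rw [hDdeg, deg_poleDiv hK htr, hdeg]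
    norm_num
  have hF : IsFunctionField k k⟮x⟯ := Groth.Agent.H62.FFInvol.isFunctionField_of_finite hK
  have hgF : genus k k⟮x⟯ = 0 :=
    genus_eq_zero_of_adjoin_eq_top hF (FFEllAut.adjoin_gen_eq_top x)
  obtain ⟨Rinf, hRinf1, hRinf⟩ := poleDiv_of_adjoin_eq_top hF (FFEllAut.adjoin_gen_eq_top x)
  haveI : Algebra.IsSeparable k⟮x⟯ K :=
    FFEllAut.isSeparable_of_finrank_two_of_genus_pos hK (by omega) hdeg
  haveI : Algebra.IsQuadraticExtension k⟮x⟯ K := { finrank_eq_two' := hdeg }
  haveI : IsGalois k⟮x⟯ K := inferInstance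
  have h2F : (2 : k⟮x⟯) ≠ 0 := by
    intro h
    apply h2
    apply (algebraMap k k⟮x⟯).injective
    rw [map_ofNat, map_zero]
    exact h
  obtain ⟨y, u, hyu, hy⟩ := FFInvol.exists_sqrt_of_finrank_two h2F hdeg
  obtain ⟨σ₀, hσ₀⟩ := FFQuad.exists_algEquiv_neg hdeg hy hyu
  have hy0 : y ≠ 0 := fun h0 => hy ⟨0, by rw [h0, map_zero]⟩
  have h2K : (2 : K) ≠ 0 := by
    intro h
    apply h2
    apply (algebraMap k K).injective
    rw [map_ofNat, map_zero]
    exact h
  have hσ₀ne : σ₀ ≠ 1 := by
    intro h
    rw [h] at hσ₀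
    have h3 : y = -y := hσ₀
    have h4 : (2 : K) * y = 0 := by
      rw [two_mul]
      nth_rewrite 1 [h3]
      exact neg_add_cancel y
    rcases mul_eq_zero.mp h4 with h | h
    · exact h2K h
    · exact hy0 h
  have hσall := eq_one_or_eq hdeg σ₀ hσ₀ne
  have hinv : ∀ z, σ₀ (σ₀ z) = z := FFInvol.conj_conj hdeg hy σ₀ hσ₀
  have halg : Algebra.IsAlgebraic k⟮x⟯ K := Algebra.IsAlgebraic.of_finite _ K
  -- the conorm of the pole of the generator
  have hconjI : conorm K (Finsupp.single Rinf (1 : ℤ)) = D := by
    rw [← hRinf, ← FFUniq.poleDiv_algebraMap hF hK]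
    exact hpole
  -- the key relation
  have key : ∀ R : Place k K, ∃ g : K, g ≠ 0 ∧
      Finsupp.single R (1 : ℤ) + Finsupp.single (Place.comapK R σ₀) 1 = D + div k g := by
    intro R
    obtain ⟨p, e, he⟩ := exists_place_under hF R
    have hp1 := Place.deg_eq_one_of_isAlgClosed hF p
    obtain ⟨h, hh0, hh⟩ := FFLinEq.exists_div_eq_of_genus_zero hF hgF
      (A := Finsupp.single Rinf (1 : ℤ)) (B := Finsupp.single p (1 : ℤ))
      (by rw [deg_single_of_deg_one hRinf1, deg_single_of_deg_one hp1])
    refine ⟨algebraMap k⟮x⟯ K h, (map_ne_zero _).mpr hh0, ?_⟩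
    rw [← conorm_single_eq hF hK hdeg σ₀ hσall he, hh, conorm_add, hconjI,
      FFLinEq.conorm_div hF hK]
  refine ⟨σ₀.restrictScalars k, hinv, ?_, ?_⟩
  · -- σ P = Q
    obtain ⟨g, hg0, hgeq⟩ := key P
    -- use the conorm directly: `P` lies over `Rinf`
    have hPpole : 1 < P.1 x := by
      rw [← Place.ord_neg_iff P hxne]
      have h7 := congrArg (fun E : Divisor k K => E P) hpole
      simp only [poleDiv_apply hK, hD, Finsupp.add_apply, Finsupp.single_apply, if_true] at h7
      have h8 : (0 : ℤ) ≤ if Q = P then 1 else 0 := by split_ifs <;> norm_num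
      omega
    obtain ⟨e, he⟩ := FFEllAut.isOver_pole hK hF hRinf hPpole
    have h9 := conorm_single_eq hF hK hdeg σ₀ hσall he
    rw [hconjI, hD] at h9
    have h10 : Finsupp.single Q (1 : ℤ) = Finsupp.single (Place.comapK P σ₀) 1 :=
      add_left_cancel h9
    have h11 := congrArg (fun E : Divisor k K => E Q) h10
    simp only [Finsupp.single_apply, if_true] at h11
    by_contra hne
    have hne' : ¬ Place.comapK P σ₀ = Q := hne
    rw [if_neg hne'] at h11
    norm_num at h11
  · intro R
    obtain ⟨g, hg0, hgeq⟩ := key R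
    exact ⟨g, hg0, hgeq⟩

end Groth.Agent.H62.FFEllInvol
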