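import Groth.Agent.H62.FFDegOne

/-!
# helper62: on a function field of genus one with a rational place `P₀`, every divisor class of
degree zero is `Q - P₀` for a unique rational place `Q`
-/

set_option autoImplicit false
set_option linter.unusedSectionVars false
set_option linter.style.haveILetI false

namespace Groth.Agent.H62.FFEllPic

open FunFld WithZero Module IntermediateField Polynomial Groth.Agent.H55
  Groth.Agent.H62.FFHypGenus Groth.Agent.H62.FFHE Groth.Agent.H62.FFUniq

variable {k K : Type*} [Field k] [Field K] [Algebra k K]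

/-- two independent sections -/
theorem two_le_ell_of_mem (hK : IsFunctionField k K) {D : Divisor k K} (h1 : (1 : K) ∈ L D)
    {c : K} (hc : c ∈ L D) (hck : c ∉ Set.range (algebraMap k K)) : 2 ≤ ell D := by
  classical
  haveI := L_finite hK D
  have hli : LinearIndependent k ![(1 : K), c] :=
    FFInvol.linearIndependent_one_y (F := k) (K := K) hck
  have hle : Submodule.span k (Set.range ![(1 : K), c]) ≤ L D := by
    rw [Submodule.span_le]
    rintro _ ⟨i, rfl⟩
    fin_cases i
    · exact h1
    · exact hc
  have h2 := Submodule.finrank_mono hle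
  rw [finrank_span_eq_card hli] at h2
  unfold ell
  simpa using h2

/-- **existence**: a divisor of degree zero on a function field of genus one is `Q - P₀` up to a
principal divisor, for a rational place `Q` -/
theorem exists_place_of_deg_zero (hK : IsFunctionField k K) (hg : genus k K = 1)
    (P₀ : Place k K) (hP₀ : P₀.deg = 1) (D : Divisor k K) (hD : D.deg = 0) :
    ∃ Q : Place k K, Q.deg = 1 ∧ ∃ g : K, g ≠ 0 ∧
      D + Finsupp.single P₀ (1 : ℤ) + div k g = Finsupp.single Q 1 := by
  classical
  set E : Divisor k K := D + Finsupp.single P₀ (1 : ℤ) with hE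
  have hEdeg : E.deg = 1 := by
    rw [hE, Divisor.deg_add, hD, deg_single_of_deg_one hP₀]
    norm_num
  have h1 := ell_of_deg_ge hK E (by rw [hEdeg, hg]; norm_num)
  rw [hEdeg, hg] at h1
  have hne : L E ≠ ⊥ := by
    intro h
    unfold ell at h1
    rw [h, finrank_bot] at h1
    norm_num at h1
  obtain ⟨z, hz0, hz⟩ := (L_ne_bot_iff hK E).mp hne
  have hdeg' : (E + div k z).deg = 1 := by rw [deg_add_div hK, hEdeg]
  obtain ⟨Q, hQ1, hQ⟩ := effective_deg_one hK hz hdeg'
  exact ⟨Q, hQ1, z, hz0, hQ⟩

/-- **uniqueness**: on a function field of positive genus, linearly equivalent rational places are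
equal -/
theorem place_unique (hK : IsFunctionField k K) (hg : 1 ≤ genus k K) {Q Q' : Place k K}
    (hQ : Q.deg = 1) {c : K} (hc : c ≠ 0)
    (h : Finsupp.single Q' (1 : ℤ) = Finsupp.single Q 1 + div k c) : Q = Q' := by
  classical
  by_cases hck : c ∈ Set.range (algebraMap k K)
  · obtain ⟨a, rfl⟩ := hck
    rw [div_algebraMap hK, add_zero] at h
    have h1 := congrArg (fun E : Divisor k K => E Q) h
    simp only [Finsupp.single_apply, if_true] at h1
    by_contra hne
    rw [if_neg (fun h' => hne h'.symm)] at h1
    norm_num at h1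
  · exfalso
    have hcL : c ∈ L (Finsupp.single Q (1 : ℤ)) := by
      rw [mem_L_iff_div hK hc, ← h]
      intro R
      rw [Finsupp.zero_apply, Finsupp.single_apply]
      split_ifs <;> norm_num
    have h1L : (1 : K) ∈ L (Finsupp.single Q (1 : ℤ)) := by
      intro R
      rw [map_one, ← exp_zero, exp_le_exp, Finsupp.single_apply]
      split_ifs <;> norm_num
    have h2 := two_le_ell_of_mem hK h1L hcL hck
    obtain ⟨t, ht⟩ := Groth.Agent.H62.FFDegOne.exists_adjoin_eq_top hK
      (Finsupp.single Q (1 : ℤ)) (deg_single_of_deg_one hQ 1) h2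
    have := genus_eq_zero_of_adjoin_eq_top hK ht
    omega

end Groth.Agent.H62.FFEllPic
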