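import Groth.Agent.H62.FFTower

/-!
Residue degrees in finite extensions of function fields: `deg P ≤ deg Q` for `Q | P`,
`e(Q|P) ≤ [K':K]`, the totally ramified case, and a parity criterion excluding ramification
index `2` in a quadratic extension.
-/

set_option autoImplicit false
set_option linter.unusedSectionVars false

namespace Groth.Agent.H62.FFExtDeg

open FunFld WithZero Module IntermediateField Groth.Agent.H55 Groth.Agent.H62.FFTower

variable {k K K' : Type*} [Field k] [Field K] [Field K'] [Algebra k K] [Algebra K K']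
  [Algebra k K'] [IsScalarTower k K K']

/-- the inclusion `O_P → O_Q` for `Q | P`, as a `k`-linear map -/
noncomputable def inclO {Q : Place k K'} {P : Place k K} {e : ℕ} (he : IsOverWith Q P e) :
    P.O →ₗ[k] Q.O where
  toFun z := ⟨algebraMap K K' (z : K), (Valuation.mem_valuationSubring_iff _ _).mpr
    ((isOverWith_le_one_iff he (z : K)).mpr ((Valuation.mem_valuationSubring_iff _ _).mp z.2))⟩
  map_add' a b := by
    apply Subtype.ext
    simp
  map_smul' c z := by
    apply Subtype.ext
    have h1 : ((c • z : P.O) : K) = c • (z : K) := Place.coe_smul P c z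
    refine Eq.trans ?_ (Place.coe_smul Q c _).symm
    show algebraMap K K' ((c • z : P.O) : K) = c • algebraMap K K' (z : K)
    rw [h1, Algebra.smul_def, map_mul, ← IsScalarTower.algebraMap_apply, Algebra.smul_def]

theorem inclO_coe {Q : Place k K'} {P : Place k K} {e : ℕ} (he : IsOverWith Q P e) (z : P.O) :
    ((inclO he z : Q.O) : K') = algebraMap K K' (z : K) := rfl

/-- residue degrees grow: `deg P ≤ deg Q` for `Q | P` -/
theorem deg_le_deg (hK' : W.IsWeakFF k K') {Q : Place k K'} {P : Place k K}
    (h : IsOver Q P) : P.deg ≤ Q.deg := by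
  obtain ⟨e, he⟩ := h
  have hfin : FiniteDimensional k (IsLocalRing.ResidueField Q.O) :=
    W.Place.finiteDimensional_residue hK' Q
  set g : P.O →ₗ[k] IsLocalRing.ResidueField Q.O := (Place.resLin Q) ∘ₗ (inclO he) with hg
  have hker : LinearMap.ker g = LinearMap.ker (Place.resLin P) := by
    ext z
    rw [LinearMap.mem_ker, LinearMap.mem_ker, hg, LinearMap.comp_apply, Place.resLin_apply,
      Place.resLin_apply, Place.residue_eq_zero_iff, Place.residue_eq_zero_iff, inclO_coe]
    exact isOverWith_lt_one_iff he (z : K)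
  have hsurj : Function.Surjective (Place.resLin P) := IsLocalRing.residue_surjective
  have e₁ : (P.O ⧸ LinearMap.ker (Place.resLin P)) ≃ₗ[k] IsLocalRing.ResidueField P.O :=
    LinearMap.quotKerEquivOfSurjective _ hsurj
  have hinj : Function.Injective ((LinearMap.ker g).liftQ g le_rfl) := by
    rw [← LinearMap.ker_eq_bot]
    exact Submodule.ker_liftQ_eq_bot _ _ _ le_rfl
  unfold Place.deg
  rw [← e₁.finrank_eq, ← hker]
  exact LinearMap.finrank_le_finrank_of_injective hinj

/-- a single term of the fundamental equality -/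
theorem ramIdx_mul_deg_le [FiniteDimensional K K'] (hK : IsFunctionField k K) {Q : Place k K'}
    {P : Place k K} (h : IsOver Q P) : ramIdx Q P * Q.deg ≤ finrank K K' * P.deg := by
  classical
  obtain ⟨hfin, hsum⟩ := sum_ramIdx_mul_deg (K' := K') hK P
  rw [← hsum hfin.toFinset (fun Q => by simp)]
  exact Finset.single_le_sum (f := fun Q => ramIdx Q P * Q.deg) (fun _ _ => Nat.zero_le _)
    ((Set.Finite.mem_toFinset hfin).mpr h)

/-- `e(Q|P) ≤ [K':K]` -/
theorem ramIdx_le_finrank [FiniteDimensional K K'] (hK : IsFunctionField k K) {Q : Place k K'}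
    {P : Place k K} (h : IsOver Q P) : ramIdx Q P ≤ finrank K K' := by
  have h1 := ramIdx_mul_deg_le hK h
  have h2 := deg_le_deg (W.weak_of_finite hK.weak) h
  have h3 : 0 < P.deg := W.Place.deg_pos hK.weak P
  have h4 : ramIdx Q P * P.deg ≤ finrank K K' * P.deg :=
    (Nat.mul_le_mul_left _ h2).trans h1
  exact Nat.le_of_mul_le_mul_right h4 h3

/-- there is a place above every place -/
theorem exists_isOver [FiniteDimensional K K'] (hK : IsFunctionField k K) (P : Place k K) :
    ∃ Q : Place k K', IsOver Q P := by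
  classical
  obtain ⟨hfin, hsum⟩ := sum_ramIdx_mul_deg (K' := K') hK P
  have h := hsum hfin.toFinset (fun Q => by simp)
  have hpos : 0 < finrank K K' * P.deg :=
    Nat.mul_pos Module.finrank_pos (W.Place.deg_pos hK.weak P)
  rw [← h] at hpos
  obtain ⟨Q, hQ, -⟩ := Finset.exists_ne_zero_of_sum_ne_zero hpos.ne'
  exact ⟨Q, (Set.Finite.mem_toFinset hfin).mp hQ⟩

/-- the totally ramified case: if `e(Q|P) = [K':K]` then `Q` is the only place above `P` and
`deg Q = deg P` -/
theorem unique_of_ramIdx_eq_finrank [FiniteDimensional K K'] (hK : IsFunctionField k K)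
    {Q : Place k K'} {P : Place k K} (h : IsOver Q P) (he : ramIdx Q P = finrank K K') :
    Q.deg = P.deg ∧ ∀ Q' : Place k K', IsOver Q' P → Q' = Q := by
  classical
  obtain ⟨hfin, hsum⟩ := sum_ramIdx_mul_deg (K' := K') hK P
  have hs := hsum hfin.toFinset (fun Q => by simp)
  have hK' := W.weak_of_finite (K' := K') hK.weak
  have hn : 0 < finrank K K' := Module.finrank_pos
  have hle := deg_le_deg hK' h
  have hQmem : Q ∈ hfin.toFinset := (Set.Finite.mem_toFinset hfin).mpr h
  rw [← Finset.add_sum_erase _ _ hQmem, he] at hs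
  have hdeg : Q.deg = P.deg := by
    have : finrank K K' * Q.deg ≤ finrank K K' * P.deg := by omega
    exact le_antisymm (Nat.le_of_mul_le_mul_left this hn) hle
  refine ⟨hdeg, ?_⟩
  intro Q' hQ'
  by_contra hne
  have hQ'mem : Q' ∈ hfin.toFinset.erase Q :=
    Finset.mem_erase.mpr ⟨hne, (Set.Finite.mem_toFinset hfin).mpr hQ'⟩
  have hterm : 0 < ramIdx Q' P * Q'.deg :=
    Nat.mul_pos (by rw [ramIdx_eq (isOverWith_ramIdx hQ')]; exact isOverWith_pos (isOverWith_ramIdx hQ'))
      (W.Place.deg_pos hK' Q')
  have hge : ramIdx Q' P * Q'.deg ≤ ∑ x ∈ hfin.toFinset.erase Q, ramIdx x P * x.deg :=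
    Finset.single_le_sum (f := fun Q => ramIdx Q P * Q.deg) (fun _ _ => Nat.zero_le _) hQ'mem
  rw [hdeg] at hs
  omega

end Groth.Agent.H62.FFExtDeg
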