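import Groth.Agent.H62.FFHE

/-!
# helper62: the ring of functions regular away from the poles of `t` in a quadratic extension of `k(t)`

Let `K/k` be a function field of genus `g` with `[K : k(t)] = 2` and `y ∈ L((g+1)(t)_∞) ∖ k(t)`.
Then every function without poles outside the poles of `t` is `a(t) + b(t) y` with polynomials
`a, b` (in any characteristic).
-/

set_option autoImplicit false
set_option linter.style.haveILetI false

namespace Groth.Agent.H62.FFHE

open FunFld WithZero Module IntermediateField Polynomial Groth.Agent.H55 Groth.Agent.H62.FFRat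
  Groth.Agent.H62.FFHol Groth.Agent.H62.FFHypRepr Groth.Agent.H62.FFHypGenus

variable {k K : Type*} [Field k] [Field K] [Algebra k K]

section hol

variable (hK : IsFunctionField k K) {t : K} (ht : Transcendental k t)

include hK ht in
/-- a function without poles outside the poles of `t` lies in some `L(r (t)_∞)` -/
theorem exists_mem_L_of_mem_Hol {z : K} (hz : z ∈ Hol (k := k) t) :
    ∃ r : ℕ, z ∈ L (r • poleDiv k t) := by
  have ht0 : t ≠ 0 := fun h => ht (h ▸ isAlgebraic_zero)
  by_cases hz0 : z = 0
  · exact ⟨0, hz0 ▸ Submodule.zero_mem _⟩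
  let S : Finset (Place k K) := (poleDiv k t).support
  let ρ : Place k K → ℕ := fun P => (-(P.ord z)).toNat
  refine ⟨S.sup ρ, ?_⟩
  rw [mem_L_nsmul_poleDiv hK ht0]
  intro P
  rcases le_or_gt (P.1 t) 1 with hP | hP
  · rw [max_eq_right hP, one_pow]
    exact hz P hP
  · rw [max_eq_left hP.le]
    have hPS : P ∈ S := by
      rw [Finsupp.mem_support_iff, poleDiv_apply hK]
      rw [Place.val_eq_exp_neg_ord P ht0, ← exp_zero, exp_lt_exp] at hP
      intro h0
      have := le_max_left (-(P.ord t)) 0
      omega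
    have h1 : ρ P ≤ S.sup ρ := Finset.le_sup hPS
    have h2 : exp (1 : ℤ) ≤ P.1 t := by
      rw [Place.val_eq_exp_neg_ord P ht0, ← exp_zero, exp_lt_exp] at hP
      rw [Place.val_eq_exp_neg_ord P ht0, exp_le_exp]
      omega
    calc P.1 z = exp (-(P.ord z)) := Place.val_eq_exp_neg_ord P hz0
      _ ≤ exp ((ρ P : ℤ)) := by
        rw [exp_le_exp]
        exact Int.self_le_toNat _
      _ ≤ exp ((S.sup ρ : ℕ) : ℤ) := by
        rw [exp_le_exp]
        exact_mod_cast h1
      _ = exp (1 : ℤ) ^ (S.sup ρ) := by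
        rw [← exp_nsmul, nsmul_eq_mul, mul_one]
      _ ≤ P.1 t ^ (S.sup ρ) := pow_le_pow_left₀ zero_le h2 _

end hol

section main

variable (hK : IsFunctionField k K) {t : K} (ht : Transcendental k t)
  (hdeg : finrank k⟮t⟯ K = 2)
  {y : K} (hyL : y ∈ L ((genus k K + 1) • poleDiv k t)) (hy : y ∉ k⟮t⟯)

include hK ht hdeg hyL hy in
/-- `L(r (t)_∞)` for `r ≥ g + 1` -/
theorem range_Phi_eq' {r : ℕ} (hr : genus k K + 1 ≤ r) :
    LinearMap.range (Phi (k := k) t y (r + 1) (r - genus k K)) = L (r • poleDiv k t) := by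
  set g := genus k K with hg
  have hle : LinearMap.range (Phi (k := k) t y (r + 1) (r - g)) ≤ L (r • poleDiv k t) := by
    rintro _ ⟨p, rfl⟩
    rw [Phi_apply]
    apply add_mem
    · apply aeval_mem_L hK ht
      by_cases h0 : (p.1 : k[X]) = 0
      · rw [h0, natDegree_zero]; exact Nat.zero_le _
      · have := natDegree_lt_of_mem_degreeLT p.1.2 h0
        omega
    · by_cases h0 : (p.2 : k[X]) = 0
      · rw [h0, map_zero, zero_mul]; exact Submodule.zero_mem _
      have hlt := natDegree_lt_of_mem_degreeLT p.2.2 h0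
      have h1 : aeval t (p.2 : k[X]) ∈ L ((r - g - 1) • poleDiv k t) := by
        apply aeval_mem_L hK ht
        omega
      have h2 := mul_mem_L hK ht h1 hyL
      have e : r - g - 1 + (g + 1) = r := by omega
      rwa [e] at h2
  haveI : Module.Finite k (L (r • poleDiv k t)) := L_finite hK _
  apply Submodule.eq_of_le_of_finrank_eq hle
  have hinj := Phi_injective (k := k) ht hy (r + 1) (r - g)
  have h1 := (LinearEquiv.ofInjective _ hinj).finrank_eq
  rw [Module.finrank_prod, finrank_degreeLT, finrank_degreeLT] at h1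
  have h3 := ell_nsmul hK ht hdeg (r := r) (by omega)
  unfold ell at h3
  omega

include hK ht hdeg hyL hy in
/-- **every function regular away from the poles of `t` is `a(t) + b(t) y`** -/
theorem exists_repr_of_mem_Hol {z : K} (hz : z ∈ Hol (k := k) t) :
    ∃ a b : k[X], z = aeval t a + aeval t b * y := by
  obtain ⟨r, hr⟩ := exists_mem_L_of_mem_Hol hK ht hz
  set g := genus k K with hg
  have hmono : L (r • poleDiv k t) ≤ L ((r + g + 1) • poleDiv k t) := by
    intro w hw
    have ht0 : t ≠ 0 := fun h => ht (h ▸ isAlgebraic_zero)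
    rw [mem_L_nsmul_poleDiv hK ht0] at hw ⊢
    intro P
    refine (hw P).trans ?_
    exact pow_le_pow_right₀ (le_max_right _ _) (by omega)
  have h1 := hmono hr
  rw [← range_Phi_eq' hK ht hdeg hyL hy (r := r + g + 1) (by omega)] at h1
  obtain ⟨p, hp⟩ := h1
  rw [Phi_apply] at hp
  exact ⟨p.1, p.2, hp.symm⟩

include ht hy in
/-- uniqueness of the representation -/
theorem repr_eq_zero {a b : k[X]} (h : aeval t a + aeval t b * y = 0) : a = 0 ∧ b = 0 := by
  have hinj := Phi_injective (k := k) ht hy (a.natDegree + 1) (b.natDegree + 1)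
  let p : degreeLT k (a.natDegree + 1) × degreeLT k (b.natDegree + 1) :=
    (⟨a, mem_degreeLT_of_natDegree_lt (Nat.lt_succ_self _)⟩,
      ⟨b, mem_degreeLT_of_natDegree_lt (Nat.lt_succ_self _)⟩)
  have h0 : Phi (k := k) t y (a.natDegree + 1) (b.natDegree + 1) p = 0 := by
    rw [Phi_apply]; exact h
  have := hinj (h0.trans (map_zero _).symm)
  constructor
  · exact congrArg (fun q => (q.1 : k[X])) this
  · exact congrArg (fun q => (q.2 : k[X])) this

end main

end Groth.Agent.H62.FFHE
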