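import Groth.Agent.H62.FFParity

/-!
Places of the rational function field `k(x)`: it is a function field; polynomials are integral at
the finite places; a squarefree polynomial has order `≤ 1` at a finite place; the infinite place
is unique, of degree one, `ord_∞ x = -1` and `ord_∞ g = - deg g` for polynomials `g`.
-/

set_option autoImplicit false
set_option linter.unusedSectionVars false

namespace Groth.Agent.H62.FFRat

open FunFld WithZero Module IntermediateField Groth.Agent.H55 Polynomial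

section general

variable {k K : Type*} [Field k] [Field K] [Algebra k K]

/-- `v(h(x)) = 1` when `v(x) < 1` and `h(0) ≠ 0` -/
theorem val_aeval_eq_one (P : Place k K) (h : k[X]) {x : K} (hx : P.1 x < 1)
    (h0 : h.coeff 0 ≠ 0) : P.1 (aeval x h) = 1 := by
  have h1 : aeval x h = aeval x h.divX * x + algebraMap k K (h.coeff 0) := by
    conv_lhs => rw [← Polynomial.divX_mul_X_add h]
    rw [map_add, map_mul, aeval_X, aeval_C]
  have h2 : P.1 (aeval x h.divX * x) < 1 := by
    rw [map_mul]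
    exact mul_lt_one_of_nonneg_of_lt_one_right (Place.aeval_mem P _ hx.le) zero_le hx
  rw [h1, Valuation.map_add_eq_of_lt_right, Place.val_algebraMap_eq_one P h0]
  rw [Place.val_algebraMap_eq_one P h0]
  exact h2

/-- a zero of a generator of `K/k` is simple, rational and unique -/
theorem zero_of_adjoin_eq_top (hK : W.IsWeakFF k K) {x : K} (hx : k⟮x⟯ = ⊤)
    (hxtr : Transcendental k x) (P : Place k K) (hP : P.1 x < 1) :
    P.ord x = 1 ∧ P.deg = 1 ∧ ∀ Q : Place k K, Q.1 x < 1 → Q = P := by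
  classical
  have hx0 : x ≠ 0 := fun h => hxtr (h ▸ isAlgebraic_zero)
  obtain ⟨S, hS, hsum⟩ := W.sum_zeros hK hxtr
  rw [hx, IntermediateField.finrank_top] at hsum
  have hPS : P ∈ S := (hS P).mpr hP
  have hterm : ∀ Q ∈ S, 1 ≤ Q.ord x * (Q.deg : ℤ) := by
    intro Q hQ
    have h1 : 0 < Q.ord x := (Place.ord_pos_iff Q hx0).mpr ((hS Q).mp hQ)
    have h2 : 0 < (Q.deg : ℤ) := by exact_mod_cast W.Place.deg_pos hK Q
    nlinarith
  rw [← Finset.add_sum_erase _ _ hPS] at hsum
  have hrest : 0 ≤ ∑ Q ∈ S.erase P, Q.ord x * (Q.deg : ℤ) :=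
    Finset.sum_nonneg fun Q hQ => le_trans zero_le_one (hterm Q (Finset.mem_of_mem_erase hQ))
  have hP1 := hterm P hPS
  have hPeq : P.ord x * (P.deg : ℤ) = 1 := by push_cast at hsum; omega
  have h1 : 0 < P.ord x := (Place.ord_pos_iff P hx0).mpr hP
  have h2 : 0 < (P.deg : ℤ) := by exact_mod_cast W.Place.deg_pos hK P
  have hord : P.ord x = 1 := by nlinarith
  refine ⟨hord, ?_, ?_⟩
  · rw [hord, one_mul] at hPeq
    exact_mod_cast hPeq
  · intro Q hQ
    by_contra hne
    have hQS : Q ∈ S.erase P := Finset.mem_erase.mpr ⟨hne, (hS Q).mpr hQ⟩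
    have hge : Q.ord x * (Q.deg : ℤ) ≤ ∑ Q ∈ S.erase P, Q.ord x * (Q.deg : ℤ) :=
      Finset.single_le_sum (f := fun Q : Place k K => Q.ord x * (Q.deg : ℤ))
        (fun Q hQ => le_trans zero_le_one (hterm Q (Finset.mem_of_mem_erase hQ))) hQS
    have := hterm Q (Finset.mem_of_mem_erase hQS)
    push_cast at hsum
    omega

end general

section ratfunc

variable {k : Type*} [Field k]

theorem isFunctionField_ratFunc : IsFunctionField k (RatFunc k) := by
  refine ⟨⟨RatFunc.X, RatFunc.transcendental_X, ?_⟩, ?_⟩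
  · rw [RatFunc.adjoin_X]
    exact Module.finite_of_finrank_pos (by rw [IntermediateField.finrank_top]; exact one_pos)
  · intro y hy
    by_contra hne
    apply RatFunc.transcendental_of_ne_C y _ hy
    rintro ⟨c, rfl⟩
    exact hne ⟨c, by rw [RatFunc.algebraMap_eq_C]⟩

/-- polynomials are integral at a finite place -/
theorem val_poly_le_one (P : Place k (RatFunc k)) (hX : P.1 RatFunc.X ≤ 1) (g : k[X]) :
    P.1 (algebraMap k[X] (RatFunc k) g) ≤ 1 := by
  rw [← RatFunc.aeval_X_left_eq_algebraMap]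
  exact Place.aeval_mem P g hX

/-- the ideal of polynomials vanishing at a finite place -/
def center (P : Place k (RatFunc k)) (hX : P.1 RatFunc.X ≤ 1) : Ideal k[X] where
  carrier := {g | P.1 (algebraMap k[X] (RatFunc k) g) < 1}
  add_mem' := by
    intro a b ha hb
    simp only [Set.mem_ofPred_eq, map_add] at *
    exact lt_of_le_of_lt (P.1.map_add _ _) (max_lt ha hb)
  zero_mem' := by simp
  smul_mem' := by
    intro c g hg
    simp only [smul_eq_mul, Set.mem_ofPred_eq, map_mul] at *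
    exact mul_lt_one_of_nonneg_of_lt_one_right (val_poly_le_one P hX c) zero_le hg

theorem mem_center (P : Place k (RatFunc k)) (hX : P.1 RatFunc.X ≤ 1) (g : k[X]) :
    g ∈ center P hX ↔ P.1 (algebraMap k[X] (RatFunc k) g) < 1 := Iff.rfl

instance center_isPrime (P : Place k (RatFunc k)) (hX : P.1 RatFunc.X ≤ 1) :
    (center P hX).IsPrime := by
  refine ⟨?_, ?_⟩
  · intro h
    have : (1 : k[X]) ∈ center P hX := h ▸ Submodule.mem_top
    rw [mem_center, map_one, map_one] at this
    exact lt_irrefl _ this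
  · intro a b hab
    rw [mem_center, map_mul, map_mul] at hab
    rw [mem_center, mem_center]
    by_contra hcon
    push Not at hcon
    have ha := le_antisymm (val_poly_le_one P hX a) hcon.1
    have hb := le_antisymm (val_poly_le_one P hX b) hcon.2
    rw [ha, hb, one_mul] at hab
    exact lt_irrefl _ hab

/-- at a finite place a squarefree polynomial has order `0` or `1` -/
theorem ord_squarefree (P : Place k (RatFunc k)) (hX : P.1 RatFunc.X ≤ 1) {f : k[X]}
    (hf : Squarefree f) (hpos : 0 < P.ord (algebraMap k[X] (RatFunc k) f)) :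
    P.ord (algebraMap k[X] (RatFunc k) f) = 1 := by
  have hinj : Function.Injective (algebraMap k[X] (RatFunc k)) :=
    IsFractionRing.injective k[X] (RatFunc k)
  have hf0 : f ≠ 0 := hf.ne_zero
  have hne : ∀ g : k[X], g ≠ 0 → algebraMap k[X] (RatFunc k) g ≠ 0 := fun g hg =>
    (map_ne_zero_iff _ hinj).mpr hg
  set 𝔭 := center P hX with h𝔭
  have hfmem : f ∈ 𝔭 := (mem_center P hX f).mpr ((Place.ord_pos_iff P (hne f hf0)).mp hpos)
  have hbot : 𝔭 ≠ ⊥ := fun h => hf0 (by rw [h] at hfmem; exact (Submodule.mem_bot _).mp hfmem)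
  set p := Submodule.IsPrincipal.generator 𝔭 with hp
  have hpprime : Prime p := Submodule.IsPrincipal.prime_generator_of_isPrime 𝔭 hbot
  have hmemp : ∀ g : k[X], g ∈ 𝔭 ↔ p ∣ g := fun g =>
    Submodule.IsPrincipal.mem_iff_generator_dvd 𝔭
  have hp0 : p ≠ 0 := hpprime.ne_zero
  have hvp : P.1 (algebraMap k[X] (RatFunc k) p) < 1 :=
    (mem_center P hX p).mp ((hmemp p).mpr dvd_rfl)
  have hordp : 0 < P.ord (algebraMap k[X] (RatFunc k) p) :=
    (Place.ord_pos_iff P (hne p hp0)).mpr hvp
  -- polynomials prime to `p` are units at `P`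
  have hunit : ∀ g : k[X], ¬ p ∣ g → P.ord (algebraMap k[X] (RatFunc k) g) = 0 := by
    intro g hg
    have hg0 : g ≠ 0 := fun h => hg (h ▸ dvd_zero p)
    rw [Place.ord_eq_iff P (hne g hg0), neg_zero, exp_zero]
    refine le_antisymm (val_poly_le_one P hX g) (not_lt.mp fun hlt => hg ?_)
    exact (hmemp g).mp ((mem_center P hX g).mpr hlt)
  -- the order of a nonzero polynomial is a multiple of the order of `p`
  have hmult : ∀ g : k[X], g ≠ 0 → ∃ n : ℕ, P.ord (algebraMap k[X] (RatFunc k) g) =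
      n * P.ord (algebraMap k[X] (RatFunc k) p) := by
    intro g hg
    obtain ⟨n, a, hna, hga⟩ := WfDvdMonoid.max_power_factor hg hpprime.irreducible
    have ha0 : a ≠ 0 := fun h => hna (h ▸ dvd_zero p)
    refine ⟨n, ?_⟩
    rw [hga, map_mul, map_pow, Place.ord_mul P (pow_ne_zero _ (hne p hp0)) (hne a ha0),
      Place.ord_pow, hunit a hna, add_zero]
  -- `ord p = 1` using a uniformizer
  have hordp1 : P.ord (algebraMap k[X] (RatFunc k) p) = 1 := by
    obtain ⟨t, ht⟩ := Place.exists_uniformizer P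
    have ht0 : t ≠ 0 := Place.ne_zero_of_val_eq_exp P ht
    have hordt : P.ord t = 1 := by rw [Place.ord_eq_iff P ht0, ht]
    have hnum0 : t.num ≠ 0 := RatFunc.num_ne_zero ht0
    have hden0 : t.denom ≠ 0 := RatFunc.denom_ne_zero t
    obtain ⟨i, hi⟩ := hmult _ hnum0
    obtain ⟨j, hj⟩ := hmult _ hden0
    have h1 : t = algebraMap k[X] (RatFunc k) t.num * (algebraMap k[X] (RatFunc k) t.denom)⁻¹ := by
      rw [← div_eq_mul_inv, RatFunc.num_div_denom]
    rw [h1, Place.ord_mul P (hne _ hnum0) (inv_ne_zero (hne _ hden0)), Place.ord_inv, hi, hj]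
      at hordt
    have h2 : ((i : ℤ) - j) * P.ord (algebraMap k[X] (RatFunc k) p) = 1 := by linarith
    have h3 := Int.eq_one_or_neg_one_of_mul_eq_one' h2
    rcases h3 with ⟨_, h⟩ | ⟨_, h⟩
    · exact h
    · omega
  -- conclude
  obtain ⟨g, hg⟩ := (hmemp f).mp hfmem
  have hpg : ¬ p ∣ g := by
    intro hdiv
    obtain ⟨g', hg'⟩ := hdiv
    have : IsUnit p := hf p ⟨g', by rw [hg, hg']; ring⟩
    exact hpprime.not_isUnit this
  have hg0 : g ≠ 0 := fun h => hpg (h ▸ dvd_zero p)
  rw [hg, map_mul, Place.ord_mul P (hne p hp0) (hne g hg0), hunit g hpg, add_zero, hordp1]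

/-- the infinite place: `ord X = -1`, degree one, unique -/
theorem infinite_place (P : Place k (RatFunc k)) (hX : 1 < P.1 RatFunc.X) :
    P.ord (RatFunc.X : RatFunc k) = -1 ∧ P.deg = 1 ∧
      ∀ Q : Place k (RatFunc k), 1 < Q.1 RatFunc.X → Q = P := by
  have hX0 : (RatFunc.X : RatFunc k) ≠ 0 := RatFunc.X_ne_zero
  have htr : Transcendental k (RatFunc.X : RatFunc k)⁻¹ := by
    intro h
    have := h.inv
    rw [inv_inv] at this
    exact RatFunc.transcendental_X this
  have hadj : k⟮(RatFunc.X : RatFunc k)⁻¹⟯ = ⊤ := by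
    rw [eq_top_iff, ← RatFunc.adjoin_X, adjoin_simple_le_iff]
    have : (RatFunc.X : RatFunc k)⁻¹ ∈ k⟮(RatFunc.X : RatFunc k)⁻¹⟯ := mem_adjoin_simple_self k _
    simpa using inv_mem this
  have hval : ∀ Q : Place k (RatFunc k), Q.1 (RatFunc.X : RatFunc k)⁻¹ < 1 ↔ 1 < Q.1 RatFunc.X := by
    intro Q
    rw [map_inv₀]
    have h0 : 0 < Q.1 (RatFunc.X : RatFunc k) := zero_lt_iff.mpr ((Valuation.ne_zero_iff _).mpr hX0)
    exact inv_lt_one₀ h0
  obtain ⟨h1, h2, h3⟩ := zero_of_adjoin_eq_top (isFunctionField_ratFunc (k := k)).weak hadj htr P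
    ((hval P).mpr hX)
  refine ⟨?_, h2, fun Q hQ => h3 Q ((hval Q).mpr hQ)⟩
  rw [Place.ord_inv] at h1
  omega

/-- the order of a polynomial at the infinite place -/
theorem ord_poly_infinite (P : Place k (RatFunc k)) (hX : 1 < P.1 RatFunc.X) {g : k[X]}
    (hg : g ≠ 0) : P.ord (algebraMap k[X] (RatFunc k) g) = -(g.natDegree : ℤ) := by
  have hX0 : (RatFunc.X : RatFunc k) ≠ 0 := RatFunc.X_ne_zero
  have hordX := (infinite_place P hX).1
  have hvinv : P.1 (RatFunc.X : RatFunc k)⁻¹ < 1 := by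
    rw [map_inv₀]
    exact (inv_lt_one₀ (zero_lt_iff.mpr ((Valuation.ne_zero_iff _).mpr hX0))).mpr hX
  let _ : Invertible (RatFunc.X : RatFunc k) := invertibleOfNonzero hX0
  have h1 := Polynomial.eval₂_reverse_mul_pow (algebraMap k (RatFunc k)) (RatFunc.X : RatFunc k) g
  rw [invOf_eq_inv] at h1
  have h2 : P.1 (aeval (RatFunc.X : RatFunc k)⁻¹ g.reverse) = 1 := by
    apply val_aeval_eq_one P _ hvinv
    rw [Polynomial.coeff_zero_reverse]
    exact leadingCoeff_ne_zero.mpr hg
  have h3 : aeval (RatFunc.X : RatFunc k)⁻¹ g.reverse ≠ 0 := by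
    intro h0
    rw [h0, map_zero] at h2
    exact zero_ne_one h2
  have h4 : P.ord (aeval (RatFunc.X : RatFunc k)⁻¹ g.reverse) = 0 := by
    rw [Place.ord_eq_iff P h3, h2, neg_zero, exp_zero]
  rw [← RatFunc.aeval_X_left_eq_algebraMap, Polynomial.aeval_def, ← h1, ← Polynomial.aeval_def,
    Place.ord_mul P h3 (pow_ne_zero _ hX0), h4, Place.ord_pow, hordX]
  ring

end ratfunc

end Groth.Agent.H62.FFRat
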