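import Groth.Agent.H62.FFQuad
import Groth.Agent.H62.FFRat
import Groth.Agent.H55.FFAut
import Mathlib.FieldTheory.RatFunc.AsPolynomial
import Mathlib.Algebra.Polynomial.Reverse

/-!
# The holomorphy ring of `x` and polynomial representations in `K = k(x, y)`, `y² = f(x)`
-/

set_option autoImplicit false

namespace Groth.Agent.H62.FFHol

open FunFld WithZero Module IntermediateField Polynomial Groth.Agent.H55 Groth.Agent.H62.FFRat

variable {k K : Type*} [Field k] [Field K] [Algebra k K]

/-- value of a polynomial in `x` at a pole of `x` -/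
theorem val_aeval_pole (P : Place k K) {x : K} (hx : 1 < P.1 x) {p : k[X]} (hp : p ≠ 0) :
    P.1 (aeval x p) = P.1 x ^ p.natDegree := by
  have hx0 : x ≠ 0 := by
    rintro rfl
    rw [map_zero] at hx
    exact not_lt_zero hx
  have hu : P.1 x⁻¹ < 1 := by
    rw [map_inv₀]
    exact inv_lt_one_of_one_lt₀ hx
  have h0 : (reverse p).coeff 0 ≠ 0 := by
    rw [coeff_zero_reverse]
    exact leadingCoeff_ne_zero.mpr hp
  have h1 := val_aeval_eq_one P (reverse p) hu h0
  let _ := invertibleOfNonzero hx0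
  have h2 := eval₂_reverse_mul_pow (algebraMap k K) x p
  rw [invOf_eq_inv] at h2
  rw [aeval_def, ← h2, map_mul, map_pow, ← aeval_def, h1, one_mul]

/-- the holomorphy ring of `x`: functions with no poles outside the poles of `x` -/
def Hol (x : K) : Subalgebra k K where
  carrier := {z | ∀ P : Place k K, P.1 x ≤ 1 → P.1 z ≤ 1}
  add_mem' {a b} ha hb P hP := (P.1.map_add a b).trans (max_le (ha P hP) (hb P hP))
  mul_mem' {a b} ha hb P hP := by
    rw [map_mul]; exact mul_le_one' (ha P hP) (hb P hP)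
  algebraMap_mem' c P _ := P.2.1 c

theorem mem_Hol {x z : K} : z ∈ Hol (k := k) x ↔ ∀ P : Place k K, P.1 x ≤ 1 → P.1 z ≤ 1 :=
  Iff.rfl

theorem aeval_mem_Hol (x : K) (p : k[X]) : aeval x p ∈ Hol (k := k) x :=
  fun P hP => Place.aeval_mem P p hP

theorem Hol_stable {x : K} (σ : K ≃ₐ[k] K) (hσ : σ x = x) {z : K} (hz : z ∈ Hol (k := k) x) :
    σ z ∈ Hol (k := k) x := by
  intro P hP
  have h1 : (Place.comapAlg P σ).1 x ≤ 1 := by
    rw [Place.comapAlg_val, hσ]; exact hP
  have h2 := hz (Place.comapAlg P σ) h1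
  rwa [Place.comapAlg_val] at h2

/-- evaluation of rational functions at a transcendental element -/
noncomputable def ev {x : K} (hx : Transcendental k x) : RatFunc k →ₐ[k] K :=
  (k⟮x⟯.val).comp (RatFunc.algEquivOfTranscendental x hx).toAlgHom

theorem ev_apply {x : K} (hx : Transcendental k x) (ρ : RatFunc k) :
    ev hx ρ = aeval x ρ.num / aeval x ρ.denom := by
  show ((RatFunc.algEquivOfTranscendental x hx ρ : k⟮x⟯) : K) = _
  rw [RatFunc.algEquivOfTranscendental_apply]

theorem ev_algebraMap {x : K} (hx : Transcendental k x) (p : k[X]) :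
    ev hx (algebraMap k[X] (RatFunc k) p) = aeval x p := by
  show ((RatFunc.algEquivOfTranscendental x hx (algebraMap k[X] (RatFunc k) p) : k⟮x⟯) : K) = _
  rw [RatFunc.algEquivOfTranscendental_algebraMap]
  have := Polynomial.aeval_algHom_apply (k⟮x⟯.val) (AdjoinSimple.gen k x) p
  exact this.symm

theorem ev_injective {x : K} (hx : Transcendental k x) : Function.Injective (ev hx) :=
  (ev hx).toRingHom.injective

theorem exists_ev_eq {x : K} (hx : Transcendental k x) {α : K} (hα : α ∈ k⟮x⟯) :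
    ∃ ρ : RatFunc k, ev hx ρ = α := by
  refine ⟨(RatFunc.algEquivOfTranscendental x hx).symm ⟨α, hα⟩, ?_⟩
  show ((RatFunc.algEquivOfTranscendental x hx
    ((RatFunc.algEquivOfTranscendental x hx).symm ⟨α, hα⟩) : k⟮x⟯) : K) = α
  rw [AlgEquiv.apply_symm_apply]

theorem ev_mem {x : K} (hx : Transcendental k x) (ρ : RatFunc k) : ev hx ρ ∈ k⟮x⟯ :=
  (RatFunc.algEquivOfTranscendental x hx ρ).2

/-- **Lemma A**: a rational function in `x` without poles outside the poles of `x` is a
polynomial in `x`. -/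
theorem denom_eq_one_of_mem_Hol (hK : W.IsWeakFF k K) {x : K} (hx : Transcendental k x)
    (ρ : RatFunc k) (h : ev hx ρ ∈ Hol (k := k) x) : ρ.denom = 1 := by
  by_contra hne
  have hmon : ρ.denom.Monic := RatFunc.monic_denom ρ
  have hdeg : ρ.denom.natDegree ≠ 0 := by
    intro h0
    exact hne ((Polynomial.Monic.natDegree_eq_zero hmon).mp h0)
  have htr : Transcendental k (aeval x ρ.denom) :=
    hx.aeval _ hdeg (by rw [hmon.leadingCoeff]; exact one_mem _)
  obtain ⟨P, hP⟩ := W.exists_zero hK htr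
  have hd0 : ρ.denom ≠ 0 := RatFunc.denom_ne_zero ρ
  have hPx : P.1 x ≤ 1 := by
    by_contra hlt
    push Not at hlt
    rw [val_aeval_pole P hlt hd0] at hP
    exact absurd hP (not_lt.mpr (one_le_pow₀ hlt.le))
  obtain ⟨u, w, huw⟩ := RatFunc.isCoprime_num_denom ρ
  have h1 : aeval x u * aeval x ρ.num + aeval x w * aeval x ρ.denom = 1 := by
    rw [← map_mul, ← map_mul, ← map_add, huw, map_one]
  have hnum : P.1 (aeval x ρ.num) = 1 := by
    apply le_antisymm (Place.aeval_mem P _ hPx)
    by_contra hlt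
    push Not at hlt
    have h2 : P.1 (aeval x u * aeval x ρ.num + aeval x w * aeval x ρ.denom) < 1 := by
      apply (P.1.map_add _ _).trans_lt
      apply max_lt
      · rw [map_mul]
        exact mul_lt_one_of_nonneg_of_lt_one_right (Place.aeval_mem P _ hPx) zero_le hlt
      · rw [map_mul]
        exact mul_lt_one_of_nonneg_of_lt_one_right (Place.aeval_mem P _ hPx) zero_le hP
    rw [h1, map_one] at h2
    exact lt_irrefl _ h2
  have h3 := h P hPx
  rw [ev_apply, map_div₀, hnum] at h3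
  have hden0 : P.1 (aeval x ρ.denom) ≠ 0 := by
    rw [Ne, map_eq_zero]
    exact fun h0 => htr (h0 ▸ isAlgebraic_zero)
  rw [div_le_iff₀ (zero_lt_iff.mpr hden0), one_mul] at h3
  exact absurd hP (not_lt.mpr h3)

theorem exists_poly_of_mem_Hol (hK : W.IsWeakFF k K) {x : K} (hx : Transcendental k x)
    (ρ : RatFunc k) (h : ev hx ρ ∈ Hol (k := k) x) :
    ∃ a : k[X], ρ = algebraMap k[X] (RatFunc k) a := by
  have h1 := denom_eq_one_of_mem_Hol hK hx ρ h
  refine ⟨ρ.num, ?_⟩
  have h2 := RatFunc.num_div_denom ρ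
  rw [h1, map_one, div_one] at h2
  exact h2.symm

/-- if `ρ² f` is a polynomial with `f` squarefree then `ρ` is a polynomial -/
theorem exists_poly_of_sq_mul {ρ : RatFunc k} {f h : k[X]} (hf : Squarefree f)
    (heq : ρ ^ 2 * algebraMap k[X] (RatFunc k) f = algebraMap k[X] (RatFunc k) h) :
    ∃ b : k[X], ρ = algebraMap k[X] (RatFunc k) b := by
  have hf0 : f ≠ 0 := hf.ne_zero
  have hinj : Function.Injective (algebraMap k[X] (RatFunc k)) :=
    IsFractionRing.injective k[X] (RatFunc k)
  have hF0 : algebraMap k[X] (RatFunc k) f ≠ 0 := (map_ne_zero_iff _ hinj).mpr hf0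
  set τ : RatFunc k := ρ * algebraMap k[X] (RatFunc k) f with hτ
  have hτ2 : τ ^ 2 = algebraMap k[X] (RatFunc k) (h * f) := by
    rw [hτ, map_mul, ← heq]; ring
  have hint : IsIntegral k[X] τ := by
    refine ⟨X ^ 2 - C (h * f), monic_X_pow_sub_C _ two_ne_zero, ?_⟩
    rw [eval₂_sub, eval₂_pow, eval₂_X, eval₂_C, hτ2, sub_self]
  obtain ⟨g, hg⟩ := IsIntegrallyClosed.algebraMap_eq_of_integral hint
  have hg2 : g ^ 2 = h * f := by
    apply hinj
    rw [map_pow, hg, hτ2]
  have hdvd : f ∣ g := by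
    rw [← hf.dvd_pow_iff_dvd two_ne_zero, hg2]
    exact dvd_mul_left f h
  obtain ⟨b, hb⟩ := hdvd
  refine ⟨b, ?_⟩
  have h1 : ρ * algebraMap k[X] (RatFunc k) f =
      algebraMap k[X] (RatFunc k) b * algebraMap k[X] (RatFunc k) f := by
    rw [← hτ, ← hg, hb, map_mul]; ring
  exact mul_right_cancel₀ hF0 h1

end Groth.Agent.H62.FFHol
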