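import Groth.Agent.H62.FFResConst
import Groth.Agent.H55.WGal
import Groth.Agent.H62.FFExtDeg
import Mathlib.RingTheory.Invariant.Galois

/-!
# The ring of elements without poles above a place, with its Galois action
-/

set_option autoImplicit false
set_option linter.unusedSectionVars false

namespace Groth.Agent.H62.FFHolRing

open FunFld WithZero Module Groth.Agent.H55

variable {k K K' : Type*} [Field k] [Field K] [Field K'] [Algebra k K] [Algebra K K']
  [Algebra k K'] [IsScalarTower k K K']

/-- the subring of elements of `K'` without poles above `P` -/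
def holRing (K' : Type*) [Field K'] [Algebra K K'] [Algebra k K'] [IsScalarTower k K K']
    (P : Place k K) : Subring K' where
  carrier := {z | ∀ (Q : Place k K') (e : ℕ), IsOverWith Q P e → Q.1 z ≤ 1}
  mul_mem' := fun {a b} ha hb Q e he => by
    rw [map_mul]; exact mul_le_one' (ha Q e he) (hb Q e he)
  one_mem' := fun Q e he => by rw [map_one]
  add_mem' := fun {a b} ha hb Q e he =>
    (Q.1.map_add a b).trans (max_le (ha Q e he) (hb Q e he))
  zero_mem' := fun Q e he => by rw [map_zero]; exact zero_le
  neg_mem' := fun {a} ha Q e he => by rw [Valuation.map_neg]; exact ha Q e he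

theorem mem_holRing {P : Place k K} {z : K'} :
    z ∈ holRing K' P ↔ ∀ (Q : Place k K') (e : ℕ), IsOverWith Q P e → Q.1 z ≤ 1 := Iff.rfl

theorem algebraMap_mem_holRing (P : Place k K) (a : P.O) :
    algebraMap K K' (a : K) ∈ holRing K' P := by
  intro Q e he
  rw [he]
  exact pow_le_one₀ zero_le ((Valuation.mem_valuationSubring_iff P.1 _).mp a.2)

/-- the structure map `O_P → holRing` -/
def toHol (K' : Type*) [Field K'] [Algebra K K'] [Algebra k K'] [IsScalarTower k K K']
    (P : Place k K) : P.O →+* holRing K' P :=
  ((algebraMap K K').comp P.O.subtype).codRestrict (holRing K' P)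
    (fun a => algebraMap_mem_holRing P a)

instance algHol (P : Place k K) : Algebra P.O (holRing K' P) := (toHol K' P).toAlgebra

theorem algebraMap_hol_coe (P : Place k K) (a : P.O) :
    ((algebraMap P.O (holRing K' P) a : holRing K' P) : K') = algebraMap K K' (a : K) := rfl

instance algHolk (P : Place k K) : Algebra k (holRing K' P) :=
  ((algebraMap P.O (holRing K' P)).comp (algebraMap k P.O)).toAlgebra

instance towerHol (P : Place k K) : IsScalarTower k P.O (holRing K' P) :=
  IsScalarTower.of_algebraMap_eq' rfl

theorem algebraMap_k_hol_coe (P : Place k K) (c : k) :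
    ((algebraMap k (holRing K' P) c : holRing K' P) : K') = algebraMap k K' c := by
  show algebraMap K K' (algebraMap k K c) = _
  rw [← IsScalarTower.algebraMap_apply]

instance invHol (P : Place k K) : IsInvariantSubring (K' ≃ₐ[K] K') (holRing K' P) where
  smul_mem σ {x} hx := by
    intro Q e he
    have h1 := hx (Place.comapK Q σ) e (comapK_isOverWith he σ)
    rwa [Place.comapK_val] at h1

theorem smul_hol_coe (P : Place k K) (σ : K' ≃ₐ[K] K') (b : holRing K' P) :
    ((σ • b : holRing K' P) : K') = σ (b : K') := rfl

instance smulCommHol (P : Place k K) :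
    SMulCommClass (K' ≃ₐ[K] K') P.O (holRing K' P) where
  smul_comm σ a b := by
    apply Subtype.ext
    rw [smul_hol_coe, Algebra.smul_def, Algebra.smul_def]
    show σ (algebraMap K K' (a : K) * (b : K')) = algebraMap K K' (a : K) * σ (b : K')
    rw [map_mul, σ.commutes]

/-- the fixed points of the Galois action on `holRing` are `O_P` -/
theorem isInvariant_hol [FiniteDimensional K K'] [IsGalois K K'] (hK : IsFunctionField k K)
    (P : Place k K) : Algebra.IsInvariant P.O (holRing K' P) (K' ≃ₐ[K] K') where
  isInvariant b hb := by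
    have h1 : (b : K') ∈ IntermediateField.fixedField (⊤ : Subgroup (K' ≃ₐ[K] K')) := by
      rintro ⟨σ, -⟩
      have := congrArg Subtype.val (hb σ)
      exact this
    have hgal : IsGalois K K' := inferInstance
    have hbot : IntermediateField.fixedField (⊤ : Subgroup (K' ≃ₐ[K] K')) = ⊥ :=
      ((IsGalois.tfae (F := K) (E := K')).out 0 1).mp hgal
    rw [hbot, IntermediateField.mem_bot] at h1
    obtain ⟨a, ha⟩ := h1
    obtain ⟨Q, e, he⟩ := FFExtDeg.exists_isOver (K' := K') hK P
    have he0 : e ≠ 0 := (isOverWith_pos he).ne'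
    have h2 : Q.1 (b : K') ≤ 1 := b.2 Q e he
    rw [← ha, he] at h2
    have h3 : P.1 a ≤ 1 := (pow_le_one_iff_of_nonneg zero_le he0).mp h2
    refine ⟨⟨a, (Valuation.mem_valuationSubring_iff P.1 _).mpr h3⟩, ?_⟩
    apply Subtype.ext
    rw [algebraMap_hol_coe]
    exact ha

end Groth.Agent.H62.FFHolRing
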