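import Groth.Agent.H62.FFHolRing

/-!
# The residue map from the holomorphy ring to the residue field of a place above
-/

set_option autoImplicit false
set_option linter.unusedSectionVars false

namespace Groth.Agent.H62.FFHolRing

open FunFld WithZero Module Groth.Agent.H55

variable {k K K' : Type*} [Field k] [Field K] [Field K'] [Algebra k K] [Algebra K K']
  [Algebra k K'] [IsScalarTower k K K']

-- we use Mathlib's `k`-algebra structure on residue fields (the one `Place.deg` is computed with)
attribute [-instance] FunFld.Place.algRes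

/-- the Prelude's algebra structure on the residue field is Mathlib's -/
theorem algRes_eq (P : Place k K) :
    Place.algRes P = IsLocalRing.ResidueField.algebra P.O := by
  apply Algebra.algebra_ext
  intro c
  rfl

theorem exp_neg_one_lt_one : exp (-1 : ℤ) < (1 : WithZero (Multiplicative ℤ)) := by
  rw [← exp_zero, exp_lt_exp]; norm_num

/-- approximation inside `holRing` -/
theorem exists_mem_holRing_approx [FiniteDimensional K K'] (hK : IsFunctionField k K)
    (P : Place k K) (x : Place k K' → K') (hx : ∀ Q', IsOver Q' P → Q'.1 (x Q') ≤ 1) :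
    ∃ b ∈ holRing K' P, ∀ Q', IsOver Q' P → Q'.1 (b - x Q') < 1 := by
  classical
  have hfin : {Q : Place k K' | IsOver Q P}.Finite := (sum_ramIdx_mul_deg (K' := K') hK P).1
  obtain ⟨r, hr⟩ := Place.weak_approx_le hfin.toFinset x 1
  have key : ∀ Q', IsOver Q' P → Q'.1 (r - x Q') < 1 := fun Q' hQ' =>
    (hr Q' (hfin.mem_toFinset.mpr hQ')).trans_lt exp_neg_one_lt_one
  refine ⟨r, fun Q' e he => ?_, key⟩
  have h1 : r = (r - x Q') + x Q' := by ring
  rw [h1]
  exact (Q'.1.map_add _ _).trans (max_le (key Q' ⟨e, he⟩).le (hx Q' ⟨e, he⟩))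

/-- the residue map `holRing → F_Q` -/
noncomputable def resHom {Q : Place k K'} {P : Place k K} {e : ℕ} (he : IsOverWith Q P e) :
    holRing K' P →ₐ[k] IsLocalRing.ResidueField Q.O where
  toFun b := IsLocalRing.residue Q.O ⟨(b : K'), b.2 Q e he⟩
  map_one' := by
    have : (⟨((1 : holRing K' P) : K'), (1 : holRing K' P).2 Q e he⟩ : Q.O) = 1 := rfl
    rw [this, map_one]
  map_mul' a b := by
    have : (⟨((a * b : holRing K' P) : K'), (a * b).2 Q e he⟩ : Q.O) =
        ⟨(a : K'), a.2 Q e he⟩ * ⟨(b : K'), b.2 Q e he⟩ := rfl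
    rw [this, map_mul]
  map_zero' := by
    have : (⟨((0 : holRing K' P) : K'), (0 : holRing K' P).2 Q e he⟩ : Q.O) = 0 := rfl
    rw [this, map_zero]
  map_add' a b := by
    have : (⟨((a + b : holRing K' P) : K'), (a + b).2 Q e he⟩ : Q.O) =
        ⟨(a : K'), a.2 Q e he⟩ + ⟨(b : K'), b.2 Q e he⟩ := rfl
    rw [this, map_add]
  commutes' c := by
    show IsLocalRing.residue Q.O _ = IsLocalRing.residue Q.O (algebraMap k Q.O c)
    congr 1
    apply Subtype.ext
    exact algebraMap_k_hol_coe P c

theorem resHom_apply {Q : Place k K'} {P : Place k K} {e : ℕ} (he : IsOverWith Q P e)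
    (b : holRing K' P) :
    resHom he b = IsLocalRing.residue Q.O ⟨(b : K'), b.2 Q e he⟩ := rfl

theorem resHom_eq_zero_iff {Q : Place k K'} {P : Place k K} {e : ℕ} (he : IsOverWith Q P e)
    (b : holRing K' P) : resHom he b = 0 ↔ Q.1 (b : K') < 1 := by
  rw [resHom_apply, Place.residue_eq_zero_iff]

theorem resHom_surjective [FiniteDimensional K K'] (hK : IsFunctionField k K)
    {Q : Place k K'} {P : Place k K} {e : ℕ} (he : IsOverWith Q P e) :
    Function.Surjective (resHom he) := by
  classical
  intro zbar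
  obtain ⟨z, rfl⟩ := IsLocalRing.residue_surjective zbar
  have hzle : Q.1 (z : K') ≤ 1 := (Valuation.mem_valuationSubring_iff Q.1 _).mp z.2
  obtain ⟨b, hb, hbz⟩ := exists_mem_holRing_approx (K' := K') hK P
    (fun Q' => if Q' = Q then (z : K') else 0) (fun Q' _ => by
      by_cases h : Q' = Q
      · subst h; rw [if_pos rfl]; exact hzle
      · rw [if_neg h, map_zero]; exact zero_le)
  refine ⟨⟨b, hb⟩, ?_⟩
  rw [resHom_apply, ← sub_eq_zero, ← map_sub, Place.residue_eq_zero_iff]
  have := hbz Q ⟨e, he⟩
  rw [if_pos rfl] at this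
  exact this

/-- the prime of `holRing` cut out by `Q` -/
noncomputable def QB {Q : Place k K'} {P : Place k K} {e : ℕ} (he : IsOverWith Q P e) :
    Ideal (holRing K' P) := RingHom.ker (resHom he)

theorem mem_QB {Q : Place k K'} {P : Place k K} {e : ℕ} (he : IsOverWith Q P e)
    (b : holRing K' P) : b ∈ QB he ↔ Q.1 (b : K') < 1 := by
  rw [QB, RingHom.mem_ker, resHom_eq_zero_iff]

theorem QB_isMaximal [FiniteDimensional K K'] (hK : IsFunctionField k K)
    {Q : Place k K'} {P : Place k K} {e : ℕ} (he : IsOverWith Q P e) : (QB he).IsMaximal :=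
  RingHom.ker_isMaximal_of_surjective _ (resHom_surjective hK he)

theorem QB_liesOver {Q : Place k K'} {P : Place k K} {e : ℕ} (he : IsOverWith Q P e) :
    (QB he).LiesOver (IsLocalRing.maximalIdeal P.O) := by
  have he0 : e ≠ 0 := (isOverWith_pos he).ne'
  refine ⟨?_⟩
  ext a
  rw [Ideal.under_def, Ideal.mem_comap, mem_QB, algebraMap_hol_coe, he,
    Valuation.mem_maximalIdeal_iff]
  exact (pow_lt_one_iff_of_nonneg zero_le he0).symm

/-- `holRing / QB ≃ F_Q` -/
noncomputable def quotEquiv [FiniteDimensional K K'] (hK : IsFunctionField k K)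
    {Q : Place k K'} {P : Place k K} {e : ℕ} (he : IsOverWith Q P e) :
    (holRing K' P ⧸ QB he) ≃ₐ[k] IsLocalRing.ResidueField Q.O :=
  Ideal.quotientKerAlgEquivOfSurjective (resHom_surjective hK he)

end Groth.Agent.H62.FFHolRing
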