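import Groth.Agent.H62.FFHypRepr
import Groth.Agent.H55.FFRiemannRoch
import Mathlib.RingTheory.Polynomial.Basic

/-!
# Genus of `K = k(x, y)`, `y² = f(x)`, `f` squarefree, `char k ≠ 2`
-/

set_option autoImplicit false

namespace Groth.Agent.H62.FFHypGenus

open FunFld WithZero Module IntermediateField Polynomial Groth.Agent.H55 Groth.Agent.H62.FFRat
  Groth.Agent.H62.FFHol Groth.Agent.H62.FFHypRepr

variable {k K : Type*} [Field k] [Field K] [Algebra k K]

theorem exp_poleDiv (hK : IsFunctionField k K) {x : K} (hx0 : x ≠ 0) (r : ℕ) (P : Place k K) :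
    exp ((r • poleDiv k x) P) = (max (P.1 x) 1) ^ r := by
  rw [Finsupp.smul_apply, exp_nsmul, poleDiv_apply hK]
  congr 1
  rw [Place.val_eq_exp_neg_ord P hx0]
  rcases le_total (-P.ord x) 0 with h | h
  · rw [max_eq_right h, max_eq_right (by rw [← exp_zero, exp_le_exp]; exact h), exp_zero]
  · rw [max_eq_left h, max_eq_left (by rw [← exp_zero, exp_le_exp]; exact h)]

theorem mem_L_nsmul_poleDiv (hK : IsFunctionField k K) {x : K} (hx0 : x ≠ 0) (r : ℕ) {z : K} :
    z ∈ L (r • poleDiv k x) ↔ ∀ P : Place k K, P.1 z ≤ (max (P.1 x) 1) ^ r := by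
  rw [mem_L]
  exact forall_congr' fun P => by rw [exp_poleDiv hK hx0]

theorem L_stable (hK : IsFunctionField k K) {x : K} (hx0 : x ≠ 0) (r : ℕ) (σ : K ≃ₐ[k] K)
    (hσ : σ x = x) {z : K} (hz : z ∈ L (r • poleDiv k x)) : σ z ∈ L (r • poleDiv k x) := by
  rw [mem_L_nsmul_poleDiv hK hx0] at hz ⊢
  intro P
  have := hz (Place.comapAlg P σ)
  rwa [Place.comapAlg_val, Place.comapAlg_val, hσ] at this

theorem mem_Hol_of_mem_L (hK : IsFunctionField k K) {x : K} (hx0 : x ≠ 0) (r : ℕ) {z : K}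
    (hz : z ∈ L (r • poleDiv k x)) : z ∈ Hol (k := k) x := by
  rw [mem_L_nsmul_poleDiv hK hx0] at hz
  intro P hP
  have := hz P
  rwa [max_eq_right hP, one_pow] at this

section main

variable (hK : IsFunctionField k K) {x y : K} (hx : Transcendental k x)
  (hdeg : finrank k⟮x⟯ K = 2) (hy : y ∉ k⟮x⟯) {f : k[X]} (hf : Squarefree f)
  (heq : y ^ 2 = aeval x f) (h2 : (2 : k) ≠ 0)

include heq in
theorem val_y_sq (P : Place k K) : P.1 y ^ 2 = P.1 (aeval x f) := by
  rw [← map_pow, heq]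

include heq in
theorem val_y_le_one (P : Place k K) (hP : P.1 x ≤ 1) : P.1 y ≤ 1 := by
  have h1 : P.1 y ^ 2 ≤ 1 := by
    rw [val_y_sq heq]; exact Place.aeval_mem P f hP
  exact (pow_le_one_iff_of_nonneg zero_le two_ne_zero).mp h1

include hK hx in
/-- polynomials of degree `≤ r` lie in `L(r (x)_∞)` -/
theorem aeval_mem_L {a : k[X]} {r : ℕ} (ha : a.natDegree ≤ r) :
    aeval x a ∈ L (r • poleDiv k x) := by
  have hx0 : x ≠ 0 := fun h => hx (h ▸ isAlgebraic_zero)
  rw [mem_L_nsmul_poleDiv hK hx0]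
  intro P
  rcases le_or_gt (P.1 x) 1 with hP | hP
  · rw [max_eq_right hP, one_pow]; exact Place.aeval_mem P a hP
  · rw [max_eq_left hP.le]
    by_cases ha0 : a = 0
    · rw [ha0, map_zero, map_zero]; exact zero_le
    · rw [val_aeval_pole P hP ha0]
      exact pow_le_pow_right₀ hP.le ha

include hK hx hf heq in
/-- `b(x) y ∈ L(r (x)_∞)` when `2 deg b + d ≤ 2r` -/
theorem aeval_mul_y_mem_L {b : k[X]} {r : ℕ} (hb : 2 * b.natDegree + f.natDegree ≤ 2 * r) :
    aeval x b * y ∈ L (r • poleDiv k x) := by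
  have hx0 : x ≠ 0 := fun h => hx (h ▸ isAlgebraic_zero)
  rw [mem_L_nsmul_poleDiv hK hx0]
  intro P
  rcases le_or_gt (P.1 x) 1 with hP | hP
  · rw [max_eq_right hP, one_pow, map_mul]
    exact mul_le_one' (Place.aeval_mem P b hP) (val_y_le_one heq P hP)
  · rw [max_eq_left hP.le]
    by_cases hb0 : b = 0
    · rw [hb0, map_zero, zero_mul, map_zero]; exact zero_le
    · rw [← pow_le_pow_iff_left₀ zero_le zero_le two_ne_zero, map_mul, mul_pow, val_y_sq heq,
        val_aeval_pole P hP hb0, val_aeval_pole P hP hf.ne_zero, ← pow_mul, ← pow_add, ← pow_mul]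
      exact pow_le_pow_right₀ hP.le (by omega)

include hK hx hdeg hy hf heq h2 in
/-- elements of `L(r (x)_∞)` are `a(x) + b(x) y` with bounded degrees -/
theorem exists_repr_of_mem_L {r : ℕ} {z : K} (hz : z ∈ L (r • poleDiv k x)) :
    ∃ a b : k[X], z = aeval x a + aeval x b * y ∧ a.natDegree ≤ r ∧
      (b = 0 ∨ 2 * b.natDegree + f.natDegree ≤ 2 * r) := by
  have hx0 : x ≠ 0 := fun h => hx (h ▸ isAlgebraic_zero)
  have h2K := two_ne_zero' (K := K) h2
  obtain ⟨a, b, hab⟩ := exists_poly_repr hK.weak hx hdeg hy hf heq h2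
    (mem_Hol_of_mem_L hK hx0 r hz)
  obtain ⟨σ, hσy, hσE⟩ := exists_conj hdeg hy heq
  have hσx : σ x = x := hσE x (mem_adjoin_simple_self k x)
  have hσz : σ z = aeval x a - aeval x b * y := by
    rw [hab, map_add, map_mul, hσE _ (aeval_mem_adjoin x a), hσE _ (aeval_mem_adjoin x b), hσy]
    ring
  have h1 : σ z ∈ L (r • poleDiv k x) := L_stable hK hx0 r σ hσx hz
  have haL : aeval x a ∈ L (r • poleDiv k x) := by
    have h3 : aeval x a = (2⁻¹ : k) • (z + σ z) := by
      rw [hσz, hab, Algebra.smul_def, map_inv₀, map_ofNat]; field_simp; ring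
    rw [h3]
    exact Submodule.smul_mem _ _ (add_mem hz h1)
  have hbL : aeval x b * y ∈ L (r • poleDiv k x) := by
    have h3 : aeval x b * y = (2⁻¹ : k) • (z - σ z) := by
      rw [hσz, hab, Algebra.smul_def, map_inv₀, map_ofNat]; field_simp; ring
    rw [h3]
    exact Submodule.smul_mem _ _ (sub_mem hz h1)
  obtain ⟨P, hP⟩ := W.exists_pole hK.weak hx
  rw [mem_L_nsmul_poleDiv hK hx0] at haL hbL
  refine ⟨a, b, hab, ?_, ?_⟩
  · by_cases ha0 : a = 0
    · rw [ha0, natDegree_zero]; exact Nat.zero_le r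
    · have := haL P
      rw [max_eq_left hP.le, val_aeval_pole P hP ha0] at this
      exact (pow_le_pow_iff_right₀ hP).mp this
  · by_cases hb0 : b = 0
    · exact Or.inl hb0
    · right
      have := hbL P
      rw [max_eq_left hP.le, ← pow_le_pow_iff_left₀ zero_le zero_le two_ne_zero, map_mul, mul_pow,
        val_y_sq heq, val_aeval_pole P hP hb0, val_aeval_pole P hP hf.ne_zero, ← pow_mul,
        ← pow_add, ← pow_mul] at this
      have h4 := (pow_le_pow_iff_right₀ hP).mp this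
      omega

end main

end Groth.Agent.H62.FFHypGenus
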