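import Groth.Agent.H62.FFHypGenus

/-!
# Genus of `K = k(x, y)`, `y² = f(x)`: the dimension count
-/

set_option autoImplicit false

namespace Groth.Agent.H62.FFHypGenus

open FunFld WithZero Module IntermediateField Polynomial Groth.Agent.H55 Groth.Agent.H62.FFRat
  Groth.Agent.H62.FFHol Groth.Agent.H62.FFHypRepr

variable {k K : Type*} [Field k] [Field K] [Algebra k K]

theorem finrank_degreeLT (n : ℕ) : finrank k (degreeLT k n) = n := by
  rw [(degreeLTEquiv k n).finrank_eq, Module.finrank_fin_fun]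

/-- the parametrisation `(a, b) ↦ a(x) + b(x) y` -/
noncomputable def Phi (x y : K) (n₁ n₂ : ℕ) : (degreeLT k n₁ × degreeLT k n₂) →ₗ[k] K :=
  (((aeval x).toLinearMap).comp (degreeLT k n₁).subtype).coprod
    (((LinearMap.mulRight k y).comp (aeval x).toLinearMap).comp (degreeLT k n₂).subtype)

theorem Phi_apply (x y : K) (n₁ n₂ : ℕ) (p : degreeLT k n₁ × degreeLT k n₂) :
    Phi x y n₁ n₂ p = aeval x (p.1 : k[X]) + aeval x (p.2 : k[X]) * y := rfl

theorem Phi_injective {x y : K} (hx : Transcendental k x) (hy : y ∉ k⟮x⟯) (n₁ n₂ : ℕ) :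
    Function.Injective (Phi (k := k) x y n₁ n₂) := by
  rw [← LinearMap.ker_eq_bot, LinearMap.ker_eq_bot']
  intro p hp
  rw [Phi_apply] at hp
  have hinj : Function.Injective (aeval (R := k) x) := transcendental_iff_injective.mp hx
  have h0 : aeval x (p.1 : k[X]) + aeval x (p.2 : k[X]) * y = 0 + 0 * y := by
    rw [hp, zero_mul, add_zero]
  obtain ⟨h1, h2⟩ := repr_unique hy (aeval_mem_adjoin x _) (aeval_mem_adjoin x _)
    (zero_mem _) (zero_mem _) h0
  have h3 : (p.1 : k[X]) = 0 := hinj (by rw [h1, map_zero])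
  have h4 : (p.2 : k[X]) = 0 := hinj (by rw [h2, map_zero])
  exact Prod.ext (Subtype.ext h3) (Subtype.ext h4)

theorem natDegree_lt_of_mem_degreeLT {n : ℕ} {p : k[X]} (hp : p ∈ degreeLT k n) (hp0 : p ≠ 0) :
    p.natDegree < n := by
  rw [mem_degreeLT, degree_eq_natDegree hp0] at hp
  exact_mod_cast hp

theorem mem_degreeLT_of_natDegree_lt {n : ℕ} {p : k[X]} (hp : p.natDegree < n) :
    p ∈ degreeLT k n := by
  rw [mem_degreeLT]
  by_cases hp0 : p = 0
  · rw [hp0, degree_zero]; exact WithBot.bot_lt_coe _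
  · rw [degree_eq_natDegree hp0]; exact_mod_cast hp

section main

variable (hK : IsFunctionField k K) {x y : K} (hx : Transcendental k x)
  (hdeg : finrank k⟮x⟯ K = 2) (hy : y ∉ k⟮x⟯) {f : k[X]} (hf : Squarefree f)
  (heq : y ^ 2 = aeval x f) (h2 : (2 : k) ≠ 0)

include hK hx hdeg hy hf heq h2 in
theorem range_Phi {r : ℕ} (hr : (f.natDegree + 1) / 2 ≤ r) :
    LinearMap.range (Phi (k := k) x y (r + 1) (r + 1 - (f.natDegree + 1) / 2)) =
      L (r • poleDiv k x) := by
  apply le_antisymm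
  · rintro _ ⟨p, rfl⟩
    rw [Phi_apply]
    apply add_mem
    · apply aeval_mem_L hK hx
      by_cases h0 : (p.1 : k[X]) = 0
      · rw [h0, natDegree_zero]; exact Nat.zero_le r
      · have := natDegree_lt_of_mem_degreeLT p.1.2 h0
        omega
    · by_cases h0 : (p.2 : k[X]) = 0
      · rw [h0, map_zero, zero_mul]; exact zero_mem _
      · apply aeval_mul_y_mem_L hK hx hf heq
        have := natDegree_lt_of_mem_degreeLT p.2.2 h0
        omega
  · intro z hz
    obtain ⟨a, b, hab, ha, hb⟩ := exists_repr_of_mem_L hK hx hdeg hy hf heq h2 hz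
    have ha' : a ∈ degreeLT k (r + 1) := mem_degreeLT_of_natDegree_lt (by omega)
    have hb' : b ∈ degreeLT k (r + 1 - (f.natDegree + 1) / 2) := by
      rcases hb with hb | hb
      · rw [hb]; exact zero_mem _
      · exact mem_degreeLT_of_natDegree_lt (by omega)
    exact ⟨(⟨a, ha'⟩, ⟨b, hb'⟩), by rw [Phi_apply, hab]⟩

include hK hx hdeg hy hf heq h2 in
theorem ell_eq {r : ℕ} (hr : (f.natDegree + 1) / 2 ≤ r) :
    ell (r • poleDiv k x) = (r + 1) + (r + 1 - (f.natDegree + 1) / 2) := by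
  have hinj := Phi_injective (k := k) hx hy (r + 1) (r + 1 - (f.natDegree + 1) / 2)
  have e := LinearEquiv.ofInjective _ hinj
  have h1 := e.finrank_eq
  rw [Module.finrank_prod, finrank_degreeLT, finrank_degreeLT] at h1
  unfold ell
  rw [← range_Phi hK hx hdeg hy hf heq h2 hr, ← h1]

include hK hx hdeg hy hf heq h2 in
/-- the genus of a hyperelliptic function field -/
theorem genus_eq (hd : 1 ≤ f.natDegree) : genus k K = (f.natDegree - 1) / 2 := by
  obtain ⟨N, hN⟩ := riemann hK
  set e := (f.natDegree + 1) / 2 with he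
  set r : ℕ := N.toNat + e with hr
  have hdegD : (r • poleDiv k x).deg = 2 * r := by
    rw [Divisor.deg_nsmul, deg_poleDiv hK hx, hdeg]; push_cast; ring
  have h1 := hN (r • poleDiv k x) (by rw [hdegD]; have := Int.self_le_toNat N; omega)
  rw [hdegD, ell_eq hK hx hdeg hy hf heq h2 (by omega : e ≤ r)] at h1
  have h3 : (genus k K : ℤ) = (e : ℤ) - 1 := by
    rw [← h1]
    have : ((r + 1 + (r + 1 - e) : ℕ) : ℤ) = (r : ℤ) + 1 + ((r : ℤ) + 1 - e) := by
      have : e ≤ r + 1 := by omega
      push_cast [Nat.cast_sub this]; ring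
    rw [this]; ring
  omega

end main

end Groth.Agent.H62.FFHypGenus
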