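import Groth.Agent.H62.FFHol

/-!
# `K = k(x, y)`, `y² = f(x)`: polynomial representation of holomorphic elements, constants
-/

set_option autoImplicit false

namespace Groth.Agent.H62.FFHypRepr

open FunFld WithZero Module IntermediateField Polynomial Groth.Agent.H55 Groth.Agent.H62.FFRat
  Groth.Agent.H62.FFHol

variable {k K : Type*} [Field k] [Field K] [Algebra k K]

theorem not_mem_range {x y : K} (hy : y ∉ k⟮x⟯) : y ∉ Set.range (algebraMap k⟮x⟯ K) := by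
  rintro ⟨e, rfl⟩; exact hy e.2

theorem aeval_mem_adjoin (x : K) (p : k[X]) : aeval x p ∈ k⟮x⟯ :=
  IntermediateField.algebra_adjoin_le_adjoin k _ (Polynomial.aeval_mem_adjoin_singleton k x)

/-- the conjugation `y ↦ -y` as a `k`-automorphism fixing `k(x)` -/
theorem exists_conj {x y : K} (hdeg : finrank k⟮x⟯ K = 2) (hy : y ∉ k⟮x⟯) {f : k[X]}
    (heq : y ^ 2 = aeval x f) :
    ∃ σ : K ≃ₐ[k] K, σ y = -y ∧ ∀ α ∈ k⟮x⟯, σ α = α := by
  have heq' : y ^ 2 = algebraMap k⟮x⟯ K ⟨aeval x f, aeval_mem_adjoin x f⟩ := heq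
  obtain ⟨σ, hσ⟩ := FFQuad.exists_algEquiv_neg hdeg (not_mem_range hy) heq'
  refine ⟨σ.restrictScalars k, hσ, fun α hα => ?_⟩
  exact σ.commutes ⟨α, hα⟩

theorem exists_repr {x y : K} (hdeg : finrank k⟮x⟯ K = 2) (hy : y ∉ k⟮x⟯) (z : K) :
    ∃ α β : K, α ∈ k⟮x⟯ ∧ β ∈ k⟮x⟯ ∧ z = α + β * y := by
  obtain ⟨a, b, hab⟩ := FFParity.exists_eq_add_mul hdeg (not_mem_range hy) z
  exact ⟨a, b, a.2, b.2, hab⟩

theorem repr_unique {x y : K} (hy : y ∉ k⟮x⟯) {α β α' β' : K} (hα : α ∈ k⟮x⟯) (hβ : β ∈ k⟮x⟯)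
    (hα' : α' ∈ k⟮x⟯) (hβ' : β' ∈ k⟮x⟯) (h : α + β * y = α' + β' * y) : α = α' ∧ β = β' := by
  have := FFQuad.repr_unique (K := k⟮x⟯) (K' := K) (not_mem_range hy)
    (a := ⟨α, hα⟩) (b := ⟨β, hβ⟩) (a' := ⟨α', hα'⟩) (b' := ⟨β', hβ'⟩) h
  exact ⟨congrArg Subtype.val this.1, congrArg Subtype.val this.2⟩

theorem two_ne_zero' (h2 : (2 : k) ≠ 0) : (2 : K) ≠ 0 := by
  have : algebraMap k K 2 ≠ 0 := (map_ne_zero_iff _ (algebraMap k K).injective).mpr h2
  rwa [map_ofNat] at this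

/-- **Key lemma**: elements without poles outside the poles of `x` are `a(x) + b(x) y` -/
theorem exists_poly_repr (hK : W.IsWeakFF k K) {x y : K} (hx : Transcendental k x)
    (hdeg : finrank k⟮x⟯ K = 2) (hy : y ∉ k⟮x⟯) {f : k[X]} (hf : Squarefree f)
    (heq : y ^ 2 = aeval x f) (h2 : (2 : k) ≠ 0) {z : K} (hz : z ∈ Hol (k := k) x) :
    ∃ a b : k[X], z = aeval x a + aeval x b * y := by
  have h2K := two_ne_zero' (K := K) h2
  obtain ⟨σ, hσy, hσE⟩ := exists_conj hdeg hy heq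
  have hσx : σ x = x := hσE x (mem_adjoin_simple_self k x)
  obtain ⟨α, β, hα, hβ, rfl⟩ := exists_repr hdeg hy z
  have hσz : σ (α + β * y) = α - β * y := by
    rw [map_add, map_mul, hσE α hα, hσE β hβ, hσy]; ring
  have h1 : α - β * y ∈ Hol (k := k) x := hσz ▸ Hol_stable σ hσx hz
  have hαH : α ∈ Hol (k := k) x := by
    have h3 : α = algebraMap k K (2⁻¹) * ((α + β * y) + (α - β * y)) := by
      rw [map_inv₀, map_ofNat]; field_simp; ring
    rw [h3]
    exact mul_mem (Subalgebra.algebraMap_mem _ _) (add_mem hz h1)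
  obtain ⟨ρα, hρα⟩ := exists_ev_eq hx hα
  obtain ⟨a, ha⟩ := exists_poly_of_mem_Hol hK hx ρα (hρα ▸ hαH)
  have hβf : β ^ 2 * aeval x f ∈ Hol (k := k) x := by
    have h3 : β ^ 2 * aeval x f = α * α - (α + β * y) * (α - β * y) := by
      rw [← heq]; ring
    rw [h3]
    exact sub_mem (mul_mem hαH hαH) (mul_mem hz h1)
  obtain ⟨ρβ, hρβ⟩ := exists_ev_eq hx hβ
  have h4 : ev hx (ρβ ^ 2 * algebraMap k[X] (RatFunc k) f) = β ^ 2 * aeval x f := by
    rw [map_mul, map_pow, hρβ, ev_algebraMap]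
  obtain ⟨h, hh⟩ := exists_poly_of_mem_Hol hK hx _ (h4 ▸ hβf)
  obtain ⟨b, hb⟩ := exists_poly_of_sq_mul hf hh
  refine ⟨a, b, ?_⟩
  rw [← ev_algebraMap hx a, ← ha, hρα, ← ev_algebraMap hx b, ← hb, hρβ]

/-- **Constants**: `k` is algebraically closed in `K` -/
theorem mem_range_of_isAlgebraic {x y : K} (hx : Transcendental k x)
    (hdeg : finrank k⟮x⟯ K = 2) (hy : y ∉ k⟮x⟯) {f : k[X]} (hf : Squarefree f)
    (hd : 1 ≤ f.natDegree) (heq : y ^ 2 = aeval x f) (h2 : (2 : k) ≠ 0) {z : K}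
    (hz : IsAlgebraic k z) : z ∈ Set.range (algebraMap k K) := by
  have h2K := two_ne_zero' (K := K) h2
  have hinj : Function.Injective (algebraMap k[X] (RatFunc k)) :=
    IsFractionRing.injective k[X] (RatFunc k)
  obtain ⟨σ, hσy, hσE⟩ := exists_conj hdeg hy heq
  obtain ⟨α, β, hα, hβ, rfl⟩ := exists_repr hdeg hy z
  have hσz : σ (α + β * y) = α - β * y := by
    rw [map_add, map_mul, hσE α hα, hσE β hβ, hσy]; ring
  have h1 : IsAlgebraic k (α - β * y) := by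
    rw [← hσz]
    exact (isAlgebraic_algHom_iff σ.toAlgHom σ.injective).mpr hz
  have hαalg : IsAlgebraic k α := by
    have h3 : α = algebraMap k K (2⁻¹) * ((α + β * y) + (α - β * y)) := by
      rw [map_inv₀, map_ofNat]; field_simp; ring
    rw [h3]
    exact (isAlgebraic_algebraMap _).mul (hz.add h1)
  obtain ⟨ρα, hρα⟩ := exists_ev_eq hx hα
  have hραalg : IsAlgebraic k ρα := by
    rw [← isAlgebraic_algHom_iff (ev hx) (ev_injective hx), hρα]; exact hαalg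
  obtain ⟨c, hc⟩ := (isFunctionField_ratFunc (k := k)).2 ρα hραalg
  have hαc : α = algebraMap k K c := by
    rw [← hρα, ← hc, AlgHom.commutes]
  have hβfalg : IsAlgebraic k (β ^ 2 * aeval x f) := by
    have h3 : β ^ 2 * aeval x f = α * α - (α + β * y) * (α - β * y) := by
      rw [← heq]; ring
    rw [h3]
    exact (hαalg.mul hαalg).sub (hz.mul h1)
  obtain ⟨ρβ, hρβ⟩ := exists_ev_eq hx hβ
  have h4 : ev hx (ρβ ^ 2 * algebraMap k[X] (RatFunc k) f) = β ^ 2 * aeval x f := by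
    rw [map_mul, map_pow, hρβ, ev_algebraMap]
  have h5 : IsAlgebraic k (ρβ ^ 2 * algebraMap k[X] (RatFunc k) f) := by
    rw [← isAlgebraic_algHom_iff (ev hx) (ev_injective hx), h4]; exact hβfalg
  obtain ⟨c', hc'⟩ := (isFunctionField_ratFunc (k := k)).2 _ h5
  have h6 : ρβ ^ 2 * algebraMap k[X] (RatFunc k) f = algebraMap k[X] (RatFunc k) (C c') := by
    rw [← hc', RatFunc.algebraMap_C, RatFunc.algebraMap_eq_C]
  obtain ⟨b, hb⟩ := exists_poly_of_sq_mul hf h6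
  have h7 : b ^ 2 * f = C c' := by
    apply hinj
    rw [map_mul, map_pow, ← hb, h6]
  have hb0 : b = 0 := by
    by_contra hb0
    have h8 := congrArg natDegree h7
    rw [natDegree_mul (pow_ne_zero 2 hb0) hf.ne_zero, natDegree_C] at h8
    omega
  have hβ0 : β = 0 := by
    rw [← hρβ, hb, hb0, map_zero, map_zero]
  exact ⟨c, by rw [hβ0, zero_mul, add_zero, hαc]⟩

/-- `y ∉ k(x)` for squarefree `f` of positive degree -/
theorem not_mem_adjoin {x y : K} (hx : Transcendental k x) {f : k[X]} (hf : Squarefree f)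
    (hd : 1 ≤ f.natDegree) (heq : y ^ 2 = aeval x f) : y ∉ k⟮x⟯ := by
  intro hy
  have hinj : Function.Injective (algebraMap k[X] (RatFunc k)) :=
    IsFractionRing.injective k[X] (RatFunc k)
  obtain ⟨ρ, hρ⟩ := exists_ev_eq hx hy
  have h1 : ρ ^ 2 * algebraMap k[X] (RatFunc k) 1 = algebraMap k[X] (RatFunc k) f := by
    apply ev_injective hx
    rw [map_mul, map_pow, hρ, map_one, map_one, mul_one, ev_algebraMap, heq]
  obtain ⟨g, hg⟩ := exists_poly_of_sq_mul squarefree_one h1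
  have h2 : g ^ 2 = f := by
    apply hinj
    rw [map_pow, ← hg, ← h1, map_one, mul_one]
  have h3 : IsUnit g := hf g (by rw [← h2, sq])
  have h4 : f.natDegree = 0 := by
    rw [← h2]
    exact natDegree_eq_zero_of_isUnit (h3.pow 2)
  omega

/-- `[K : k(x)] = 2` when `K = k(x, y)` -/
theorem finrank_eq_two {x y : K} (hxy : adjoin k ({x, y} : Set K) = ⊤) (hy : y ∉ k⟮x⟯)
    {f : k[X]} (heq : y ^ 2 = aeval x f) : finrank k⟮x⟯ K = 2 := by
  have htop : k⟮x⟯⟮y⟯ = ⊤ := by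
    rw [← restrictScalars_eq_top_iff (K := k), adjoin_simple_adjoin_simple, hxy]
  have hroot : aeval y (X ^ 2 - C (⟨aeval x f, aeval_mem_adjoin x f⟩ : k⟮x⟯)) = 0 := by
    rw [map_sub, map_pow, aeval_X, aeval_C]
    show y ^ 2 - aeval x f = 0
    rw [heq, sub_self]
  have hmon : (X ^ 2 - C (⟨aeval x f, aeval_mem_adjoin x f⟩ : k⟮x⟯) : k⟮x⟯[X]).Monic :=
    monic_X_pow_sub_C _ two_ne_zero
  have hint : IsIntegral k⟮x⟯ y := ⟨_, hmon, hroot⟩
  have h1 := IntermediateField.adjoin.finrank hint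
  rw [htop, IntermediateField.finrank_top'] at h1
  rw [h1]
  apply le_antisymm
  · have hdvd := minpoly.dvd k⟮x⟯ y hroot
    have := natDegree_le_of_dvd hdvd hmon.ne_zero
    rwa [natDegree_X_pow_sub_C] at this
  · exact (minpoly.two_le_natDegree_iff hint).mpr (not_mem_range hy)

end Groth.Agent.H62.FFHypRepr
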