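import Groth.Agent.H62.FFDegTwo

/-!
# helper62: `ℓ(r (t)_∞) = r + 1` for `r ≤ g - 1` on a hyperelliptic function field
-/

set_option autoImplicit false
set_option linter.unusedSectionVars false
set_option linter.style.haveILetI false

namespace Groth.Agent.H62.FFHypSmall

open FunFld WithZero Module IntermediateField Polynomial Groth.Agent.H55
  Groth.Agent.H62.FFHypGenus Groth.Agent.H62.FFHE

variable {k K : Type*} [Field k] [Field K] [Algebra k K]

theorem ell_nsmul_small (hK : IsFunctionField k K) {t : K} (hdeg : finrank k⟮t⟯ K = 2)
    {r : ℕ} (hr : r + 1 ≤ genus k K) : ell (r • poleDiv k t) = r + 1 := by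
  classical
  have ht : Transcendental k t := transcendental_of_finrank hK hdeg
  haveI := L_finite hK (r • poleDiv k t)
  let Φ : degreeLT k (r + 1) →ₗ[k] K :=
    ((aeval t).toLinearMap).comp (degreeLT k (r + 1)).subtype
  have hΦinj : Function.Injective Φ := by
    intro a b hab
    have hinj : Function.Injective (aeval (R := k) t) := transcendental_iff_injective.mp ht
    exact Subtype.ext (hinj hab)
  have hΦle : LinearMap.range Φ ≤ L (r • poleDiv k t) := by
    rintro _ ⟨p, rfl⟩
    change aeval t (p : k[X]) ∈ _
    apply aeval_mem_L hK ht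
    by_cases h0 : (p : k[X]) = 0
    · rw [h0, natDegree_zero]; exact Nat.zero_le _
    · have := FFHypGenus.natDegree_lt_of_mem_degreeLT p.2 h0
      omega
  have hΦrank : finrank k (LinearMap.range Φ) = r + 1 := by
    rw [← (LinearEquiv.ofInjective Φ hΦinj).finrank_eq, FFHypGenus.finrank_degreeLT]
  apply le_antisymm
  · by_contra hlt
    push Not at hlt
    -- a section outside `k(t)`
    obtain ⟨y, hyL, hyt⟩ : ∃ y ∈ L (r • poleDiv k t), y ∉ k⟮t⟯ := by
      by_contra hcon
      push Not at hcon
      have hle : L (r • poleDiv k t) ≤ LinearMap.range Φ := by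
        intro z hz
        obtain ⟨a, ha, rfl⟩ := exists_poly_of_mem hK ht r hz (hcon z hz)
        exact ⟨⟨a, mem_degreeLT_of_natDegree_lt (by omega)⟩, rfl⟩
      haveI : FiniteDimensional k (LinearMap.range Φ) := LinearMap.finiteDimensional_range Φ
      have h1 := Submodule.finrank_mono hle
      unfold ell at hlt
      omega
    set g := genus k K with hg
    have hle : LinearMap.range (FFHypGenus.Phi (k := k) t y (g + 1) (g - r + 1)) ≤
        L (g • poleDiv k t) := by
      rintro _ ⟨p, rfl⟩
      rw [FFHypGenus.Phi_apply]
      apply add_mem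
      · apply aeval_mem_L hK ht
        by_cases h0 : (p.1 : k[X]) = 0
        · rw [h0, natDegree_zero]; exact Nat.zero_le _
        · have := FFHypGenus.natDegree_lt_of_mem_degreeLT p.1.2 h0
          omega
      · have h1 : aeval t (p.2 : k[X]) ∈ L ((g - r) • poleDiv k t) := by
          apply aeval_mem_L hK ht
          by_cases h0 : (p.2 : k[X]) = 0
          · rw [h0, natDegree_zero]; exact Nat.zero_le _
          · have := FFHypGenus.natDegree_lt_of_mem_degreeLT p.2.2 h0
            omega
        have h2 := FFHE.mul_mem_L hK ht h1 hyL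
        have e : g - r + r = g := by omega
        rwa [e] at h2
    haveI : Module.Finite k (L (g • poleDiv k t)) := L_finite hK _
    have h1 := Submodule.finrank_mono hle
    have hinj := FFHypGenus.Phi_injective (k := k) ht hyt (g + 1) (g - r + 1)
    have h2 := (LinearEquiv.ofInjective _ hinj).finrank_eq
    rw [Module.finrank_prod, FFHypGenus.finrank_degreeLT, FFHypGenus.finrank_degreeLT] at h2
    have h3 := ell_nsmul hK ht hdeg (r := g) le_rfl
    unfold ell at h3
    push_cast at h3
    omega
  · have h1 := Submodule.finrank_mono hΦle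
    unfold ell
    omega

end Groth.Agent.H62.FFHypSmall
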