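import Groth.Agent.H62.FFRat

/-!
Quadratic extensions `K = k(x)(y)` of the rational function field: basic relations between
the orders of `y` and of `y² ∈ k(x)`, used for hyperelliptic and Artin–Schreier ramification.
-/

set_option autoImplicit false
set_option linter.unusedSectionVars false

namespace Groth.Agent.H62.FFHyper

open FunFld WithZero Module IntermediateField Groth.Agent.H55 Polynomial
open Groth.Agent.H62.FFTower Groth.Agent.H62.FFExtDeg Groth.Agent.H62.FFRat

variable {k K₀ K : Type*} [Field k] [Field K₀] [Field K] [Algebra k K₀] [Algebra k K]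
  [Algebra K₀ K] [IsScalarTower k K₀ K]

/-- `2 ord_P y = e · ord_{P₀} F` when `y² = F` -/
theorem two_mul_ord {y : K} {F : K₀} (heq : y ^ 2 = algebraMap K₀ K F)
    {P : Place k K} {P₀ : Place k K₀} {e : ℕ} (he : IsOverWith P P₀ e) :
    2 * P.ord y = e * P₀.ord F := by
  rw [← isOverWith_ord_eq he F, ← heq, Place.ord_pow]
  norm_num

/-- finite-dimensionality from `finrank = 2` -/
theorem finiteDimensional_of_finrank_two (hdeg : finrank K₀ K = 2) : FiniteDimensional K₀ K :=
  Module.finite_of_finrank_pos (by omega)

/-- in a quadratic extension the ramification index is `1` or `2` -/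
theorem ramIdx_eq_one_or_two (hK₀ : IsFunctionField k K₀) (hdeg : finrank K₀ K = 2)
    {P : Place k K} {P₀ : Place k K₀} {e : ℕ} (he : IsOverWith P P₀ e) : e = 1 ∨ e = 2 := by
  have := finiteDimensional_of_finrank_two hdeg
  have h1 := ramIdx_le_finrank hK₀ (⟨e, he⟩ : IsOver P P₀)
  rw [ramIdx_eq he, hdeg] at h1
  have h2 := isOverWith_pos he
  omega

end Groth.Agent.H62.FFHyper
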