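import Groth.Agent.H62.FFHyper

/-!
More on hyperelliptic function fields `y² = f(x)`: the degree of the conorm of a place,
`y ∉ k(x)`, and the behaviour at the infinite place.
-/

set_option autoImplicit false
set_option linter.unusedSectionVars false

namespace Groth.Agent.H62.FFHyper2

open FunFld WithZero Module IntermediateField Groth.Agent.H55 Polynomial
open Groth.Agent.H62.FFTower Groth.Agent.H62.FFExtDeg Groth.Agent.H62.FFRat
  Groth.Agent.H62.FFHyper Groth.Agent.H62.FFParity

section general

variable {k K K' : Type*} [Field k] [Field K] [Field K'] [Algebra k K] [Algebra K K']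
  [Algebra k K'] [IsScalarTower k K K']

/-- `deg N*(P) = [K':K] deg P` -/
theorem deg_conormPlace [FiniteDimensional K K'] (hK : IsFunctionField k K) (P : Place k K) :
    (conormPlace K' P).deg = finrank K K' * P.deg := by
  classical
  obtain ⟨hfin, hsum⟩ := sum_ramIdx_mul_deg (K' := K') hK P
  have hs := hsum hfin.toFinset (fun Q => by simp)
  rw [conormPlace_eq_sum hfin, Divisor.deg_sum]
  have : ∀ Q ∈ hfin.toFinset,
      FunFld.Divisor.deg ((ramIdx Q P : ℤ) • (Finsupp.single Q 1 : Divisor k K')) =
      ((ramIdx Q P * Q.deg : ℕ) : ℤ) := by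
    intro Q _
    rw [Finsupp.smul_single, smul_eq_mul, mul_one, Divisor.deg_single]
    push_cast
    ring
  rw [Finset.sum_congr rfl this, ← Nat.cast_sum, hs]
  push_cast
  ring

theorem deg_conorm_single [FiniteDimensional K K'] (hK : IsFunctionField k K) (P : Place k K) :
    (conorm K' (Finsupp.single P 1 : Divisor k K)).deg = finrank K K' * P.deg := by
  rw [conorm_single, one_smul, deg_conormPlace hK]

end general

section hyper

variable {k K : Type*} [Field k] [Field K] [Algebra k K]
  [Algebra (RatFunc k) K] [IsScalarTower k (RatFunc k) K]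

/-- a squarefree polynomial of positive degree is not a square in `k(x)` -/
theorem not_mem_range_of_sq_eq {y : K} {f : k[X]} (hf : Squarefree f) (hd : 1 ≤ f.natDegree)
    (heq : y ^ 2 = algebraMap (RatFunc k) K (algebraMap k[X] (RatFunc k) f)) :
    y ∉ Set.range (algebraMap (RatFunc k) K) := by
  rintro ⟨r, rfl⟩
  have hf0 : f ≠ 0 := hf.ne_zero
  have hinj : Function.Injective (algebraMap k[X] (RatFunc k)) :=
    IsFractionRing.injective k[X] (RatFunc k)
  have hF0 : algebraMap k[X] (RatFunc k) f ≠ 0 := (map_ne_zero_iff _ hinj).mpr hf0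
  rw [← map_pow] at heq
  have heq' : r ^ 2 = algebraMap k[X] (RatFunc k) f := (algebraMap (RatFunc k) K).injective heq
  have hr0 : r ≠ 0 := by
    rintro rfl
    rw [zero_pow two_ne_zero] at heq'
    exact hF0 heq'.symm
  have htr : Transcendental k (algebraMap k[X] (RatFunc k) f) := by
    apply RatFunc.transcendental_of_ne_C
    rintro ⟨c, hc⟩
    have h1 : algebraMap k[X] (RatFunc k) f = algebraMap k[X] (RatFunc k) (Polynomial.C c) := by
      rw [hc, RatFunc.algebraMap_C]
    have h2 := hinj h1
    rw [h2, natDegree_C] at hd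
    omega
  obtain ⟨P₁, hP₁⟩ := W.exists_zero (isFunctionField_ratFunc (k := k)).weak htr
  have hpos : 0 < P₁.ord (algebraMap k[X] (RatFunc k) f) := (Place.ord_pos_iff P₁ hF0).mpr hP₁
  have hfin : P₁.1 (RatFunc.X : RatFunc k) ≤ 1 := by
    by_contra hlt
    push Not at hlt
    rw [ord_poly_infinite P₁ hlt hf0] at hpos
    omega
  have h1 := ord_squarefree P₁ hfin hf hpos
  rw [← heq', Place.ord_pow] at h1
  omega

end hyper

end Groth.Agent.H62.FFHyper2
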