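import Groth.Agent.H55.FFRational
import Groth.Agent.H55.FFRiemannRoch

/-!
# Uniqueness of a rational subfield of index two when the genus is at least two

If `[K : k(x)] = 2 = [K : k(x')]` and `k(x) ≠ k(x')`, then `x^i, x^i x'` (`i ≤ n`) are `2n+2`
independent elements of `L(n (x)_∞ + (x')_∞)`, a divisor of degree `2n+2`; Riemann's theorem gives
`g ≤ 1`.
-/

set_option autoImplicit false

namespace Groth.Agent.H62.FFIndexTwo

open FunFld Module IntermediateField Groth.Agent.H55

universe u v

variable {k : Type u} {K : Type v} [Field k] [Field K] [Algebra k K]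

theorem transcendental_of_finrank_pos (hK : IsFunctionField k K) {x : K}
    (hx : 0 < finrank k⟮x⟯ K) : Transcendental k x := by
  intro halg
  have hfin : FiniteDimensional k⟮x⟯ K := Module.finite_of_finrank_pos hx
  obtain ⟨x₀, hx₀, -⟩ := hK.1
  apply hx₀
  have h2 : Algebra.IsAlgebraic k k⟮x⟯ := isAlgebraic_adjoin_simple halg.isIntegral
  have h3 : Algebra.IsAlgebraic k⟮x⟯ K := Algebra.IsAlgebraic.of_finite _ _
  have h4 : Algebra.IsAlgebraic k K := Algebra.IsAlgebraic.trans k k⟮x⟯ K
  exact h4.isAlgebraic x₀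

/-- the span of `1, x, …, x^n` -/
noncomputable def powSpan (x : K) (n : ℕ) : Submodule k K :=
  Submodule.span k (Set.range fun i : Fin (n + 1) => x ^ (i : ℕ))

theorem finrank_powSpan {x : K} (hx : Transcendental k x) (n : ℕ) :
    finrank k (powSpan (k := k) x n) = n + 1 := by
  have hpow := linearIndependent_pow_of_transcendental hx
  have hli2 := hpow.comp (fun i : Fin (n + 1) => (i : ℕ)) Fin.val_injective
  unfold powSpan
  have := finrank_span_eq_card hli2
  rw [Fintype.card_fin] at this
  exact this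

theorem powSpan_le_adjoin (x : K) (n : ℕ) :
    powSpan (k := k) x n ≤ (k⟮x⟯).toSubalgebra.toSubmodule := by
  unfold powSpan
  rw [Submodule.span_le]
  rintro _ ⟨i, rfl⟩
  exact pow_mem (mem_adjoin_simple_self k x) _

theorem powSpan_le_L (hK : IsFunctionField k K) {x : K} (hx0 : x ≠ 0) (n : ℕ) :
    powSpan (k := k) x n ≤ L (n • poleDiv k x) := by
  unfold powSpan
  rw [Submodule.span_le]
  rintro _ ⟨i, rfl⟩
  exact pow_mem_L_poleDiv hK hx0 (Nat.lt_succ_iff.mp i.2)

theorem mul_mem_L_add (hK : IsFunctionField k K) {D : Divisor k K} {z y : K} (hz : z ∈ L D) :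
    y * z ∈ L (D + poleDiv k y) := by
  by_cases hz0 : z = 0
  · rw [hz0, mul_zero]; exact Submodule.zero_mem _
  by_cases hy0 : y = 0
  · rw [hy0, zero_mul]; exact Submodule.zero_mem _
  rw [mem_L_iff_ord (mul_ne_zero hy0 hz0)]
  rw [mem_L_iff_ord hz0] at hz
  intro P
  rw [Place.ord_mul P hy0 hz0, Finsupp.add_apply, poleDiv_apply hK]
  have h1 := hz P
  have h2 := le_max_left (-P.ord y) 0
  omega

theorem genus_le_one_of_two (hK : IsFunctionField k K) {x x' : K}
    (hx : finrank k⟮x⟯ K = 2) (hx' : finrank k⟮x'⟯ K = 2) (hne : x' ∉ k⟮x⟯) :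
    genus k K ≤ 1 := by
  have htr : Transcendental k x := transcendental_of_finrank_pos hK (by omega)
  have htr' : Transcendental k x' := transcendental_of_finrank_pos hK (by omega)
  have hx0 : x ≠ 0 := fun h => htr (h ▸ isAlgebraic_zero)
  have hx'0 : x' ≠ 0 := fun h => htr' (h ▸ isAlgebraic_zero)
  obtain ⟨N, hN⟩ := riemann hK
  set n : ℕ := N.toNat with hn
  set D : Divisor k K := n • poleDiv k x + poleDiv k x' with hD
  have hdeg : D.deg = 2 * n + 2 := by
    rw [hD, Divisor.deg_add, Divisor.deg_nsmul, deg_poleDiv hK htr, deg_poleDiv hK htr', hx, hx']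
    push_cast; ring
  have hR := hN D (by rw [hdeg]; have := Int.self_le_toNat N; omega)
  have hfin : Module.Finite k (L D) := L_finite hK _
  set V : Submodule k K := powSpan (k := k) x n with hV
  let f : K →ₗ[k] K := LinearMap.mulLeft k x'
  have hf : Function.Injective f := fun a b hab => mul_left_cancel₀ hx'0 hab
  set V' : Submodule k K := V.map f with hV'
  have hVrank : finrank k V = n + 1 := finrank_powSpan htr n
  have hV'rank : finrank k V' = n + 1 := by
    rw [← hVrank]
    exact (Submodule.equivMapOfInjective f hf V).finrank_eq.symm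
  have hVL : V ≤ L D := by
    refine (powSpan_le_L hK hx0 n).trans (L_mono ?_)
    rw [hD]
    exact le_add_of_nonneg_right (poleDiv_nonneg x')
  have hV'L : V' ≤ L D := by
    rintro _ ⟨z, hz, rfl⟩
    exact mul_mem_L_add hK (powSpan_le_L hK hx0 n hz)
  have hinf : V ⊓ V' = ⊥ := by
    rw [eq_bot_iff]
    rintro z ⟨hz1, ⟨z', hz', rfl⟩⟩
    have h1 : x' * z' ∈ k⟮x⟯ := powSpan_le_adjoin x n hz1
    have h2 : z' ∈ k⟮x⟯ := powSpan_le_adjoin x n hz'
    by_cases hz0 : z' = 0
    · show x' * z' ∈ (⊥ : Submodule k K)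
      rw [hz0, mul_zero]; exact Submodule.zero_mem _
    · exfalso
      apply hne
      have : x' = (x' * z') * z'⁻¹ := by field_simp
      rw [this]
      exact mul_mem h1 (inv_mem h2)
  have hVfin : Module.Finite k V := Module.finite_of_finrank_pos (by omega)
  have hV'fin : Module.Finite k V' := Module.finite_of_finrank_pos (by omega)
  have hsum := Submodule.finrank_sup_add_finrank_inf_eq V V'
  rw [hinf, finrank_bot, add_zero, hVrank, hV'rank] at hsum
  have hle : V ⊔ V' ≤ L D := sup_le hVL hV'L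
  have hmono := Submodule.finrank_mono hle
  have hell : ell D = finrank k (L D) := rfl
  have h3 : ((2 * n + 2 : ℕ) : ℤ) ≤ ell D := by
    rw [hell]; exact_mod_cast (by omega : 2 * n + 2 ≤ finrank k (L D))
  rw [hdeg] at hR
  push_cast at h3
  omega

/-- At most one rational subfield of index two when `g ≥ 2`. -/
theorem adjoin_eq_of_finrank_two (hK : IsFunctionField k K) (hg : 2 ≤ genus k K) {x x' : K}
    (hx : finrank k⟮x⟯ K = 2) (hx' : finrank k⟮x'⟯ K = 2) : k⟮x⟯ = k⟮x'⟯ := by
  by_contra hne
  have hfin : FiniteDimensional k⟮x'⟯ K := Module.finite_of_finrank_pos (by omega)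
  have h1 : x' ∉ k⟮x⟯ := by
    intro hmem
    have hle : k⟮x'⟯ ≤ k⟮x⟯ := adjoin_simple_le_iff.mpr hmem
    exact hne (IntermediateField.eq_of_le_of_finrank_eq' hle (by rw [hx, hx'])).symm
  have := genus_le_one_of_two hK hx hx' h1
  omega

end Groth.Agent.H62.FFIndexTwo
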