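import Groth.Agent.H62.FFInertia

/-!
# The inertia group has order `e` (counting)
-/

set_option autoImplicit false
set_option linter.unusedSectionVars false

namespace Groth.Agent.H62.FFInertia

open FunFld WithZero Module Groth.Agent.H55 Groth.Agent.H62.FFHolRing
open scoped Pointwise

variable {k K K' : Type*} [Field k] [Field K] [Field K'] [Algebra k K] [Algebra K K']
  [Algebra k K'] [IsScalarTower k K K']

attribute [-instance] FunFld.Place.algRes

/-- the degree of a place, through Mathlib's quotient algebra structure -/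
theorem finrank_quotient_maximalIdeal (P : Place k K) :
    finrank k (P.O ⧸ IsLocalRing.maximalIdeal P.O) = P.deg := by
  let f : (P.O ⧸ IsLocalRing.maximalIdeal P.O) ≃ₗ[k] IsLocalRing.ResidueField P.O :=
    { toFun := fun x => x
      invFun := fun x => x
      map_add' := fun _ _ => rfl
      map_smul' := fun c x => by
        obtain ⟨a, rfl⟩ := Ideal.Quotient.mk_surjective x
        have h1 : c • (Ideal.Quotient.mk (IsLocalRing.maximalIdeal P.O) a) =
            Ideal.Quotient.mk _ (c • a) := rfl
        have h2 : c • a = algebraMap k P.O c * a := Algebra.smul_def c a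
        rw [h1, h2, map_mul]
        rfl
      left_inv := fun _ => rfl
      right_inv := fun _ => rfl }
  exact f.finrank_eq

attribute [local instance] Ideal.Quotient.field in
theorem card_aut_quotient [FiniteDimensional K K'] [IsGalois K K'] (hK : IsFunctionField k K)
    {Q : Place k K'} {P : Place k K} {e : ℕ} (he : IsOverWith Q P e)
    [Algebra.IsSeparable k (IsLocalRing.ResidueField Q.O)] :
    haveI := QB_liesOver he
    Nat.card ((holRing K' P ⧸ QB he) ≃ₐ[P.O ⧸ IsLocalRing.maximalIdeal P.O]
      (holRing K' P ⧸ QB he)) * P.deg = Q.deg := by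
  have := QB_liesOver he
  have := QB_isMaximal hK he
  have := isInvariant_hol (K' := K') hK P
  have hK' : W.IsWeakFF k K' := W.weak_of_finite hK.weak
  have hfd := W.Place.finiteDimensional_residue hK' Q
  have hnormal : Normal (P.O ⧸ IsLocalRing.maximalIdeal P.O) (holRing K' P ⧸ QB he) :=
    Ideal.Quotient.normal (K' ≃ₐ[K] K') (IsLocalRing.maximalIdeal P.O) (QB he)
  have hsepk : Algebra.IsSeparable k (holRing K' P ⧸ QB he) :=
    AlgEquiv.Algebra.isSeparable (quotEquiv hK he).symm
  have hfink : FiniteDimensional k (holRing K' P ⧸ QB he) :=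
    Module.Finite.equiv (quotEquiv hK he).symm.toLinearEquiv
  have hfin : FiniteDimensional (P.O ⧸ IsLocalRing.maximalIdeal P.O) (holRing K' P ⧸ QB he) :=
    FiniteDimensional.right k _ _
  have hsep : Algebra.IsSeparable (P.O ⧸ IsLocalRing.maximalIdeal P.O) (holRing K' P ⧸ QB he) :=
    Algebra.isSeparable_tower_top_of_isSeparable k _ _
  have hgal : IsGalois (P.O ⧸ IsLocalRing.maximalIdeal P.O) (holRing K' P ⧸ QB he) := {}
  rw [IsGalois.card_aut_eq_finrank]
  have h1 := Module.finrank_mul_finrank k (P.O ⧸ IsLocalRing.maximalIdeal P.O)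
    (holRing K' P ⧸ QB he)
  rw [finrank_quotient_maximalIdeal, (quotEquiv hK he).toLinearEquiv.finrank_eq] at h1
  rw [mul_comm]
  exact h1

/-- **S11023** (with Mathlib's algebra structure on the residue field) -/
theorem card_inertia' [FiniteDimensional K K'] [IsGalois K K'] (hK : IsFunctionField k K)
    {Q : Place k K'} {P : Place k K} {e : ℕ} (he : IsOverWith Q P e)
    [Algebra.IsSeparable k (IsLocalRing.ResidueField Q.O)] :
    Nat.card (ValuationSubring.inertiaSubgroup K Q.O) = e := by
  have := QB_liesOver he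
  have := QB_isMaximal hK he
  have := isInvariant_hol (K' := K') hK P
  have hsurj := Ideal.Quotient.stabilizerHom_surjective (K' ≃ₐ[K] K')
    (IsLocalRing.maximalIdeal P.O) (QB he)
  have hker := Ideal.Quotient.ker_stabilizerHom (QB he) (IsLocalRing.maximalIdeal P.O)
    (K' ≃ₐ[K] K')
  have h1 : Nat.card (MulAction.stabilizer (K' ≃ₐ[K] K') (QB he)) =
      Nat.card ((holRing K' P ⧸ QB he) ≃ₐ[P.O ⧸ IsLocalRing.maximalIdeal P.O]
        (holRing K' P ⧸ QB he)) *
      Nat.card (Ideal.Quotient.stabilizerHom (QB he) (IsLocalRing.maximalIdeal P.O)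
        (K' ≃ₐ[K] K')).ker := by
    rw [← Nat.card_congr (QuotientGroup.quotientKerEquivOfSurjective _ hsurj).toEquiv]
    exact Subgroup.card_eq_card_quotient_mul_card_subgroup _
  have hI : Nat.card (ValuationSubring.inertiaSubgroup K Q.O) =
      Nat.card (Ideal.Quotient.stabilizerHom (QB he) (IsLocalRing.maximalIdeal P.O)
        (K' ≃ₐ[K] K')).ker := by
    rw [card_inertiaSubgroup_eq hK he, hker]
  have hD : Nat.card (MulAction.stabilizer (K' ≃ₐ[K] K') (QB he)) =
      Nat.card (ValuationSubring.decompositionSubgroup K Q.O) := by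
    rw [stabilizer_QB_eq hK he]
  have hgal := card_aut_quotient hK he
  have hdec := card_decomp_mul_deg hK he
  have hK' : W.IsWeakFF k K' := W.weak_of_finite hK.weak
  have hQpos : 0 < Q.deg := W.Place.deg_pos hK' Q
  rw [← hD, h1, ← hI] at hdec
  -- hdec : |Gal| * |I| * deg P = e * deg Q
  have h2 : Nat.card (ValuationSubring.inertiaSubgroup K Q.O) * Q.deg = e * Q.deg := by
    rw [← hdec, ← hgal]; ring
  exact Nat.eq_of_mul_eq_mul_right hQpos h2

end Groth.Agent.H62.FFInertia
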