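import Groth.Agent.H62.FFInertia2

/-!
# The inertia group has order `e` (statement with the Prelude's algebra structure)
-/

set_option autoImplicit false
set_option linter.unusedSectionVars false

namespace Groth.Agent.H62.FFInertia

open FunFld WithZero Module Groth.Agent.H55 Groth.Agent.H62.FFHolRing

variable {k K K' : Type*} [Field k] [Field K] [Field K'] [Algebra k K] [Algebra K K']
  [Algebra k K'] [IsScalarTower k K K']

/-- **S11023** -/
theorem card_inertia [FiniteDimensional K K'] [IsGalois K K'] (hK : IsFunctionField k K)
    {Q : Place k K'} {P : Place k K} {e : ℕ} (he : IsOverWith Q P e)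
    [hsep : Algebra.IsSeparable k (IsLocalRing.ResidueField Q.O)] :
    Nat.card (ValuationSubring.inertiaSubgroup K Q.O) = e := by
  have h : @Algebra.IsSeparable k (IsLocalRing.ResidueField Q.O) _ _
      (IsLocalRing.ResidueField.algebra Q.O) := by
    rw [← algRes_eq]; exact hsep
  exact @card_inertia' k K K' _ _ _ _ _ _ _ _ _ hK Q P e he h

end Groth.Agent.H62.FFInertia
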