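import Groth.Agent.H55.WExt3

/-!
Places in towers of finite extensions of function fields (on top of helper55's `W`-library):
restriction of a place to a weak function field, multiplicativity of ramification indices,
finiteness of the places above a place of a weak function field, additivity of the conorm and
the tower formula `N*_{K''/K'} ∘ N*_{K'/K} = N*_{K''/K}`.
-/

set_option autoImplicit false
set_option linter.unusedSectionVars false

namespace Groth.Agent.H62.FFTower

open FunFld WithZero Module IntermediateField Groth.Agent.H55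

section under

variable {k K K' : Type*} [Field k] [Field K] [Field K'] [Algebra k K] [Algebra K K']
  [Algebra k K'] [IsScalarTower k K K']

/-- every place of `K'` lies over a place of `K` (weak function field base) -/
theorem exists_place_under_weak [Algebra.IsAlgebraic K K'] (hK : W.IsWeakFF k K)
    (Q : Place k K') : ∃ P : Place k K, ∃ e : ℕ, IsOverWith Q P e := by
  obtain ⟨y, hy0, hy⟩ := exists_val_lt_one_under (K := K) Q
  let O : ValuationSubring K := Q.O.comap (algebraMap K K')
  have hmemO : ∀ z : K, z ∈ O ↔ Q.1 (algebraMap K K' z) ≤ 1 := fun z => Iff.rfl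
  have hk : ∀ c : k, algebraMap k K c ∈ O := by
    intro c
    rw [hmemO, ← IsScalarTower.algebraMap_apply]
    exact Q.2.1 c
  have hyO : y ∈ O := (hmemO y).mpr hy.le
  have hy' : algebraMap K K' y ≠ 0 := by
    rwa [Ne, map_eq_zero_iff _ (algebraMap K K').injective]
  have hyinv : y⁻¹ ∉ O := by
    rw [hmemO, map_inv₀, map_inv₀, not_le]
    exact (one_lt_inv₀ (zero_lt_iff.mpr ((Valuation.ne_zero_iff _).mpr hy'))).mpr hy
  obtain ⟨P, hP⟩ := W.exists_place_of_vs hK O hk y hyO hy0 hyinv
  have hP' : ∀ z : K, P.1 z ≤ 1 ↔ Q.1 (algebraMap K K' z) ≤ 1 := fun z => (hP z).trans (hmemO z)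
  -- units go to units
  have hunit : ∀ u : K, P.1 u = 1 → Q.1 (algebraMap K K' u) = 1 := by
    intro u hu
    have hu0 : u ≠ 0 := by
      rintro rfl
      rw [map_zero] at hu
      exact zero_ne_one hu
    apply le_antisymm ((hP' u).mp hu.le)
    have h1 : P.1 u⁻¹ ≤ 1 := by rw [map_inv₀, hu, inv_one]
    have h2 := (hP' u⁻¹).mp h1
    rw [map_inv₀, map_inv₀] at h2
    have h0 : Q.1 (algebraMap K K' u) ≠ 0 := by
      rw [Valuation.ne_zero_iff, Ne, map_eq_zero_iff _ (algebraMap K K').injective]
      exact hu0
    exact (inv_le_one₀ (zero_lt_iff.mpr h0)).mp h2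
  obtain ⟨t, ht⟩ := Place.exists_uniformizer P
  have ht0 : t ≠ 0 := Place.ne_zero_of_val_eq_exp P ht
  have ht0' : algebraMap K K' t ≠ 0 := by
    rwa [Ne, map_eq_zero_iff _ (algebraMap K K').injective]
  have htQle : Q.1 (algebraMap K K' t) ≤ 1 :=
    (hP' t).mp (by rw [ht]; exact Place.exp_neg_one_lt_one.le)
  have hordnn : 0 ≤ Q.ord (algebraMap K K' t) := (Place.ord_nonneg_iff Q ht0').mpr htQle
  refine ⟨P, (Q.ord (algebraMap K K' t)).toNat, ?_⟩
  intro x
  by_cases hx : x = 0
  · have hpos : (Q.ord (algebraMap K K' t)).toNat ≠ 0 := by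
      intro h0
      have h1 : Q.ord (algebraMap K K' t) = 0 := by omega
      have h2 : Q.1 (algebraMap K K' t) = 1 := by
        rw [Place.val_eq_exp_neg_ord Q ht0', h1, neg_zero, exp_zero]
      have h3 : P.1 t⁻¹ ≤ 1 := by
        rw [hP', map_inv₀, map_inv₀, h2, inv_one]
      rw [map_inv₀, ht, ← exp_neg, neg_neg] at h3
      exact absurd h3 (by rw [← exp_zero, exp_le_exp]; norm_num)
    rw [hx, map_zero, map_zero, map_zero, zero_pow hpos]
  · set m : ℤ := P.ord x with hm
    have hxv : P.1 x = exp (-m) := Place.val_eq_exp_neg_ord P hx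
    have hu : P.1 (x * (t ^ m)⁻¹) = 1 := by
      rw [map_mul, map_inv₀, map_zpow₀, ht, hxv, ← exp_zsmul, ← exp_neg, ← exp_add]
      rw [← exp_zero, exp_inj]
      simp
    have hQu := hunit _ hu
    rw [map_mul, map_mul, map_inv₀, map_inv₀, map_zpow₀, map_zpow₀] at hQu
    have htm0 : Q.1 (algebraMap K K' t) ^ m ≠ 0 :=
      zpow_ne_zero _ ((Valuation.ne_zero_iff _).mpr ht0')
    have hQx : Q.1 (algebraMap K K' x) = Q.1 (algebraMap K K' t) ^ m := by
      have := congrArg (· * Q.1 (algebraMap K K' t) ^ m) hQu
      simp only [one_mul] at this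
      rwa [mul_assoc, inv_mul_cancel₀ htm0, mul_one] at this
    rw [hQx, hxv, exp_pow_nat, Place.val_eq_exp_neg_ord Q ht0', ← exp_zsmul, exp_inj,
      Int.toNat_of_nonneg hordnn]
    simp only [smul_eq_mul]
    ring

/-- every place of `K'` lies over a place of `K` (weak function field base), `IsOver` form -/
theorem exists_isOver_weak [Algebra.IsAlgebraic K K'] (hK : W.IsWeakFF k K)
    (Q : Place k K') : ∃ P : Place k K, IsOver Q P := by
  obtain ⟨P, e, he⟩ := exists_place_under_weak hK Q
  exact ⟨P, e, he⟩

end under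

section tower

variable {k K K' K'' : Type*} [Field k] [Field K] [Field K'] [Field K'']
  [Algebra k K] [Algebra k K'] [Algebra k K''] [Algebra K K'] [Algebra K' K''] [Algebra K K'']
  [IsScalarTower k K K'] [IsScalarTower k K' K''] [IsScalarTower k K K''] [IsScalarTower K K' K'']

theorem isOverWith_trans {R : Place k K''} {Q : Place k K'} {P : Place k K} {e₁ e₂ : ℕ}
    (h₁ : IsOverWith R Q e₁) (h₂ : IsOverWith Q P e₂) : IsOverWith R P (e₂ * e₁) := by
  intro x
  rw [IsScalarTower.algebraMap_apply K K' K'', h₁, h₂, pow_mul]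

theorem isOver_trans {R : Place k K''} {Q : Place k K'} {P : Place k K}
    (h₁ : IsOver R Q) (h₂ : IsOver Q P) : IsOver R P := by
  obtain ⟨e₁, h₁⟩ := h₁
  obtain ⟨e₂, h₂⟩ := h₂
  exact ⟨_, isOverWith_trans h₁ h₂⟩

theorem ramIdx_trans {R : Place k K''} {Q : Place k K'} {P : Place k K}
    (h₁ : IsOver R Q) (h₂ : IsOver Q P) : ramIdx R P = ramIdx Q P * ramIdx R Q :=
  ramIdx_eq (isOverWith_trans (isOverWith_ramIdx h₁) (isOverWith_ramIdx h₂))

/-- if `R` lies over `P` and over `Q` then `Q` lies over `P` -/
theorem isOver_of_isOver_of_isOver [Algebra.IsAlgebraic K K'] (hK : W.IsWeakFF k K)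
    {R : Place k K''} {Q : Place k K'} {P : Place k K}
    (h₁ : IsOver R Q) (h : IsOver R P) : IsOver Q P := by
  obtain ⟨P', hP'⟩ := exists_isOver_weak hK Q
  have := isOver_unique (isOver_trans h₁ hP') h
  rwa [this] at hP'

/-- finiteness of the places above a place of an intermediate field -/
theorem finite_isOver_of_tower [FiniteDimensional K K'] [FiniteDimensional K' K'']
    (hK : IsFunctionField k K) (Q : Place k K') :
    {R : Place k K'' | IsOver R Q}.Finite := by
  have : FiniteDimensional K K'' := Module.Finite.trans K' K''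
  obtain ⟨P, hP⟩ := exists_isOver_weak hK.weak Q
  exact (sum_ramIdx_mul_deg (K' := K'') hK P).1.subset fun R hR => isOver_trans hR hP

end tower

section conorm

variable {k K K' : Type*} [Field k] [Field K] [Field K'] [Algebra k K] [Algebra K K']
  [Algebra k K']

variable (K') in
open scoped Classical in
/-- the conorm of a single place: `∑_{Q | P} e(Q|P) Q` -/
noncomputable def conormPlace (P : Place k K) : Divisor k K' :=
  if h : {Q : Place k K' | IsOver Q P}.Finite then
    h.toFinset.sum (fun Q => (ramIdx Q P : ℤ) • Finsupp.single Q 1) else 0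

theorem conorm_eq_sum (D : Divisor k K) :
    conorm K' D = D.sum fun P n => n • conormPlace K' P := rfl

theorem conorm_zero : conorm K' (0 : Divisor k K) = 0 := by
  rw [conorm_eq_sum, Finsupp.sum_zero_index]

theorem conorm_add (D₁ D₂ : Divisor k K) :
    conorm K' (D₁ + D₂) = conorm K' D₁ + conorm K' D₂ := by
  rw [conorm_eq_sum, conorm_eq_sum, conorm_eq_sum]
  exact Finsupp.sum_add_index' (fun P => zero_smul _ _) (fun P a b => add_smul a b _)

variable (K') in
/-- the conorm as an additive homomorphism -/
noncomputable def conormHom : Divisor k K →+ Divisor k K' where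
  toFun := conorm K'
  map_zero' := conorm_zero
  map_add' := conorm_add

theorem conormHom_apply (D : Divisor k K) : conormHom K' D = conorm K' D := rfl

theorem conorm_single (P : Place k K) (n : ℤ) :
    conorm K' (Finsupp.single P n) = n • conormPlace K' P := by
  rw [conorm_eq_sum]
  exact Finsupp.sum_single_index (zero_smul _ _)

theorem conorm_zsmul (n : ℤ) (D : Divisor k K) : conorm K' (n • D) = n • conorm K' D :=
  map_zsmul (conormHom K') n D

theorem conorm_finset_sum {ι : Type*} (s : Finset ι) (f : ι → Divisor k K) :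
    conorm K' (∑ i ∈ s, f i) = ∑ i ∈ s, conorm K' (f i) :=
  map_sum (conormHom K') f s

theorem conormPlace_eq_sum {P : Place k K} (hfin : {Q : Place k K' | IsOver Q P}.Finite) :
    conormPlace K' P = hfin.toFinset.sum (fun Q => (ramIdx Q P : ℤ) • Finsupp.single Q 1) := by
  unfold conormPlace
  rw [dif_pos hfin]

open scoped Classical in
theorem conormPlace_apply {P : Place k K} (hfin : {Q : Place k K' | IsOver Q P}.Finite)
    (Q : Place k K') :
    conormPlace K' P Q = if IsOver Q P then (ramIdx Q P : ℤ) else 0 := by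
  rw [conormPlace_eq_sum hfin, Finsupp.finsetSum_apply]
  simp only [Finsupp.smul_apply, Finsupp.single_apply, smul_eq_mul, mul_ite, mul_one, mul_zero]
  rw [Finset.sum_ite_eq']
  simp only [Set.Finite.mem_toFinset, Set.mem_ofPred_eq]

end conorm

section conormTower

variable {k K K' K'' : Type*} [Field k] [Field K] [Field K'] [Field K'']
  [Algebra k K] [Algebra k K'] [Algebra k K''] [Algebra K K'] [Algebra K' K''] [Algebra K K'']
  [IsScalarTower k K K'] [IsScalarTower k K' K''] [IsScalarTower k K K''] [IsScalarTower K K' K'']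

theorem conorm_conormPlace [FiniteDimensional K K'] [FiniteDimensional K' K'']
    (hK : IsFunctionField k K) (P : Place k K) :
    conorm K'' (conormPlace K' P) = conormPlace K'' P := by
  classical
  have : FiniteDimensional K K'' := Module.Finite.trans K' K''
  have hfin' : {Q : Place k K' | IsOver Q P}.Finite := (sum_ramIdx_mul_deg (K' := K') hK P).1
  have hfin'' : {R : Place k K'' | IsOver R P}.Finite := (sum_ramIdx_mul_deg (K' := K'') hK P).1
  have hK' : W.IsWeakFF k K' := W.weak_of_finite hK.weak
  rw [conormPlace_eq_sum hfin', conorm_finset_sum]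
  ext R₀
  rw [Finsupp.finsetSum_apply, conormPlace_apply hfin'']
  have hterm : ∀ Q : Place k K', (conorm K'' ((ramIdx Q P : ℤ) • Finsupp.single Q (1 : ℤ))) R₀ =
      (ramIdx Q P : ℤ) * (if IsOver R₀ Q then (ramIdx R₀ Q : ℤ) else 0) := by
    intro Q
    rw [conorm_zsmul, conorm_single, one_smul, Finsupp.smul_apply, smul_eq_mul,
      conormPlace_apply (finite_isOver_of_tower hK Q)]
  simp only [hterm]
  by_cases hR : IsOver R₀ P
  · rw [if_pos hR]
    obtain ⟨Q₀, hQ₀⟩ := exists_isOver_weak (K := K') hK' R₀
    have hQ₀P : IsOver Q₀ P := isOver_of_isOver_of_isOver hK.weak hQ₀ hR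
    rw [Finset.sum_eq_single Q₀]
    · rw [if_pos hQ₀, ramIdx_trans hQ₀ hQ₀P]
      push_cast
      rfl
    · intro Q _ hne
      rw [if_neg, mul_zero]
      intro hQ
      exact hne (isOver_unique hQ hQ₀)
    · intro hnot
      exact absurd ((Set.Finite.mem_toFinset hfin').mpr hQ₀P) hnot
  · rw [if_neg hR]
    apply Finset.sum_eq_zero
    intro Q hQ
    rw [if_neg, mul_zero]
    intro hRQ
    exact hR (isOver_trans hRQ ((Set.Finite.mem_toFinset hfin').mp hQ))

/-- the conorm is transitive in towers -/
theorem conorm_conorm [FiniteDimensional K K'] [FiniteDimensional K' K'']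
    (hK : IsFunctionField k K) (D : Divisor k K) :
    conorm K'' (conorm K' D) = conorm K'' D := by
  induction D using Finsupp.induction_linear with
  | zero => rw [conorm_zero, conorm_zero, conorm_zero]
  | add D₁ D₂ h₁ h₂ => rw [conorm_add, conorm_add, conorm_add, h₁, h₂]
  | single P n =>
    rw [conorm_single, conorm_zsmul, conorm_conormPlace hK, conorm_single]

end conormTower

end Groth.Agent.H62.FFTower
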