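import Groth.Agent.H62.FFConstField
import Groth.Agent.H62.FFTower

/-!
# The inertia field
-/

set_option autoImplicit false
set_option linter.unusedSectionVars false

namespace Groth.Agent.H62.FFInertiaField

open FunFld WithZero Module IntermediateField Groth.Agent.H55 Groth.Agent.H62.FFInertia

variable {k K K' : Type*} [Field k] [Field K] [Field K'] [Algebra k K] [Algebra K K']
  [Algebra k K'] [IsScalarTower k K K']

instance towerE (E : IntermediateField K K') : IsScalarTower k E K' :=
  IsScalarTower.of_algebraMap_eq (fun _ => rfl)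

/-- the inertia group as a subgroup of the Galois group -/
noncomputable def IG (K : Type*) [Field K] [Algebra K K'] (Q : Place k K') :
    Subgroup (K' ≃ₐ[K] K') :=
  (ValuationSubring.inertiaSubgroup K Q.O).map (ValuationSubring.decompositionSubgroup K Q.O).subtype

theorem mem_IG_iff (Q : Place k K') (σ : K' ≃ₐ[K] K') :
    σ ∈ IG K Q ↔ Place.comapK Q σ = Q ∧ ∀ x : K', Q.1 x ≤ 1 → Q.1 (σ x - x) < 1 := by
  rw [IG, Subgroup.mem_map]
  constructor
  · rintro ⟨τ, hτ, rfl⟩
    exact ⟨(mem_decomp_iff Q _).mp τ.2, (mem_inertiaSubgroup_iff Q τ).mp hτ⟩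
  · rintro ⟨h1, h2⟩
    exact ⟨⟨σ, (mem_decomp_iff Q σ).mpr h1⟩, (mem_inertiaSubgroup_iff Q _).mpr h2, rfl⟩

theorem card_IG (Q : Place k K') :
    Nat.card (IG K Q) = Nat.card (ValuationSubring.inertiaSubgroup K Q.O) :=
  (Nat.card_congr ((ValuationSubring.inertiaSubgroup K Q.O).equivMapOfInjective _
    (Subgroup.subtype_injective _)).toEquiv).symm

/-- the restriction-of-scalars embedding of `Gal(K'/E)` into `Gal(K'/K)` -/
noncomputable def resHomG (E : IntermediateField K K') : (K' ≃ₐ[E] K') →* (K' ≃ₐ[K] K') :=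
  E.fixingSubgroup.subtype.comp (fixingSubgroupEquiv E).symm.toMonoidHom

theorem resHomG_apply (E : IntermediateField K K') (τ : K' ≃ₐ[E] K') (x : K') :
    resHomG E τ x = τ x := rfl

theorem resHomG_injective (E : IntermediateField K K') : Function.Injective (resHomG E) := by
  intro τ τ' h
  ext x
  have := congrArg (fun σ : K' ≃ₐ[K] K' => σ x) h
  exact this

theorem comapK_resHomG (E : IntermediateField K K') (Q : Place k K') (τ : K' ≃ₐ[E] K') :
    Place.comapK Q (resHomG E τ) = Place.comapK Q τ := by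
  apply Place.ext'
  intro x
  rfl

/-- the inertia group over `E` is the part of the inertia group over `K` fixing `E` -/
theorem map_IG_eq (E : IntermediateField K K') (Q : Place k K') :
    (IG E Q).map (resHomG E) = E.fixingSubgroup ⊓ IG K Q := by
  ext σ
  rw [Subgroup.mem_map, Subgroup.mem_inf, mem_IG_iff]
  constructor
  · rintro ⟨τ, hτ, rfl⟩
    rw [mem_IG_iff] at hτ
    refine ⟨((fixingSubgroupEquiv E).symm τ).2, ?_, hτ.2⟩
    rw [comapK_resHomG]
    exact hτ.1
  · rintro ⟨h1, h2, h3⟩
    refine ⟨fixingSubgroupEquiv E ⟨σ, h1⟩, ?_, ?_⟩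
    · rw [mem_IG_iff]
      refine ⟨?_, h3⟩
      have h4 : Place.comapK Q (fixingSubgroupEquiv E ⟨σ, h1⟩) = Place.comapK Q σ := by
        apply Place.ext'
        intro x
        rfl
      rw [h4, h2]
    · ext x
      rfl

theorem card_IG_intermediate (E : IntermediateField K K') (Q : Place k K') :
    Nat.card (IG E Q) = Nat.card ↥(E.fixingSubgroup ⊓ IG K Q) := by
  rw [← map_IG_eq]
  exact Nat.card_congr ((IG E Q).equivMapOfInjective _ (resHomG_injective E)).toEquiv

/-- **S12521**: `K'` is totally ramified over the inertia field -/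
theorem totallyRamified_inertiaField [FiniteDimensional K K'] [IsGalois K K']
    (hK : IsFunctionField k K) (Q : Place k K')
    [Algebra.IsSeparable k (IsLocalRing.ResidueField Q.O)] :
    ∃ Q₁ : Place k (fixedField (IG K Q)),
      IsOverWith Q Q₁ (finrank (fixedField (IG K Q)) K') := by
  have hK₁ : W.IsWeakFF k (fixedField (IG K Q)) := W.weak_of_finite hK.weak
  obtain ⟨Q₁, e₁, he₁⟩ := FFTower.exists_place_under_weak hK₁ Q
  have h1 : Nat.card (ValuationSubring.inertiaSubgroup (fixedField (IG K Q)) Q.O) = e₁ :=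
    FFConstField.card_inertia_intermediate hK _ he₁
  have h2 := card_IG_intermediate (fixedField (IG K Q)) Q
  rw [fixingSubgroup_fixedField, inf_idem, card_IG, h1] at h2
  rw [finrank_fixedField_eq_card, ← h2]
  exact ⟨Q₁, he₁⟩

end Groth.Agent.H62.FFInertiaField
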