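import Groth.Agent.H62.FFInertiaField

/-!
# Unramified subextensions are those inside the inertia field
-/

set_option autoImplicit false
set_option linter.unusedSectionVars false

namespace Groth.Agent.H62.FFInertiaField

open FunFld WithZero Module IntermediateField Groth.Agent.H55 Groth.Agent.H62.FFInertia

variable {k K K' : Type*} [Field k] [Field K] [Field K'] [Algebra k K] [Algebra K K']
  [Algebra k K'] [IsScalarTower k K K']

/-- comparison of value groups: divisibility of ramification indices -/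
theorem dvd_of_range_subset {K₁ K₂ : Type*} [Field K₁] [Field K₂] [Algebra k K₁] [Algebra k K₂]
    [Algebra K₁ K'] [Algebra K₂ K'] [IsScalarTower k K₁ K'] [IsScalarTower k K₂ K']
    {Q : Place k K'} {P₁ : Place k K₁} {P₂ : Place k K₂}
    {e₁ e₂ : ℕ} (h₁ : IsOverWith Q P₁ e₁) (h₂ : IsOverWith Q P₂ e₂)
    (hsub : Set.range (Q.1.comap (algebraMap K₁ K')) ⊆ Set.range (Q.1.comap (algebraMap K₂ K'))) :
    e₂ ∣ e₁ := by
  obtain ⟨t, ht⟩ := Place.exists_uniformizer P₁
  have h1 : Q.1.comap (algebraMap K₁ K') t ∈ Set.range (Q.1.comap (algebraMap K₂ K')) :=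
    hsub ⟨t, rfl⟩
  obtain ⟨y, hy⟩ := h1
  rw [Valuation.comap_apply, Valuation.comap_apply, h₁, h₂, ht] at hy
  have hy0 : P₂.1 y ≠ 0 := by
    intro h0
    rw [h0] at hy
    have he₂ : e₂ ≠ 0 := (isOverWith_pos h₂).ne'
    rw [zero_pow he₂] at hy
    exact pow_ne_zero _ exp_ne_zero hy.symm
  rw [← exp_log hy0, ← exp_nsmul, ← exp_nsmul, exp_inj] at hy
  simp only [nsmul_eq_mul, mul_neg, mul_one] at hy
  have h3 : (e₂ : ℤ) ∣ (e₁ : ℤ) := ⟨-log (P₂.1 y), by rw [mul_neg, hy, neg_neg]⟩
  exact Int.natCast_dvd_natCast.mp h3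

/-- if the ramification indices agree, the value groups agree -/
theorem range_subset_of_eq {K₁ K₂ : Type*} [Field K₁] [Field K₂] [Algebra k K₁] [Algebra k K₂]
    [Algebra K₁ K'] [Algebra K₂ K'] [IsScalarTower k K₁ K'] [IsScalarTower k K₂ K']
    {Q : Place k K'} {P₁ : Place k K₁} {P₂ : Place k K₂}
    {e : ℕ} (h₁ : IsOverWith Q P₁ e) (h₂ : IsOverWith Q P₂ e) :
    Set.range (Q.1.comap (algebraMap K₁ K')) ⊆ Set.range (Q.1.comap (algebraMap K₂ K')) := by
  rintro v ⟨x, rfl⟩
  obtain ⟨y, hy⟩ := P₂.2.2 (P₁.1 x)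
  refine ⟨y, ?_⟩
  rw [Valuation.comap_apply, Valuation.comap_apply, h₁, h₂, hy]

/-- **S11029** -/
theorem unramified_iff_le_inertiaField [FiniteDimensional K K'] [IsGalois K K']
    (hK : IsFunctionField k K) (Q : Place k K')
    [Algebra.IsSeparable k (IsLocalRing.ResidueField Q.O)] (E : IntermediateField K K') :
    Set.range (Q.1.comap (algebraMap E K')) = Set.range (Q.1.comap (algebraMap K K')) ↔
      E ≤ fixedField (IG K Q) := by
  have hKE : W.IsWeakFF k E := W.weak_of_finite hK.weak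
  obtain ⟨QE, eE, heE⟩ := FFTower.exists_place_under_weak hKE Q
  obtain ⟨P, e, he⟩ := exists_place_under hK Q
  have h1 : Nat.card (IG E Q) = eE := by
    rw [card_IG]; exact FFConstField.card_inertia_intermediate hK E heE
  have h2 : Nat.card (IG K Q) = e := by
    rw [card_IG]; exact card_inertia hK he
  have h3 := card_IG_intermediate E Q
  rw [h1] at h3
  have hfin : Finite (K' ≃ₐ[K] K') := inferInstance
  rw [le_iff_le]
  constructor
  · intro hrange
    have hd1 : e ∣ eE := dvd_of_range_subset heE he hrange.le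
    have hd2 : eE ∣ e := dvd_of_range_subset he heE hrange.ge
    have heq : eE = e := Nat.dvd_antisymm hd2 hd1
    have hle : E.fixingSubgroup ⊓ IG K Q ≤ IG K Q := inf_le_right
    have hcard : Nat.card (IG K Q) ≤ Nat.card ↥(E.fixingSubgroup ⊓ IG K Q) := by
      rw [h2, ← h3, heq]
    have := Subgroup.eq_of_le_of_card_ge hle hcard
    rw [← this]
    exact inf_le_left
  · intro hle
    have hinf : E.fixingSubgroup ⊓ IG K Q = IG K Q := inf_eq_right.mpr hle
    rw [hinf, h2] at h3
    subst h3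
    exact le_antisymm (range_subset_of_eq heE he) (range_subset_of_eq he heE)

end Groth.Agent.H62.FFInertiaField
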