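import Groth.Agent.H62.FFConormL
import Groth.Agent.H62.FFUnram2
import Groth.Agent.H55.FFAdele
import Groth.Agent.H55.FFRiemannRoch
import Groth.Agent.H55.WRR
import Groth.Agent.H55.WDeg

/-!
# Elements without poles above a place: `R ⊆ ∑ O_P b_i + L(D')`

For a finite extension `K'/K` of a function field, a place `P` of `K` and a `K`-basis `b` of `K'`,
there is a divisor `D'` of `K'` such that every `z ∈ K'` without poles above `P` is
`∑ a_i b_i + v` with `a_i ∈ O_P` and `v ∈ L(D')`.
-/

set_option autoImplicit false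
set_option linter.unusedSectionVars false

namespace Groth.Agent.H62.FFIntClos

open FunFld WithZero Module Groth.Agent.H55 Groth.Agent.H62.FFConormL

variable {k K K' : Type*} [Field k] [Field K] [Field K'] [Algebra k K] [Algebra K K']
  [Algebra k K'] [IsScalarTower k K K']

/-- adele decomposition at a single place -/
theorem exists_sub_mem (hK : IsFunctionField k K) (P : Place k K) :
    ∃ B : Divisor k K, 0 ≤ B ∧ B P = 0 ∧ ∀ a : K, ∃ c : K, P.1 (a - c) ≤ 1 ∧
      ∀ P' : Place k K, P' ≠ P → P'.1 c ≤ exp (B P') := by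
  classical
  -- another place
  obtain ⟨t, ht⟩ := Place.exists_uniformizer P
  have ht0 : t ≠ 0 := by
    rintro rfl
    rw [map_zero] at ht
    exact exp_ne_zero ht.symm
  have htlt : P.1 t < 1 := by rw [ht, ← exp_zero, exp_lt_exp]; norm_num
  have httr : Transcendental k t := W.transcendental_of_val_ne_one P ht0 htlt.ne
  obtain ⟨P₁, hP₁⟩ := exists_pole hK httr
  have hne : P₁ ≠ P := by
    rintro rfl
    exact absurd htlt (not_lt.mpr hP₁.le)
  set m : ℕ := 2 * genus k K with hm
  set B : Divisor k K := Finsupp.single P₁ (m : ℤ) with hB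
  have hBdeg : B.deg = m * P₁.deg := Divisor.deg_single P₁ _
  have hP₁deg : 0 < P₁.deg := W.Place.deg_pos hK.weak P₁
  have hBnonneg : 0 ≤ B := by
    intro Q
    show (0 : ℤ) ≤ B Q
    rw [hB, Finsupp.single_apply]
    split_ifs
    · exact_mod_cast Nat.zero_le m
    · exact le_refl _
  have hBP : B P = 0 := by rw [hB, Finsupp.single_apply, if_neg hne]
  have hell := ell_of_deg_ge hK B (by
    rw [hBdeg]
    have : (1 : ℤ) ≤ P₁.deg := by exact_mod_cast hP₁deg
    have h2 : (0 : ℤ) ≤ (m : ℤ) := by positivity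
    have : (m : ℤ) ≤ m * P₁.deg := by nlinarith
    rw [hm] at this ⊢
    push_cast at this ⊢
    omega)
  have hadele := adele_eq_of_nonspecial hK (B := B) (by rw [hell]; ring)
  refine ⟨B, hBnonneg, hBP, fun a => ?_⟩
  set α : Place k K → K := fun P' => if P' = P then a else 0 with hα
  have hαmem : α ∈ adele k K := by
    rw [mem_adele]
    apply (Set.finite_singleton P).subset
    intro P' hP'
    by_contra hne'
    have : α P' = 0 := by rw [hα]; exact if_neg hne'
    rw [Set.mem_ofPred_eq, this, map_zero] at hP'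
    exact not_lt_zero hP'
  rw [hadele, Submodule.mem_sup] at hαmem
  obtain ⟨β, hβ, _, ⟨c, rfl⟩, hsum⟩ := hαmem
  rw [mem_AD] at hβ
  refine ⟨c, ?_, fun P' hP' => ?_⟩
  · have h1 := hβ P
    have h2 := congrFun hsum P
    have h3 : β P = a - c := by
      have : α P = a := by rw [hα]; exact if_pos rfl
      rw [Pi.add_apply, this] at h2
      have hd : diag k K c P = c := rfl
      rw [hd] at h2
      rw [← h2]; ring
    rw [h3, hBP, exp_zero] at h1
    exact h1
  · have h1 := hβ P'
    have h2 := congrFun hsum P'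
    have h3 : β P' = -c := by
      have : α P' = 0 := by rw [hα]; exact if_neg hP'
      rw [Pi.add_apply, this] at h2
      have hd : diag k K c P' = c := rfl
      rw [hd] at h2
      linear_combination h2
    rw [h3, Valuation.map_neg] at h1
    exact h1

/-- the decomposition -/
theorem exists_decomp [FiniteDimensional K K'] (hK : IsFunctionField k K) (P : Place k K)
    {n : ℕ} (b : Module.Basis (Fin n) K K') :
    ∃ D' : Divisor k K', ∀ z : K', (∀ (Q : Place k K') (e : ℕ), IsOverWith Q P e → Q.1 z ≤ 1) →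
      ∃ a : Fin n → K, (∀ i, P.1 (a i) ≤ 1) ∧ z - ∑ i, a i • b i ∈ L D' := by
  classical
  have halg : Algebra.IsAlgebraic K K' := Algebra.IsAlgebraic.of_finite K K'
  have hK' : W.IsWeakFF k K' := W.weak_of_finite hK.weak
  obtain ⟨B, hB0, hBP, hdec⟩ := exists_sub_mem hK P
  set Bpole : Divisor k K' := ∑ i, poleDiv k (b i) with hBpole
  have hBpole0 : 0 ≤ Bpole := Finset.sum_nonneg fun i _ => poleDiv_nonneg _
  have hbval : ∀ (Q : Place k K') (i : Fin n), Q.1 (b i) ≤ exp (Bpole Q) := by
    intro Q i
    have hbi0 : b i ≠ 0 := b.ne_zero i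
    rw [Place.val_eq_exp_neg_ord Q hbi0, exp_le_exp, hBpole, Finsupp.finsetSum_apply]
    have h1 : poleDiv k (b i) Q ≤ ∑ j, poleDiv k (b j) Q :=
      Finset.single_le_sum (f := fun j => poleDiv k (b j) Q)
        (fun j _ => poleDiv_nonneg (b j) Q) (Finset.mem_univ i)
    rw [W.poleDiv_apply hK'] at h1
    have := le_max_left (-Q.ord (b i)) 0
    omega
  refine ⟨conorm K' B + Bpole, fun z hz => ?_⟩
  choose c hc1 hc2 using fun i : Fin n => hdec (b.repr z i)
  refine ⟨fun i => b.repr z i - c i, hc1, ?_⟩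
  have hz' : z - ∑ i, (b.repr z i - c i) • b i = ∑ i, c i • b i := by
    have hsum : z = ∑ i, b.repr z i • b i := (b.sum_repr z).symm
    have h1 : ∑ i, (b.repr z i - c i) • b i = ∑ i, b.repr z i • b i - ∑ i, c i • b i := by
      rw [← Finset.sum_sub_distrib]
      exact Finset.sum_congr rfl fun i _ => sub_smul _ _ _
    rw [h1, ← hsum]; abel
  rw [mem_L]
  intro Q
  obtain ⟨P', e, he⟩ := exists_place_under hK Q
  have hD'Q : (conorm K' B + Bpole) Q = e * B P' + Bpole Q := by
    rw [Finsupp.add_apply, conorm_apply_of_isOverWith hK B he]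
  rw [hD'Q, exp_add]
  by_cases hP' : P' = P
  · subst hP'
    rw [hBP, mul_zero, exp_zero, one_mul]
    refine (Valuation.map_sub _ _ _).trans (max_le ?_ ?_)
    · exact (hz Q e he).trans (by rw [← exp_zero, exp_le_exp]; exact hBpole0 Q)
    · apply Valuation.map_sum_le
      intro i _
      rw [Algebra.smul_def, map_mul, he]
      calc P'.1 (b.repr z i - c i) ^ e * Q.1 (b i) ≤ 1 * exp (Bpole Q) :=
            mul_le_mul' (pow_le_one₀ zero_le (hc1 i)) (hbval Q i)
        _ = exp (Bpole Q) := one_mul _
  · rw [hz']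
    apply Valuation.map_sum_le
    intro i _
    rw [Algebra.smul_def, map_mul, he]
    have h1 : P'.1 (c i) ^ e ≤ exp (e * B P') := by
      rw [← nsmul_eq_mul, exp_nsmul]
      exact pow_le_pow_left₀ zero_le (hc2 i P' hP') e
    exact mul_le_mul' h1 (hbval Q i)

end Groth.Agent.H62.FFIntClos
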