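import Groth.Agent.H62.FFIntClos
import Mathlib.RingTheory.IntegralClosure.IsIntegralClosure.Basic

/-!
# The integral closure of `O_P` in a finite extension is module-finite
-/

set_option autoImplicit false
set_option linter.unusedSectionVars false

namespace Groth.Agent.H62.FFIntClos

open FunFld WithZero Module Polynomial Groth.Agent.H55 Groth.Agent.H62.FFConormL

variable {k K K' : Type*} [Field k] [Field K] [Field K'] [Algebra k K] [Algebra K K']
  [Algebra k K'] [IsScalarTower k K K']

/-- integral elements have no poles above `P` -/
theorem val_le_one_of_isIntegral (P : Place k K) [Algebra P.O K'] [IsScalarTower P.O K K']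
    {z : K'} (hz : IsIntegral P.O z) {Q : Place k K'} {e : ℕ} (he : IsOverWith Q P e) :
    Q.1 z ≤ 1 := by
  obtain ⟨p, hmon, hroot⟩ := hz
  have hroot' : aeval z (p.map (algebraMap P.O K)) = 0 := by
    rw [aeval_def, eval₂_map, ← IsScalarTower.algebraMap_eq]
    exact hroot
  apply FFUnram.val_le_one_of_monic_root Q (hmon.map _) hroot'
  intro i
  rw [coeff_map, he]
  exact pow_le_one₀ zero_le ((Valuation.mem_valuationSubring_iff P.1 _).mp (p.coeff i).2)

theorem smul_eq_of_tower (P : Place k K) [Algebra P.O K'] [IsScalarTower P.O K K']
    (a : P.O) (w : K') : a • w = (a : K) • w := by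
  rw [Algebra.smul_def, Algebra.smul_def, IsScalarTower.algebraMap_apply P.O K K']
  rfl

theorem algebraMap_smul_eq (P : Place k K) [Algebra P.O K'] [IsScalarTower P.O K K']
    (c : k) (w : K') : (algebraMap k P.O c) • w = c • w := by
  rw [smul_eq_of_tower]
  show (algebraMap k K c) • w = c • w
  rw [algebraMap_smul]

/-- **S10981** -/
theorem finite_integralClosure [FiniteDimensional K K'] (hK : IsFunctionField k K)
    (P : Place k K) [Algebra P.O K'] [IsScalarTower P.O K K'] :
    Module.Finite P.O (integralClosure P.O K') := by
  classical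
  have hK' : W.IsWeakFF k K' := W.weak_of_finite hK.weak
  have hnoeth : IsNoetherianRing P.O :=
    (isNoetherianRing_iff_ideal_fg P.O).mpr (W.vs_ideal_fg hK.weak P.O (fun c => P.2.1 c))
  let b := Module.finBasis K K'
  obtain ⟨D', hD'⟩ := exists_decomp hK P b
  have hLfin : Module.Finite k (L D') := W.L_finite hK' D'
  obtain ⟨T, hT⟩ := (Module.Finite.iff_fg.mp hLfin)
  set S : Set K' := Set.range b ∪ (T : Set K') with hS
  have hSfin : S.Finite := (Set.finite_range b).union T.finite_toSet
  set N : Submodule P.O K' := Submodule.span P.O S with hN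
  have hNfg : N.FG := Submodule.fg_span hSfin
  have hNfin : Module.Finite P.O N := Module.Finite.iff_fg.mpr hNfg
  have hNnoeth : IsNoetherian P.O N := isNoetherian_of_fg_of_noetherian N hNfg
  have hle : Subalgebra.toSubmodule (integralClosure P.O K') ≤ N := by
    intro z hz
    have hzint : IsIntegral P.O z := hz
    obtain ⟨a, ha, hv⟩ := hD' z (fun Q e he => val_le_one_of_isIntegral P hzint he)
    have h1 : z = (z - ∑ i, a i • b i) + ∑ i, a i • b i := by ring
    rw [h1]
    apply add_mem
    · -- the `L D'` part
      have hv' : z - ∑ i, a i • b i ∈ Submodule.span k (T : Set K') := by rw [hT]; exact hv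
      refine Submodule.span_induction (p := fun w _ => w ∈ N) ?_ ?_ ?_ ?_ hv'
      · intro w hw
        exact Submodule.subset_span (Or.inr hw)
      · exact zero_mem _
      · intro x y _ _ hx hy
        exact add_mem hx hy
      · intro c x _ hx
        rw [← algebraMap_smul_eq P c x]
        exact Submodule.smul_mem _ _ hx
    · apply Submodule.sum_mem
      intro i _
      have h2 : a i • b i =
          (⟨a i, (Valuation.mem_valuationSubring_iff P.1 _).mpr (ha i)⟩ : P.O) • b i := by
        rw [smul_eq_of_tower]
      rw [h2]
      exact Submodule.smul_mem _ _ (Submodule.subset_span (Or.inl ⟨i, rfl⟩))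
  exact Module.Finite.of_injective (Submodule.inclusion hle) (Submodule.inclusion_injective hle)

end Groth.Agent.H62.FFIntClos
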