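import Groth.Agent.H62.FFConormL
import Groth.Agent.H62.FFQuad
import Groth.Agent.H55.FFRiemannRoch
import Groth.Agent.H55.FFMisc
import Groth.Agent.H55.FFProj
import Groth.Agent.H55.GalTrans

/-!
# helper62: quadratic extensions `K = F(y)`, `y² = u ∈ F`, of function fields in characteristic
`≠ 2`: the decomposition `L_K(N*(B)) = L_F(B) ⊕ y · L_F(B + ⌊(u)/2⌋)`
-/

set_option autoImplicit false
set_option linter.unusedSectionVars false

namespace Groth.Agent.H62.FFInvol

open FunFld WithZero Module Groth.Agent.H55 Groth.Agent.H62.FFTower Groth.Agent.H62.FFExtDeg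
  Groth.Agent.H62.FFConormL

variable {k F K : Type*} [Field k] [Field F] [Field K] [Algebra k F] [Algebra k K] [Algebra F K]
  [IsScalarTower k F K]

/-- every element of a quadratic extension is `a + b y` -/
theorem exists_repr (hdeg : finrank F K = 2) {y : K} (hy : y ∉ Set.range (algebraMap F K))
    (z : K) : ∃ a b : F, z = algebraMap F K a + algebraMap F K b * y := by
  haveI : FiniteDimensional F K := Module.finite_of_finrank_pos (by omega)
  have hli : LinearIndependent F ![(1 : K), y] := by
    rw [LinearIndependent.pair_iff]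
    intro s t hst
    have ht : t = 0 := by
      by_contra ht
      apply hy
      refine ⟨-s / t, ?_⟩
      have h1 : algebraMap F K t ≠ 0 := by
        rwa [Ne, map_eq_zero_iff _ (algebraMap F K).injective]
      rw [map_div₀, div_eq_iff h1, map_neg]
      rw [Algebra.smul_def, Algebra.smul_def, mul_one] at hst
      linear_combination -hst
    subst ht
    rw [zero_smul, add_zero, Algebra.smul_def, mul_one,
      map_eq_zero_iff _ (algebraMap F K).injective] at hst
    exact ⟨hst, rfl⟩
  have hspan : Submodule.span F (Set.range ![(1 : K), y]) = ⊤ :=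
    hli.span_eq_top_of_card_eq_finrank' (by simp [hdeg])
  have hz : z ∈ Submodule.span F (Set.range ![(1 : K), y]) := hspan ▸ Submodule.mem_top
  rw [Matrix.range_cons, Matrix.range_cons, Matrix.range_empty, Set.union_empty,
    Set.singleton_union, Submodule.mem_span_pair] at hz
  obtain ⟨a, b, rfl⟩ := hz
  exact ⟨a, b, by rw [Algebra.smul_def, Algebra.smul_def, mul_one]⟩

/-- `⌊(u)/2⌋` -/
noncomputable def halfDiv (k : Type*) [Field k] [Algebra k F] (u : F) : Divisor k F :=
  (div k u).mapRange (fun n => n / 2) (by norm_num)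

/-- `(u) mod 2` -/
noncomputable def oddDiv (k : Type*) [Field k] [Algebra k F] (u : F) : Divisor k F :=
  (div k u).mapRange (fun n => n % 2) (by norm_num)

theorem halfDiv_apply (hF : IsFunctionField k F) (u : F) (P : Place k F) :
    halfDiv k u P = P.ord u / 2 := by
  rw [halfDiv, Finsupp.mapRange_apply, Groth.Agent.H55.Place.div_apply hF]

theorem oddDiv_apply (hF : IsFunctionField k F) (u : F) (P : Place k F) :
    oddDiv k u P = P.ord u % 2 := by
  rw [oddDiv, Finsupp.mapRange_apply, Groth.Agent.H55.Place.div_apply hF]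

theorem div_eq_two_halfDiv_add (hF : IsFunctionField k F) (u : F) :
    div k u = (2 : ℤ) • halfDiv k u + oddDiv k u := by
  ext P
  rw [Finsupp.add_apply, Finsupp.smul_apply, halfDiv_apply hF, oddDiv_apply hF, Groth.Agent.H55.Place.div_apply hF,
    smul_eq_mul]
  exact (Int.mul_ediv_add_emod (P.ord u) 2).symm

/-- the key membership criterion -/
theorem mul_y_mem_iff [FiniteDimensional F K] (hF : IsFunctionField k F) {y : K} {u : F}
    (hyu : y ^ 2 = algebraMap F K u) (hy0 : y ≠ 0) (B : Divisor k F) (b : F) :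
    algebraMap F K b * y ∈ L (conorm K B) ↔ b ∈ L (B + halfDiv k u) := by
  by_cases hb : b = 0
  · subst hb
    simp
  have hb' : algebraMap F K b ≠ 0 := by
    rwa [Ne, map_eq_zero_iff _ (algebraMap F K).injective]
  have hz : algebraMap F K b * y ≠ 0 := mul_ne_zero hb' hy0
  rw [mem_L_conorm_iff hF, mem_L_iff_ord hb]
  constructor
  · intro h P
    obtain ⟨Q, e, he⟩ := exists_isOver (K' := K) hF P
    have h1 := h Q P e he
    rw [exp_pow_nat, ← neg_neg ((e : ℤ) * B P), ← Place.le_ord_iff Q hz,
      Place.ord_mul Q hb' hy0, isOverWith_ord_eq he] at h1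
    have h2 := FFHyper.two_mul_ord hyu he
    have hepos : (0 : ℤ) < e := by exact_mod_cast isOverWith_pos he
    rw [Finsupp.add_apply, halfDiv_apply hF]
    have h3 := Int.mul_ediv_add_emod (P.ord u) 2
    have h4 := Int.emod_lt_of_pos (P.ord u) (by norm_num : (0 : ℤ) < 2)
    have h5 := Int.emod_nonneg (P.ord u) (by norm_num : (2 : ℤ) ≠ 0)
    by_contra hcon
    push Not at hcon
    have h6 : P.ord b + 1 ≤ -(B P + P.ord u / 2) := by omega
    have h7 : (e : ℤ) * (P.ord b + 1) ≤ (e : ℤ) * (-(B P + P.ord u / 2)) :=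
      mul_le_mul_of_nonneg_left h6 hepos.le
    have h8 : (e : ℤ) * (P.ord u % 2) ≤ (e : ℤ) * 1 :=
      mul_le_mul_of_nonneg_left (by omega) hepos.le
    have h9 : (e : ℤ) * P.ord u = 2 * ((e : ℤ) * (P.ord u / 2)) + (e : ℤ) * (P.ord u % 2) := by
      calc (e : ℤ) * P.ord u = (e : ℤ) * (2 * (P.ord u / 2) + P.ord u % 2) := by rw [h3]
        _ = _ := by ring
    nlinarith
  · intro h Q P e he
    rw [exp_pow_nat, ← neg_neg ((e : ℤ) * B P), ← Place.le_ord_iff Q hz,
      Place.ord_mul Q hb' hy0, isOverWith_ord_eq he]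
    have h1 := h P
    rw [Finsupp.add_apply, halfDiv_apply hF] at h1
    have h2 := FFHyper.two_mul_ord hyu he
    have hepos : (0 : ℤ) < e := by exact_mod_cast isOverWith_pos he
    have h3 := Int.mul_ediv_add_emod (P.ord u) 2
    have h5 := Int.emod_nonneg (P.ord u) (by norm_num : (2 : ℤ) ≠ 0)
    have h7 : (e : ℤ) * (-(B P + P.ord u / 2)) ≤ (e : ℤ) * P.ord b :=
      mul_le_mul_of_nonneg_left h1 hepos.le
    have h8 : 0 ≤ (e : ℤ) * (P.ord u % 2) := mul_nonneg hepos.le h5
    have h9 : (e : ℤ) * P.ord u = 2 * ((e : ℤ) * (P.ord u / 2)) + (e : ℤ) * (P.ord u % 2) := by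
      calc (e : ℤ) * P.ord u = (e : ℤ) * (2 * (P.ord u / 2) + P.ord u % 2) := by rw [h3]
        _ = _ := by ring
    nlinarith

end Groth.Agent.H62.FFInvol
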