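import Groth.Agent.H62.FFInvol1

/-!
# helper62: the genus of a quadratic extension `K = F(y)`, `y² = u`, of function fields in
characteristic `≠ 2`: `g_K = 2 g_F - 1 - deg ⌊(u)/2⌋`
-/

set_option autoImplicit false
set_option linter.unusedSectionVars false
set_option linter.style.haveILetI false

namespace Groth.Agent.H62.FFInvol

open FunFld WithZero Module Groth.Agent.H55 Groth.Agent.H62.FFTower Groth.Agent.H62.FFExtDeg
  Groth.Agent.H62.FFConormL

variable {k F K : Type*} [Field k] [Field F] [Field K] [Algebra k F] [Algebra k K] [Algebra F K]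
  [IsScalarTower k F K]

theorem two_ne_zero_K (h2 : (2 : k) ≠ 0) : (2 : K) ≠ 0 := by
  have h : algebraMap k K 2 ≠ 0 := by
    rwa [Ne, map_eq_zero_iff _ (algebraMap k K).injective]
  rwa [map_ofNat] at h

/-- the decomposition of `L` of a conorm -/
theorem mem_L_conorm_iff_repr [FiniteDimensional F K] (hF : IsFunctionField k F)
    (h2 : (2 : k) ≠ 0) {y : K} {u : F} (hyu : y ^ 2 = algebraMap F K u) (hy0 : y ≠ 0)
    (σ : K ≃ₐ[F] K) (hσ : σ y = -y) (B : Divisor k F) (a b : F) :
    algebraMap F K a + algebraMap F K b * y ∈ L (conorm K B) ↔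
      a ∈ L B ∧ b ∈ L (B + halfDiv k u) := by
  constructor
  · intro hz
    have hz' := L_conorm_stable hF B σ hz
    rw [FFQuad.conj_apply σ hσ] at hz'
    have h2K := two_ne_zero_K (K := K) h2
    have hinv : algebraMap k K (2 : k)⁻¹ * 2 = 1 := by
      rw [map_inv₀, map_ofNat]
      exact inv_mul_cancel₀ h2K
    have ha : algebraMap F K a ∈ L (conorm K B) := by
      have h3 := (L (conorm K B)).smul_mem (2 : k)⁻¹ ((L (conorm K B)).add_mem hz hz')
      rw [Algebra.smul_def] at h3
      have h4 : algebraMap k K (2 : k)⁻¹ * (algebraMap F K a + algebraMap F K b * y +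
          (algebraMap F K a - algebraMap F K b * y)) = algebraMap F K a := by
        linear_combination (algebraMap F K a) * hinv
      rwa [h4] at h3
    have hb : algebraMap F K b * y ∈ L (conorm K B) := by
      have h3 := (L (conorm K B)).smul_mem (2 : k)⁻¹ ((L (conorm K B)).sub_mem hz hz')
      rw [Algebra.smul_def] at h3
      have h4 : algebraMap k K (2 : k)⁻¹ * (algebraMap F K a + algebraMap F K b * y -
          (algebraMap F K a - algebraMap F K b * y)) = algebraMap F K b * y := by
        linear_combination (algebraMap F K b * y) * hinv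
      rwa [h4] at h3
    exact ⟨(algebraMap_mem_L_conorm_iff hF B).mp ha, (mul_y_mem_iff hF hyu hy0 B b).mp hb⟩
  · rintro ⟨ha, hb⟩
    exact (L (conorm K B)).add_mem ((algebraMap_mem_L_conorm_iff hF B).mpr ha)
      ((mul_y_mem_iff hF hyu hy0 B b).mpr hb)

/-- the map `(a, b) ↦ a + b y` -/
noncomputable def Phi (y : K) (B B' : Divisor k F) : (L B × L B') →ₗ[k] K :=
  ((IsScalarTower.toAlgHom k F K).toLinearMap ∘ₗ (L B).subtype) ∘ₗ LinearMap.fst k _ _ +
  (LinearMap.mulRight k y ∘ₗ (IsScalarTower.toAlgHom k F K).toLinearMap ∘ₗ (L B').subtype) ∘ₗ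
    LinearMap.snd k _ _

theorem Phi_apply (y : K) (B B' : Divisor k F) (p : L B × L B') :
    Phi y B B' p = algebraMap F K p.1 + algebraMap F K p.2 * y := rfl

theorem Phi_injective {y : K} (hy : y ∉ Set.range (algebraMap F K)) (B B' : Divisor k F) :
    Function.Injective (Phi (k := k) y B B') := by
  intro p q hpq
  rw [Phi_apply, Phi_apply] at hpq
  obtain ⟨h1, h2⟩ := FFQuad.repr_unique hy hpq
  exact Prod.ext (Subtype.ext h1) (Subtype.ext h2)

theorem range_Phi [FiniteDimensional F K] (hF : IsFunctionField k F) (hdeg : finrank F K = 2)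
    (h2 : (2 : k) ≠ 0) {y : K} {u : F} (hyu : y ^ 2 = algebraMap F K u)
    (hy : y ∉ Set.range (algebraMap F K)) (B : Divisor k F) :
    LinearMap.range (Phi (k := k) y B (B + halfDiv k u)) = L (conorm K B) := by
  obtain ⟨σ, hσ⟩ := FFQuad.exists_algEquiv_neg hdeg hy hyu
  have hy0 : y ≠ 0 := fun h0 => hy ⟨0, by rw [h0, map_zero]⟩
  apply le_antisymm
  · rintro _ ⟨p, rfl⟩
    rw [Phi_apply]
    exact (mem_L_conorm_iff_repr hF h2 hyu hy0 σ hσ B _ _).mpr ⟨p.1.2, p.2.2⟩
  · intro z hz
    obtain ⟨a, b, rfl⟩ := exists_repr hdeg hy z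
    obtain ⟨ha, hb⟩ := (mem_L_conorm_iff_repr hF h2 hyu hy0 σ hσ B a b).mp hz
    exact ⟨(⟨a, ha⟩, ⟨b, hb⟩), rfl⟩

theorem ell_conorm_eq [FiniteDimensional F K] (hF : IsFunctionField k F)
    (hdeg : finrank F K = 2)
    (h2 : (2 : k) ≠ 0) {y : K} {u : F} (hyu : y ^ 2 = algebraMap F K u)
    (hy : y ∉ Set.range (algebraMap F K)) (B : Divisor k F) :
    ell (conorm K B) = ell B + ell (B + halfDiv k u) := by
  haveI := L_finite hF B
  haveI := L_finite hF (B + halfDiv k u)
  unfold ell
  rw [← range_Phi hF hdeg h2 hyu hy B, LinearMap.finrank_range_of_inj (Phi_injective hy _ _),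
    Module.finrank_prod]

/-- **the genus of a quadratic extension in characteristic `≠ 2`** -/
theorem genus_formula [FiniteDimensional F K] (hF : IsFunctionField k F)
    (hK : IsFunctionField k K) (hdeg : finrank F K = 2)
    (h2 : (2 : k) ≠ 0) {y : K} {u : F} (hyu : y ^ 2 = algebraMap F K u)
    (hy : y ∉ Set.range (algebraMap F K)) :
    (genus k K : ℤ) = 2 * genus k F - 1 - (halfDiv k u).deg := by
  classical
  obtain ⟨P₀⟩ := exists_place hF
  have hd : (1 : ℤ) ≤ P₀.deg := by exact_mod_cast Place.deg_pos hF P₀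
  set m : ℤ := 2 * genus k K + 2 * genus k F + |(halfDiv k u).deg| with hm
  set B : Divisor k F := Finsupp.single P₀ m with hB
  have hBdeg : B.deg = m * P₀.deg := Divisor.deg_single P₀ m
  have hm0 : 0 ≤ m := by positivity
  have hBm : m ≤ B.deg := by
    rw [hBdeg]
    nlinarith
  have habs := neg_abs_le (halfDiv k u).deg
  have h1 := ell_of_deg_ge hK (conorm K B) (by
    rw [FFConormL.deg_conorm hF, hdeg]
    push_cast
    linarith [abs_nonneg (halfDiv k u).deg])
  have h3 := ell_of_deg_ge hF B (by linarith [abs_nonneg (halfDiv k u).deg])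
  have h4 := ell_of_deg_ge hF (B + halfDiv k u) (by
    rw [Divisor.deg_add]
    linarith)
  rw [ell_conorm_eq hF hdeg h2 hyu hy B, FFConormL.deg_conorm hF, hdeg, Divisor.deg_add] at *
  push_cast at h1
  linarith

end Groth.Agent.H62.FFInvol
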