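import Groth.Agent.H62.FFInvol2

/-!
# helper62: fixed places of the conjugation of `K = F(y)`, `y² = u`, and the Riemann–Hurwitz
formula for an involution over an algebraically closed field of characteristic `≠ 2`
-/

set_option autoImplicit false
set_option linter.unusedSectionVars false
set_option linter.style.haveILetI false

namespace Groth.Agent.H62.FFInvol

open FunFld WithZero Module Groth.Agent.H55 Groth.Agent.H62.FFTower Groth.Agent.H62.FFExtDeg
  Groth.Agent.H62.FFConormL

variable {k F K : Type*} [Field k] [Field F] [Field K] [Algebra k F] [Algebra k K] [Algebra F K]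
  [IsScalarTower k F K]

/-- a place fixed by the conjugation lies over a place where `u` has odd order -/
theorem odd_of_fixed (h2 : (2 : k) ≠ 0) {y : K} {u : F} (hyu : y ^ 2 = algebraMap F K u)
    (hy0 : y ≠ 0) (σ : K ≃ₐ[F] K) (hσ : σ y = -y) {Q : Place k K} {P : Place k F} {e : ℕ}
    (he : IsOverWith Q P e) (hQ : Q.deg = 1) (hfix : Place.comapK Q σ = Q) :
    P.ord u % 2 = 1 := by
  by_contra hodd
  have hev : P.ord u % 2 = 0 := by omega
  obtain ⟨m, hm⟩ : ∃ m : ℤ, P.ord u = 2 * m := ⟨P.ord u / 2, by omega⟩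
  have h1 := FFHyper.two_mul_ord hyu he
  rw [hm] at h1
  have hQy : Q.ord y = e * m := by linarith
  obtain ⟨t, ht⟩ := Place.exists_val_eq_exp P m
  set y' : K := algebraMap F K t * y with hy'
  have hval : Q.1 y' = 1 := by
    rw [hy', map_mul, he t, ht, Place.val_eq_exp_neg_ord Q hy0, hQy, exp_pow_nat, ← exp_add]
    rw [show (e : ℤ) * m + -((e : ℤ) * m) = 0 by ring, exp_zero]
  have hσy' : σ y' = -y' := by
    rw [hy', map_mul, σ.commutes, hσ]
    ring
  obtain ⟨d, hd⟩ := Place.exists_const_sub_lt_one hQ hval.le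
  have hd' : Q.1 (σ (y' - algebraMap k K d)) < 1 := by
    have := Place.comapK_val Q σ (y' - algebraMap k K d)
    rw [hfix] at this
    rw [← this]
    exact hd
  have hσd : σ (algebraMap k K d) = algebraMap k K d := by
    rw [IsScalarTower.algebraMap_apply k F K, σ.commutes]
  rw [map_sub, hσy', hσd] at hd'
  have hsum : Q.1 (algebraMap k K (-(2 * d))) < 1 := by
    have h3 : algebraMap k K (-(2 * d)) = (y' - algebraMap k K d) + (-y' - algebraMap k K d) := by
      rw [map_neg, map_mul, map_ofNat]
      ring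
    rw [h3]
    exact lt_of_le_of_lt (Q.1.map_add _ _) (max_lt hd hd')
  by_cases hd0 : d = 0
  · subst hd0
    rw [map_zero, sub_zero, hval] at hd
    exact lt_irrefl _ hd
  · have hne : -(2 * d) ≠ 0 := neg_ne_zero.mpr (mul_ne_zero h2 hd0)
    rw [Place.val_algebraMap_eq_one Q hne] at hsum
    exact lt_irrefl _ hsum

/-- over a place where `u` has odd order there is a unique place, fixed by the conjugation -/
theorem fixed_of_odd [FiniteDimensional F K] (hF : IsFunctionField k F)
    (hdeg : finrank F K = 2) {y : K} {u : F} (hyu : y ^ 2 = algebraMap F K u)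
    (σ : K ≃ₐ[F] K) {Q : Place k K} {P : Place k F} {e : ℕ}
    (he : IsOverWith Q P e) (hodd : P.ord u % 2 = 1) :
    (∀ Q' : Place k K, IsOver Q' P → Q' = Q) ∧ Place.comapK Q σ = Q := by
  have h1 := FFHyper.two_mul_ord hyu he
  have he2 : e = 2 := by
    rcases FFHyper.ramIdx_eq_one_or_two hF hdeg he with h | h
    · exfalso
      subst h
      push_cast at h1
      omega
    · exact h
  have huniq := (unique_of_ramIdx_eq_finrank hF (⟨e, he⟩ : IsOver Q P)
    (by rw [ramIdx_eq he, hdeg, he2])).2
  exact ⟨huniq, huniq _ ⟨e, comapK_isOverWith he σ⟩⟩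

theorem oddDiv_apply_eq (hF : IsFunctionField k F) (u : F) (P : Place k F) :
    oddDiv k u P = 0 ∨ oddDiv k u P = 1 := by
  rw [oddDiv_apply hF]
  omega

/-- the degree of the odd part counts the places of odd order -/
theorem deg_oddDiv (hF : IsFunctionField k F) (hdeg1 : ∀ P : Place k F, P.deg = 1) (u : F) :
    (oddDiv k u).deg = (oddDiv k u).support.card := by
  unfold FunFld.Divisor.deg Finsupp.sum
  rw [Finset.card_eq_sum_ones]
  push_cast
  apply Finset.sum_congr rfl
  intro P hP
  rw [hdeg1 P]
  rcases oddDiv_apply_eq hF u P with h | h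
  · exact absurd h (Finsupp.mem_support_iff.mp hP)
  · rw [h]; simp

/-- **the fixed places of the conjugation are counted by the places of odd order** -/
theorem card_fixed [FiniteDimensional F K] (hF : IsFunctionField k F)
    (hdeg : finrank F K = 2) (h2 : (2 : k) ≠ 0) {y : K} {u : F}
    (hyu : y ^ 2 = algebraMap F K u) (hy0 : y ≠ 0) (σ : K ≃ₐ[F] K) (hσ : σ y = -y)
    (hdegK : ∀ Q : Place k K, Q.deg = 1) :
    Nat.card {Q : Place k K // Place.comapK Q σ = Q} = (oddDiv k u).support.card := by
  classical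
  have halg : Algebra.IsAlgebraic F K := Algebra.IsAlgebraic.of_finite F K
  have hunder : ∀ Q : Place k K, ∃ P : Place k F, IsOver Q P := fun Q => by
    obtain ⟨P, e, he⟩ := exists_place_under hF Q
    exact ⟨P, e, he⟩
  choose under hunder' using hunder
  have hmem : ∀ Q : {Q : Place k K // Place.comapK Q σ = Q},
      under Q.1 ∈ (oddDiv k u).support := by
    intro Q
    obtain ⟨e, he⟩ := hunder' Q.1
    have := odd_of_fixed h2 hyu hy0 σ hσ he (hdegK Q.1) Q.2
    rw [Finsupp.mem_support_iff, oddDiv_apply hF, this]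
    exact one_ne_zero
  let f : {Q : Place k K // Place.comapK Q σ = Q} → (oddDiv k u).support :=
    fun Q => ⟨under Q.1, hmem Q⟩
  have hoddmem : ∀ P ∈ (oddDiv k u).support, P.ord u % 2 = 1 := by
    intro P hP
    have h := Finsupp.mem_support_iff.mp hP
    rw [oddDiv_apply hF] at h
    omega
  have hf : Function.Bijective f := by
    constructor
    · intro Q₁ Q₂ h12
      have h12' : under Q₁.1 = under Q₂.1 := congrArg Subtype.val h12
      obtain ⟨e, he⟩ := hunder' Q₁.1
      have huniq := (fixed_of_odd hF hdeg hyu σ he (hoddmem _ (hmem Q₁))).1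
      have h3 : IsOver Q₂.1 (under Q₁.1) := h12' ▸ hunder' Q₂.1
      exact Subtype.ext (huniq _ h3).symm
    · intro P
      obtain ⟨Q, e, he⟩ := exists_isOver (K' := K) hF P.1
      have hfix := (fixed_of_odd hF hdeg hyu σ he (hoddmem _ P.2)).2
      refine ⟨⟨Q, hfix⟩, Subtype.ext ?_⟩
      exact isOver_unique (hunder' Q) ⟨e, he⟩
  rw [Nat.card_congr (Equiv.ofBijective f hf), Nat.card_eq_fintype_card, Fintype.card_coe]

/-- **Riemann–Hurwitz for an involution** over an algebraically closed field of characteristic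
`≠ 2`: `#Fix + 4 g_F = 2 g_K + 2` -/
theorem card_fixed_add [IsAlgClosed k] [FiniteDimensional F K] (hF : IsFunctionField k F)
    (hK : IsFunctionField k K) (hdeg : finrank F K = 2) (h2 : (2 : k) ≠ 0) {y : K} {u : F}
    (hyu : y ^ 2 = algebraMap F K u) (hy : y ∉ Set.range (algebraMap F K))
    (σ : K ≃ₐ[F] K) (hσ : σ y = -y) :
    (Nat.card {Q : Place k K // Place.comapK Q σ = Q} : ℤ) + 4 * genus k F =
      2 * genus k K + 2 := by
  have hy0 : y ≠ 0 := fun h0 => hy ⟨0, by rw [h0, map_zero]⟩
  rw [card_fixed hF hdeg h2 hyu hy0 σ hσ (fun Q => Place.deg_eq_one_of_isAlgClosed hK Q),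
    ← deg_oddDiv hF (fun P => Place.deg_eq_one_of_isAlgClosed hF P) u]
  have h1 := genus_formula hF hK hdeg h2 hyu hy
  have h3 := congrArg FunFld.Divisor.deg (div_eq_two_halfDiv_add hF u)
  rw [deg_div hF, Divisor.deg_add, FFConormL.deg_zsmul] at h3
  linarith

end Groth.Agent.H62.FFInvol
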