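import Groth.Agent.H62.FFInvol3
import Groth.Agent.H62.FFSepPlaces1
import Groth.Agent.H55.FFAut
import Groth.Agent.H55.FFRational

/-!
# helper62: the fixed field of an involution of a function field (characteristic `≠ 2`), and
Riemann–Hurwitz for it over an algebraically closed field
-/

set_option autoImplicit false
set_option linter.unusedSectionVars false
set_option linter.style.haveILetI false

namespace Groth.Agent.H62.FFInvol

open FunFld WithZero Module IntermediateField Groth.Agent.H55 Groth.Agent.H62.FFTower
  Groth.Agent.H62.FFExtDeg Groth.Agent.H62.FFConormL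

section sub

variable {k F K : Type*} [Field k] [Field F] [Field K] [Algebra k F] [Algebra k K] [Algebra F K]
  [IsScalarTower k F K]

/-- a subfield of finite index of a function field is a function field -/
theorem isFunctionField_of_finite [FiniteDimensional F K] (hK : IsFunctionField k K) :
    IsFunctionField k F := by
  have hinj := (algebraMap F K).injective
  have hcl : ∀ y : F, IsAlgebraic k y → y ∈ Set.range (algebraMap k F) := by
    intro y hy
    have h1 : IsAlgebraic k (algebraMap F K y) := by
      have : algebraMap F K y = (IsScalarTower.toAlgHom k F K) y := rfl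
      rw [this]
      exact (isAlgebraic_algHom_iff _ (IsScalarTower.toAlgHom k F K).injective).mpr hy
    obtain ⟨c, hc⟩ := hK.2 _ h1
    refine ⟨c, hinj ?_⟩
    rw [← IsScalarTower.algebraMap_apply, hc]
  refine ⟨?_, hcl⟩
  obtain ⟨x₀, hx₀, -⟩ := hK.1
  by_contra hno
  push Not at hno
  have hall : ∀ x : F, IsAlgebraic k x := by
    intro x
    by_contra hx
    have hx' : Transcendental k x := hx
    apply hno x hx'
    have htr' := transcendental_algebraMap (K' := K) hx'
    haveI := finiteDimensional_adjoin_of_transcendental hK htr'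
    have h1 := finrank_adjoin_algebraMap (k := k) (K' := K) x
    have h2 : 0 < finrank k⟮algebraMap F K x⟯ K := Module.finrank_pos
    have : 0 < finrank k⟮x⟯ F := by
      by_contra h0
      have h3 : finrank k⟮x⟯ F = 0 := by omega
      rw [h3, zero_mul] at h1
      omega
    exact Module.finite_of_finrank_pos this
  haveI : Algebra.IsAlgebraic k F := ⟨hall⟩
  haveI : Algebra.IsAlgebraic F K := Algebra.IsAlgebraic.of_finite F K
  have : Algebra.IsAlgebraic k K := Algebra.IsAlgebraic.trans k F K
  exact hx₀ (this.isAlgebraic x₀)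

theorem linearIndependent_one_y {y : K} (hy : y ∉ Set.range (algebraMap F K)) :
    LinearIndependent F ![(1 : K), y] := by
  rw [LinearIndependent.pair_iff]
  intro s t hst
  have ht : t = 0 := by
    by_contra ht
    apply hy
    refine ⟨-s / t, ?_⟩
    have h1 : algebraMap F K t ≠ 0 := by
      rwa [Ne, map_eq_zero_iff _ (algebraMap F K).injective]
    rw [map_div₀, div_eq_iff h1, map_neg]
    rw [Algebra.smul_def, Algebra.smul_def, mul_one] at hst
    linear_combination -hst
  subst ht
  rw [zero_smul, add_zero, Algebra.smul_def, mul_one,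
    map_eq_zero_iff _ (algebraMap F K).injective] at hst
  exact ⟨hst, rfl⟩

end sub

section fixed

variable {k K : Type*} [Field k] [Field K] [Algebra k K]

/-- the fixed field of an automorphism -/
def fixedField (σ : K ≃ₐ[k] K) : IntermediateField k K :=
  (AlgHom.equalizer (σ : K →ₐ[k] K) (AlgHom.id k K)).toIntermediateField (fun x hx => by
    have h1 : σ x = x := hx
    change σ x⁻¹ = x⁻¹
    rw [map_inv₀, h1])

theorem mem_fixedField {σ : K ≃ₐ[k] K} {z : K} : z ∈ fixedField σ ↔ σ z = z := Iff.rfl

/-- the automorphism, over its fixed field -/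
def sigmaF (σ : K ≃ₐ[k] K) : K ≃ₐ[fixedField σ] K :=
  { σ with commutes' := fun z => mem_fixedField.mp z.2 }

theorem sigmaF_apply (σ : K ≃ₐ[k] K) (z : K) : sigmaF σ z = σ z := rfl

theorem comapK_sigmaF (σ : K ≃ₐ[k] K) (Q : Place k K) :
    Place.comapK Q (sigmaF σ) = Place.comapAlg Q σ := by
  apply Place.ext'
  intro x
  rfl

/-- structure of an involution in characteristic `≠ 2` -/
theorem exists_sqrt_gen (h2 : (2 : k) ≠ 0) (σ : K ≃ₐ[k] K) (hσ2 : ∀ z, σ (σ z) = z)
    (hσ1 : ∃ w, σ w ≠ w) :
    ∃ (y : K) (u : fixedField σ), y ^ 2 = algebraMap (fixedField σ) K u ∧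
      y ∉ Set.range (algebraMap (fixedField σ) K) ∧ σ y = -y ∧
      finrank (fixedField σ) K = 2 := by
  obtain ⟨w, hw⟩ := hσ1
  have h2K : (2 : K) ≠ 0 := two_ne_zero_K (K := K) h2
  set y := w - σ w with hy
  have hy0 : y ≠ 0 := by
    rw [hy, sub_ne_zero]
    exact fun h => hw h.symm
  have hσy : σ y = -y := by
    rw [hy, map_sub, hσ2]
    ring
  have hu : y ^ 2 ∈ fixedField σ := by
    rw [mem_fixedField, map_pow, hσy]
    ring
  have hyF : y ∉ Set.range (algebraMap (fixedField σ) K) := by
    rintro ⟨a, ha⟩
    have h1 : σ y = y := by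
      rw [← ha]
      exact mem_fixedField.mp a.2
    rw [hσy] at h1
    have h3 : (2 : K) * y = 0 := by linear_combination -h1
    rcases mul_eq_zero.mp h3 with h | h
    · exact h2K h
    · exact hy0 h
  refine ⟨y, ⟨y ^ 2, hu⟩, rfl, hyF, hσy, ?_⟩
  have hli := linearIndependent_one_y hyF
  have hspan : ⊤ ≤ Submodule.span (fixedField σ) (Set.range ![(1 : K), y]) := by
    intro z _
    have ha : (z + σ z) / 2 ∈ fixedField σ := by
      rw [mem_fixedField, map_div₀, map_add, hσ2, map_ofNat]
      ring
    have hb : (z - σ z) / (2 * y) ∈ fixedField σ := by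
      rw [mem_fixedField, map_div₀, map_sub, hσ2, map_mul, map_ofNat, hσy]
      field_simp
      ring
    rw [Matrix.range_cons, Matrix.range_cons, Matrix.range_empty, Set.union_empty,
      Set.singleton_union, Submodule.mem_span_pair]
    refine ⟨⟨_, ha⟩, ⟨_, hb⟩, ?_⟩
    rw [Algebra.smul_def, Algebra.smul_def, mul_one]
    change (z + σ z) / 2 + (z - σ z) / (2 * y) * y = z
    field_simp
    ring
  have := Module.finrank_eq_card_basis (Basis.mk hli hspan)
  rw [this]
  simp

/-- **Riemann–Hurwitz for an involution** of a function field over an algebraically closed field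
of characteristic `≠ 2` -/
theorem involution_main [IsAlgClosed k] (hK : IsFunctionField k K) (h2 : (2 : k) ≠ 0)
    (σ : K ≃ₐ[k] K) (hσ2 : ∀ z, σ (σ z) = z) (hσ1 : ∃ w, σ w ≠ w) :
    IsFunctionField k (fixedField σ) ∧ finrank (fixedField σ) K = 2 ∧
      (Nat.card {Q : Place k K // Place.comapAlg Q σ = Q} : ℤ) + 4 * genus k (fixedField σ) =
        2 * genus k K + 2 := by
  obtain ⟨y, u, hyu, hyF, hσy, hdeg⟩ := exists_sqrt_gen h2 σ hσ2 hσ1
  haveI : FiniteDimensional (fixedField σ) K := Module.finite_of_finrank_pos (by omega)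
  have hF : IsFunctionField k (fixedField σ) := isFunctionField_of_finite hK
  refine ⟨hF, hdeg, ?_⟩
  have h := card_fixed_add hF hK hdeg h2 hyu hyF (sigmaF σ) hσy
  have hcongr : Nat.card {Q : Place k K // Place.comapK Q (sigmaF σ) = Q} =
      Nat.card {Q : Place k K // Place.comapAlg Q σ = Q} := by
    apply Nat.card_congr
    apply Equiv.subtypeEquivRight
    intro Q
    rw [comapK_sigmaF]
  rw [hcongr] at h
  exact h

end fixed

end Groth.Agent.H62.FFInvol
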