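import Groth.Agent.H62.FFInvol4
import Mathlib.FieldTheory.SeparableDegree

/-!
# helper62: quadratic extensions in characteristic `≠ 2`: a square-root generator, separability,
the conjugation is an involution
-/

set_option autoImplicit false
set_option linter.unusedSectionVars false
set_option linter.style.haveILetI false

namespace Groth.Agent.H62.FFInvol

open Module IntermediateField Polynomial

variable {F K : Type*} [Field F] [Field K] [Algebra F K]

/-- completing the square -/
theorem exists_sqrt_of_finrank_two (h2 : (2 : F) ≠ 0) (hdeg : finrank F K = 2) :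
    ∃ (y : K) (u : F), y ^ 2 = algebraMap F K u ∧ y ∉ Set.range (algebraMap F K) := by
  haveI : FiniteDimensional F K := Module.finite_of_finrank_pos (by omega)
  have h2K : (2 : K) ≠ 0 := by
    have h : algebraMap F K 2 ≠ 0 := by
      rwa [Ne, map_eq_zero_iff _ (algebraMap F K).injective]
    rwa [map_ofNat] at h
  obtain ⟨w, hw⟩ : ∃ w : K, w ∉ Set.range (algebraMap F K) := by
    by_contra hall
    push Not at hall
    have h1 : finrank F K ≤ 1 := finrank_le_one (1 : K) (fun w => by
      obtain ⟨a, ha⟩ := hall w
      exact ⟨a, by rw [Algebra.smul_def, mul_one, ha]⟩)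
    omega
  have hint : IsIntegral F w := IsIntegral.of_finite F w
  have hnat := FFQuad.natDegree_minpoly_eq_two hdeg hw
  have hmonic := minpoly.monic hint
  set p := minpoly F w with hp
  have hroot : aeval w p = 0 := minpoly.aeval F w
  rw [aeval_eq_sum_range, hnat, Finset.sum_range_succ, Finset.sum_range_succ,
    Finset.sum_range_one] at hroot
  have hlead : p.coeff 2 = 1 := by
    have := hmonic.coeff_natDegree
    rwa [hnat] at this
  rw [hlead, one_smul, pow_zero, pow_one, Algebra.smul_def, Algebra.smul_def, mul_one] at hroot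
  set b := p.coeff 1 with hb
  set c := p.coeff 0 with hc
  refine ⟨w + algebraMap F K (b / 2), (b / 2) ^ 2 - c, ?_, ?_⟩
  · have hi : (2 : K) * 2⁻¹ = 1 := mul_inv_cancel₀ h2K
    rw [map_sub, map_pow, map_div₀, map_ofNat, div_eq_mul_inv]
    linear_combination hroot + (algebraMap F K b * w) * hi
  · rintro ⟨a, ha⟩
    apply hw
    refine ⟨a - b / 2, ?_⟩
    rw [map_sub, ha]
    ring

/-- a quadratic extension generated by a square root is separable in characteristic `≠ 2` -/
theorem isSeparable_of_sqrt (h2 : (2 : F) ≠ 0) (hdeg : finrank F K = 2) {y : K} {u : F}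
    (hyu : y ^ 2 = algebraMap F K u) (hy : y ∉ Set.range (algebraMap F K)) :
    Algebra.IsSeparable F K := by
  have hu0 : u ≠ 0 := by
    rintro rfl
    rw [map_zero] at hyu
    exact hy ⟨0, by rw [map_zero, pow_eq_zero_iff (two_ne_zero)] at *; exact hyu.symm⟩
  have hsep : IsSeparable F y := by
    unfold IsSeparable
    rw [FFQuad.minpoly_eq hdeg hy hyu]
    exact separable_X_pow_sub_C u (by exact_mod_cast h2) hu0
  have htop := FFQuad.adjoin_eq_top hdeg hy
  haveI := (isSeparable_adjoin_simple_iff_isSeparable F K).mpr hsep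
  let e : F⟮y⟯ ≃ₐ[F] K := (IntermediateField.equivOfEq htop).trans IntermediateField.topEquiv
  exact AlgEquiv.Algebra.isSeparable e

/-- a quadratic extension in characteristic `≠ 2` is separable -/
theorem isSeparable_of_finrank_two (h2 : (2 : F) ≠ 0) (hdeg : finrank F K = 2) :
    Algebra.IsSeparable F K := by
  obtain ⟨y, u, hyu, hy⟩ := exists_sqrt_of_finrank_two h2 hdeg
  exact isSeparable_of_sqrt h2 hdeg hyu hy

/-- the conjugation is an involution -/
theorem conj_conj (hdeg : finrank F K = 2) {y : K} (hy : y ∉ Set.range (algebraMap F K))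
    (σ : K ≃ₐ[F] K) (hσ : σ y = -y) (z : K) : σ (σ z) = z := by
  obtain ⟨a, b, rfl⟩ := exists_repr hdeg hy z
  rw [FFQuad.conj_apply σ hσ, map_sub, map_mul, σ.commutes, σ.commutes, hσ]
  ring

end Groth.Agent.H62.FFInvol
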