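import Groth.Agent.H62.FFHyper2
import Groth.Agent.H55.FFRational

/-!
Prescribing the leading term at a place by an element of `L(mP)` (large `m`), and the pole
divisor under addition of an element integral away from `P`.
-/

set_option autoImplicit false
set_option linter.unusedSectionVars false

namespace Groth.Agent.H62.FFLead

open FunFld WithZero Module IntermediateField Groth.Agent.H55 Polynomial

variable {k K : Type*} [Field k] [Field K] [Algebra k K]

/-- an element of `L(mP)` with prescribed leading term at `P` -/
theorem exists_mem_L_approx (hK : IsFunctionField k K) (P : Place k K) (m : ℤ)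
    (hg : 2 * (genus k K : ℤ) - 1 ≤ (m - 1) * P.deg) (w : K) (hw : P.1 w ≤ exp m) :
    ∃ g ∈ L (Finsupp.single P m : Divisor k K), P.1 (g - w) ≤ exp (m - 1) := by
  classical
  set D : Divisor k K := Finsupp.single P m with hD
  set D' : Divisor k K := Finsupp.single P (m - 1) with hD'
  have hle : D' ≤ D := by
    intro Q
    rw [hD, hD', Finsupp.single_apply, Finsupp.single_apply]
    split_ifs <;> omega
  have hdegpos : (0 : ℤ) < P.deg := by exact_mod_cast Place.deg_pos hK P
  have hdegD : D.deg = m * P.deg := Divisor.deg_single P m
  have hdegD' : D'.deg = (m - 1) * P.deg := Divisor.deg_single P (m - 1)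
  have hell : (ell D : ℤ) - ell D' = P.deg := by
    rw [ell_of_deg_ge hK D (by rw [hdegD]; nlinarith), ell_of_deg_ge hK D' (by rw [hdegD']; exact hg),
      hdegD, hdegD']
    ring
  have hfinL := L_finite hK D
  have h1 := ell_sub hK hle
  have h2 := Place.ballQuot_finrank hK P (-m)
  have hB : L D ≤ (Place.ball P (-m)).comap LinearMap.id := by
    intro x hx
    rw [Submodule.mem_comap, LinearMap.id_apply, Place.mem_ball, neg_neg]
    have := mem_L.mp hx P
    rwa [hD, Finsupp.single_eq_same] at this
  have hA : L D' ≤ (Place.ball P (-m + 1)).comap LinearMap.id := by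
    intro x hx
    rw [Submodule.mem_comap, LinearMap.id_apply, Place.mem_ball]
    have := mem_L.mp hx P
    rw [hD', Finsupp.single_eq_same] at this
    convert this using 2
    ring
  have hinj : Function.Injective
      (relQMap (LinearMap.id : K →ₗ[k] K) (L D') (L D) (Place.ball P (-m + 1)) (Place.ball P (-m))
        hB hA) := by
    apply relQMap_injective
    intro x hx hx'
    rw [LinearMap.id_apply, Place.mem_ball] at hx'
    rw [mem_L]
    intro Q
    by_cases hQ : Q = P
    · subst hQ
      rw [hD', Finsupp.single_eq_same]
      convert hx' using 2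
      ring
    · have := mem_L.mp hx Q
      rw [hD, Finsupp.single_apply, if_neg (Ne.symm hQ)] at this
      rw [hD', Finsupp.single_apply, if_neg (Ne.symm hQ)]
      exact this
  have hfin2 := h2.1
  have hdim : finrank k (RelQ (L D') (L D)) =
      finrank k (RelQ (Place.ball P (-m + 1)) (Place.ball P (-m))) := by
    rw [h2.2]
    have : (finrank k (RelQ (L D') (L D)) : ℤ) = P.deg := by rw [← h1, hell]
    exact_mod_cast this
  have hsurj := (LinearMap.injective_iff_surjective_of_finrank_eq_finrank hdim).mp hinj
  have hwmem : w ∈ Place.ball P (-m) := by rw [Place.mem_ball, neg_neg]; exact hw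
  obtain ⟨q, hq⟩ := hsurj (Submodule.Quotient.mk ⟨w, hwmem⟩)
  obtain ⟨g, rfl⟩ := Submodule.Quotient.mk_surjective _ q
  rw [relQMap_mk, Submodule.Quotient.eq, Submodule.mem_comap] at hq
  refine ⟨g, g.2, ?_⟩
  have : (g : K) - w ∈ Place.ball P (-m + 1) := hq
  rw [Place.mem_ball] at this
  convert this using 2
  ring

end Groth.Agent.H62.FFLead
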