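import Groth.Agent.H62.FFCondConst
import Groth.Agent.H55.FFApprox
import Mathlib.RingTheory.Valuation.Extension

/-!
# Residue fields at nonsingular places under constant field extension

* `exists_fg_submodule`: the elements of `K'` without poles above `P` lie in a finitely generated
  `O_P`-submodule.
* `Hol P`: the `O_P`-subalgebra of elements without poles above `P`; `isIntegral_of_mem_Hol`.
* `residue_adjoin_eq_top`: **S12589**.
-/

set_option autoImplicit false
set_option linter.unusedSectionVars false

namespace Groth.Agent.H62.FFResConst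

open FunFld WithZero Module Groth.Agent.H55 Groth.Agent.H62.FFIntClos

variable {k K K' : Type*} [Field k] [Field K] [Field K'] [Algebra k K] [Algebra K K']
  [Algebra k K'] [IsScalarTower k K K']

/-- elements without poles above `P` lie in a f.g. `O_P`-module -/
theorem exists_fg_submodule [FiniteDimensional K K'] (hK : IsFunctionField k K)
    (P : Place k K) [Algebra P.O K'] [IsScalarTower P.O K K'] :
    ∃ N : Submodule P.O K', N.FG ∧ ∀ z : K',
      (∀ (Q : Place k K') (e : ℕ), IsOverWith Q P e → Q.1 z ≤ 1) → z ∈ N := by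
  classical
  have hK' : W.IsWeakFF k K' := W.weak_of_finite hK.weak
  let b := Module.finBasis K K'
  obtain ⟨D', hD'⟩ := exists_decomp hK P b
  have hLfin : Module.Finite k (L D') := W.L_finite hK' D'
  obtain ⟨T, hT⟩ := (Module.Finite.iff_fg.mp hLfin)
  set S : Set K' := Set.range b ∪ (T : Set K') with hS
  have hSfin : S.Finite := (Set.finite_range b).union T.finite_toSet
  refine ⟨Submodule.span P.O S, Submodule.fg_span hSfin, fun z hz => ?_⟩
  obtain ⟨a, ha, hv⟩ := hD' z hz
  have h1 : z = (z - ∑ i, a i • b i) + ∑ i, a i • b i := by ring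
  rw [h1]
  apply add_mem
  · have hv' : z - ∑ i, a i • b i ∈ Submodule.span k (T : Set K') := by rw [hT]; exact hv
    refine Submodule.span_induction (p := fun w _ => w ∈ Submodule.span P.O S) ?_ ?_ ?_ ?_ hv'
    · intro w hw
      exact Submodule.subset_span (Or.inr hw)
    · exact zero_mem _
    · intro x y _ _ hx hy
      exact add_mem hx hy
    · intro c x _ hx
      rw [← algebraMap_smul_eq P c x]
      exact Submodule.smul_mem _ _ hx
  · apply Submodule.sum_mem
    intro i _
    have h2 : a i • b i =
        (⟨a i, (Valuation.mem_valuationSubring_iff P.1 _).mpr (ha i)⟩ : P.O) • b i := by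
      rw [smul_eq_of_tower]
    rw [h2]
    exact Submodule.smul_mem _ _ (Submodule.subset_span (Or.inl ⟨i, rfl⟩))

/-- the `O_P`-algebra of elements of `K'` without poles above `P` -/
def Hol (P : Place k K) [Algebra P.O K'] [IsScalarTower P.O K K'] : Subalgebra P.O K' where
  carrier := {z | ∀ (Q : Place k K') (e : ℕ), IsOverWith Q P e → Q.1 z ≤ 1}
  mul_mem' := fun {a b} ha hb Q e he => by
    rw [map_mul]; exact mul_le_one' (ha Q e he) (hb Q e he)
  add_mem' := fun {a b} ha hb Q e he =>
    (Q.1.map_add a b).trans (max_le (ha Q e he) (hb Q e he))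
  algebraMap_mem' := fun a Q e he => by
    rw [IsScalarTower.algebraMap_apply P.O K K', he]
    exact pow_le_one₀ zero_le ((Valuation.mem_valuationSubring_iff P.1 _).mp a.2)

theorem mem_Hol (P : Place k K) [Algebra P.O K'] [IsScalarTower P.O K K'] {z : K'} :
    z ∈ Hol (K' := K') P ↔ ∀ (Q : Place k K') (e : ℕ), IsOverWith Q P e → Q.1 z ≤ 1 := Iff.rfl

/-- elements without poles above `P` are integral over `O_P` -/
theorem isIntegral_of_mem_Hol [FiniteDimensional K K'] (hK : IsFunctionField k K)
    (P : Place k K) [Algebra P.O K'] [IsScalarTower P.O K K'] {z : K'}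
    (hz : z ∈ Hol (K' := K') P) : IsIntegral P.O z := by
  have hnoeth : IsNoetherianRing P.O :=
    (isNoetherianRing_iff_ideal_fg P.O).mpr (W.vs_ideal_fg hK.weak P.O (fun c => P.2.1 c))
  obtain ⟨N, hNfg, hN⟩ := exists_fg_submodule (K' := K') hK P
  have hNnoeth : IsNoetherian P.O N := isNoetherian_of_fg_of_noetherian N hNfg
  have hle : Subalgebra.toSubmodule (Hol (K' := K') P) ≤ N := fun w hw => hN w hw
  have hfg : (Subalgebra.toSubmodule (Hol (K' := K') P)).FG :=
    isNoetherian_submodule.mp hNnoeth _ hle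
  exact IsIntegral.of_mem_of_fg _ hfg z hz

/-- a place with `HasExtension` lies over -/
theorem exists_isOverWith_of_hasExtension [Algebra.IsAlgebraic K K']
    (hK : IsFunctionField k K) (P : Place k K)
    (Q : Place k K') [P.1.HasExtension Q.1] : ∃ e : ℕ, IsOverWith Q P e := by
  obtain ⟨P', e, he⟩ := exists_place_under hK Q
  have he0 : e ≠ 0 := (isOverWith_pos he).ne'
  have hPP' : P = P' := by
    apply Place.eq_of_le
    intro x hx
    have h1 : Q.1 (algebraMap K K' x) ≤ 1 := (Valuation.HasExtension.val_map_le_one_iff P.1 Q.1 x).mpr hx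
    rw [he] at h1
    exact (pow_le_one_iff_of_nonneg zero_le he0).mp h1
  exact ⟨e, hPP' ▸ he⟩

/-- **S12589** -/
theorem residue_adjoin_eq_top {k' : Type*} [Field k'] [Algebra k k'] [FiniteDimensional k k']
    [Algebra k' K'] [IsScalarTower k k' K']
    (h : Function.Bijective (Algebra.TensorProduct.productMap
      (IsScalarTower.toAlgHom k k' K') (IsScalarTower.toAlgHom k K K')))
    (hK : IsFunctionField k K) (P : Place k K) [Algebra P.O K'] [IsScalarTower P.O K K']
    (hns : (integralClosure P.O K').toSubring =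
      (Algebra.adjoin P.O (Set.range (algebraMap k' K'))).toSubring)
    (Q : Place k K') [P.1.HasExtension Q.1] (hk' : ∀ c : k', Q.1 (algebraMap k' K' c) ≤ 1) :
    Algebra.adjoin (IsLocalRing.ResidueField P.O)
      (Set.range fun c : k' => IsLocalRing.residue Q.O ⟨algebraMap k' K' c, hk' c⟩) = ⊤ := by
  classical
  obtain ⟨n, b, -⟩ := FFCondConst.exists_basis h
  have hfinKK' : FiniteDimensional K K' := Module.Finite.of_basis b
  set A := Algebra.adjoin (IsLocalRing.ResidueField P.O)
      (Set.range fun c : k' => IsLocalRing.residue Q.O ⟨algebraMap k' K' c, hk' c⟩) with hA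
  -- elements of `O_P[k']` have residues in `A`
  have key : ∀ r ∈ Algebra.adjoin P.O (Set.range (algebraMap k' K')),
      ∃ hr : Q.1 r ≤ 1, IsLocalRing.residue Q.O ⟨r, hr⟩ ∈ A := by
    intro r hr
    induction hr using Algebra.adjoin_induction with
    | mem x hx =>
      obtain ⟨c, rfl⟩ := hx
      exact ⟨hk' c, Algebra.subset_adjoin ⟨c, rfl⟩⟩
    | algebraMap a =>
      have h1 : algebraMap P.O K' a = algebraMap K K' (a : K) :=
        IsScalarTower.algebraMap_apply P.O K K' a
      have h2 : Q.1 (algebraMap P.O K' a) ≤ 1 := by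
        rw [h1]
        exact (Valuation.HasExtension.val_map_le_one_iff P.1 Q.1 _).mpr
          ((Valuation.mem_valuationSubring_iff P.1 _).mp a.2)
      refine ⟨h2, ?_⟩
      have h3 : (⟨algebraMap P.O K' a, h2⟩ : Q.O) = algebraMap P.O Q.O a := Subtype.ext h1
      rw [h3, ← Valuation.HasExtension.algebraMap_residue_eq_residue_algebraMap]
      exact Subalgebra.algebraMap_mem _ _
    | add x y _ _ hx hy =>
      obtain ⟨hx1, hx2⟩ := hx
      obtain ⟨hy1, hy2⟩ := hy
      have hxy : Q.1 (x + y) ≤ 1 := (Q.1.map_add x y).trans (max_le hx1 hy1)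
      refine ⟨hxy, ?_⟩
      have h3 : (⟨x + y, hxy⟩ : Q.O) = ⟨x, hx1⟩ + ⟨y, hy1⟩ := rfl
      rw [h3, map_add]
      exact add_mem hx2 hy2
    | mul x y _ _ hx hy =>
      obtain ⟨hx1, hx2⟩ := hx
      obtain ⟨hy1, hy2⟩ := hy
      have hxy : Q.1 (x * y) ≤ 1 := by rw [map_mul]; exact mul_le_one' hx1 hy1
      refine ⟨hxy, ?_⟩
      have h3 : (⟨x * y, hxy⟩ : Q.O) = ⟨x, hx1⟩ * ⟨y, hy1⟩ := rfl
      rw [h3, map_mul]
      exact mul_mem hx2 hy2
  rw [eq_top_iff]
  intro zbar _
  obtain ⟨z, rfl⟩ := IsLocalRing.residue_surjective zbar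
  -- approximate `z` by an element without poles above `P`
  have hfin : {Q' : Place k K' | IsOver Q' P}.Finite := (sum_ramIdx_mul_deg (K' := K') hK P).1
  obtain ⟨r, hr⟩ := Place.weak_approx_le hfin.toFinset
    (fun Q' => if Q' = Q then (z : K') else 0) 1
  have hQS : Q ∈ hfin.toFinset := by
    rw [Set.Finite.mem_toFinset]
    exact exists_isOverWith_of_hasExtension hK P Q
  have hexp : exp (-1 : ℤ) < (1 : WithZero (Multiplicative ℤ)) := by
    rw [← exp_zero, exp_lt_exp]; norm_num
  have hrz : Q.1 (r - z) < 1 := by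
    have := hr Q hQS
    rw [if_pos rfl] at this
    exact this.trans_lt hexp
  have hzle : Q.1 (z : K') ≤ 1 := (Valuation.mem_valuationSubring_iff Q.1 _).mp z.2
  have hrHol : r ∈ Hol (K' := K') P := by
    intro Q' e he
    have hQ'S : Q' ∈ hfin.toFinset := by
      rw [Set.Finite.mem_toFinset]
      exact ⟨e, he⟩
    have := hr Q' hQ'S
    by_cases hQ' : Q' = Q
    · subst hQ'
      have h1 : r = (r - z) + z := by ring
      rw [h1]
      exact (Q'.1.map_add _ _).trans (max_le hrz.le hzle)
    · rw [if_neg hQ', sub_zero] at this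
      exact this.trans hexp.le
  have hrint : IsIntegral P.O r := isIntegral_of_mem_Hol hK P hrHol
  have hradj : r ∈ Algebra.adjoin P.O (Set.range (algebraMap k' K')) := by
    have h1 : r ∈ (integralClosure P.O K').toSubring := hrint
    rw [hns] at h1
    exact h1
  obtain ⟨hr1, hr2⟩ := key r hradj
  have heq : IsLocalRing.residue Q.O z = IsLocalRing.residue Q.O ⟨r, hr1⟩ := by
    rw [← sub_eq_zero, ← map_sub, Place.residue_eq_zero_iff]
    show Q.1 ((z : K') - r) < 1
    rw [← Valuation.map_neg, neg_sub]
    exact hrz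
  rw [heq]
  exact hr2

end Groth.Agent.H62.FFResConst
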