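import Groth.Agent.H62.FFConstField
import Groth.Agent.H62.FFResConst
import Groth.Agent.H62.FFTower
import Mathlib.RingTheory.TensorProduct.Free
import Mathlib.RingTheory.Adjoin.Basic

/-!
# Nonsingularity in towers of constant field extensions: translation lemmas
-/

set_option autoImplicit false
set_option linter.unusedSectionVars false

namespace Groth.Agent.H62.FFNSTower

open FunFld WithZero Module Groth.Agent.H55
open scoped TensorProduct

section basis

variable {k k' K L : Type*} [Field k] [Field k'] [Field K] [Field L]
  [Algebra k k'] [Algebra k K] [Algebra K L] [Algebra k' L] [Algebra k L]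
  [IsScalarTower k k' L] [IsScalarTower k K L]

/-- a `K`-basis of `L = k' ⊗ K` coming from a given `k`-basis of `k'` -/
theorem exists_basis_of_basis {ι : Type*} (c : Basis ι k k')
    (h : Function.Bijective (Algebra.TensorProduct.productMap
      (IsScalarTower.toAlgHom k k' L) (IsScalarTower.toAlgHom k K L))) :
    ∃ b : Basis ι K L, ∀ i, b i = algebraMap k' L (c i) := by
  let f : K ⊗[k] k' →ₐ[K] L := Algebra.TensorProduct.productLeftAlgHom (Algebra.ofId K L)
    (IsScalarTower.toAlgHom k k' L)
  have hf : ∀ z : K ⊗[k] k', f z = Algebra.TensorProduct.productMap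
      (IsScalarTower.toAlgHom k k' L) (IsScalarTower.toAlgHom k K L)
      (Algebra.TensorProduct.comm k K k' z) := by
    intro z
    induction z using TensorProduct.induction_on with
    | zero => simp
    | tmul a b =>
      show algebraMap K L a * algebraMap k' L b = _
      rw [Algebra.TensorProduct.comm_tmul, Algebra.TensorProduct.productMap_apply_tmul]
      exact mul_comm _ _
    | add x y hx hy => rw [map_add, map_add, map_add, hx, hy]
  have hbij : Function.Bijective f.toLinearMap := by
    constructor
    · intro z w hzw
      have h1 : f z = f w := hzw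
      rw [hf, hf] at h1
      exact (Algebra.TensorProduct.comm k K k').injective (h.1 h1)
    · intro z
      obtain ⟨w, hw⟩ := h.2 z
      refine ⟨(Algebra.TensorProduct.comm k K k').symm w, ?_⟩
      show f _ = z
      rw [hf, AlgEquiv.apply_symm_apply, hw]
  let B₀ : Basis ι K (K ⊗[k] k') := Algebra.TensorProduct.basis K c
  refine ⟨B₀.map (LinearEquiv.ofBijective f.toLinearMap hbij), fun i => ?_⟩
  rw [Basis.map_apply, Algebra.TensorProduct.basis_apply]
  show algebraMap K L 1 * algebraMap k' L (c i) = algebraMap k' L (c i)
  rw [map_one, one_mul]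

variable {ι : Type*} [Fintype ι] (c : Basis ι k k') (b : Basis ι K L)
  (hb : ∀ i, b i = algebraMap k' L (c i))

include hb in
theorem repr_algebraMap (x : k') (i : ι) :
    b.repr (algebraMap k' L x) i = algebraMap k K (c.repr x i) := by
  have h1 : algebraMap k' L x = ∑ j, (algebraMap k K (c.repr x j)) • b j := by
    conv_lhs => rw [← c.sum_repr x]
    rw [map_sum]
    apply Finset.sum_congr rfl
    intro j _
    rw [hb j, Algebra.smul_def (c.repr x j) (c j), map_mul, ← IsScalarTower.algebraMap_apply k k' L,
      IsScalarTower.algebraMap_apply k K L, Algebra.smul_def]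
  rw [h1, b.repr_sum_self]

variable (O : Subring K) (hO : ∀ a : k, algebraMap k K a ∈ O)

include hb hO in
/-- `O[k']` consists of the elements with coordinates in `O` -/
theorem mem_adjoin_iff (z : L) :
    z ∈ Algebra.adjoin (O.map (algebraMap K L)) (Set.range (algebraMap k' L)) ↔
      ∀ i, b.repr z i ∈ O := by
  constructor
  · intro hz
    have h1 : z ∈ Submodule.span (O.map (algebraMap K L))
        (Submonoid.closure (Set.range (algebraMap k' L)) : Set L) := by
      rw [← Algebra.adjoin_eq_span]; exact hz
    have h2 : (Submonoid.closure (Set.range (algebraMap k' L)) : Set L) =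
        Set.range (algebraMap k' L) := by
      have h3 : Set.range (algebraMap k' L) = ((algebraMap k' L).range.toSubmonoid : Set L) := rfl
      rw [h3, Submonoid.closure_eq]
    rw [h2] at h1
    refine Submodule.span_induction (p := fun w _ => ∀ i, b.repr w i ∈ O) ?_ ?_ ?_ ?_ h1
    · rintro _ ⟨x, rfl⟩ i
      rw [repr_algebraMap c b hb]
      exact hO _
    · intro i
      rw [map_zero, Finsupp.zero_apply]
      exact O.zero_mem
    · intro x y _ _ hx hy i
      rw [map_add, Finsupp.add_apply]
      exact O.add_mem (hx i) (hy i)
    · rintro ⟨r, a, ha, rfl⟩ x _ hx i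
      have h3 : (⟨algebraMap K L a, ⟨a, ha, rfl⟩⟩ : O.map (algebraMap K L)) • x = a • x := by
        rw [Algebra.smul_def, Algebra.smul_def]; rfl
      rw [h3, map_smul, Finsupp.smul_apply, smul_eq_mul]
      exact O.mul_mem ha (hx i)
  · intro hz
    rw [← b.sum_repr z]
    apply Subalgebra.sum_mem
    intro i _
    have h1 : b.repr z i • b i = algebraMap (O.map (algebraMap K L)) L
        ⟨algebraMap K L (b.repr z i), ⟨_, hz i, rfl⟩⟩ * b i := by
      rw [Algebra.smul_def]; rfl
    rw [h1]
    exact Subalgebra.mul_mem _ (Subalgebra.algebraMap_mem _ _)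
      (Algebra.subset_adjoin ⟨c i, (hb i).symm⟩)

include hO in
/-- `O[k']` is integral over `O` -/
theorem adjoin_le_integralClosure [Algebra.IsIntegral k k'] :
    Algebra.adjoin (O.map (algebraMap K L)) (Set.range (algebraMap k' L)) ≤
      integralClosure (O.map (algebraMap K L)) L := by
  apply Algebra.adjoin_le
  rintro _ ⟨x, rfl⟩
  obtain ⟨p, hmon, hp⟩ := Algebra.IsIntegral.isIntegral (R := k) x
  let φ : k →+* (O.map (algebraMap K L)) :=
    ((algebraMap K L).comp (algebraMap k K)).codRestrict _ (fun a => ⟨algebraMap k K a, hO a, rfl⟩)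
  refine ⟨p.map φ, hmon.map φ, ?_⟩
  rw [Polynomial.eval₂_map]
  have h1 : (algebraMap (O.map (algebraMap K L)) L).comp φ =
      (algebraMap k' L).comp (algebraMap k k') := by
    ext a
    show algebraMap K L (algebraMap k K a) = algebraMap k' L (algebraMap k k' a)
    rw [← IsScalarTower.algebraMap_apply, ← IsScalarTower.algebraMap_apply]
  rw [h1, ← Polynomial.hom_eval₂, hp, map_zero]

end basis

section integral

variable {L : Type*} [Field L]

/-- transfer of integrality along a ring hom into a subring compatible with the structure maps -/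
theorem mem_integralClosure_of_ringHom {A : Type*} [CommRing A] [Algebra A L] (R₀ : Subring L)
    (φ : A →+* R₀) (hφ : ∀ a, ((φ a : R₀) : L) = algebraMap A L a) {z : L}
    (hz : IsIntegral A z) : z ∈ integralClosure R₀ L := by
  obtain ⟨p, hmon, hp⟩ := hz
  refine ⟨p.map φ, hmon.map φ, ?_⟩
  rw [Polynomial.eval₂_map]
  have h1 : (algebraMap R₀ L).comp φ = algebraMap A L := by
    ext a
    exact hφ a
  rw [h1]
  exact hp

end integral

section places

variable {k K L : Type*} [Field k] [Field K] [Field L] [Algebra k K] [Algebra K L]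
  [Algebra k L] [IsScalarTower k K L]

/-- elements integral over the image of `O_P` have no poles above `P` -/
theorem val_le_one_of_mem_integralClosure (P : Place k K) {Q : Place k L} {e : ℕ}
    (he : IsOverWith Q P e) {z : L}
    (hz : z ∈ integralClosure (P.O.toSubring.map (algebraMap K L)) L) : Q.1 z ≤ 1 := by
  obtain ⟨p, hmon, hp⟩ := hz
  apply FFUnram.val_le_one_of_monic_root (K := L) Q
    (φ := p.map (algebraMap (P.O.toSubring.map (algebraMap K L)) L)) (hmon.map _)
  · rw [Polynomial.aeval_def, Polynomial.eval₂_map]
    exact hp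
  · intro i
    rw [Polynomial.coeff_map]
    obtain ⟨a, ha, h⟩ := (p.coeff i).2
    show Q.1 ((p.coeff i : P.O.toSubring.map (algebraMap K L)) : L) ≤ 1
    rw [← h]
    show Q.1 (algebraMap K L a) ≤ 1
    rw [he]
    exact pow_le_one₀ zero_le ha

/-- elements without poles above `P` are integral over the image of `O_P` -/
theorem mem_integralClosure_of_noPoles [FiniteDimensional K L] (hK : IsFunctionField k K)
    (P : Place k K) {z : L} (hz : ∀ Q : Place k L, IsOver Q P → Q.1 z ≤ 1) :
    z ∈ integralClosure (P.O.toSubring.map (algebraMap K L)) L := by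
  have h1 : IsIntegral P.O z :=
    FFResConst.isIntegral_of_mem_Hol hK P (fun Q e he => hz Q ⟨e, he⟩)
  let φ : P.O →+* (P.O.toSubring.map (algebraMap K L)) :=
    ((algebraMap K L).comp P.O.subtype).codRestrict _ (fun a => ⟨(a : K), a.2, rfl⟩)
  exact mem_integralClosure_of_ringHom _ φ (fun a => rfl) h1

end places

end Groth.Agent.H62.FFNSTower
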