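import Groth.Agent.H62.FFNSTower1
import Groth.Agent.H55.WExt3
import Groth.Agent.H55.FFApprox
import Mathlib.RingTheory.AlgebraTower

/-!
# Nonsingularity in towers of constant field extensions: the coordinate arguments
-/

set_option autoImplicit false
set_option linter.unusedSectionVars false

namespace Groth.Agent.H62.FFNSTower

open FunFld WithZero Module Groth.Agent.H55 Groth.Agent.H62.FFTower
open scoped TensorProduct

section general

variable {k K L : Type*} [Field k] [Field K] [Field L] [Algebra k K] [Algebra K L]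
  [Algebra k L] [IsScalarTower k K L]

/-- a bound for the poles of `z` on a finite set of places -/
theorem exists_bound (T : Finset (Place k L)) (z : L) :
    ∃ N : ℕ, ∀ R ∈ T, R.1 z ≤ exp (N : ℤ) := by
  classical
  refine ⟨∑ R ∈ T, (log (R.1 z)).toNat, ?_⟩
  intro R hR
  by_cases h0 : R.1 z = 0
  · rw [h0]; exact zero_le
  rw [← log_le_iff_le_exp h0]
  have h1 : (log (R.1 z)).toNat ≤ ∑ R ∈ T, (log (R.1 z)).toNat :=
    Finset.single_le_sum (f := fun R : Place k L => (log (R.1 z)).toNat)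
      (fun _ _ => Nat.zero_le _) hR
  have h2 : log (R.1 z) ≤ (log (R.1 z)).toNat := Int.self_le_toNat _
  have h3 : (((log (R.1 z)).toNat : ℕ) : ℤ) ≤ ((∑ R ∈ T, (log (R.1 z)).toNat : ℕ) : ℤ) := by
    exact_mod_cast h1
  omega

/-- an element with integral coordinates with respect to a basis of constants has no poles -/
theorem val_le_one_of_coord {ι : Type*} [Fintype ι] (b : Basis ι K L) {P : Place k K}
    {Q : Place k L} {e : ℕ} (he : IsOverWith Q P e) (hbQ : ∀ i, Q.1 (b i) ≤ 1) {w : L}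
    (hw : ∀ i, P.1 (b.repr w i) ≤ 1) : Q.1 w ≤ 1 := by
  rw [← b.sum_repr w]
  apply Valuation.map_sum_le
  intro i _
  rw [Algebra.smul_def, map_mul, he]
  exact mul_le_one' (pow_le_one₀ zero_le (hw i)) (hbQ i)

end general

section tower

variable {k k' k'' K K' K'' : Type*} [Field k] [Field k'] [Field k''] [Field K] [Field K']
  [Field K'']
  [Algebra k k'] [Algebra k' k''] [Algebra k k''] [IsScalarTower k k' k'']
  [Algebra k K] [Algebra K K'] [Algebra k' K'] [Algebra k K'] [IsScalarTower k k' K']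
  [IsScalarTower k K K']
  [Algebra K' K''] [Algebra k'' K''] [Algebra k' K''] [Algebra k K''] [Algebra K K'']
  [IsScalarTower k' k'' K''] [IsScalarTower k' K' K''] [IsScalarTower K K' K'']
  [IsScalarTower k K K''] [IsScalarTower k K' K'']

variable {ι' ι'' : Type*} [Fintype ι'] [Fintype ι'']
  (c' : Basis ι' k k') (b' : Basis ι' K K') (hb' : ∀ i, b' i = algebraMap k' K' (c' i))
  (c'' : Basis ι'' k' k'') (b'' : Basis ι'' K' K'') (hb'' : ∀ j, b'' j = algebraMap k'' K'' (c'' j))

include hb' hb'' in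
theorem smulTower_eq (ij : ι' × ι'') :
    (b'.smulTower b'') ij = algebraMap k'' K'' ((c'.smulTower c'') ij) := by
  obtain ⟨i, j⟩ := ij
  rw [Basis.smulTower_apply, Basis.smulTower_apply, hb', hb'', Algebra.smul_def,
    ← IsScalarTower.algebraMap_apply k' K' K'', Algebra.smul_def (c' i) (c'' j), map_mul,
    ← IsScalarTower.algebraMap_apply k' k'' K'']

/-- (⟸) of the tower statement, in coordinates -/
theorem coord_of_tower [FiniteDimensional K K'] [FiniteDimensional K' K'']
    (hK : IsFunctionField k K) (P : Place k K)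
    (hyp1 : ∀ z : K', (∀ Q : Place k K', IsOver Q P → Q.1 z ≤ 1) → ∀ i, P.1 (b'.repr z i) ≤ 1)
    (hyp2 : ∀ Q : Place k K', IsOver Q P → ∀ z : K'',
      z ∈ integralClosure (Q.O.toSubring.map (algebraMap K' K'')) K'' →
        ∀ j, Q.1 (b''.repr z j) ≤ 1)
    (z : K'') (hz : ∀ R : Place k K'', IsOver R P → R.1 z ≤ 1) (ij : ι' × ι'') :
    P.1 ((b'.smulTower b'').repr z ij) ≤ 1 := by
  have hfd : FiniteDimensional K K'' := Module.Finite.trans K' K''
  rw [Basis.smulTower_repr]
  apply hyp1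
  intro Q hQ
  apply hyp2 Q hQ z
  have h1 : IsIntegral P.O z :=
    FFResConst.isIntegral_of_mem_Hol hK P (fun R e he => hz R ⟨e, he⟩)
  obtain ⟨e, he⟩ := hQ
  let φ : P.O →+* (Q.O.toSubring.map (algebraMap K' K'')) :=
    ((algebraMap K K'').comp P.O.subtype).codRestrict _ (fun a => by
      refine ⟨algebraMap K K' (a : K), ?_, ?_⟩
      · show Q.1 (algebraMap K K' (a : K)) ≤ 1
        rw [he]
        exact pow_le_one₀ zero_le a.2
      · exact (IsScalarTower.algebraMap_apply K K' K'' (a : K)).symm)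
  exact mem_integralClosure_of_ringHom _ φ (fun a => rfl) h1

include hb' hb'' in
/-- (⟹), first half: descent of nonsingularity to the intermediate level -/
theorem coord_descent [FiniteDimensional K K'] [FiniteDimensional K' K'']
    (hK : IsFunctionField k K) (P : Place k K)
    (hyp : ∀ z : K'', (∀ R : Place k K'', IsOver R P → R.1 z ≤ 1) →
      ∀ ij, P.1 ((b'.smulTower b'').repr z ij) ≤ 1)
    (z : K') (hz : ∀ Q : Place k K', IsOver Q P → Q.1 z ≤ 1) (i : ι') :
    P.1 (b'.repr z i) ≤ 1 := by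
  classical
  have hK' : W.IsWeakFF k K' := W.weak_of_finite hK.weak
  have halg : Algebra.IsAlgebraic K' K'' := Algebra.IsAlgebraic.of_finite K' K''
  have halg' : Algebra.IsAlgebraic K K' := Algebra.IsAlgebraic.of_finite K K'
  -- `z` has no poles above `P` in `K''`
  have hz' : ∀ R : Place k K'', IsOver R P → R.1 (algebraMap K' K'' z) ≤ 1 := by
    intro R hR
    obtain ⟨Q, hRQ⟩ := exists_isOver_weak hK' R
    have hQP : IsOver Q P := isOver_of_isOver_of_isOver hK.weak hRQ hR
    obtain ⟨e, he⟩ := hRQ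
    rw [he]
    exact pow_le_one₀ zero_le (hz Q hQP)
  have h1 := hyp _ hz'
  -- the coordinates of `1`
  obtain ⟨j₀, hj₀⟩ : ∃ j, c''.repr 1 j ≠ 0 := by
    by_contra hcon
    push Not at hcon
    have : c''.repr 1 = 0 := Finsupp.ext hcon
    rw [map_eq_zero_iff _ c''.repr.injective] at this
    exact one_ne_zero this
  set ν := c''.repr 1 j₀ with hν
  have h2 : b''.repr (algebraMap K' K'' z) j₀ = z * algebraMap k' K' ν := by
    have h3 : algebraMap K' K'' z = z • (algebraMap k'' K'' 1) := by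
      rw [map_one, Algebra.smul_def, mul_one]
    rw [h3, map_smul, Finsupp.smul_apply, repr_algebraMap c'' b'' hb'', smul_eq_mul]
  have h4 : ∀ i, P.1 (b'.repr (z * algebraMap k' K' ν) i) ≤ 1 := by
    intro i
    have := h1 (i, j₀)
    rwa [Basis.smulTower_repr_mk, h2] at this
  -- pass to the ring `O_P[k']`
  have hO : ∀ a : k, algebraMap k K a ∈ P.O.toSubring := fun a => P.2.1 a
  have h5 : z * algebraMap k' K' ν ∈
      Algebra.adjoin (P.O.toSubring.map (algebraMap K K')) (Set.range (algebraMap k' K')) :=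
    (mem_adjoin_iff c' b' hb' P.O.toSubring hO _).mpr h4
  have h6 : algebraMap k' K' ν⁻¹ ∈
      Algebra.adjoin (P.O.toSubring.map (algebraMap K K')) (Set.range (algebraMap k' K')) :=
    Algebra.subset_adjoin ⟨ν⁻¹, rfl⟩
  have h7 : z = z * algebraMap k' K' ν * algebraMap k' K' ν⁻¹ := by
    rw [mul_assoc, ← map_mul, mul_inv_cancel₀ hj₀, map_one, mul_one]
  have h8 := Subalgebra.mul_mem _ h5 h6
  rw [← h7] at h8
  exact (mem_adjoin_iff c' b' hb' P.O.toSubring hO z).mp h8 i

include hb' in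
/-- (⟹), second half: nonsingularity of the places above `P` -/
theorem coord_above [FiniteDimensional K K'] [FiniteDimensional K' K''] [Algebra.IsAlgebraic k k']
    (hK : IsFunctionField k K) (P : Place k K)
    (hyp : ∀ z : K'', (∀ R : Place k K'', IsOver R P → R.1 z ≤ 1) →
      ∀ ij, P.1 ((b'.smulTower b'').repr z ij) ≤ 1)
    (Q : Place k K') (hQ : IsOver Q P)
    (z : K'') (hz : ∀ R : Place k K'', IsOver R Q → R.1 z ≤ 1) (j : ι'') :
    Q.1 (b''.repr z j) ≤ 1 := by
  classical
  have hfd : FiniteDimensional K K'' := Module.Finite.trans K' K''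
  have hK' : W.IsWeakFF k K' := W.weak_of_finite hK.weak
  have halg : Algebra.IsAlgebraic K' K'' := Algebra.IsAlgebraic.of_finite K' K''
  have halg' : Algebra.IsAlgebraic K K' := Algebra.IsAlgebraic.of_finite K K'
  have hfinS : {Q' : Place k K' | IsOver Q' P}.Finite := (sum_ramIdx_mul_deg (K' := K') hK P).1
  have hfinT : {R : Place k K'' | IsOver R P}.Finite := (sum_ramIdx_mul_deg (K' := K'') hK P).1
  obtain ⟨N, hN⟩ := exists_bound hfinT.toFinset z
  obtain ⟨s, hs⟩ := Place.weak_approx_le hfinS.toFinset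
    (fun Q' => if Q' = Q then (1 : K') else 0) ((N : ℤ) + 1)
  have hsQ : Q.1 s = 1 := by
    have h1 := hs Q (hfinS.mem_toFinset.mpr hQ)
    rw [if_pos rfl] at h1
    have h2 : Q.1 (s - 1) < 1 := by
      refine lt_of_le_of_lt h1 ?_
      rw [← exp_zero, exp_lt_exp]
      omega
    have h3 : s = 1 + (s - 1) := by ring
    rw [h3, Valuation.map_add_eq_of_lt_left, map_one]
    rwa [map_one]
  have hsQ' : ∀ Q' : Place k K', IsOver Q' P → Q' ≠ Q → Q'.1 s ≤ exp (-(N : ℤ)) := by
    intro Q' hQ' hne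
    have h1 := hs Q' (hfinS.mem_toFinset.mpr hQ')
    rw [if_neg hne, sub_zero] at h1
    refine h1.trans ?_
    rw [exp_le_exp]
    omega
  -- `s z` has no poles above `P`
  have hsz : ∀ R : Place k K'', IsOver R P → R.1 (s • z) ≤ 1 := by
    intro R hR
    obtain ⟨Q', hRQ'⟩ := exists_isOver_weak hK' R
    have hQ'P : IsOver Q' P := isOver_of_isOver_of_isOver hK.weak hRQ' hR
    rw [Algebra.smul_def, map_mul]
    by_cases hQQ : Q' = Q
    · subst hQQ
      obtain ⟨e, he⟩ := hRQ'
      rw [he, hsQ, one_pow, one_mul]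
      exact hz R ⟨e, he⟩
    · obtain ⟨e, he⟩ := hRQ'
      have he0 : e ≠ 0 := (isOverWith_pos he).ne'
      have h1 : Q'.1 s ≤ exp (-(N : ℤ)) := hsQ' Q' hQ'P hQQ
      have h2 : exp (-(N : ℤ)) ≤ (1 : WithZero (Multiplicative ℤ)) := by
        rw [← exp_zero, exp_le_exp]; omega
      have h3 : Q'.1 s ^ e ≤ Q'.1 s := pow_le_of_le_one zero_le (h1.trans h2) he0
      have h4 : R.1 z ≤ exp (N : ℤ) := hN R (hfinT.mem_toFinset.mpr hR)
      rw [he]
      calc Q'.1 s ^ e * R.1 z ≤ exp (-(N : ℤ)) * exp (N : ℤ) := mul_le_mul' (h3.trans h1) h4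
        _ = 1 := by rw [← exp_add, ← exp_zero]; congr 1; omega
  have h1 := hyp _ hsz
  have h2 : ∀ i, P.1 (b'.repr (s * b''.repr z j) i) ≤ 1 := by
    intro i
    have := h1 (i, j)
    rwa [Basis.smulTower_repr_mk, map_smul, Finsupp.smul_apply, smul_eq_mul] at this
  obtain ⟨e, he⟩ := hQ
  have hbQ : ∀ i, Q.1 (b' i) ≤ 1 := by
    intro i
    rw [hb']
    apply FFConstField.val_le_one_of_isAlgebraic Q
    exact (Algebra.IsAlgebraic.isAlgebraic (R := k) (c' i)).algebraMap
  have h3 : Q.1 (s * b''.repr z j) ≤ 1 := val_le_one_of_coord b' he hbQ h2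
  rwa [map_mul, hsQ, one_mul] at h3

end tower

end Groth.Agent.H62.FFNSTower
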