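import Groth.Agent.H62.FFNSTower2

/-!
# Nonsingularity in towers of constant field extensions (S12534)
-/

set_option autoImplicit false
set_option linter.unusedSectionVars false

namespace Groth.Agent.H62.FFNSTower

open FunFld WithZero Module Groth.Agent.H55 Groth.Agent.H62.FFTower
open scoped TensorProduct

section general

variable {k k' K L : Type*} [Field k] [Field k'] [Field K] [Field L]
  [Algebra k k'] [Algebra k K] [Algebra K L] [Algebra k' L] [Algebra k L]
  [IsScalarTower k k' L] [IsScalarTower k K L]
  {ι : Type*} [Fintype ι] (c : Basis ι k k') (b : Basis ι K L)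
  (hb : ∀ i, b i = algebraMap k' L (c i))
  (O : Subring K) (hO : ∀ a : k, algebraMap k K a ∈ O)

include hb hO in
theorem eq_iff_coord [Algebra.IsIntegral k k'] :
    integralClosure (O.map (algebraMap K L)) L =
        Algebra.adjoin (O.map (algebraMap K L)) (Set.range (algebraMap k' L)) ↔
      ∀ z ∈ integralClosure (O.map (algebraMap K L)) L, ∀ i, b.repr z i ∈ O := by
  constructor
  · intro h z hz
    rw [h] at hz
    exact (mem_adjoin_iff c b hb O hO z).mp hz
  · intro h
    exact le_antisymm (fun z hz => (mem_adjoin_iff c b hb O hO z).mpr (h z hz))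
      (adjoin_le_integralClosure O hO)

end general

section tower

variable {k k' k'' K K' K'' : Type*} [Field k] [Field k'] [Field k''] [Field K] [Field K']
  [Field K'']
  [Algebra k k'] [Algebra k' k''] [Algebra k k''] [IsScalarTower k k' k'']
  [FiniteDimensional k k'] [FiniteDimensional k' k'']
  [Algebra k K] [Algebra K K'] [Algebra k' K'] [Algebra k K'] [IsScalarTower k k' K']
  [IsScalarTower k K K']
  [Algebra K' K''] [Algebra k'' K''] [Algebra k' K''] [Algebra k K''] [Algebra K K'']
  [IsScalarTower k' k'' K''] [IsScalarTower k' K' K''] [IsScalarTower K K' K'']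
  [IsScalarTower k K K''] [IsScalarTower k K' K''] [IsScalarTower k k'' K'']

/-- **S12534**, with the derived scalar towers as extra instances -/
theorem tower_iff
    (h1 : Function.Bijective (Algebra.TensorProduct.productMap
      (IsScalarTower.toAlgHom k k' K') (IsScalarTower.toAlgHom k K K')))
    (h2 : Function.Bijective (Algebra.TensorProduct.productMap
      (IsScalarTower.toAlgHom k' k'' K'') (IsScalarTower.toAlgHom k' K' K'')))
    (hK : IsFunctionField k K) (P : Place k K) :
    (integralClosure (P.O.toSubring.map (algebraMap K K'')) K'' =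
        Algebra.adjoin (P.O.toSubring.map (algebraMap K K'')) (Set.range (algebraMap k'' K''))) ↔
      (integralClosure (P.O.toSubring.map (algebraMap K K')) K' =
          Algebra.adjoin (P.O.toSubring.map (algebraMap K K')) (Set.range (algebraMap k' K')) ∧
        ∀ Q : Place k K', IsOver Q P →
          integralClosure (Q.O.toSubring.map (algebraMap K' K'')) K'' =
            Algebra.adjoin (Q.O.toSubring.map (algebraMap K' K''))
              (Set.range (algebraMap k'' K''))) := by
  classical
  have hfdk : FiniteDimensional k k'' := Module.Finite.trans k' k''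
  let c' := Module.finBasis k k'
  let c'' := Module.finBasis k' k''
  obtain ⟨b', hb'⟩ := exists_basis_of_basis (K := K) (L := K') c' h1
  obtain ⟨b'', hb''⟩ := exists_basis_of_basis (K := K') (L := K'') c'' h2
  have hfd' : FiniteDimensional K K' := Module.Finite.of_basis b'
  have hfd'' : FiniteDimensional K' K'' := Module.Finite.of_basis b''
  have hfd : FiniteDimensional K K'' := Module.Finite.trans K' K''
  have hb := smulTower_eq c' b' hb' c'' b'' hb''
  have hO : ∀ a : k, algebraMap k K a ∈ P.O.toSubring := fun a => P.2.1 a
  have hOQ : ∀ Q : Place k K', ∀ a : k', algebraMap k' K' a ∈ Q.O.toSubring := by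
    intro Q a
    apply FFConstField.val_le_one_of_isAlgebraic Q
    exact (Algebra.IsAlgebraic.isAlgebraic (R := k) a).algebraMap
  have E'' := eq_iff_coord (c'.smulTower c'') (b'.smulTower b'') hb P.O.toSubring hO
  have E' := eq_iff_coord c' b' hb' P.O.toSubring hO
  have EQ := fun Q : Place k K' => eq_iff_coord c'' b'' hb'' Q.O.toSubring (hOQ Q)
  constructor
  · intro h
    have hyp : ∀ z : K'', (∀ R : Place k K'', IsOver R P → R.1 z ≤ 1) →
        ∀ ij, P.1 ((b'.smulTower b'').repr z ij) ≤ 1 := fun z hz =>
      E''.mp h z (mem_integralClosure_of_noPoles hK P hz)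
    refine ⟨E'.mpr ?_, fun Q hQ => (EQ Q).mpr ?_⟩
    · intro z hz i
      exact coord_descent c' b' hb' c'' b'' hb'' hK P hyp z
        (fun Q ⟨e, he⟩ => val_le_one_of_mem_integralClosure P he hz) i
    · intro z hz j
      exact coord_above c' b' hb' b'' hK P hyp Q hQ z
        (fun R ⟨e, he⟩ => val_le_one_of_mem_integralClosure Q he hz) j
  · rintro ⟨h', hQ⟩
    refine E''.mpr ?_
    intro z hz ij
    exact coord_of_tower b' b'' hK P
      (fun w hw => E'.mp h' w (mem_integralClosure_of_noPoles hK P hw))
      (fun Q hQP => (EQ Q).mp (hQ Q hQP)) z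
      (fun R ⟨e, he⟩ => val_le_one_of_mem_integralClosure P he hz) ij

end tower

end Groth.Agent.H62.FFNSTower
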