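import Groth.Agent.H55.WLocal
import Groth.Agent.H55.FFApprox
import Groth.Agent.H55.FFZeros
import Mathlib.LinearAlgebra.Quotient.Basic
import Mathlib.LinearAlgebra.Dimension.Constructions

/-!
# The quotient of a semilocal ring of a function field by a principal ideal

If `R ⊆ K'` is the ring of elements without poles at a finite set `Qs` of places, then
`dim_k R/(f) = ∑_{Q ∈ Qs} ord_Q f · deg Q`.
-/

set_option autoImplicit false
set_option linter.unusedSectionVars false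

namespace Groth.Agent.H62.FFNorm

open FunFld WithZero Module Groth.Agent.H55

variable {k K' : Type*} [Field k] [Field K'] [Algebra k K']

section crt

variable {R : Type*} [CommRing R] [Algebra k R] (ι : R →+* K')
  (hk : ∀ c : k, ι (algebraMap k R c) = algebraMap k K' c)
  (Qs : Finset (Place k K'))
  (hR : ∀ z : K', z ∈ ι.range ↔ ∀ Q ∈ Qs, Q.1 z ≤ 1)

include hk hR in
/-- the map `R → ball Q 0` -/
noncomputable def toBall (Q : Qs) : R →ₗ[k] Place.ball Q.1 0 where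
  toFun z := ⟨ι z, by
    rw [Place.mem_ball, neg_zero, exp_zero]
    exact (hR (ι z)).mp ⟨z, rfl⟩ Q.1 Q.2⟩
  map_add' a b := by
    apply Subtype.ext
    show ι (a + b) = ι a + ι b
    exact map_add ι a b
  map_smul' c z := by
    apply Subtype.ext
    show ι (c • z) = c • ι z
    rw [Algebra.smul_def, map_mul, hk, Algebra.smul_def]

theorem toBall_coe (Q : Qs) (z : R) : ((toBall ι hk Qs hR Q z : Place.ball Q.1 0) : K') = ι z := rfl

/-- the Chinese remainder map -/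
noncomputable def crt (m : Qs → ℤ) : R →ₗ[k] (∀ Q : Qs, Place.LocQ Q.1 0 (m Q)) :=
  LinearMap.pi fun Q => (Place.LocQ.mk Q.1 0 (m Q)).comp (toBall ι hk Qs hR Q)

theorem crt_apply (m : Qs → ℤ) (z : R) (Q : Qs) :
    crt ι hk Qs hR m z Q = Place.LocQ.mk Q.1 0 (m Q) (toBall ι hk Qs hR Q z) := rfl

theorem crt_eq_zero_iff (m : Qs → ℤ) (z : R) :
    crt ι hk Qs hR m z = 0 ↔ ∀ Q : Qs, Q.1.1 (ι z) ≤ exp (-(m Q)) := by
  constructor
  · intro h Q
    have h1 := congrFun h Q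
    rw [crt_apply, Pi.zero_apply, Place.LocQ.mk_eq_zero, Place.mem_ball, toBall_coe] at h1
    exact h1
  · intro h
    funext Q
    rw [crt_apply, Pi.zero_apply, Place.LocQ.mk_eq_zero, Place.mem_ball, toBall_coe]
    exact h Q

theorem crt_surjective (m : Qs → ℤ) (hm : ∀ Q, 0 ≤ m Q) :
    Function.Surjective (crt ι hk Qs hR m) := by
  classical
  intro q
  have hl : ∀ Q : Qs, ∃ y : Place.ball Q.1 0, Place.LocQ.mk Q.1 0 (m Q) y = q Q :=
    fun Q => Place.LocQ.mk_surjective _ _ _ (q Q)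
  choose y hy using hl
  obtain ⟨w, hw⟩ := Place.weak_approx_le Qs
    (fun Q => if h : Q ∈ Qs then (y ⟨Q, h⟩ : K') else 0) (∑ Q : Qs, m Q)
  have hw' : ∀ Q : Qs, Q.1.1 (w - (y Q : K')) ≤ exp (-(m Q)) := by
    intro Q
    have h1 := hw Q.1 Q.2
    rw [dif_pos Q.2] at h1
    refine h1.trans (exp_le_exp.mpr ?_)
    have h2 : m Q ≤ ∑ Q : Qs, m Q :=
      Finset.single_le_sum (f := fun Q : Qs => m Q) (fun Q _ => hm Q) (Finset.mem_univ Q)
    omega
  have hwR : w ∈ ι.range := by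
    rw [hR]
    intro Q hQ
    have h1 := hw' ⟨Q, hQ⟩
    have h2 : Q.1 ((y ⟨Q, hQ⟩ : K')) ≤ 1 := by
      have := (y ⟨Q, hQ⟩).2
      rw [Place.mem_ball, neg_zero, exp_zero] at this
      exact this
    have h3 : w = (w - (y ⟨Q, hQ⟩ : K')) + (y ⟨Q, hQ⟩ : K') := by ring
    rw [h3]
    refine (Q.1.map_add _ _).trans (max_le (h1.trans ?_) h2)
    rw [← exp_zero, exp_le_exp]
    have := hm ⟨Q, hQ⟩
    omega
  obtain ⟨z, rfl⟩ := hwR
  refine ⟨z, ?_⟩
  funext Q
  rw [crt_apply, ← hy Q, ← sub_eq_zero, ← map_sub, Place.LocQ.mk_eq_zero, Place.mem_ball]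
  exact hw' Q

include hk hR in
/-- `dim_k R/(f) = ∑ ord_Q f deg Q` -/
theorem finrank_quot_span (hK' : W.IsWeakFF k K') (hι : Function.Injective ι) {f : R}
    (hf : f ≠ 0) :
    Module.Finite k (R ⧸ Ideal.span {f}) ∧
      (finrank k (R ⧸ Ideal.span {f}) : ℤ) = ∑ Q ∈ Qs, Q.ord (ι f) * (Q.deg : ℤ) := by
  classical
  have hf0 : ι f ≠ 0 := fun h => hf (hι (h.trans (map_zero ι).symm))
  let m : Qs → ℤ := fun Q => Q.1.ord (ι f)
  have hm : ∀ Q, 0 ≤ m Q := by
    intro Q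
    exact (Place.ord_nonneg_iff Q.1 hf0).mpr ((hR (ι f)).mp ⟨f, rfl⟩ Q.1 Q.2)
  have hker : (Ideal.span {f}).restrictScalars k = LinearMap.ker (crt ι hk Qs hR m) := by
    ext z
    rw [Submodule.restrictScalars_mem, LinearMap.mem_ker, crt_eq_zero_iff, Ideal.mem_span_singleton']
    constructor
    · rintro ⟨a, rfl⟩ Q
      rw [map_mul, map_mul]
      have h1 : Q.1.1 (ι a) ≤ 1 := (hR (ι a)).mp ⟨a, rfl⟩ Q.1 Q.2
      have h2 : Q.1.1 (ι f) = exp (-(m Q)) := Place.val_eq_exp_neg_ord Q.1 hf0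
      rw [← h2]
      exact (mul_le_mul' h1 le_rfl).trans_eq (one_mul _)
    · intro h
      have h1 : ι z / ι f ∈ ι.range := by
        rw [hR]
        intro Q hQ
        have h2 := h ⟨Q, hQ⟩
        have h3 : Q.1 (ι f) = exp (-(m ⟨Q, hQ⟩)) := Place.val_eq_exp_neg_ord Q hf0
        rw [← h3] at h2
        rw [map_div₀]
        have h4 : Q.1 (ι f) ≠ 0 := (Valuation.ne_zero_iff _).mpr hf0
        rw [div_le_one₀ (zero_lt_iff.mpr h4)]
        exact h2
      obtain ⟨a, ha⟩ := h1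
      refine ⟨a, hι ?_⟩
      rw [map_mul, ha, div_mul_cancel₀ _ hf0]
  let e : (R ⧸ Ideal.span {f}) ≃ₗ[k] (∀ Q : Qs, Place.LocQ Q.1 0 (m Q)) :=
    (Submodule.Quotient.restrictScalarsEquiv k (Ideal.span {f})).symm.trans
      ((Submodule.quotEquivOfEq _ _ hker).trans
        ((crt ι hk Qs hR m).quotKerEquivOfSurjective (crt_surjective ι hk Qs hR m hm)))
  have hfin : ∀ Q : Qs, Module.Finite k (Place.LocQ Q.1 0 (m Q)) := fun Q =>
    (W.Place.LocQ.finrank hK' Q.1 (hm Q)).1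
  refine ⟨Module.Finite.equiv e.symm, ?_⟩
  rw [e.finrank_eq, Module.finrank_pi_fintype, Nat.cast_sum, ← Finset.sum_coe_sort Qs]
  apply Finset.sum_congr rfl
  intro Q _
  rw [(W.Place.LocQ.finrank hK' Q.1 (hm Q)).2, sub_zero]

end crt

end Groth.Agent.H62.FFNorm
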