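import Groth.Agent.H62.FFNorm1
import Groth.Agent.H62.FFIntClos2
import Groth.Agent.H62.FFResConst
import Mathlib.LinearAlgebra.FreeModule.Norm
import Mathlib.RingTheory.Localization.NormTrace
import Mathlib.RingTheory.DedekindDomain.IntegralClosure

/-!
# The order of a norm: `deg P · v_P(N x) = ∑_{Q | P} deg Q · v_Q(x)`
-/

set_option autoImplicit false
set_option linter.unusedSectionVars false

namespace Groth.Agent.H62.FFNorm

open FunFld WithZero Module Groth.Agent.H55

section loc

variable {k K : Type*} [Field k] [Field K] [Algebra k K]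

theorem ord_prod (P : Place k K) {ι : Type*} (s : Finset ι) (g : ι → K) (hg : ∀ i ∈ s, g i ≠ 0) :
    P.ord (∏ i ∈ s, g i) = ∑ i ∈ s, P.ord (g i) := by
  classical
  induction s using Finset.induction_on with
  | empty => simp [Place.ord_one]
  | insert i s hi ih =>
    rw [Finset.prod_insert hi, Finset.sum_insert hi,
      Place.ord_mul P (hg i (Finset.mem_insert_self i s))
        (Finset.prod_ne_zero_iff.mpr fun j hj => hg j (Finset.mem_insert_of_mem hj)),
      ih fun j hj => hg j (Finset.mem_insert_of_mem hj)]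

theorem ord_unit (P : Place k K) (u : P.Oˣ) : P.ord ((u : P.O) : K) = 0 := by
  have h1 : ((u : P.O) : K) * ((u⁻¹ : P.Oˣ) : P.O) = 1 := by
    have h0 : (u : P.O) * ((u⁻¹ : P.Oˣ) : P.O) = 1 := Units.mul_inv u
    have := congrArg (fun z : P.O => (z : K)) h0
    exact this
  have hu0 : ((u : P.O) : K) ≠ 0 := left_ne_zero_of_mul_eq_one h1
  have hv0 : (((u⁻¹ : P.Oˣ) : P.O) : K) ≠ 0 := right_ne_zero_of_mul_eq_one h1
  have h2 := Place.ord_mul P hu0 hv0
  rw [h1, Place.ord_one] at h2
  have h3 : 0 ≤ P.ord ((u : P.O) : K) := (Place.ord_nonneg_iff P hu0).mpr (u : P.O).2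
  have h4 : 0 ≤ P.ord (((u⁻¹ : P.Oˣ) : P.O) : K) :=
    (Place.ord_nonneg_iff P hv0).mpr ((u⁻¹ : P.Oˣ) : P.O).2
  omega

theorem ord_eq_of_associated (P : Place k K) {a b : P.O} (ha : a ≠ 0) (h : Associated a b) :
    P.ord (a : K) = P.ord (b : K) := by
  obtain ⟨u, rfl⟩ := h
  have ha0 : (a : K) ≠ 0 := fun h0 => ha (Subtype.ext h0)
  have hu0 : ((u : P.O) : K) ≠ 0 := fun h0 => u.ne_zero (Subtype.ext h0)
  have : ((a * u : P.O) : K) = (a : K) * ((u : P.O) : K) := rfl
  rw [this, Place.ord_mul P ha0 hu0, ord_unit, add_zero]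

/-- `dim_k O_P/(a) = v_P(a) deg P` -/
theorem finrank_quot_span_O (hK : W.IsWeakFF k K) (P : Place k K) {a : P.O} (ha : a ≠ 0) :
    Module.Finite k (P.O ⧸ Ideal.span {a}) ∧
      (finrank k (P.O ⧸ Ideal.span {a}) : ℤ) = P.ord (a : K) * (P.deg : ℤ) := by
  have h := finrank_quot_span (R := P.O) P.O.subtype (fun c => rfl) {P} (by
      intro z
      constructor
      · rintro ⟨a, rfl⟩ Q hQ
        rw [Finset.mem_singleton] at hQ
        subst hQ
        exact a.2
      · intro h
        exact ⟨⟨z, h P (Finset.mem_singleton_self P)⟩, rfl⟩) hK Subtype.val_injective ha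
  refine ⟨h.1, ?_⟩
  rw [h.2, Finset.sum_singleton]
  rfl

end loc

section main

variable {k K K' : Type*} [Field k] [Field K] [Field K'] [Algebra k K] [Algebra K K']
  [Algebra k K'] [IsScalarTower k K K']

/-- the `k`-algebra structure on the integral closure of `O_P` -/
@[instance_reducible]
noncomputable def algC (P : Place k K) : Algebra k (integralClosure P.O K') :=
  ((algebraMap P.O (integralClosure P.O K')).comp (algebraMap k P.O)).toAlgebra

attribute [local instance] algC

theorem towerC (P : Place k K) : IsScalarTower k P.O (integralClosure P.O K') :=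
  IsScalarTower.of_algebraMap_eq' rfl

attribute [local instance] towerC

theorem mem_integralClosure_iff [FiniteDimensional K K'] (hK : IsFunctionField k K)
    (P : Place k K) (z : K') :
    z ∈ integralClosure P.O K' ↔ ∀ Q : Place k K', IsOver Q P → Q.1 z ≤ 1 := by
  constructor
  · rintro hz Q ⟨e, he⟩
    exact FFIntClos.val_le_one_of_isIntegral P hz he
  · intro h
    exact FFResConst.isIntegral_of_mem_Hol hK P (fun Q e he => h Q ⟨e, he⟩)

theorem algebraMap_k_C (P : Place k K) (c : k) :
    ((algebraMap k (integralClosure P.O K') c : integralClosure P.O K') : K') =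
      algebraMap k K' c := by
  rw [IsScalarTower.algebraMap_apply k K K']
  rfl

/-- `dim_k C/(f) = ∑_{Q | P} v_Q(f) deg Q` -/
theorem finrank_quot_span_C [FiniteDimensional K K'] (hK : IsFunctionField k K)
    (P : Place k K) (Qs : Finset (Place k K')) (hQs : ∀ Q, Q ∈ Qs ↔ IsOver Q P)
    {f : integralClosure P.O K'} (hf : f ≠ 0) :
    Module.Finite k (integralClosure P.O K' ⧸ Ideal.span {f}) ∧
      (finrank k (integralClosure P.O K' ⧸ Ideal.span {f}) : ℤ) =
        ∑ Q ∈ Qs, Q.ord (f : K') * (Q.deg : ℤ) := by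
  have hK' : W.IsWeakFF k K' := W.weak_of_finite hK.weak
  have h := finrank_quot_span (R := integralClosure P.O K')
    (algebraMap (integralClosure P.O K') K') (fun c => algebraMap_k_C P c) Qs (by
      intro z
      constructor
      · rintro ⟨a, rfl⟩ Q hQ
        exact (mem_integralClosure_iff hK P _).mp a.2 Q ((hQs Q).mp hQ)
      · intro h
        exact ⟨⟨z, (mem_integralClosure_iff hK P z).mpr fun Q hQ => h Q ((hQs Q).mpr hQ)⟩, rfl⟩)
    hK' Subtype.val_injective hf
  exact h

theorem isNoetherianRing_O (hK : IsFunctionField k K) (P : Place k K) : IsNoetherianRing P.O :=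
  (isNoetherianRing_iff_ideal_fg P.O).mpr (W.vs_ideal_fg hK.weak P.O (fun c => P.2.1 c))

/-- the norm from `K'` to `K` of an integral element is the norm from `C` to `O_P` -/
theorem norm_eq_norm_C [FiniteDimensional K K'] (hK : IsFunctionField k K) (P : Place k K)
    (f : integralClosure P.O K') :
    Algebra.norm K (f : K') = ((Algebra.norm P.O f : P.O) : K) := by
  have hnoeth := isNoetherianRing_O hK P
  have hfin : Module.Finite P.O (integralClosure P.O K') := FFIntClos.finite_integralClosure hK P
  have hloc : IsLocalization (Algebra.algebraMapSubmonoid (integralClosure P.O K')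
      (nonZeroDivisors P.O)) K' := IsIntegralClosure.isLocalization P.O K K' _
  have htf : Module.IsTorsionFree P.O K' := .trans_faithfulSMul P.O K K'
  have htf' : Module.IsTorsionFree P.O (integralClosure P.O K') :=
    IsIntegralClosure.isTorsionFree P.O K'
  exact Algebra.norm_localization P.O (nonZeroDivisors P.O) (Rₘ := K) (Sₘ := K') f

/-- `dim_k C/(f) = v_P(N f) deg P` -/
theorem finrank_quot_span_C_eq_ord_norm [FiniteDimensional K K'] (hK : IsFunctionField k K)
    (P : Place k K) {f : integralClosure P.O K'} (hf : f ≠ 0) :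
    (finrank k (integralClosure P.O K' ⧸ Ideal.span {f}) : ℤ) =
      P.ord (Algebra.norm K (f : K')) * (P.deg : ℤ) := by
  classical
  have hnoeth := isNoetherianRing_O hK P
  have hfin : Module.Finite P.O (integralClosure P.O K') := FFIntClos.finite_integralClosure hK P
  have htf : Module.IsTorsionFree P.O K' := .trans_faithfulSMul P.O K K'
  have htf' : Module.IsTorsionFree P.O (integralClosure P.O K') :=
    IsIntegralClosure.isTorsionFree P.O K'
  let b := Module.Free.chooseBasis P.O (integralClosure P.O K')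
  have hI : Ideal.span {f} ≠ ⊥ := Ideal.span_singleton_eq_bot.not.2 hf
  have hfinA : ∀ i, Module.Finite k (P.O ⧸ Ideal.span {Ideal.smithCoeffs b _ hI i}) := fun i =>
    (finrank_quot_span_O hK.weak P (Ideal.smithCoeffs_ne_zero b _ hI i)).1
  rw [Ideal.finrank_quotient_eq_sum k hI b, Nat.cast_sum]
  have h1 : ∀ i, (finrank k (P.O ⧸ Ideal.span {Ideal.smithCoeffs b _ hI i}) : ℤ) =
      P.ord ((Ideal.smithCoeffs b _ hI i : P.O) : K) * (P.deg : ℤ) := fun i =>
    (finrank_quot_span_O hK.weak P (Ideal.smithCoeffs_ne_zero b _ hI i)).2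
  rw [Finset.sum_congr rfl (fun i _ => h1 i), ← Finset.sum_mul]
  congr 1
  have hassoc := associated_norm_prod_smith b hf
  have hN0 : Algebra.norm P.O f ≠ 0 := by
    intro h0
    rw [h0] at hassoc
    have := hassoc.symm.eq_zero_iff.mpr rfl
    rw [Finset.prod_eq_zero_iff] at this
    obtain ⟨i, -, hi⟩ := this
    exact Ideal.smithCoeffs_ne_zero b _ hI i hi
  rw [norm_eq_norm_C hK P f, ord_eq_of_associated P hN0 hassoc]
  have h2 : ((∏ i, Ideal.smithCoeffs b _ hI i : P.O) : K) =
      ∏ i, ((Ideal.smithCoeffs b _ hI i : P.O) : K) := map_prod P.O.subtype _ _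
  rw [h2, ord_prod]
  intro i _ h0
  exact Ideal.smithCoeffs_ne_zero b _ hI i (Subtype.ext h0)

end main

end Groth.Agent.H62.FFNorm
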