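import Groth.Agent.H62.FFNorm2

/-!
# The order of a norm: `deg P · v_P(N x) = ∑_{Q | P} deg Q · v_Q(x)` (S11033)
-/

set_option autoImplicit false
set_option linter.unusedSectionVars false

namespace Groth.Agent.H62.FFNorm

open FunFld WithZero Module Groth.Agent.H55

variable {k K K' : Type*} [Field k] [Field K] [Field K'] [Algebra k K] [Algebra K K']
  [Algebra k K'] [IsScalarTower k K K']

attribute [local instance] algC towerC

theorem ord_norm_of_mem [FiniteDimensional K K'] (hK : IsFunctionField k K)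
    (P : Place k K) (Qs : Finset (Place k K')) (hQs : ∀ Q, Q ∈ Qs ↔ IsOver Q P)
    {y : K'} (hy : y ∈ integralClosure P.O K') (hy0 : y ≠ 0) :
    (P.deg : ℤ) * P.ord (Algebra.norm K y) = ∑ Q ∈ Qs, (Q.deg : ℤ) * Q.ord y := by
  have hf : (⟨y, hy⟩ : integralClosure P.O K') ≠ 0 := fun h => hy0 (congrArg Subtype.val h)
  have h1 := (finrank_quot_span_C hK P Qs hQs hf).2
  have h2 := finrank_quot_span_C_eq_ord_norm hK P hf
  rw [h1] at h2
  rw [mul_comm, ← h2]
  exact Finset.sum_congr rfl fun Q _ => mul_comm _ _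

/-- **S11033** -/
theorem ord_norm [FiniteDimensional K K'] (hK : IsFunctionField k K)
    (P : Place k K) (x : K') (Qs : Finset (Place k K')) (hQs : ∀ Q, Q ∈ Qs ↔ IsOver Q P) :
    (P.deg : ℤ) * P.ord (Algebra.norm K x) = ∑ Q ∈ Qs, (Q.deg : ℤ) * Q.ord x := by
  by_cases hx : x = 0
  · subst hx
    rw [Algebra.norm_zero, Place.ord_zero, mul_zero]
    symm
    apply Finset.sum_eq_zero
    intro Q _
    rw [Place.ord_zero, mul_zero]
  have hxint : IsIntegral K x := Algebra.IsIntegral.isIntegral x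
  obtain ⟨m, hm⟩ := IsIntegral.exists_multiple_integral_of_isLocalization
    (nonZeroDivisors P.O) x hxint
  have hm0 : (m : P.O) ≠ 0 := nonZeroDivisors.coe_ne_zero m
  set a : K' := algebraMap P.O K' (m : P.O) with ha
  have ha0 : a ≠ 0 := by
    rw [ha, IsScalarTower.algebraMap_apply P.O K K']
    intro h0
    have h1 := (map_eq_zero (algebraMap K K')).mp h0
    exact hm0 (Subtype.ext h1)
  have hmx : m • x = a * x := by
    rw [Submonoid.smul_def, Algebra.smul_def]
  rw [hmx] at hm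
  have haint : a ∈ integralClosure P.O K' := isIntegral_algebraMap
  have hax0 : a * x ≠ 0 := mul_ne_zero ha0 hx
  have h1 := ord_norm_of_mem hK P Qs hQs hm hax0
  have h2 := ord_norm_of_mem hK P Qs hQs haint ha0
  have hNa : Algebra.norm K a ≠ 0 := Algebra.norm_ne_zero_iff.mpr ha0
  have hNx : Algebra.norm K x ≠ 0 := Algebra.norm_ne_zero_iff.mpr hx
  rw [map_mul, Place.ord_mul P hNa hNx] at h1
  have h3 : ∑ Q ∈ Qs, (Q.deg : ℤ) * Q.ord (a * x) =
      ∑ Q ∈ Qs, (Q.deg : ℤ) * Q.ord a + ∑ Q ∈ Qs, (Q.deg : ℤ) * Q.ord x := by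
    rw [← Finset.sum_add_distrib]
    apply Finset.sum_congr rfl
    intro Q _
    rw [Place.ord_mul Q ha0 hx, mul_add]
  rw [h3] at h1
  linarith

end Groth.Agent.H62.FFNorm
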