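import Groth.Agent.H55.FFRational
import Groth.Agent.H55.FFRR2
import Groth.Agent.H55.FFGenus
import Groth.Agent.H55.FFCond

/-!
# helper62: a function field of genus zero with a divisor of odd degree is rational
-/

set_option autoImplicit false
set_option linter.unusedSectionVars false

namespace Groth.Agent.H62.FFOddDeg

open FunFld WithZero Module IntermediateField Groth.Agent.H55

variable {k K : Type*} [Field k] [Field K] [Algebra k K]

theorem deg_zsmul (n : ℤ) (D : Divisor k K) : (n • D).deg = n * D.deg := by
  let degHom : Divisor k K →+ ℤ :=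
    { toFun := FunFld.Divisor.deg
      map_zero' := Divisor.deg_zero
      map_add' := Divisor.deg_add }
  have := map_zsmul degHom n D
  rw [smul_eq_mul] at this
  exact this

/-- an effective divisor of degree one gives a place of degree one -/
theorem exists_place_deg_one_of_effective (hK : IsFunctionField k K) {E : Divisor k K}
    (hE : 0 ≤ E) (hdeg : E.deg = 1) : ∃ P : Place k K, P.deg = 1 := by
  classical
  have hne : E ≠ 0 := by
    rintro rfl
    rw [Divisor.deg_zero] at hdeg
    exact zero_ne_one hdeg
  obtain ⟨P, hP⟩ : ∃ P, E P ≠ 0 := by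
    by_contra hcon
    push Not at hcon
    exact hne (Finsupp.ext hcon)
  have h1 : 1 ≤ E P := by
    have := hE P
    rw [Finsupp.zero_apply] at this
    omega
  have h2 : (Finsupp.single P 1 : Divisor k K) ≤ E := by
    intro Q
    by_cases hQ : Q = P
    · subst hQ; rw [Finsupp.single_eq_same]; exact h1
    · rw [Finsupp.single_apply, if_neg (Ne.symm hQ)]
      exact hE Q
  have h3 := Divisor.deg_mono h2
  rw [Divisor.deg_single, hdeg, one_mul] at h3
  have h4 : (1 : ℤ) ≤ P.deg := by exact_mod_cast Place.deg_pos hK P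
  refine ⟨P, ?_⟩
  have : (P.deg : ℤ) = 1 := le_antisymm h3 h4
  exact_mod_cast this

/-- **genus zero and a divisor of odd degree force rationality** -/
theorem exists_adjoin_eq_top_of_odd_deg (hK : IsFunctionField k K) (hg : genus k K = 0)
    (D : Divisor k K) (hodd : Odd D.deg) : ∃ x : K, k⟮x⟯ = ⊤ := by
  obtain ⟨W, hW⟩ := exists_canonical hK
  obtain ⟨-, hWdeg⟩ := canonical_ell_deg hK hW
  rw [hg] at hWdeg
  obtain ⟨n, hn⟩ := hodd
  set D' : Divisor k K := D + n • W with hD'
  have hD'deg : D'.deg = 1 := by
    rw [hD', Divisor.deg_add, deg_zsmul, hn, hWdeg]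
    push_cast
    ring
  have hell := ell_of_deg_ge hK D' (by rw [hg, hD'deg]; norm_num)
  rw [hD'deg, hg] at hell
  have hne : L D' ≠ ⊥ := by
    intro h
    unfold ell at hell
    rw [h, finrank_bot] at hell
    norm_num at hell
  obtain ⟨z, hz0, hz⟩ := (L_ne_bot_iff hK D').mp hne
  obtain ⟨P, hP⟩ := exists_place_deg_one_of_effective hK hz (by rw [deg_add_div hK, hD'deg])
  exact (genus_zero_iff hK).mp ⟨hg, P, hP⟩

end Groth.Agent.H62.FFOddDeg
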