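import Groth.Agent.H62.FFExtDeg

/-!
A parity criterion: in a quadratic extension `K'/K`, generated by an element `z` integral at `Q`
whose conjugate `z'` satisfies `v_Q(z - z') = 0`, the place `Q` cannot have ramification index `2`.
-/

set_option autoImplicit false
set_option linter.unusedSectionVars false

namespace Groth.Agent.H62.FFParity

open FunFld WithZero Module IntermediateField Groth.Agent.H55 Groth.Agent.H62.FFTower

variable {k K K' : Type*} [Field k] [Field K] [Field K'] [Algebra k K] [Algebra K K']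
  [Algebra k K'] [IsScalarTower k K K']

/-- the order of a difference of two elements of distinct orders -/
theorem ord_sub_of_ne (Q : Place k K') {x y : K'} (hx : x ≠ 0) (hy : y ≠ 0)
    (h : Q.ord x ≠ Q.ord y) : x - y ≠ 0 ∧ Q.ord (x - y) = min (Q.ord x) (Q.ord y) := by
  have hne : x - y ≠ 0 := by
    intro h0
    rw [sub_eq_zero] at h0
    exact h (by rw [h0])
  refine ⟨hne, ?_⟩
  have hv : Q.1 x ≠ Q.1 y := by
    rw [Place.val_eq_exp_neg_ord Q hx, Place.val_eq_exp_neg_ord Q hy, Ne, exp_inj]
    omega
  have h1 : Q.1 (x - y) = max (Q.1 x) (Q.1 y) := by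
    have h2 : Q.1 x ≠ Q.1 (-y) := by rwa [Valuation.map_neg]
    have h3 := Valuation.map_add_of_distinct_val Q.1 h2
    rwa [← sub_eq_add_neg, Valuation.map_neg] at h3
  rw [Place.ord_eq_iff Q hne, h1, Place.val_eq_exp_neg_ord Q hx, Place.val_eq_exp_neg_ord Q hy]
  rcases le_total (Q.ord x) (Q.ord y) with hle | hle
  · rw [min_eq_left hle, max_eq_left (exp_le_exp.mpr (by omega))]
  · rw [min_eq_right hle, max_eq_right (exp_le_exp.mpr (by omega))]

/-- the order of a difference is at least the minimum of the orders -/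
theorem min_le_ord_sub (Q : Place k K') {x y : K'} (hx : x ≠ 0) (hy : y ≠ 0) (hxy : x - y ≠ 0) :
    min (Q.ord x) (Q.ord y) ≤ Q.ord (x - y) := by
  rw [Place.le_ord_iff Q hxy]
  refine (Valuation.map_sub Q.1 x y).trans ?_
  rw [Place.val_eq_exp_neg_ord Q hx, Place.val_eq_exp_neg_ord Q hy]
  rcases le_total (Q.ord x) (Q.ord y) with hle | hle
  · rw [min_eq_left hle, max_eq_left (exp_le_exp.mpr (by omega))]
  · rw [min_eq_right hle, max_eq_right (exp_le_exp.mpr (by omega))]

/-- in a quadratic extension, `{1, z}` spans as soon as `z ∉ K` -/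
theorem exists_eq_add_mul (hdeg : finrank K K' = 2) {z : K'}
    (hz : z ∉ Set.range (algebraMap K K')) (w : K') :
    ∃ a b : K, w = algebraMap K K' a + algebraMap K K' b * z := by
  have hli : LinearIndependent K ![(1 : K'), z] := by
    rw [LinearIndependent.pair_iff]
    intro a b hab
    have hb : b = 0 := by
      by_contra hb
      apply hz
      refine ⟨-a / b, ?_⟩
      have h1 : algebraMap K K' b ≠ 0 := by
        rwa [Ne, map_eq_zero_iff _ (algebraMap K K').injective]
      rw [map_div₀, map_neg, div_eq_iff h1]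
      rw [Algebra.smul_def, Algebra.smul_def, mul_one] at hab
      linear_combination -hab
    subst hb
    rw [zero_smul, add_zero, Algebra.smul_def, mul_one, map_eq_zero_iff _ (algebraMap K K').injective]
      at hab
    exact ⟨hab, rfl⟩
  have hfd : FiniteDimensional K K' := Module.finite_of_finrank_pos (by omega)
  have hspan : Submodule.span K (Set.range ![(1 : K'), z]) = ⊤ :=
    hli.span_eq_top_of_card_eq_finrank' (by simp [hdeg])
  have hw : w ∈ Submodule.span K (Set.range ![(1 : K'), z]) := hspan ▸ Submodule.mem_top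
  rw [Matrix.range_cons, Matrix.range_cons, Matrix.range_empty, Set.union_empty,
    Set.union_comm, ← Set.insert_eq, Submodule.mem_span_pair] at hw
  obtain ⟨a, b, hab⟩ := hw
  refine ⟨b, a, ?_⟩
  rw [← hab, Algebra.smul_def, Algebra.smul_def, mul_one]
  ring

/-- the parity criterion -/
theorem not_isOverWith_two (hdeg : finrank K K' = 2) {Q : Place k K'} {P : Place k K}
    (he : IsOverWith Q P 2) (z z' : K') (hz : z ∉ Set.range (algebraMap K K'))
    (hs : z + z' ∈ Set.range (algebraMap K K')) (hn : z * z' ∈ Set.range (algebraMap K K'))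
    (hzi : Q.1 z ≤ 1) (hδ : Q.1 (z - z') = 1) : False := by
  have hevenK : ∀ a : K, Even (Q.ord (algebraMap K K' a)) := by
    intro a
    rw [isOverWith_ord_eq he a]
    exact ⟨P.ord a, by push_cast; ring⟩
  have hz' : z' ∉ Set.range (algebraMap K K') := by
    rintro ⟨c, hc⟩
    obtain ⟨s, hs⟩ := hs
    exact hz ⟨s - c, by rw [map_sub, hs, hc]; ring⟩
  have hz0 : z ≠ 0 := fun h => hz ⟨0, by rw [map_zero, h]⟩
  have hδ0 : z - z' ≠ 0 := by
    intro h0
    rw [h0, map_zero] at hδ
    exact zero_ne_one hδ
  have hordδ : Q.ord (z - z') = 0 := by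
    rw [Place.ord_eq_iff Q hδ0, hδ, neg_zero, exp_zero]
  have hordz : 0 ≤ Q.ord z := (Place.ord_nonneg_iff Q hz0).mpr hzi
  -- the claim
  have claim : ∀ r : K, Even (Q.ord (z - algebraMap K K' r)) := by
    intro r
    set ρ := algebraMap K K' r with hρ
    have hA0 : z - ρ ≠ 0 := fun h => hz ⟨r, (sub_eq_zero.mp h).symm⟩
    have hB0 : z' - ρ ≠ 0 := fun h => hz' ⟨r, (sub_eq_zero.mp h).symm⟩
    obtain ⟨s, hs⟩ := hs
    obtain ⟨n, hn⟩ := hn
    have hN : (z - ρ) * (z' - ρ) = algebraMap K K' (n - r * s + r ^ 2) := by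
      rw [map_add, map_sub, map_mul, map_pow, hn, hs]
      ring
    have hAB : Even (Q.ord (z - ρ) + Q.ord (z' - ρ)) := by
      rw [← Place.ord_mul Q hA0 hB0, hN]
      exact hevenK _
    have hdiff : z - z' = (z - ρ) - (z' - ρ) := by ring
    by_cases hne : Q.ord (z - ρ) = Q.ord (z' - ρ)
    · -- equal orders
      have hle : min (Q.ord (z - ρ)) (Q.ord (z' - ρ)) ≤ 0 := by
        have := min_le_ord_sub Q hA0 hB0 (hdiff ▸ hδ0)
        rwa [← hdiff, hordδ] at this
      rw [← hne, min_self] at hle
      rcases hle.lt_or_eq with hlt | heq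
      · -- negative order: then it is the order of `ρ`
        have hρ0 : ρ ≠ 0 := by
          intro h0
          rw [h0, sub_zero] at hlt
          omega
        have hne' : Q.ord z ≠ Q.ord (z - ρ) := by omega
        have h1 := (ord_sub_of_ne Q hz0 hA0 hne').2
        have h2 : z - (z - ρ) = ρ := by ring
        rw [h2, min_eq_right (by omega)] at h1
        rw [← h1]
        exact hevenK r
      · rw [heq]; exact Even.zero
    · -- distinct orders: the minimum is `0`
      have h1 := (ord_sub_of_ne Q hA0 hB0 hne).2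
      rw [← hdiff, hordδ] at h1
      rcases le_total (Q.ord (z - ρ)) (Q.ord (z' - ρ)) with hle | hle
      · rw [min_eq_left hle] at h1
        rw [← h1]; exact Even.zero
      · rw [min_eq_right hle] at h1
        rw [← h1, add_zero] at hAB
        exact hAB
  -- a uniformizer has odd order
  obtain ⟨t, ht⟩ := Place.exists_uniformizer Q
  have ht0 : t ≠ 0 := Place.ne_zero_of_val_eq_exp Q ht
  have hordt : Q.ord t = 1 := by rw [Place.ord_eq_iff Q ht0, ht]
  obtain ⟨a, b, hab⟩ := exists_eq_add_mul hdeg hz t
  have heven : Even (Q.ord t) := by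
    by_cases hb : b = 0
    · rw [hab, hb, map_zero, zero_mul, add_zero]
      exact hevenK a
    · have hb' : algebraMap K K' b ≠ 0 := by
        rwa [Ne, map_eq_zero_iff _ (algebraMap K K').injective]
      have h1 : t = algebraMap K K' b * (z - algebraMap K K' (-a / b)) := by
        rw [hab, map_div₀, map_neg]
        field_simp
        ring
      have h2 : z - algebraMap K K' (-a / b) ≠ 0 := fun h => hz ⟨_, (sub_eq_zero.mp h).symm⟩
      rw [h1, Place.ord_mul Q hb' h2]
      exact (hevenK b).add (claim _)
  rw [hordt] at heven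
  exact absurd heven (by decide)

end Groth.Agent.H62.FFParity
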