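import Mathlib
import Groth.Agent.H63.RH
import Groth.Agent.H63.TameDiff
import Groth.Agent.H63.OrdDiff
import Groth.Agent.H86.EX2
import Groth.Agent.H86.HF1
import Groth.Agent.H55.Sep1
import Groth.Agent.H55.Geom1
import Groth.Agent.H55.WExt2
import Groth.Agent.H62.FFTower

/-!
# helper62: the Riemann–Hurwitz inequality `n (2 g_K - 2) ≤ 2 g_{K'} - 2` for a finite separable
extension `K'/K` of function fields over an algebraically closed field
-/

set_option autoImplicit false
set_option linter.style.haveILetI false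
open FunFld Module IntermediateField

namespace Groth.Agent.H62.FFRHIneq

universe u v

variable {k : Type u} {K K' : Type v} [Field k] [IsAlgClosed k] [Field K] [Field K']
  [Algebra k K] [Algebra K K'] [Algebra k K'] [IsScalarTower k K K']

omit [IsAlgClosed k] in
/-- a separating variable of `K` stays separating in a finite separable extension -/
theorem isSeparable_adjoin_algebraMap [Algebra.IsSeparable K K'] {x : K}
    (hsep : Algebra.IsSeparable k⟮x⟯ K) : Algebra.IsSeparable k⟮algebraMap K K' x⟯ K' := by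
  set f : K →ₐ[k] K' := IsScalarTower.toAlgHom k K K' with hf
  haveI : Algebra.IsSeparable k⟮x⟯ K' := Algebra.IsSeparable.trans k⟮x⟯ K K'
  have hmap : k⟮x⟯.map f = k⟮algebraMap K K' x⟯ := by
    rw [IntermediateField.adjoin_map, Set.image_singleton]
    rfl
  have h1 : Algebra.IsSeparable (k⟮x⟯.map f) K' := by
    refine Algebra.IsSeparable.of_equiv_equiv (A₁ := k⟮x⟯) (B₁ := K')
      (equivMap k⟮x⟯ f).toRingEquiv (RingEquiv.refl K') ?_
    ext a
    rfl
  rw [hmap] at h1
  exact h1

/-- **Riemann–Hurwitz inequality** over an algebraically closed field -/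
theorem rh_ineq (hK : IsFunctionField k K) (hK' : IsFunctionField k K')
    [FiniteDimensional K K'] [Algebra.IsSeparable K K'] :
    (finrank K K' : ℤ) * (2 * (genus k K : ℤ) - 2) ≤ 2 * (genus k K' : ℤ) - 2 := by
  classical
  have hg : IsGeometric k K := Groth.Agent.H55.isGeometric_of_perfectField k K hK
  obtain ⟨x, hxtr, hxsep⟩ := Groth.Agent.H55.exists_separating hK hg
  haveI := hxsep
  have hxtr' : Transcendental k (algebraMap K K' x) := by
    intro h
    apply hxtr
    have : algebraMap K K' x = (IsScalarTower.toAlgHom k K K') x := rfl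
    rw [this] at h
    exact (isAlgebraic_algHom_iff _ (IsScalarTower.toAlgHom k K K').injective).mp h
  haveI := isSeparable_adjoin_algebraMap (K' := K') hxsep
  obtain ⟨H, hH⟩ := Groth.Agent.H86.FF.exists_hasse_of_isSeparable x hxtr
  obtain ⟨H', hH'⟩ := Groth.Agent.H86.FF.exists_hasse_of_isSeparable (algebraMap K K' x) hxtr'
  have hex : ∀ P : Place k K, ∃ Φ : K →ₐ[k] LaurentSeries k, LocRes.IsExpansionAt P.1 Φ :=
    fun P => Groth.Agent.H86.FF.exists_expansion hK hH P
  have hex' : ∀ Q : Place k K', ∃ Ψ : K' →ₐ[k] LaurentSeries k, LocRes.IsExpansionAt Q.1 Ψ :=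
    fun Q => Groth.Agent.H86.FF.exists_expansion hK' hH' Q
  choose φ hφ using hex
  choose ψ hψ using hex'
  haveI : Algebra.IsAlgebraic K K' := Algebra.IsAlgebraic.of_finite K K'
  have hunder : ∀ Q : Place k K', ∃ P : Place k K, ∃ e : ℕ, IsOverWith Q P e :=
    fun Q => Groth.Agent.H62.FFTower.exists_place_under_weak hK.weak Q
  choose below e he using hunder
  have hx : ∀ P, LocRes.vDiff (φ P) 1 x ≠ 0 := by
    intro P
    rw [Groth.Agent.H63.OrdDiff.vDiff_one]
    exact Groth.Agent.H63.OrdDiff.v_D_ne_zero hK hH P (φ P) (hφ P)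
  have hx' : ∀ Q, LocRes.vDiff (ψ Q) 1 (algebraMap K K' x) ≠ 0 := by
    intro Q
    rw [Groth.Agent.H63.OrdDiff.vDiff_one]
    exact Groth.Agent.H63.OrdDiff.v_D_ne_zero hK' hH' Q (ψ Q) (hψ Q)
  obtain ⟨hfin, hrh⟩ := Groth.Agent.H63.RH.riemann_hurwitz k k K K' hK hg hK'
    (fun _ => k) φ hφ (fun _ => k) ψ hψ below e he x hx hx'
  have hnonneg : ∀ Q : Place k K', 0 ≤ LocRes.diffExp (φ (below Q)) (ψ Q) (e Q) x *
      (Q.deg : ℤ) := by
    intro Q
    apply mul_nonneg _ (Int.natCast_nonneg _)
    obtain ⟨htame, hwild⟩ := Groth.Agent.H63.TameDiff.diffExp_tame_wild hK hg (below Q) Q (e Q)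
      (he Q) (φ (below Q)) (hφ (below Q)) (ψ Q) (hψ Q) x (hx (below Q)) (hx' Q)
    by_cases hdvd : ringChar K ∣ e Q
    · have := hwild hdvd
      omega
    · have h1 := htame hdvd
      have h2 : e Q ≠ 0 := by
        intro h0
        apply hdvd
        rw [h0]
        exact dvd_zero _
      omega
  have hsum : 0 ≤ ∑ᶠ Q, LocRes.diffExp (φ (below Q)) (ψ Q) (e Q) x * (Q.deg : ℤ) :=
    finsum_nonneg hnonneg
  rw [Module.finrank_self] at hrh
  push_cast at hrh
  linarith

end Groth.Agent.H62.FFRHIneq
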