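import Groth.Agent.H62.FFSepPlaces1
import Mathlib.RingTheory.Discriminant

/-!
# Places with separable residue field: the unramified criterion
-/

set_option autoImplicit false
set_option linter.unusedSectionVars false

namespace Groth.Agent.H62.FFSepPlaces

open FunFld WithZero Module Polynomial Groth.Agent.H55 Groth.Agent.H62.FFHolRing

attribute [-instance] FunFld.Place.algRes

variable {k K K' : Type*} [Field k] [Field K] [Field K'] [Algebra k K] [Algebra K K']
  [Algebra k K'] [IsScalarTower k K K']

/-- an element that is a root of a monic polynomial with `p`-integral coefficients lies in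
`holRing` -/
theorem mem_holRing_of_monic_root {p : Place k K} {φ : K[X]} (hmon : φ.Monic) {y : K'}
    (hroot : aeval y φ = 0) (hc : ∀ i, p.1 (φ.coeff i) ≤ 1) : y ∈ holRing K' p := by
  intro Q e he
  apply FFUnram.val_le_one_of_monic_root Q hmon hroot
  intro i
  rw [he]
  exact pow_le_one₀ zero_le (hc i)

theorem isIntegral_of_mem_holRing [FiniteDimensional K K'] (hK : IsFunctionField k K)
    (p : Place k K) {z : K'} (hz : z ∈ holRing K' p) : IsIntegral p.O z :=
  FFResConst.isIntegral_of_mem_Hol hK p (K' := K') hz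

/-- if the discriminant of a power basis with integral generator is a unit at `p`, then
`holRing = O_p[y]` -/
theorem holRing_le_adjoin [FiniteDimensional K K'] [Algebra.IsSeparable K K']
    (hK : IsFunctionField k K) (pb : PowerBasis K K') (p : Place k K)
    (hg : ∀ i, p.1 ((minpoly K pb.gen).coeff i) ≤ 1)
    (hD : p.1 (Algebra.discr K pb.basis) = 1) {z : K'} (hz : z ∈ holRing K' p) :
    z ∈ Algebra.adjoin p.O ({pb.gen} : Set K') := by
  have hyint : IsIntegral K pb.gen := Algebra.IsIntegral.isIntegral _
  have hy : pb.gen ∈ holRing K' p :=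
    mem_holRing_of_monic_root (minpoly.monic hyint) (minpoly.aeval K pb.gen) hg
  have h1 : IsIntegral p.O pb.gen := isIntegral_of_mem_holRing hK p hy
  have h2 : IsIntegral p.O z := isIntegral_of_mem_holRing hK p hz
  have h3 := Algebra.discr_mul_isIntegral_mem_adjoin K h1 h2
  have hD0 : Algebra.discr K pb.basis ≠ 0 := by
    intro h0
    rw [h0, map_zero] at hD
    exact zero_ne_one hD
  have hDinv : p.1 (Algebra.discr K pb.basis)⁻¹ ≤ 1 := by
    rw [map_inv₀, hD, inv_one]
  have h4 : z = (⟨(Algebra.discr K pb.basis)⁻¹,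
      (Valuation.mem_valuationSubring_iff p.1 _).mpr hDinv⟩ : p.O) •
        (Algebra.discr K pb.basis • z) := by
    rw [FFIntClos.smul_eq_of_tower, smul_smul, inv_mul_cancel₀ hD0, one_smul]
  rw [h4]
  exact Subalgebra.smul_mem _ h3 _

/-- for a place of degree one, the residue map to `k` -/
noncomputable def resK {p : Place k K} (hp : p.deg = 1) : p.O →+* k :=
  ((RingEquiv.ofBijective (algebraMap k (IsLocalRing.ResidueField p.O))
    ((Algebra.finrank_eq_one_iff_bijective_algebraMap).mp hp)).symm : _ →+* k).comp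
      (IsLocalRing.residue p.O)

theorem resK_spec {p : Place k K} (hp : p.deg = 1) (a : p.O) :
    p.1 ((a : K) - algebraMap k K (resK hp a)) < 1 := by
  have h1 : algebraMap k (IsLocalRing.ResidueField p.O) (resK hp a) = IsLocalRing.residue p.O a :=
    (RingEquiv.ofBijective (algebraMap k (IsLocalRing.ResidueField p.O))
      ((Algebra.finrank_eq_one_iff_bijective_algebraMap).mp hp)).apply_symm_apply _
  have h2 : algebraMap k (IsLocalRing.ResidueField p.O) (resK hp a) =
      IsLocalRing.residue p.O (algebraMap k p.O (resK hp a)) := rfl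
  rw [h2, eq_comm, ← sub_eq_zero, ← map_sub, Place.residue_eq_zero_iff] at h1
  exact h1

/-- the structure map `O_p → O_P` -/
def incl {P : Place k K'} {p : Place k K} {e : ℕ} (he : IsOverWith P p e) : p.O →+* P.O :=
  RingHom.codRestrict ((algebraMap K K').comp p.O.subtype) P.O (fun a => by
    show P.1 (algebraMap K K' (a : K)) ≤ 1
    rw [he]
    exact pow_le_one₀ zero_le ((Valuation.mem_valuationSubring_iff p.1 _).mp a.2))

theorem incl_coe {P : Place k K'} {p : Place k K} {e : ℕ} (he : IsOverWith P p e) (a : p.O) :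
    ((incl he a : P.O) : K') = algebraMap K K' (a : K) := rfl

theorem algebraMap_resK {P : Place k K'} {p : Place k K} {e : ℕ} (he : IsOverWith P p e)
    (hp : p.deg = 1) (a : p.O) :
    algebraMap k (IsLocalRing.ResidueField P.O) (resK hp a) =
      IsLocalRing.residue P.O (incl he a) := by
  have he0 : e ≠ 0 := (isOverWith_pos he).ne'
  have h2 : algebraMap k (IsLocalRing.ResidueField P.O) (resK hp a) =
      IsLocalRing.residue P.O (algebraMap k P.O (resK hp a)) := rfl
  rw [h2, eq_comm, ← sub_eq_zero, ← map_sub, Place.residue_eq_zero_iff]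
  show P.1 (algebraMap K K' (a : K) - algebraMap k K' (resK hp a)) < 1
  rw [IsScalarTower.algebraMap_apply k K K', ← map_sub, he]
  exact (pow_lt_one_iff_of_nonneg zero_le he0).mpr (resK_spec hp a)

theorem exists_lift {p : Place k K} {q : K[X]} (hq : ∀ i, p.1 (q.coeff i) ≤ 1) :
    ∃ q₀ : p.O[X], q₀.map (algebraMap p.O K) = q := by
  have h : q ∈ Polynomial.lifts (algebraMap p.O K) := by
    rw [Polynomial.lifts_iff_coeff_lifts]
    intro i
    exact ⟨⟨q.coeff i, (Valuation.mem_valuationSubring_iff p.1 _).mpr (hq i)⟩, rfl⟩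
  exact (Polynomial.mem_lifts q).mp h

/-- reduction of a separable polynomial with integral Bezout coefficients -/
theorem exists_separable_root {P : Place k K'} {p : Place k K} {e : ℕ} (he : IsOverWith P p e)
    (hp : p.deg = 1) {g u v : K[X]} (huv : u * g + v * derivative g = 1)
    (hg : ∀ i, p.1 (g.coeff i) ≤ 1) (hu : ∀ i, p.1 (u.coeff i) ≤ 1)
    (hv : ∀ i, p.1 (v.coeff i) ≤ 1) {y : K'} (hy : P.1 y ≤ 1) (hroot : aeval y g = 0) :
    ∃ gh : k[X], gh.Separable ∧ aeval (IsLocalRing.residue P.O ⟨y, hy⟩) gh = 0 := by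
  obtain ⟨g₀, hg₀⟩ := exists_lift hg
  obtain ⟨u₀, hu₀⟩ := exists_lift hu
  obtain ⟨v₀, hv₀⟩ := exists_lift hv
  have hinj : Function.Injective (algebraMap p.O K) := Subtype.val_injective
  have h0 : u₀ * g₀ + v₀ * derivative g₀ = 1 := by
    apply Polynomial.map_injective (algebraMap p.O K) hinj
    rw [Polynomial.map_add, Polynomial.map_mul, Polynomial.map_mul, ← derivative_map, hg₀, hu₀,
      hv₀, Polynomial.map_one]
    exact huv
  refine ⟨g₀.map (resK hp), ⟨u₀.map (resK hp), v₀.map (resK hp), ?_⟩, ?_⟩
  · rw [derivative_map, ← Polynomial.map_mul, ← Polynomial.map_mul, ← Polynomial.map_add, h0,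
      Polynomial.map_one]
  · rw [aeval_def, eval₂_map]
    have hcomp : (algebraMap k (IsLocalRing.ResidueField P.O)).comp (resK hp) =
        (IsLocalRing.residue P.O).comp (incl he) := by
      ext a
      exact algebraMap_resK he hp a
    rw [hcomp, ← Polynomial.hom_eval₂]
    have hz : eval₂ (incl he) (⟨y, hy⟩ : P.O) g₀ = 0 := by
      apply Subtype.val_injective
      have h1 : ((eval₂ (incl he) (⟨y, hy⟩ : P.O) g₀ : P.O) : K') =
          eval₂ (P.O.subtype.comp (incl he)) y g₀ := by
        have := Polynomial.hom_eval₂ g₀ (incl he) P.O.subtype (⟨y, hy⟩ : P.O)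
        exact this
      rw [h1]
      have h2 : P.O.subtype.comp (incl he) = (algebraMap K K').comp (algebraMap p.O K) := by
        ext a
        rfl
      rw [h2, ← eval₂_map, hg₀]
      exact hroot
    rw [hz, map_zero]

/-- the key criterion -/
theorem isSeparable_residue_of_good [FiniteDimensional K K'] [Algebra.IsSeparable K K']
    (hK : IsFunctionField k K) (pb : PowerBasis K K') {u v : K[X]}
    (huv : u * minpoly K pb.gen + v * derivative (minpoly K pb.gen) = 1)
    {P : Place k K'} {p : Place k K} {e : ℕ} (he : IsOverWith P p e) (hp : p.deg = 1)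
    (hg : ∀ i, p.1 ((minpoly K pb.gen).coeff i) ≤ 1) (hu : ∀ i, p.1 (u.coeff i) ≤ 1)
    (hv : ∀ i, p.1 (v.coeff i) ≤ 1) (hD : p.1 (Algebra.discr K pb.basis) = 1) :
    Algebra.IsSeparable k (IsLocalRing.ResidueField P.O) := by
  have hyint : IsIntegral K pb.gen := Algebra.IsIntegral.isIntegral _
  have hy' : pb.gen ∈ holRing K' p :=
    mem_holRing_of_monic_root (minpoly.monic hyint) (minpoly.aeval K pb.gen) hg
  have hy : P.1 pb.gen ≤ 1 := hy' P e he
  have hrat : ∀ a : K, p.1 a ≤ 1 → ∃ c : k, p.1 (a - algebraMap k K c) < 1 := fun a ha =>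
    ⟨resK hp ⟨a, (Valuation.mem_valuationSubring_iff p.1 _).mpr ha⟩,
      resK_spec hp ⟨a, (Valuation.mem_valuationSubring_iff p.1 _).mpr ha⟩⟩
  have htop := adjoin_residue_eq_top hK he hrat hy
    (fun z hz => holRing_le_adjoin hK pb p hg hD hz)
  obtain ⟨gh, hsep, hroot⟩ :=
    exists_separable_root he hp huv hg hu hv hy (minpoly.aeval K pb.gen)
  exact isSeparable_of_adjoin_eq_top htop hsep hroot

/-- finitely many places where some coefficient of a polynomial has a pole -/
theorem finite_bad_poly (hK : IsFunctionField k K) (q : K[X]) :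
    {p : Place k K | ∃ i, 1 < p.1 (q.coeff i)}.Finite := by
  have h : {p : Place k K | ∃ i, 1 < p.1 (q.coeff i)} ⊆
      ⋃ i ∈ q.support, {p : Place k K | 1 < p.1 (q.coeff i)} := by
    rintro p ⟨i, hi⟩
    have hne : q.coeff i ≠ 0 := by
      intro h0
      rw [h0, map_zero] at hi
      exact not_lt_of_ge zero_le hi
    exact Set.mem_biUnion (Polynomial.mem_support_iff.mpr hne) hi
  refine (Set.Finite.biUnion q.support.finite_toSet ?_).subset h
  intro i hi
  exact Place.finite_poles hK (Polynomial.mem_support_iff.mp hi)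

theorem finite_ne_one (hK : IsFunctionField k K) {z : K} (hz : z ≠ 0) :
    {p : Place k K | p.1 z ≠ 1}.Finite := by
  refine ((Place.finite_zeros hK hz).union (Place.finite_poles hK hz)).subset ?_
  intro p hp
  rcases lt_or_gt_of_ne hp with h | h
  · exact Or.inl h
  · exact Or.inr h

end Groth.Agent.H62.FFSepPlaces
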