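import Groth.Agent.H62.FFSepPlaces2
import Groth.Agent.H62.FFExtDeg
import Groth.Agent.H55.Sep1
import Groth.Agent.H55.Geom3

/-!
# A geometric function field has infinitely many places with separable residue field
-/

set_option autoImplicit false
set_option linter.unusedSectionVars false

namespace Groth.Agent.H62.FFSepPlaces

open FunFld WithZero Module Polynomial IntermediateField Groth.Agent.H55 Groth.Agent.H62.FFHolRing

attribute [-instance] FunFld.Place.algRes

universe u v

section
variable {k : Type u} {K : Type v} [Field k] [Field K] [Algebra k K]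

/-- `k(x - c) = k(x)` inside `k(x)` -/
theorem finrank_adjoin_gen_sub (x : K) (c : k) :
    finrank k⟮AdjoinSimple.gen k x - algebraMap k k⟮x⟯ c⟯ k⟮x⟯ = 1 := by
  have h1 : (k⟮AdjoinSimple.gen k x⟯ : IntermediateField k k⟮x⟯) = ⊤ := by
    apply lift_injective k⟮x⟯
    rw [lift_adjoin_simple, lift_top, AdjoinSimple.coe_gen]
  have h2 : (k⟮AdjoinSimple.gen k x - algebraMap k k⟮x⟯ c⟯ : IntermediateField k k⟮x⟯) =
      k⟮AdjoinSimple.gen k x⟯ := by
    apply le_antisymm
    · rw [adjoin_simple_le_iff]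
      exact sub_mem (mem_adjoin_simple_self k _) (IntermediateField.algebraMap_mem _ c)
    · rw [adjoin_simple_le_iff]
      have h3 : (AdjoinSimple.gen k x - algebraMap k k⟮x⟯ c) + algebraMap k k⟮x⟯ c ∈
          (k⟮AdjoinSimple.gen k x - algebraMap k k⟮x⟯ c⟯ : IntermediateField k k⟮x⟯) :=
        add_mem (mem_adjoin_simple_self k _) (IntermediateField.algebraMap_mem _ c)
      have h4 : (AdjoinSimple.gen k x - algebraMap k k⟮x⟯ c) + algebraMap k k⟮x⟯ c =
          AdjoinSimple.gen k x := by ring
      rwa [h4] at h3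
  rw [h2, h1]
  exact IntermediateField.finrank_top

theorem transcendental_gen_sub {x : K} (hx : Transcendental k x) (c : k) :
    Transcendental k (AdjoinSimple.gen k x - algebraMap k k⟮x⟯ c) := by
  intro halg
  apply hx
  have h1 : IsAlgebraic k (AdjoinSimple.gen k x) := by
    have h3 : AdjoinSimple.gen k x =
        (AdjoinSimple.gen k x - algebraMap k k⟮x⟯ c) + algebraMap k k⟮x⟯ c := by ring
    rw [h3]
    exact halg.add (isAlgebraic_algebraMap c)
  have := (isAlgebraic_algHom_iff (k⟮x⟯).val (k⟮x⟯).val.injective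
    (a := AdjoinSimple.gen k x)).mpr h1
  exact this

/-- a zero of `x - c` in `k(x)` has degree one -/
theorem deg_eq_one_of_zero {x : K} (hx : Transcendental k x) (hK₀ : IsFunctionField k k⟮x⟯)
    (c : k) {p : Place k k⟮x⟯}
    (hp : p.1 (AdjoinSimple.gen k x - algebraMap k k⟮x⟯ c) < 1) : p.deg = 1 := by
  classical
  have ht0 : AdjoinSimple.gen k x - algebraMap k k⟮x⟯ c ≠ 0 := fun h0 =>
    transcendental_gen_sub hx c (h0 ▸ isAlgebraic_zero)
  have h1 := Place.sum_ord_mul_deg_le hK₀ ht0 {p} (by
    intro P hP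
    rw [Finset.mem_singleton] at hP
    rw [hP]; exact hp)
  rw [Finset.sum_singleton, finrank_adjoin_gen_sub] at h1
  have h2 : 0 < p.ord (AdjoinSimple.gen k x - algebraMap k k⟮x⟯ c) :=
    (Place.ord_pos_iff p ht0).mpr hp
  have h3 : 0 < p.deg := Place.deg_pos hK₀ p
  have h4 : (1 : ℤ) ≤ p.deg := by exact_mod_cast h3
  have h1' : p.ord (AdjoinSimple.gen k x - algebraMap k k⟮x⟯ c) * (p.deg : ℤ) ≤ 1 := by
    exact_mod_cast h1
  have h5 : (p.deg : ℤ) ≤ p.ord (AdjoinSimple.gen k x - algebraMap k k⟮x⟯ c) * (p.deg : ℤ) := by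
    nlinarith
  omega

end

section
variable {k K K' : Type*} [Field k] [Field K] [Field K'] [Algebra k K] [Algebra K K']
  [Algebra k K'] [IsScalarTower k K K']

theorem under_unique {Q : Place k K'} {P P' : Place k K} {e e' : ℕ} (h : IsOverWith Q P e)
    (h' : IsOverWith Q P' e') : P = P' := by
  apply Place.eq_of_le
  intro x hx
  exact (isOverWith_le_one_iff h' x).mp ((isOverWith_le_one_iff h x).mpr hx)

end

section
variable {k : Type u} {K : Type v} [Field k] [Field K] [Algebra k K]

theorem infinite_sep_of_infinite [Infinite k] (hK : IsFunctionField k K) (hg : IsGeometric k K) :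
    {P : Place k K | Algebra.IsSeparable k (IsLocalRing.ResidueField P.O)}.Infinite := by
  classical
  obtain ⟨x, hx, hsep⟩ := exists_separating hK hg
  obtain ⟨hK₀, -⟩ := isFunctionField_and_isGeometric_intermediateField hK hg k⟮x⟯
    ⟨x, mem_adjoin_simple_self k x, hx⟩
  have hfin : FiniteDimensional k⟮x⟯ K := finiteDimensional_adjoin_of_transcendental hK hx
  let pb : PowerBasis k⟮x⟯ K := Field.powerBasisOfFiniteOfSeparable k⟮x⟯ K
  have hsepg : (minpoly k⟮x⟯ pb.gen).Separable := Algebra.IsSeparable.isSeparable k⟮x⟯ pb.gen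
  obtain ⟨u, v, huv⟩ := hsepg
  have hD0 : Algebra.discr k⟮x⟯ pb.basis ≠ 0 := Algebra.discr_not_zero_of_basis _ _
  let Bad : Set (Place k k⟮x⟯) :=
    ({p | ∃ i, 1 < p.1 ((minpoly k⟮x⟯ pb.gen).coeff i)} ∪ {p | ∃ i, 1 < p.1 (u.coeff i)}) ∪
      ({p | ∃ i, 1 < p.1 (v.coeff i)} ∪ {p | p.1 (Algebra.discr k⟮x⟯ pb.basis) ≠ 1})
  have hBad : Bad.Finite :=
    ((finite_bad_poly hK₀ _).union (finite_bad_poly hK₀ _)).union
      ((finite_bad_poly hK₀ _).union (finite_ne_one hK₀ hD0))
  choose p hp using fun c => exists_zero hK₀ (transcendental_gen_sub hx c)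
  have hpinj : Function.Injective p := by
    intro c d hcd
    by_contra hne
    have h1 := hp c
    have h2 := hp d
    rw [hcd] at h1
    have h3 : (p d).1 (algebraMap k k⟮x⟯ (d - c)) < 1 := by
      have h4 : algebraMap k k⟮x⟯ (d - c) = (AdjoinSimple.gen k x - algebraMap k k⟮x⟯ c) -
          (AdjoinSimple.gen k x - algebraMap k k⟮x⟯ d) := by rw [map_sub]; ring
      rw [h4]
      exact lt_of_le_of_lt (Valuation.map_sub _ _ _) (max_lt h1 h2)
    rw [Place.val_algebraMap_eq_one _ (sub_ne_zero.mpr (Ne.symm hne))] at h3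
    exact lt_irrefl _ h3
  have hdeg : ∀ c, (p c).deg = 1 := fun c => deg_eq_one_of_zero hx hK₀ c (hp c)
  choose P hP using fun c => FFExtDeg.exists_isOver (K' := K) hK₀ (p c)
  have hPinj : Function.Injective P := by
    intro c d hcd
    obtain ⟨e, he⟩ := hP c
    obtain ⟨e', he'⟩ := hP d
    rw [hcd] at he
    exact hpinj (under_unique he he')
  have hgoodinf : (p ⁻¹' Badᶜ).Infinite := by
    have h1 : (p ⁻¹' Bad).Finite := hBad.preimage hpinj.injOn
    have h2 := h1.infinite_compl
    rwa [← Set.preimage_compl] at h2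
  have himg : (P '' (p ⁻¹' Badᶜ)).Infinite := hgoodinf.image hPinj.injOn
  refine himg.mono ?_
  rintro _ ⟨c, hc, rfl⟩
  obtain ⟨e, he⟩ := hP c
  have hc' : p c ∉ Bad := hc
  simp only [Bad, Set.mem_union, Set.mem_ofPred_eq, not_or, not_exists, not_lt, not_not] at hc'
  obtain ⟨⟨hg', hu'⟩, hv', hD'⟩ := hc'
  exact isSeparable_residue_of_good hK₀ pb huv he (hdeg c) hg' hu' hv' hD'

theorem infinite_sep_of_finite [Finite k] (hK : IsFunctionField k K) :
    {P : Place k K | Algebra.IsSeparable k (IsLocalRing.ResidueField P.O)}.Infinite := by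
  have hall : ∀ P : Place k K, Algebra.IsSeparable k (IsLocalRing.ResidueField P.O) := by
    intro P
    have h1 := W.Place.finiteDimensional_residue hK.weak P
    have h2 : PerfectField k := PerfectField.ofFinite
    have h3 : Algebra.IsAlgebraic k (IsLocalRing.ResidueField P.O) :=
      Algebra.IsAlgebraic.of_finite _ _
    exact Algebra.IsAlgebraic.isSeparable_of_perfectField
  have hinf := infinite_places hK
  have huniv : {P : Place k K | Algebra.IsSeparable k (IsLocalRing.ResidueField P.O)} =
      Set.univ := Set.eq_univ_of_forall hall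
  rw [huniv]
  exact Set.infinite_univ

theorem infinite_sep (hK : IsFunctionField k K) (hg : IsGeometric k K) :
    {P : Place k K | Algebra.IsSeparable k (IsLocalRing.ResidueField P.O)}.Infinite := by
  rcases finite_or_infinite k with h | h
  · exact infinite_sep_of_finite hK
  · exact infinite_sep_of_infinite hK hg

end

end Groth.Agent.H62.FFSepPlaces
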