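import Groth.Agent.H62.FFSepPlaces3

/-!
# Infinitely many separable places, with the Prelude's algebra structure on residue fields
-/

set_option autoImplicit false
set_option linter.unusedSectionVars false

namespace Groth.Agent.H62.FFSepPlaces

open FunFld Groth.Agent.H62.FFHolRing

universe u v

/-- **S11004** -/
theorem infinite_separable_places {k : Type u} {K : Type v} [Field k] [Field K] [Algebra k K]
    (hK : IsFunctionField k K) (hg : IsGeometric k K) :
    {P : Place k K | Algebra.IsSeparable k (IsLocalRing.ResidueField P.O)}.Infinite := by
  have h := infinite_sep hK hg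
  refine h.mono ?_
  intro P hP
  have hP' : @Algebra.IsSeparable k (IsLocalRing.ResidueField P.O) _ _
      (IsLocalRing.ResidueField.algebra P.O) := hP
  show @Algebra.IsSeparable k (IsLocalRing.ResidueField P.O) _ _ (Place.algRes P)
  rw [algRes_eq]
  exact hP'

end Groth.Agent.H62.FFSepPlaces
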