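import Groth.Agent.H62.FFInvol5
import Groth.Agent.H62.FFIndexTwo
import Groth.Agent.H62.FFHE
import Groth.Agent.H55.FFGaps

/-!
# helper62: subfields of index two and genus zero in a function field of genus `≥ 2`, part 1:
a rational function of degree two lies in every such subfield
-/

set_option autoImplicit false
set_option linter.unusedSectionVars false
set_option linter.style.haveILetI false

namespace Groth.Agent.H62.FFUniq

open FunFld WithZero Module IntermediateField Groth.Agent.H55 Groth.Agent.H62.FFTower
  Groth.Agent.H62.FFExtDeg Groth.Agent.H62.FFConormL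

variable {k F K : Type*} [Field k] [Field F] [Field K] [Algebra k F] [Algebra k K] [Algebra F K]
  [IsScalarTower k F K]

/-- the pole divisor of an element of the subfield is the conorm of its pole divisor -/
theorem poleDiv_algebraMap [FiniteDimensional F K] (hF : IsFunctionField k F)
    (hK : IsFunctionField k K) (x : F) :
    poleDiv k (algebraMap F K x) = conorm K (poleDiv k x) := by
  have halg : Algebra.IsAlgebraic F K := Algebra.IsAlgebraic.of_finite F K
  ext Q
  obtain ⟨P, e, he⟩ := exists_place_under hF Q
  rw [poleDiv_apply hK, conorm_apply_of_isOverWith hF _ he, poleDiv_apply hF,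
    isOverWith_ord_eq he]
  have hepos : (0 : ℤ) ≤ e := by positivity
  rw [mul_max_of_nonneg _ _ hepos, mul_zero, mul_neg]

theorem self_mem_L_poleDiv (hK : IsFunctionField k K) {t : K} (ht0 : t ≠ 0) :
    t ∈ L (poleDiv k t) := by
  have := pow_mem_L_poleDiv hK ht0 (le_refl 1)
  rwa [pow_one, one_nsmul] at this

/-- the space `L_F(B) ⊕ t L_F(B)` inside `L_K(N*(B) + A')` -/
theorem range_Phi_le [FiniteDimensional F K] (hF : IsFunctionField k F) (B : Divisor k F)
    {t : K} {A' : Divisor k K} (hA' : 0 ≤ A') (ht : t ∈ L A') :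
    LinearMap.range (FFInvol.Phi (k := k) t B B) ≤ L (conorm K B + A') := by
  rintro _ ⟨p, rfl⟩
  rw [FFInvol.Phi_apply]
  apply Submodule.add_mem
  · exact L_mono (le_add_of_nonneg_right hA') ((algebraMap_mem_L_conorm_iff hF B).mpr p.1.2)
  · exact mul_mem_L ((algebraMap_mem_L_conorm_iff hF B).mpr p.2.2) ht

theorem finrank_range_Phi (hF : IsFunctionField k F) (B : Divisor k F) {t : K}
    (ht : t ∉ Set.range (algebraMap F K)) :
    finrank k (LinearMap.range (FFInvol.Phi (k := k) t B B)) = 2 * ell B := by
  haveI := L_finite hF B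
  rw [LinearMap.finrank_range_of_inj (FFInvol.Phi_injective ht _ _), Module.finrank_prod]
  unfold ell
  ring

/-- **a function of degree two outside a subfield of index two and genus zero forces genus
`≤ 1`** -/
theorem genus_le_one_of_index_two [FiniteDimensional F K] (hF : IsFunctionField k F)
    (hK : IsFunctionField k K) (hdeg : finrank F K = 2) (hgF : genus k F = 0)
    {t : K} (ht : t ∉ Set.range (algebraMap F K)) (htdeg : finrank k⟮t⟯ K = 2) :
    genus k K ≤ 1 := by
  classical
  have htr : Transcendental k t := FFHE.transcendental_of_finrank hK htdeg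
  have ht0 : t ≠ 0 := fun h => htr (h ▸ isAlgebraic_zero)
  obtain ⟨P₁⟩ := exists_place hF
  have hd : (1 : ℤ) ≤ P₁.deg := by exact_mod_cast Place.deg_pos hF P₁
  set m : ℤ := genus k K + 1 with hm
  set B : Divisor k F := Finsupp.single P₁ m with hB
  have hBdeg : B.deg = m * P₁.deg := Divisor.deg_single P₁ m
  have hm0 : 0 ≤ m := by positivity
  have hBm : m ≤ B.deg := by
    rw [hBdeg]
    nlinarith
  set A' : Divisor k K := poleDiv k t with hA'
  have hA'deg : A'.deg = 2 := by
    rw [hA', deg_poleDiv hK htr, htdeg]
    norm_num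
  have h1 := ell_of_deg_ge hF B (by rw [hgF]; push_cast; linarith)
  rw [hgF] at h1
  have h2 := ell_of_deg_ge hK (conorm K B + A') (by
    rw [Divisor.deg_add, FFConormL.deg_conorm hF, hdeg, hA'deg]
    push_cast
    linarith)
  rw [Divisor.deg_add, FFConormL.deg_conorm hF, hdeg, hA'deg] at h2
  haveI := L_finite hK (conorm K B + A')
  have h3 := Submodule.finrank_mono
    (range_Phi_le hF B (poleDiv_nonneg t) (self_mem_L_poleDiv hK ht0))
  rw [finrank_range_Phi hF B ht] at h3
  have h4 : ((2 * ell B : ℕ) : ℤ) ≤ ell (conorm K B + A') := by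
    unfold ell at *
    exact_mod_cast h3
  push_cast at h1 h2 h4
  linarith

end Groth.Agent.H62.FFUniq
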