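import Groth.Agent.H62.FFUniq1
import Groth.Agent.H62.FFEllAut

/-!
# helper62: subfields of index two and genus zero, part 2: auxiliary results
(elements of `k(y)` with poles bounded by the poles of `y`; an effective divisor of degree two on a
function field of genus zero; the key dimension count)
-/

set_option autoImplicit false
set_option linter.unusedSectionVars false
set_option linter.style.haveILetI false

namespace Groth.Agent.H62.FFUniq

open FunFld WithZero Module IntermediateField Groth.Agent.H55 Groth.Agent.H62.FFTower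
  Groth.Agent.H62.FFExtDeg Groth.Agent.H62.FFConormL

section claimC

variable {k F : Type*} [Field k] [Field F] [Algebra k F]

/-- an element of `k(y)` whose poles are bounded by the poles of `y` is `c₀ + c₁ y` -/
theorem exists_eq_add_mul_of_mem_L_poleDiv (hF : IsFunctionField k F) {y : F}
    (hy : Transcendental k y) {w : F} (hw : w ∈ k⟮y⟯) (hwL : w ∈ L (poleDiv k y)) :
    ∃ c₀ c₁ : k, w = algebraMap k F c₀ + algebraMap k F c₁ * y := by
  classical
  haveI := finiteDimensional_adjoin_of_transcendental hF hy
  have hR : IsFunctionField k k⟮y⟯ := FFInvol.isFunctionField_of_finite hF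
  set gen := AdjoinSimple.gen k y with hgen
  have htop := FFEllAut.adjoin_gen_eq_top (k := k) y
  obtain ⟨P, hP1, hP⟩ := poleDiv_of_adjoin_eq_top hR htop
  have hg0 := genus_eq_zero_of_adjoin_eq_top hR htop
  have hpd := poleDiv_algebraMap hR hF gen
  have hgeny : algebraMap k⟮y⟯ F gen = y := rfl
  rw [hgeny] at hpd
  rw [hpd] at hwL
  set a : k⟮y⟯ := ⟨w, hw⟩ with ha
  have haw : algebraMap k⟮y⟯ F a = w := rfl
  rw [← haw, algebraMap_mem_L_conorm_iff hR] at hwL
  have hdeg : (poleDiv k gen).deg = 1 := by
    rw [hP, deg_single_of_deg_one hP1]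
  have hell := ell_of_deg_ge hR (poleDiv k gen) (by rw [hdeg, hg0]; norm_num)
  rw [hdeg, hg0] at hell
  have hell2 : finrank k (L (poleDiv k gen)) = 2 := by
    have : (ell (poleDiv k gen) : ℤ) = 2 := by rw [hell]; norm_num
    have h2 : ell (poleDiv k gen) = 2 := by exact_mod_cast this
    exact h2
  have hgentr : Transcendental k gen := transcendental_of_adjoin_eq_top hR htop
  have hgen0 : gen ≠ 0 := fun h => hgentr (h ▸ isAlgebraic_zero)
  have hgenk : gen ∉ Set.range (algebraMap k k⟮y⟯) := by
    rintro ⟨c, hc⟩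
    exact hgentr (hc ▸ isAlgebraic_algebraMap c)
  have hli := FFInvol.linearIndependent_one_y (F := k) (K := k⟮y⟯) hgenk
  have h1mem : (1 : k⟮y⟯) ∈ L (poleDiv k gen) := by
    intro Q
    rw [map_one, ← exp_zero, exp_le_exp]
    exact (poleDiv_nonneg gen) Q
  have hgenmem : gen ∈ L (poleDiv k gen) := self_mem_L_poleDiv hR hgen0
  have hle : Submodule.span k (Set.range ![(1 : k⟮y⟯), gen]) ≤ L (poleDiv k gen) := by
    rw [Submodule.span_le]
    rintro _ ⟨i, rfl⟩
    fin_cases i
    · exact h1mem
    · exact hgenmem
  haveI := L_finite hR (poleDiv k gen)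
  have hspan : Submodule.span k (Set.range ![(1 : k⟮y⟯), gen]) = L (poleDiv k gen) := by
    apply Submodule.eq_of_le_of_finrank_eq hle
    rw [finrank_span_eq_card hli, hell2]
    simp
  rw [← hspan, Matrix.range_cons, Matrix.range_cons, Matrix.range_empty, Set.union_empty,
    Set.singleton_union, Submodule.mem_span_pair] at hwL
  obtain ⟨c₀, c₁, hc⟩ := hwL
  refine ⟨c₀, c₁, ?_⟩
  have := congrArg (algebraMap k⟮y⟯ F) hc
  rw [haw] at this
  rw [← this, map_add, Algebra.smul_def, Algebra.smul_def, mul_one, map_mul, hgeny]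
  rfl

end claimC

end Groth.Agent.H62.FFUniq
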