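import Groth.Agent.H62.FFUniq2

/-!
# helper62: subfields of index two and genus zero, part 3: the key dimension count
-/

set_option autoImplicit false
set_option linter.unusedSectionVars false
set_option linter.style.haveILetI false

namespace Groth.Agent.H62.FFUniq

open FunFld WithZero Module IntermediateField Groth.Agent.H55 Groth.Agent.H62.FFTower
  Groth.Agent.H62.FFExtDeg Groth.Agent.H62.FFConormL

section K1

variable {k F : Type*} [Field k] [Field F] [Algebra k F]

/-- if `c` and `c' c` both have poles bounded by `B` then `c` has poles bounded by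
`B - (c')_∞` -/
theorem mem_L_sub_poleDiv (hF : IsFunctionField k F) {B : Divisor k F} {c' c : F}
    (hc'0 : c' ≠ 0) (hc : c ∈ L B) (hcc : c' * c ∈ L B) : c ∈ L (B - poleDiv k c') := by
  by_cases hc0 : c = 0
  · rw [hc0]
    exact Submodule.zero_mem _
  rw [mem_L_iff_ord hc0] at hc ⊢
  rw [mem_L_iff_ord (mul_ne_zero hc'0 hc0)] at hcc
  intro P
  have h1 := hc P
  have h2 := hcc P
  rw [Place.ord_mul P hc'0 hc0] at h2
  rw [Finsupp.sub_apply, poleDiv_apply hF]
  rcases max_cases (-P.ord c') 0 with ⟨h, -⟩ | ⟨h, -⟩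
  · rw [h]
    omega
  · rw [h]
    omega

end K1

variable {k F K : Type*} [Field k] [Field F] [Field K] [Algebra k F] [Algebra k K] [Algebra F K]
  [IsScalarTower k F K]

/-- **the key dimension count**: if `t₁ ∉ F` and `t₂ = a' + b' t₁` both have poles bounded by an
effective divisor of degree four and one of `a', b'` is transcendental of degree `d` over `k`, then
`g_K + d ≤ 3`. -/
theorem genus_add_deg_le_three [FiniteDimensional F K] (hF : IsFunctionField k F)
    (hK : IsFunctionField k K) (hdeg : finrank F K = 2) (hgF : genus k F = 0)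
    {A' : Divisor k K} (hA' : 0 ≤ A') (hA'deg : A'.deg = 4) {t₁ t₂ : K} (ht₁ : t₁ ∈ L A')
    (ht₂ : t₂ ∈ L A') (ht₁r : t₁ ∉ Set.range (algebraMap F K)) {a' b' c' : F}
    (hrepr : t₂ = algebraMap F K a' + algebraMap F K b' * t₁) (hc' : c' = a' ∨ c' = b')
    (hc'tr : Transcendental k c') :
    (genus k K : ℤ) + (poleDiv k c').deg ≤ 3 := by
  classical
  have hc'0 : c' ≠ 0 := fun h => hc'tr (h ▸ isAlgebraic_zero)
  have ht₂0 : t₂ ≠ 0 := by
    intro h0
    rw [h0] at hrepr
    have h00 : algebraMap F K 0 + algebraMap F K 0 * t₁ =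
        algebraMap F K a' + algebraMap F K b' * t₁ := by
      rw [map_zero, zero_mul, add_zero]
      exact hrepr
    obtain ⟨ha, hb⟩ := FFQuad.repr_unique ht₁r h00
    rcases hc' with h | h
    · exact hc'0 (h.trans ha.symm)
    · exact hc'0 (h.trans hb.symm)
  set E : Divisor k F := poleDiv k c' with hE
  have hEdeg : E.deg = finrank k⟮c'⟯ F := deg_poleDiv hF hc'tr
  set d : ℕ := finrank k⟮c'⟯ F with hd
  obtain ⟨P₁⟩ := exists_place hF
  have hd1 : (1 : ℤ) ≤ P₁.deg := by exact_mod_cast Place.deg_pos hF P₁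
  set m : ℤ := genus k K + d with hm
  set B : Divisor k F := Finsupp.single P₁ m with hB
  have hBdeg : B.deg = m * P₁.deg := Divisor.deg_single P₁ m
  have hm0 : 0 ≤ m := by positivity
  have hBm : m ≤ B.deg := by
    rw [hBdeg]
    nlinarith
  -- dimensions
  have h1 := ell_of_deg_ge hF B (by rw [hgF]; push_cast; linarith)
  rw [hgF] at h1
  have h1' := ell_of_deg_ge hF (B - E) (by
    rw [hgF, Divisor.deg_sub, hEdeg]
    push_cast
    have : (0 : ℤ) ≤ genus k K := by positivity
    linarith)
  rw [hgF, Divisor.deg_sub, hEdeg] at h1'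
  have h2 := ell_of_deg_ge hK (conorm K B + A') (by
    rw [Divisor.deg_add, FFConormL.deg_conorm hF, hdeg, hA'deg]
    push_cast
    have : (0 : ℤ) ≤ d := by positivity
    linarith)
  rw [Divisor.deg_add, FFConormL.deg_conorm hF, hdeg, hA'deg] at h2
  haveI := L_finite hK (conorm K B + A')
  haveI := L_finite hF B
  haveI := L_finite hF (B - E)
  -- the spaces
  set U : Submodule k K := LinearMap.range (FFInvol.Phi (k := k) t₁ B B) with hU
  set μ : F →ₗ[k] K := LinearMap.mulLeft k t₂ ∘ₗ (IsScalarTower.toAlgHom k F K).toLinearMap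
    with hμ
  have hμapp : ∀ c : F, μ c = t₂ * algebraMap F K c := fun c => rfl
  have hμinj : Function.Injective μ := by
    intro c c₂ hcc
    rw [hμapp, hμapp] at hcc
    exact (algebraMap F K).injective (mul_left_cancel₀ ht₂0 hcc)
  set M : Submodule k K := (L B).map μ with hM
  set N : Submodule k K := (L (B - E)).map μ with hN
  have hUle : U ≤ L (conorm K B + A') := range_Phi_le hF B hA' ht₁
  have hMle : M ≤ L (conorm K B + A') := by
    rintro _ ⟨c, hc, rfl⟩
    rw [hμapp, mul_comm]
    exact mul_mem_L ((algebraMap_mem_L_conorm_iff hF B).mpr hc) ht₂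
  have hinf : U ⊓ M ≤ N := by
    rintro z ⟨⟨p, hp⟩, ⟨c, hc, hcz⟩⟩
    refine ⟨c, ?_, hcz⟩
    rw [FFInvol.Phi_apply] at hp
    rw [hμapp, hrepr] at hcz
    have h3 : algebraMap F K (a' * c) + algebraMap F K (b' * c) * t₁ =
        algebraMap F K p.1 + algebraMap F K p.2 * t₁ := by
      rw [map_mul, map_mul, hp, ← hcz]
      ring
    obtain ⟨ha, hb⟩ := FFQuad.repr_unique ht₁r h3
    have hcc : c' * c ∈ L B := by
      rcases hc' with h | h
      · rw [h, ha]
        exact p.1.2
      · rw [h, hb]
        exact p.2.2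
    exact mem_L_sub_poleDiv hF hc'0 hc hcc
  haveI : FiniteDimensional k U := Submodule.finiteDimensional_of_le hUle
  haveI : FiniteDimensional k M := Submodule.finiteDimensional_of_le hMle
  have hUdim : finrank k U = 2 * ell B := finrank_range_Phi hF B ht₁r
  have hMdim : finrank k M = ell B :=
    (Submodule.equivMapOfInjective μ hμinj (L B)).finrank_eq.symm
  have hNdim : finrank k N ≤ ell (B - E) := Submodule.finrank_map_le μ (L (B - E))
  have hsum := Submodule.finrank_sup_add_finrank_inf_eq U M
  have hsup : finrank k ↥(U ⊔ M) ≤ ell (conorm K B + A') :=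
    Submodule.finrank_mono (sup_le hUle hMle)
  haveI : FiniteDimensional k N := inferInstance
  have hinf' : finrank k ↥(U ⊓ M) ≤ finrank k N := Submodule.finrank_mono hinf
  have h5 : (3 * ell B : ℕ) ≤ ell (conorm K B + A') + ell (B - E) := by
    have : finrank k U + finrank k M = 3 * ell B := by rw [hUdim, hMdim]; ring
    omega
  have h6 : ((3 * ell B : ℕ) : ℤ) ≤ ell (conorm K B + A') + ell (B - E) := by exact_mod_cast h5
  push_cast at h1 h1' h2 h6
  linarith

end Groth.Agent.H62.FFUniq
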