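import Groth.Agent.H55.WExt2
import Groth.Agent.H55.WZeros
import Mathlib.RingTheory.Polynomial.Basic
import Mathlib.Algebra.Polynomial.Lifts
import Mathlib.FieldTheory.Separable
import Mathlib.FieldTheory.PrimitiveElement

/-!
# An unramifiedness criterion

If `Q | P` in `K'/K`, `y ∈ O_Q` is a root of `φ ∈ O_P[T]` with `φ'(y)` a unit at `Q`, and
`K' = K[y]`, then `e(Q|P) = 1`.
-/

set_option autoImplicit false
set_option linter.unusedSectionVars false

namespace Groth.Agent.H62.FFUnram

open FunFld WithZero Polynomial Groth.Agent.H55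

variable {k K K' : Type*} [Field k] [Field K] [Field K'] [Algebra k K] [Algebra K K']
  [Algebra k K'] [IsScalarTower k K K']

/-- the inclusion `O_P → K'` -/
def iota (P : Place k K) : P.O →+* K' := (algebraMap K K').comp P.O.subtype

theorem iota_apply (P : Place k K) (a : P.O) : iota (K' := K') P a = algebraMap K K' (a : K) := rfl

section core

variable {Q : Place k K'} {P : Place k K} {e : ℕ} (he : IsOverWith Q P e)

include he in
theorem val_iota (a : P.O) : Q.1 (iota (K' := K') P a) = P.1 (a : K) ^ e := he a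

include he in
theorem val_iota_le_one (a : P.O) : Q.1 (iota (K' := K') P a) ≤ 1 := by
  rw [val_iota he]
  exact pow_le_one₀ zero_le ((Valuation.mem_valuationSubring_iff P.1 _).mp a.2)

include he in
theorem val_eval₂_le_one {y : K'} (hy : Q.1 y ≤ 1) (A : P.O[X]) :
    Q.1 (eval₂ (iota P) y A) ≤ 1 := by
  rw [eval₂_eq_sum_range]
  apply Valuation.map_sum_le
  intro i _
  rw [map_mul, map_pow]
  exact mul_le_one' (val_iota_le_one he _) (pow_le_one₀ zero_le hy)

/-- polynomials reducing to zero are divisible by the uniformizer -/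
theorem exists_eq_mul_of_map_eq_zero {t₀ : P.O} (ht₀ : P.1 (t₀ : K) = exp (-1 : ℤ))
    {A : P.O[X]} (hA : A.map (IsLocalRing.residue P.O) = 0) : ∃ A₁ : P.O[X], A = C t₀ * A₁ := by
  have hmax : IsLocalRing.maximalIdeal P.O = Ideal.span {t₀} := by
    apply le_antisymm
    · intro a ha
      have ha' : P.1 (a : K) < 1 := (Valuation.mem_maximalIdeal_iff _ _).mp ha
      rw [Ideal.mem_span_singleton]
      have ht0 : (t₀ : K) ≠ 0 := by
        intro h0
        rw [h0, map_zero] at ht₀
        exact exp_ne_zero ht₀.symm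
      have hq : P.1 ((a : K) / (t₀ : K)) ≤ 1 := by
        rw [map_div₀, ht₀, div_le_iff₀ (zero_lt_iff.mpr exp_ne_zero), one_mul]
        by_cases ha0 : (a : K) = 0
        · rw [ha0, map_zero]; exact zero_le
        · rw [Place.val_eq_exp_neg_ord P ha0, exp_le_exp]
          rw [Place.val_eq_exp_neg_ord P ha0, ← exp_zero, exp_lt_exp] at ha'
          omega
      refine ⟨⟨(a : K) / (t₀ : K), (Valuation.mem_valuationSubring_iff P.1 _).mpr hq⟩, ?_⟩
      apply Subtype.ext
      show (a : K) = (t₀ : K) * ((a : K) / (t₀ : K))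
      field_simp
    · rw [Ideal.span_le, Set.singleton_subset_iff]
      apply (Valuation.mem_maximalIdeal_iff _ _).mpr
      rw [ht₀, ← exp_zero, exp_lt_exp]; norm_num
  have h1 : A ∈ RingHom.ker (Polynomial.mapRingHom (IsLocalRing.residue P.O)) := hA
  rw [Polynomial.ker_mapRingHom, IsLocalRing.ker_residue, hmax, Ideal.map_span,
    Set.image_singleton, Ideal.mem_span_singleton] at h1
  exact h1

/-- the ideal of polynomials vanishing at `y` modulo `Q` -/
def J (he : IsOverWith Q P e) {y : K'} (hy : Q.1 y ≤ 1) : Ideal P.O[X] where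
  carrier := {A | Q.1 (eval₂ (iota P) y A) < 1}
  add_mem' {A B} hA hB := by
    show Q.1 (eval₂ (iota P) y (A + B)) < 1
    rw [eval₂_add]
    exact (Q.1.map_add _ _).trans_lt (max_lt hA hB)
  zero_mem' := by
    show Q.1 (eval₂ (iota P) y 0) < 1
    rw [eval₂_zero, map_zero]; exact zero_lt_one
  smul_mem' B A hA := by
    show Q.1 (eval₂ (iota P) y (B * A)) < 1
    rw [eval₂_mul, map_mul]
    exact mul_lt_one_of_nonneg_of_lt_one_right (val_eval₂_le_one he hy B) zero_le hA

theorem mem_J {y : K'} (hy : Q.1 y ≤ 1) {A : P.O[X]} :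
    A ∈ J he hy ↔ Q.1 (eval₂ (iota P) y A) < 1 := Iff.rfl

include he in
/-- the key divisibility: `e ∣ v_Q(A(y))` for every `A ∈ O_P[T]` -/
theorem dvd_ord_eval₂ {y : K'} (hy : Q.1 y ≤ 1) {φ₀ : P.O[X]}
    (hφ : eval₂ (iota P) y φ₀ = 0) (hφ' : Q.1 (eval₂ (iota P) y (derivative φ₀)) = 1) :
    ∀ A : P.O[X], eval₂ (iota P) y A ≠ 0 → (e : ℤ) ∣ Q.ord (eval₂ (iota P) y A) := by
  classical
  obtain ⟨t, ht⟩ := Place.exists_uniformizer P
  have htO : t ∈ P.O := by
    rw [Valuation.mem_valuationSubring_iff, ht, ← exp_zero, exp_le_exp]; norm_num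
  set t₀ : P.O := ⟨t, htO⟩ with ht₀def
  have ht₀ : P.1 (t₀ : K) = exp (-1 : ℤ) := ht
  have hιt : Q.1 (iota (K' := K') P t₀) = exp (-(e : ℤ)) := by
    rw [val_iota he, ht₀, ← exp_nsmul]; congr 1; simp
  have hιt_lt : Q.1 (iota (K' := K') P t₀) < 1 := by
    rw [hιt, ← exp_zero, exp_lt_exp]
    have := isOverWith_pos he
    omega
  have hιt0 : iota (K' := K') P t₀ ≠ 0 := by
    intro h0
    rw [h0, map_zero] at hιt
    exact exp_ne_zero hιt.symm
  set r := Polynomial.mapRingHom (IsLocalRing.residue P.O) with hr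
  have hrsurj : Function.Surjective r :=
    Polynomial.map_surjective _ IsLocalRing.residue_surjective
  -- the image of `J` is principal
  set Jbar : Ideal (IsLocalRing.ResidueField P.O)[X] := (J he hy).map r with hJbar
  obtain ⟨gbar, hgbar⟩ := (IsPrincipalIdealRing.principal Jbar).principal
  have hgmem : gbar ∈ Jbar := by rw [hgbar]; exact Submodule.mem_span_singleton_self gbar
  obtain ⟨g, hgJ, hg⟩ := (Ideal.mem_map_iff_of_surjective r hrsurj).mp hgmem
  -- decomposition of elements of `J`
  have hdecomp : ∀ A ∈ J he hy, ∃ q A₁ : P.O[X], A = g * q + C t₀ * A₁ := by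
    intro A hA
    have h1 : r A ∈ Jbar := Ideal.mem_map_of_mem r hA
    rw [hgbar] at h1
    obtain ⟨qbar, hq⟩ := Ideal.mem_span_singleton.mp h1
    obtain ⟨q, rfl⟩ := hrsurj qbar
    have h2 : (A - g * q).map (IsLocalRing.residue P.O) = 0 := by
      show r (A - g * q) = 0
      rw [map_sub, map_mul, hg, hq, sub_self]
    obtain ⟨A₁, hA₁⟩ := exists_eq_mul_of_map_eq_zero ht₀ h2
    exact ⟨q, A₁, by rw [← hA₁]; ring⟩
  have hφJ : φ₀ ∈ J he hy := by
    rw [mem_J, hφ, map_zero]; exact zero_lt_one
  obtain ⟨h, s₁, hφdec⟩ := hdecomp φ₀ hφJ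
  have hgval : Q.1 (eval₂ (iota P) y g) < 1 := hgJ
  -- `h(y)` is a unit at `Q`
  have hhval : Q.1 (eval₂ (iota P) y h) = 1 := by
    have hder : derivative φ₀ = derivative g * h + (g * derivative h + C t₀ * derivative s₁) := by
      rw [hφdec, derivative_add, derivative_mul, derivative_mul, derivative_C, zero_mul, zero_add]
      ring
    rw [hder, eval₂_add, eval₂_mul, eval₂_add, eval₂_mul, eval₂_mul, eval₂_C] at hφ'
    have hsmall : Q.1 (eval₂ (iota P) y g * eval₂ (iota P) y (derivative h) +
        iota P t₀ * eval₂ (iota P) y (derivative s₁)) < 1 := by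
      apply (Q.1.map_add _ _).trans_lt
      apply max_lt
      · rw [map_mul]
        exact mul_lt_one_of_nonneg_of_lt_one_left zero_le hgval (val_eval₂_le_one he hy _)
      · rw [map_mul]
        exact mul_lt_one_of_nonneg_of_lt_one_left zero_le hιt_lt (val_eval₂_le_one he hy _)
    have hmain : Q.1 (eval₂ (iota P) y (derivative g) * eval₂ (iota P) y h) = 1 := by
      by_contra hne
      have hlt : Q.1 (eval₂ (iota P) y (derivative g) * eval₂ (iota P) y h) < 1 := by
        refine lt_of_le_of_ne ?_ hne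
        rw [map_mul]
        exact mul_le_one' (val_eval₂_le_one he hy _) (val_eval₂_le_one he hy _)
      have : Q.1 (eval₂ (iota P) y (derivative g) * eval₂ (iota P) y h +
          (eval₂ (iota P) y g * eval₂ (iota P) y (derivative h) +
            iota P t₀ * eval₂ (iota P) y (derivative s₁))) < 1 :=
        (Q.1.map_add _ _).trans_lt (max_lt hlt hsmall)
      rw [hφ'] at this
      exact lt_irrefl _ this
    rw [map_mul] at hmain
    apply le_antisymm (val_eval₂_le_one he hy h)
    by_contra hlt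
    push Not at hlt
    have : Q.1 (eval₂ (iota P) y (derivative g)) * Q.1 (eval₂ (iota P) y h) < 1 :=
      mul_lt_one_of_nonneg_of_lt_one_right (val_eval₂_le_one he hy _) zero_le hlt
    rw [hmain] at this
    exact lt_irrefl _ this
  have hh0 : eval₂ (iota P) y h ≠ 0 := by
    intro h0
    rw [h0, map_zero] at hhval
    exact zero_ne_one hhval
  have hgh : eval₂ (iota P) y g * eval₂ (iota P) y h = -(iota P t₀ * eval₂ (iota P) y s₁) := by
    have := hφ
    rw [hφdec, eval₂_add, eval₂_mul, eval₂_mul, eval₂_C] at this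
    linear_combination this
  -- induction on the order
  have key : ∀ n : ℕ, ∀ A : P.O[X], eval₂ (iota P) y A ≠ 0 →
      Q.ord (eval₂ (iota P) y A) = n → (e : ℤ) ∣ n := by
    intro n
    induction n using Nat.strong_induction_on with
    | _ n ih =>
      intro A hA0 hn
      rcases Nat.eq_zero_or_pos n with rfl | hpos
      · exact ⟨0, by simp⟩
      have hAJ : A ∈ J he hy := by
        rw [mem_J, ← Place.ord_pos_iff Q hA0, hn]
        exact_mod_cast hpos
      obtain ⟨q, A₁, hAdec⟩ := hdecomp A hAJ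
      set A₂ : P.O[X] := -(s₁ * q) + h * A₁ with hA₂
      have hrel : eval₂ (iota P) y h * eval₂ (iota P) y A =
          iota P t₀ * eval₂ (iota P) y A₂ := by
        rw [hAdec, hA₂, eval₂_add, eval₂_mul, eval₂_mul, eval₂_C, eval₂_add, eval₂_neg, eval₂_mul,
          eval₂_mul]
        linear_combination (eval₂ (iota P) y q) * hgh
      have hA₂0 : eval₂ (iota P) y A₂ ≠ 0 := by
        intro h0
        rw [h0, mul_zero] at hrel
        exact mul_ne_zero hh0 hA0 hrel
      have hord : Q.ord (eval₂ (iota P) y A) = (e : ℤ) + Q.ord (eval₂ (iota P) y A₂) := by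
        have h1 := congrArg Q.ord hrel
        rw [Place.ord_mul Q hh0 hA0, Place.ord_mul Q hιt0 hA₂0] at h1
        have h2 : Q.ord (eval₂ (iota P) y h) = 0 := by
          rw [Place.ord_eq_iff Q hh0, hhval, neg_zero, exp_zero]
        have h3 : Q.ord (iota (K' := K') P t₀) = e := by
          rw [Place.ord_eq_iff Q hιt0, hιt]
        rw [h2, h3, zero_add] at h1
        exact h1
      have hnonneg : 0 ≤ Q.ord (eval₂ (iota P) y A₂) :=
        (Place.ord_nonneg_iff Q hA₂0).mpr (val_eval₂_le_one he hy A₂)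
      have hepos := isOverWith_pos he
      obtain ⟨m, hm⟩ : ∃ m : ℕ, Q.ord (eval₂ (iota P) y A₂) = m :=
        ⟨(Q.ord (eval₂ (iota P) y A₂)).toNat, (Int.toNat_of_nonneg hnonneg).symm⟩
      have hmlt : m < n := by
        have : (n : ℤ) = e + m := by rw [← hn, hord, hm]
        omega
      obtain ⟨c, hc⟩ := ih m hmlt A₂ hA₂0 hm
      refine ⟨1 + c, ?_⟩
      rw [← hn, hord, hm, hc]; ring
  intro A hA0
  have hnonneg : 0 ≤ Q.ord (eval₂ (iota P) y A) :=
    (Place.ord_nonneg_iff Q hA0).mpr (val_eval₂_le_one he hy A)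
  have := key (Q.ord (eval₂ (iota P) y A)).toNat A hA0 (Int.toNat_of_nonneg hnonneg).symm
  rwa [Int.toNat_of_nonneg hnonneg] at this

end core

end Groth.Agent.H62.FFUnram
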