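import Groth.Agent.H62.ZW10

/-!
# Places fixed by the Frobenius of `k̄ K` lie over places of degree one
-/

set_option autoImplicit false
set_option linter.unusedSectionVars false

namespace Groth.Agent.H62.FrobFix

open FunFld WithZero Module Polynomial Groth.Agent.H55 Groth.Agent.H62.FFHolRing
open Groth.Agent.H62.Weil Groth.Agent.H86.Zeta

attribute [-instance] FunFld.Place.algRes

variable {k K kb Kb : Type*} [Field k] [Field K] [Algebra k K] [Field kb] [Algebra k kb]
  [Field Kb] [Algebra K Kb] [Algebra kb Kb] [Algebra k Kb] [IsScalarTower k K Kb]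
  [IsScalarTower k kb Kb]

/-- `k̄ K` is algebraic over `K` -/
theorem isAlgebraic_of_adjoin [Algebra.IsAlgebraic k kb]
    (hgen : Algebra.adjoin K (Set.range (algebraMap kb Kb)) = ⊤) : Algebra.IsAlgebraic K Kb := by
  have hle : Algebra.adjoin K (Set.range (algebraMap kb Kb)) ≤ integralClosure K Kb := by
    apply Algebra.adjoin_le
    rintro _ ⟨c, rfl⟩
    have h1 : IsAlgebraic k c := Algebra.IsAlgebraic.isAlgebraic c
    have h2 : IsAlgebraic k (algebraMap kb Kb c) := h1.algebraMap
    exact (h2.tower_top K).isIntegral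
  refine ⟨fun z => ?_⟩
  have hz : z ∈ integralClosure K Kb := hle (by rw [hgen]; exact Algebra.mem_top)
  exact IsIntegral.isAlgebraic hz

/-- the value of `X ^ N - X` at `y` is the product of the `y - c` over the roots in `k̄` -/
theorem pow_sub_eq_prod [IsAlgClosed kb] {N : ℕ} (hN : 2 ≤ N) (y : Kb) :
    y ^ N - y = (((X ^ N - X : kb[X]).roots).map (fun c => y - algebraMap kb Kb c)).prod := by
  have hmon : (X ^ N - X : kb[X]).Monic := by
    apply monic_X_pow_sub
    rw [degree_X]
    exact_mod_cast hN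
  have hp := (IsAlgClosed.splits (X ^ N - X : kb[X])).eq_prod_roots_of_monic hmon
  have h1 : aeval y (X ^ N - X : kb[X]) = y ^ N - y := by simp
  rw [← h1]
  conv_lhs => rw [hp]
  rw [map_multiset_prod, Multiset.map_map]
  congr 1
  apply Multiset.map_congr rfl
  intro c _
  simp

/-- a product of integral elements that vanishes at `Q` has a factor vanishing at `Q` -/
theorem exists_lt_one_of_prod_lt_one {Γ : Type*} [LinearOrderedCommGroupWithZero Γ]
    (v : Valuation Kb Γ) (s : Multiset Kb) (hs : ∀ x ∈ s, v x ≤ 1) (h : v s.prod < 1) :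
    ∃ x ∈ s, v x < 1 := by
  by_contra hcon
  push Not at hcon
  have h1 : ∀ x ∈ s, v x = 1 := fun x hx => le_antisymm (hs x hx) (hcon x hx)
  have h2 : v s.prod = 1 := by
    rw [map_multiset_prod]
    apply Multiset.prod_eq_one
    intro y hy
    obtain ⟨x, hx, rfl⟩ := Multiset.mem_map.mp hy
    exact h1 x hx
  rw [h2] at h
  exact lt_irrefl _ h

variable [Finite k]

/-- if `Q` is fixed by the Frobenius, then the place below has residue field `k` -/
theorem val_pow_card_sub_lt_of_fixed [IsAlgClosed kb] (hK : IsFunctionField k K)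
    (F : Kb →+* Kb) (hF1 : ∀ c : kb, F (algebraMap kb Kb c) = algebraMap kb Kb c)
    (hF2 : ∀ x : K, F (algebraMap K Kb x) = algebraMap K Kb x ^ Nat.card k)
    (Q : Place kb Kb) (hfix : ∀ z : Kb, Q.1 (F z) < 1 ↔ Q.1 z < 1)
    {P : Place k K} {e : ℕ} (he : IsOverWith (restr (k := k) Q) P e) {a : K} (ha : P.1 a ≤ 1) :
    P.1 (a ^ Nat.card k - a) < 1 := by
  have hq : 1 < Nat.card k := Finite.one_lt_card
  have hd : 0 < P.deg := Place.deg_pos hK P
  have hN : 2 ≤ Nat.card k ^ P.deg := Nat.one_lt_pow hd.ne' hq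
  have h1 : P.1 (a ^ (Nat.card k ^ P.deg) - a) < 1 := val_pow_card_sub_lt hK P ha
  have h2 : Q.1 (algebraMap K Kb (a ^ (Nat.card k ^ P.deg) - a)) < 1 :=
    (isOverWith_lt_one_iff he _).mpr h1
  rw [map_sub, map_pow, pow_sub_eq_prod (kb := kb) hN] at h2
  have hale : Q.1 (algebraMap K Kb a) ≤ 1 := (isOverWith_le_one_iff he a).mpr ha
  obtain ⟨x, hx, hxlt⟩ := exists_lt_one_of_prod_lt_one Q.1 _ (by
    intro x hx
    obtain ⟨c, -, rfl⟩ := Multiset.mem_map.mp hx
    exact (Q.1.map_sub _ _).trans (max_le hale (Q.2.1 c))) h2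
  obtain ⟨c, -, rfl⟩ := Multiset.mem_map.mp hx
  have h3 : Q.1 (F (algebraMap K Kb a - algebraMap kb Kb c)) < 1 := (hfix _).mpr hxlt
  rw [map_sub, hF1, hF2] at h3
  have h4 : algebraMap K Kb a ^ Nat.card k - algebraMap K Kb a =
      (algebraMap K Kb a ^ Nat.card k - algebraMap kb Kb c) -
        (algebraMap K Kb a - algebraMap kb Kb c) := by ring
  have h5 : Q.1 (algebraMap K Kb a ^ Nat.card k - algebraMap K Kb a) < 1 := by
    rw [h4]
    exact (Q.1.map_sub _ _).trans_lt (max_lt h3 hxlt)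
  rw [← map_pow, ← map_sub] at h5
  exact (isOverWith_lt_one_iff he _).mp h5

/-- **a place fixed by the Frobenius lies over a place of degree one** -/
theorem exists_deg_one_of_fixed [IsAlgClosed kb] [Algebra.IsAlgebraic k kb]
    (hK : IsFunctionField k K)
    (hgen : Algebra.adjoin K (Set.range (algebraMap kb Kb)) = ⊤)
    (F : Kb →+* Kb) (hF1 : ∀ c : kb, F (algebraMap kb Kb c) = algebraMap kb Kb c)
    (hF2 : ∀ x : K, F (algebraMap K Kb x) = algebraMap K Kb x ^ Nat.card k)
    (Q : Place kb Kb) (hfix : ∀ z : Kb, Q.1 (F z) < 1 ↔ Q.1 z < 1) :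
    ∃ P : Place k K, (∃ e : ℕ, IsOverWith (restr (k := k) Q) P e) ∧ P.deg = 1 := by
  have halg : Algebra.IsAlgebraic K Kb := isAlgebraic_of_adjoin (k := k) hgen
  obtain ⟨P, e, he⟩ := exists_place_under hK (restr (k := k) Q)
  refine ⟨P, ⟨e, he⟩, ?_⟩
  have hfin := finite_residue hK P
  have hdvd : finrank k (IsLocalRing.ResidueField P.O) ∣ 1 := by
    apply finrank_dvd_of_forall_pow_eq
    intro w
    obtain ⟨a, rfl⟩ := IsLocalRing.residue_surjective w
    rw [pow_one, residue_pow_eq_iff]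
    exact val_pow_card_sub_lt_of_fixed hK F hF1 hF2 Q hfix he
      ((Valuation.mem_valuationSubring_iff P.1 _).mp a.2)
  exact Nat.dvd_one.mp hdvd

end Groth.Agent.H62.FrobFix
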