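import Groth.Agent.H62.FrobFix1
import Groth.Agent.H86.ZT10
import Groth.Agent.H80.AlgClosedIn

/-!
# Places of `k̄ K` over places of degree one are fixed by the Frobenius
-/

set_option autoImplicit false
set_option linter.unusedSectionVars false

namespace Groth.Agent.H62.FrobFix

open FunFld WithZero Module Polynomial Groth.Agent.H55 Groth.Agent.H62.FFHolRing
open Groth.Agent.H62.Weil Groth.Agent.H86.Zeta
open scoped IntermediateField

attribute [-instance] FunFld.Place.algRes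
attribute [local instance] Groth.Agent.H86.Zeta.algAdj

/-- two algebraic elements are polynomials in a common one -/
theorem exists_primitive_pair {k kb : Type*} [Field k] [Field kb] [Algebra k kb]
    [Algebra.IsAlgebraic k kb] [PerfectField k] (θ₁ θ₂ : kb) :
    ∃ θ : kb, ∃ p₁ p₂ : k[X], aeval θ p₁ = θ₁ ∧ aeval θ p₂ = θ₂ := by
  let E : IntermediateField k kb := IntermediateField.adjoin k {θ₁, θ₂}
  have hfin : FiniteDimensional k E :=
    IntermediateField.finiteDimensional_adjoin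
      (fun x _ => (Algebra.IsAlgebraic.isAlgebraic x).isIntegral)
  have hsep : Algebra.IsSeparable k E := Algebra.IsAlgebraic.isSeparable_of_perfectField
  obtain ⟨α, hα⟩ := Field.exists_primitive_element k E
  have key : ∀ x : E, ∃ p : k[X], aeval (α : kb) p = (x : kb) := by
    intro x
    have hx : x ∈ k⟮α⟯ := by rw [hα]; trivial
    have hint : IsIntegral k α := Algebra.IsIntegral.isIntegral α
    rw [← IntermediateField.mem_toSubalgebra,
      IntermediateField.adjoin_simple_toSubalgebra_of_isAlgebraic hint.isAlgebraic,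
      Algebra.adjoin_singleton_eq_range_aeval] at hx
    obtain ⟨p, hp⟩ := hx
    refine ⟨p, ?_⟩
    have h1 := aeval_algebraMap_apply kb α p
    rw [show (aeval α) p = x from hp] at h1
    exact h1
  have h1 : θ₁ ∈ E := IntermediateField.subset_adjoin k _ (by simp)
  have h2 : θ₂ ∈ E := IntermediateField.subset_adjoin k _ (by simp)
  obtain ⟨p₁, hp₁⟩ := key ⟨θ₁, h1⟩
  obtain ⟨p₂, hp₂⟩ := key ⟨θ₂, h2⟩
  exact ⟨α, p₁, p₂, hp₁, hp₂⟩

variable {k K kb Kb : Type*} [Field k] [Field K] [Algebra k K] [Field kb] [Algebra k kb]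
  [Field Kb] [Algebra K Kb] [Algebra kb Kb] [Algebra k Kb] [IsScalarTower k K Kb]
  [IsScalarTower k kb Kb]

/-- every element of `k̄ K` lies in `K[θ]` for a single constant `θ` -/
theorem exists_theta [Algebra.IsAlgebraic k kb] [PerfectField k]
    (hgen : Algebra.adjoin K (Set.range (algebraMap kb Kb)) = ⊤) (z : Kb) :
    ∃ θ : kb, z ∈ Algebra.adjoin K ({algebraMap kb Kb θ} : Set Kb) := by
  have hz : z ∈ Algebra.adjoin K (Set.range (algebraMap kb Kb)) := by
    rw [hgen]; exact Algebra.mem_top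
  have hmono : ∀ (θ θ' : kb) (p : k[X]), aeval θ p = θ' →
      Algebra.adjoin K ({algebraMap kb Kb θ'} : Set Kb) ≤
        Algebra.adjoin K ({algebraMap kb Kb θ} : Set Kb) := by
    intro θ θ' p hp
    apply Algebra.adjoin_le
    intro w hw
    rw [Set.mem_singleton_iff] at hw
    subst hw
    rw [← hp, ← aeval_algebraMap_apply, ← aeval_map_algebraMap K]
    rw [Algebra.adjoin_singleton_eq_range_aeval]
    exact ⟨_, rfl⟩
  induction hz using Algebra.adjoin_induction with
  | mem x hx =>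
    obtain ⟨c, rfl⟩ := hx
    exact ⟨c, Algebra.subset_adjoin rfl⟩
  | algebraMap x => exact ⟨0, Subalgebra.algebraMap_mem _ x⟩
  | add x y _ _ hx hy =>
    obtain ⟨θ₁, h₁⟩ := hx
    obtain ⟨θ₂, h₂⟩ := hy
    obtain ⟨θ, p₁, p₂, hp₁, hp₂⟩ := exists_primitive_pair (k := k) θ₁ θ₂
    exact ⟨θ, add_mem (hmono θ θ₁ p₁ hp₁ h₁) (hmono θ θ₂ p₂ hp₂ h₂)⟩
  | mul x y _ _ hx hy =>
    obtain ⟨θ₁, h₁⟩ := hx
    obtain ⟨θ₂, h₂⟩ := hy
    obtain ⟨θ, p₁, p₂, hp₁, hp₂⟩ := exists_primitive_pair (k := k) θ₁ θ₂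
    exact ⟨θ, mul_mem (hmono θ θ₁ p₁ hp₁ h₁) (hmono θ θ₂ p₂ hp₂ h₂)⟩

end Groth.Agent.H62.FrobFix
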