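import Groth.Agent.H62.FrobFix2

/-!
# Places of `k̄ K` over places of degree one are fixed by the Frobenius: the finite level
-/

set_option autoImplicit false
set_option linter.unusedSectionVars false

namespace Groth.Agent.H62.FrobFix

open FunFld WithZero Module Polynomial Groth.Agent.H55 Groth.Agent.H62.FFHolRing
open Groth.Agent.H62.Weil Groth.Agent.H86.Zeta
open scoped IntermediateField

attribute [-instance] FunFld.Place.algRes
attribute [local instance] Groth.Agent.H86.Zeta.algAdj

universe u v

variable {k : Type u} {K : Type v} {kb Kb : Type*} [Field k] [Field K] [Algebra k K] [Field kb]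
  [Algebra k kb] [Field Kb] [Algebra K Kb] [Algebra kb Kb] [Algebra k Kb] [IsScalarTower k K Kb]
  [IsScalarTower k kb Kb]

section level

variable (m : k[X]) [Fact (Irreducible m)] [Fact (Irreducible (m.map (algebraMap k K)))]
  (θ : kb) (hθ : aeval θ m = 0)

include hθ in
theorem eval₂_theta :
    eval₂ (algebraMap K Kb) (algebraMap kb Kb θ) (m.map (algebraMap k K)) = 0 := by
  rw [eval₂_map, ← IsScalarTower.algebraMap_eq k K Kb, ← aeval_def, aeval_algebraMap_apply, hθ,
    map_zero]

variable (K) in
/-- the embedding `K(θ) → k̄ K` -/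
noncomputable def phi : AdjoinRoot (m.map (algebraMap k K)) →+* Kb :=
  AdjoinRoot.lift (algebraMap K Kb) (algebraMap kb Kb θ) (eval₂_theta (K := K) m θ hθ)

/-- the embedding `k(θ) → k̄` -/
noncomputable def psi : AdjoinRoot m →+* kb :=
  AdjoinRoot.lift (algebraMap k kb) θ (by rw [← aeval_def]; exact hθ)

theorem phi_of (x : K) : phi K m θ hθ (AdjoinRoot.of _ x) = algebraMap K Kb x :=
  AdjoinRoot.lift_of _

theorem phi_root : phi K m θ hθ (AdjoinRoot.root _) = algebraMap kb Kb θ :=
  AdjoinRoot.lift_root _

theorem phi_algebraMap (c : AdjoinRoot m) :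
    phi K m θ hθ (algebraMap (AdjoinRoot m) (AdjoinRoot (m.map (algebraMap k K))) c) =
      algebraMap kb Kb (psi m θ hθ c) := by
  have h : (phi K m θ hθ).comp (algebraMap (AdjoinRoot m) (AdjoinRoot (m.map (algebraMap k K)))) =
      (algebraMap kb Kb).comp (psi m θ hθ) := by
    apply AdjoinRoot.ringHom_ext
    · ext c
      simp only [RingHom.comp_apply]
      rw [algebraMap_adj, AdjoinRoot.map_of, phi_of]
      unfold psi
      rw [AdjoinRoot.lift_of, ← IsScalarTower.algebraMap_apply, ← IsScalarTower.algebraMap_apply]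
    · simp only [RingHom.comp_apply]
      rw [algebraMap_adj, AdjoinRoot.map_root, phi_root]
      unfold psi
      rw [AdjoinRoot.lift_root]
  exact RingHom.congr_fun h c

theorem mem_range_phi {z : Kb} (hz : z ∈ Algebra.adjoin K ({algebraMap kb Kb θ} : Set Kb)) :
    z ∈ (phi K m θ hθ).range := by
  induction hz using Algebra.adjoin_induction with
  | mem x hx =>
    rw [Set.mem_singleton_iff] at hx
    subst hx
    exact ⟨_, phi_root m θ hθ⟩
  | algebraMap x => exact ⟨_, phi_of m θ hθ x⟩
  | add x y _ _ hx hy => exact add_mem hx hy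
  | mul x y _ _ hx hy => exact mul_mem hx hy

end level

end Groth.Agent.H62.FrobFix
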