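import Groth.Agent.H62.FrobFix3

/-!
# Places of `k̄ K` over places of degree one are fixed by the Frobenius
-/

set_option autoImplicit false
set_option linter.unusedSectionVars false

namespace Groth.Agent.H62.FrobFix

open FunFld WithZero Module Polynomial Groth.Agent.H55 Groth.Agent.H62.FFHolRing
open Groth.Agent.H62.Weil Groth.Agent.H86.Zeta
open scoped IntermediateField

attribute [-instance] FunFld.Place.algRes
attribute [local instance] Groth.Agent.H86.Zeta.algAdj

universe u v

variable {k : Type u} {K : Type v} {kb Kb : Type*} [Field k] [Finite k] [Field K] [Algebra k K]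
  [Field kb] [Algebra k kb] [Field Kb] [Algebra K Kb] [Algebra kb Kb] [Algebra k Kb]
  [IsScalarTower k K Kb] [IsScalarTower k kb Kb]

section level

variable (m : k[X]) [Fact (Irreducible m)] [Fact (Irreducible (m.map (algebraMap k K)))]
  (θ : kb) (hθ : aeval θ m = 0)

include hθ in
/-- the finite-level statement: on `K(θ)`, the Frobenius preserves the valuation ring and the
maximal ideal of a place over a place of degree one -/
theorem val_F_phi [Algebra.IsAlgebraic k kb] (hK : IsFunctionField k K) (hmon : m.Monic)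
    (hgen : Algebra.adjoin K (Set.range (algebraMap kb Kb)) = ⊤)
    (F : Kb →+* Kb) (hF1 : ∀ c : kb, F (algebraMap kb Kb c) = algebraMap kb Kb c)
    (hF2 : ∀ x : K, F (algebraMap K Kb x) = algebraMap K Kb x ^ Nat.card k)
    (Q : Place kb Kb) {P : Place k K} (hP : P.deg = 1)
    (hQP : ∀ x : K, Q.1 (algebraMap K Kb x) ≤ 1 ↔ P.1 x ≤ 1)
    (y : AdjoinRoot (m.map (algebraMap k K))) :
    (Q.1 (phi K m θ hθ y) ≤ 1 → Q.1 (F (phi K m θ hθ y)) ≤ 1) ∧
      (Q.1 (phi K m θ hθ y) < 1 → Q.1 (F (phi K m θ hθ y)) < 1) := by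
  classical
  have hbij := bijective_productMap m hK hmon
  have hfd : FiniteDimensional k (AdjoinRoot m) := hmon.finite_adjoinRoot
  have hsep : Algebra.IsSeparable k (AdjoinRoot m) :=
    Algebra.IsAlgebraic.isSeparable_of_perfectField
  have hg : IsGeometric k K := isGeometric_of_perfectField k K hK
  have hK' : IsFunctionField (AdjoinRoot m) (AdjoinRoot (m.map (algebraMap k K))) :=
    (isFunctionField_and_isGeometric_constExt hbij hK hg).1
  have hfdK : FiniteDimensional K (AdjoinRoot (m.map (algebraMap k K))) :=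
    finiteDimensional_constExt hbij
  -- `Kb` as an algebra over the finite level
  let _ : Algebra (AdjoinRoot (m.map (algebraMap k K))) Kb := (phi K m θ hθ).toAlgebra
  let _ : Algebra (AdjoinRoot m) Kb := ((phi K m θ hθ).comp
    (algebraMap (AdjoinRoot m) (AdjoinRoot (m.map (algebraMap k K))))).toAlgebra
  have t1 : IsScalarTower (AdjoinRoot m) (AdjoinRoot (m.map (algebraMap k K))) Kb :=
    IsScalarTower.of_algebraMap_eq' rfl
  have t2 : IsScalarTower K (AdjoinRoot (m.map (algebraMap k K))) Kb :=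
    IsScalarTower.of_algebraMap_eq (fun x => (phi_of m θ hθ x).symm)
  have halgK : Algebra.IsAlgebraic K Kb := isAlgebraic_of_adjoin (k := k) hgen
  have halg' : Algebra.IsAlgebraic (AdjoinRoot (m.map (algebraMap k K))) Kb :=
    Algebra.IsAlgebraic.tower_top (K := K) _
  let Q' : Place (AdjoinRoot m) Kb := ⟨Q.1, fun c => by
    show Q.1 (phi K m θ hθ (algebraMap (AdjoinRoot m) (AdjoinRoot (m.map (algebraMap k K))) c)) ≤ 1
    rw [phi_algebraMap]
    exact Q.2.1 _, Q.2.2⟩
  obtain ⟨Q₁, e₁, he₁⟩ := exists_place_under hK' Q'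
  have hval : ∀ w : AdjoinRoot (m.map (algebraMap k K)),
      Q.1 (phi K m θ hθ w) = Q₁.1 w ^ e₁ := fun w => he₁ w
  have he₁0 : e₁ ≠ 0 := (isOverWith_pos he₁).ne'
  -- `Q₁` lies over `P`
  have hover : IsOver (restr (k := k) Q₁) P := by
    obtain ⟨P'', e'', he''⟩ := exists_place_under hK (restr (k := k) Q₁)
    have hPP : P'' = P := by
      apply Place.eq_of_le
      intro x hx
      rw [← hQP, ← phi_of m θ hθ, hval]
      exact pow_le_one₀ zero_le ((isOverWith_le_one_iff he'' x).mpr hx)
    rw [← hPP]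
    exact ⟨e'', he''⟩
  obtain ⟨e, he⟩ := hover
  have he1 : e = 1 := ramIdx_eq_one_constExt hbij he
  subst he1
  obtain ⟨θ₀, hθ₀⟩ := exists_gen_of_deg_one hbij hK hK'
  -- elements of `O_P[θ₀]` are mapped into the valuation ring by the Frobenius
  have key : ∀ w ∈ Algebra.adjoin P.O
      ({algebraMap (AdjoinRoot m) (AdjoinRoot (m.map (algebraMap k K))) θ₀} :
        Set (AdjoinRoot (m.map (algebraMap k K)))), Q.1 (F (phi K m θ hθ w)) ≤ 1 := by
    intro w hw
    induction hw using Algebra.adjoin_induction with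
    | mem x hx =>
      rw [Set.mem_singleton_iff] at hx
      subst hx
      rw [phi_algebraMap, hF1]
      exact Q.2.1 _
    | algebraMap a =>
      have h1 : algebraMap P.O (AdjoinRoot (m.map (algebraMap k K))) a =
          AdjoinRoot.of _ (a : K) := rfl
      rw [h1, phi_of, hF2, map_pow]
      exact pow_le_one₀ zero_le ((hQP _).mpr ((Valuation.mem_valuationSubring_iff P.1 _).mp a.2))
    | add x y _ _ hx hy =>
      rw [map_add, map_add]
      exact (Q.1.map_add _ _).trans (max_le hx hy)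
    | mul x y _ _ hx hy =>
      rw [map_mul, map_mul, map_mul]
      exact mul_le_one' hx hy
  have hle : ∀ w : AdjoinRoot (m.map (algebraMap k K)), Q.1 (phi K m θ hθ w) ≤ 1 →
      Q.1 (F (phi K m θ hθ w)) ≤ 1 := by
    intro w hw
    rw [hval] at hw
    have hw' : Q₁.1 w ≤ 1 := (pow_le_one_iff he₁0).mp hw
    exact key w (hθ₀ P hP (restr (k := k) Q₁) ⟨1, he⟩ w hw')
  refine ⟨hle y, fun hy => ?_⟩
  -- the maximal ideal: divide by a uniformizer of `P`
  obtain ⟨t, ht⟩ := Place.exists_uniformizer P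
  have ht0 : t ≠ 0 := by
    rintro rfl
    rw [map_zero] at ht
    exact exp_ne_zero ht.symm
  have htQ₁ : Q₁.1 (algebraMap K (AdjoinRoot (m.map (algebraMap k K))) t) = exp (-1 : ℤ) := by
    have := he t
    rw [pow_one] at this
    rw [← ht]
    exact this
  rw [hval] at hy
  have hy' : Q₁.1 y < 1 := (pow_lt_one_iff he₁0).mp hy
  have hy'' : Q₁.1 y ≤ exp (-1 : ℤ) := le_exp_neg_one_of_lt_one hy'
  set T := algebraMap K (AdjoinRoot (m.map (algebraMap k K))) t with hT
  have hT0 : T ≠ 0 := (_root_.map_ne_zero _).mpr ht0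
  have hw : Q₁.1 (y / T) ≤ 1 := by
    rw [map_div₀, htQ₁]
    exact div_le_one_of_le₀ hy'' zero_le
  have hyT : y = T * (y / T) := by field_simp
  have h1 : Q.1 (F (phi K m θ hθ (y / T))) ≤ 1 := by
    apply hle
    rw [hval]
    exact pow_le_one₀ zero_le hw
  have h2 : phi K m θ hθ T = algebraMap K Kb t := phi_of m θ hθ t
  have h3 : Q.1 (algebraMap K Kb t) < 1 := by
    by_contra hcon
    push Not at hcon
    have h4 : Q.1 (algebraMap K Kb t) ≤ 1 := (hQP t).mpr (by rw [ht]; exact exp_neg_one_lt_one.le)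
    have h5 : Q.1 (algebraMap K Kb t⁻¹) ≤ 1 := by
      rw [map_inv₀, map_inv₀]
      rw [le_antisymm h4 hcon, inv_one]
    have h6 := (hQP _).mp h5
    rw [map_inv₀, ht] at h6
    have h7 : (exp (-1 : ℤ) : WithZero (Multiplicative ℤ))⁻¹ = exp (1 : ℤ) := by
      rw [← exp_neg, neg_neg]
    rw [h7, ← exp_zero, exp_le_exp] at h6
    omega
  rw [hyT, map_mul, map_mul, h2, hF2, map_mul, map_pow]
  have hq : Nat.card k ≠ 0 := Nat.card_pos.ne'
  calc Q.1 (algebraMap K Kb t) ^ Nat.card k * Q.1 (F (phi K m θ hθ (y / T)))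
      ≤ Q.1 (algebraMap K Kb t) ^ Nat.card k * 1 := by gcongr
    _ < 1 := by rw [mul_one]; exact pow_lt_one₀ zero_le h3 hq

end level

end Groth.Agent.H62.FrobFix
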