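import Groth.Agent.H62.FrobFix4

/-!
# A place of `k̄ K` is fixed by the Frobenius iff it lies over a place of degree one
-/

set_option autoImplicit false
set_option linter.unusedSectionVars false

namespace Groth.Agent.H62.FrobFix

open FunFld WithZero Module Polynomial Groth.Agent.H55 Groth.Agent.H62.FFHolRing
open Groth.Agent.H62.Weil Groth.Agent.H86.Zeta

attribute [-instance] FunFld.Place.algRes

universe u v

variable {k : Type u} {K : Type v} {kb Kb : Type*} [Field k] [Finite k] [Field K] [Algebra k K]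
  [Field kb] [Algebra k kb] [Field Kb] [Algebra K Kb] [Algebra kb Kb] [Algebra k Kb]
  [IsScalarTower k K Kb] [IsScalarTower k kb Kb]

/-- the Frobenius preserves the valuation ring and the maximal ideal of a place over a place
of degree one -/
theorem val_F_of_deg_one [Algebra.IsAlgebraic k kb] (hK : IsFunctionField k K)
    (hgen : Algebra.adjoin K (Set.range (algebraMap kb Kb)) = ⊤)
    (F : Kb →+* Kb) (hF1 : ∀ c : kb, F (algebraMap kb Kb c) = algebraMap kb Kb c)
    (hF2 : ∀ x : K, F (algebraMap K Kb x) = algebraMap K Kb x ^ Nat.card k)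
    (Q : Place kb Kb) {P : Place k K} (hP : P.deg = 1)
    (hQP : ∀ x : K, Q.1 (algebraMap K Kb x) ≤ 1 ↔ P.1 x ≤ 1) (z : Kb) :
    (Q.1 z ≤ 1 → Q.1 (F z) ≤ 1) ∧ (Q.1 z < 1 → Q.1 (F z) < 1) := by
  obtain ⟨θ, hz⟩ := exists_theta (k := k) hgen z
  have hθint : IsIntegral k θ := (Algebra.IsAlgebraic.isAlgebraic θ).isIntegral
  have hirr : Irreducible (minpoly k θ) := minpoly.irreducible hθint
  have hmon : (minpoly k θ).Monic := minpoly.monic hθint
  have : Fact (Irreducible (minpoly k θ)) := ⟨hirr⟩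
  have hirr' : Irreducible ((minpoly k θ).map (algebraMap k K)) :=
    Groth.Agent.H80.irreducible_map_of_algebraicClosure_eq_bot (algebraicClosure_eq_bot hK)
      hirr hmon
  have : Fact (Irreducible ((minpoly k θ).map (algebraMap k K))) := ⟨hirr'⟩
  have hθ : aeval θ (minpoly k θ) = 0 := minpoly.aeval k θ
  obtain ⟨y, rfl⟩ := mem_range_phi (minpoly k θ) θ hθ hz
  exact val_F_phi (minpoly k θ) θ hθ hK hmon hgen F hF1 hF2 Q hP hQP y

/-- **a place over a place of degree one is fixed by the Frobenius** -/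
theorem fixed_of_deg_one [Algebra.IsAlgebraic k kb] (hK : IsFunctionField k K)
    (hgen : Algebra.adjoin K (Set.range (algebraMap kb Kb)) = ⊤)
    (F : Kb →+* Kb) (hF1 : ∀ c : kb, F (algebraMap kb Kb c) = algebraMap kb Kb c)
    (hF2 : ∀ x : K, F (algebraMap K Kb x) = algebraMap K Kb x ^ Nat.card k)
    (Q : Place kb Kb) {P : Place k K} (hP : P.deg = 1)
    (hQP : ∀ x : K, Q.1 (algebraMap K Kb x) ≤ 1 ↔ P.1 x ≤ 1) (z : Kb) :
    Q.1 (F z) < 1 ↔ Q.1 z < 1 := by
  have main := val_F_of_deg_one hK hgen F hF1 hF2 Q hP hQP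
  refine ⟨fun h => ?_, (main z).2⟩
  by_contra hcon
  push Not at hcon
  have hz0 : z ≠ 0 := by
    rintro rfl
    rw [map_zero] at hcon
    exact not_le.mpr zero_lt_one hcon
  have h1 : Q.1 z⁻¹ ≤ 1 := by
    rw [map_inv₀]
    exact inv_le_one_of_one_le₀ hcon
  have h2 := (main z⁻¹).1 h1
  rw [map_inv₀, map_inv₀] at h2
  have hF0 : Q.1 (F z) ≠ 0 := by
    rw [Valuation.ne_zero_iff]
    exact (_root_.map_ne_zero F).mpr hz0
  have h3 : 1 ≤ Q.1 (F z) := (inv_le_one₀ (zero_lt_iff.mpr hF0)).mp h2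
  exact not_lt.mpr h3 h

end Groth.Agent.H62.FrobFix
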