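import Groth.Agent.H62.FrobFix5

/-!
# Places of `k̄ K` over a place of degree one: existence and uniqueness
-/

set_option autoImplicit false
set_option linter.unusedSectionVars false

namespace Groth.Agent.H62.FrobFix

open FunFld WithZero Module Polynomial Groth.Agent.H55 Groth.Agent.H62.FFHolRing
open Groth.Agent.H62.Weil Groth.Agent.H86.Zeta
open scoped IntermediateField

attribute [-instance] FunFld.Place.algRes
attribute [local instance] Groth.Agent.H86.Zeta.algAdj

universe u v

variable {k : Type u} {K : Type v} {kb Kb : Type*} [Field k] [Finite k] [Field K] [Algebra k K]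
  [Field kb] [Algebra k kb] [Field Kb] [Algebra K Kb] [Algebra kb Kb] [Algebra k Kb]
  [IsScalarTower k K Kb] [IsScalarTower k kb Kb]

section level

variable (m : k[X]) [Fact (Irreducible m)] [Fact (Irreducible (m.map (algebraMap k K)))]
  (θ : kb) (hθ : aeval θ m = 0)

include hθ in
/-- the place of the finite level `K(θ)` below a place of `k̄ K` -/
theorem exists_level_place [Algebra.IsAlgebraic k kb] (hK : IsFunctionField k K) (hmon : m.Monic)
    (hgen : Algebra.adjoin K (Set.range (algebraMap kb Kb)) = ⊤)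
    (Q : Place kb Kb) {P : Place k K}
    (hQP : ∀ x : K, Q.1 (algebraMap K Kb x) ≤ 1 ↔ P.1 x ≤ 1) :
    ∃ (Q₁ : Place (AdjoinRoot m) (AdjoinRoot (m.map (algebraMap k K)))) (e₁ : ℕ), e₁ ≠ 0 ∧
      (∀ w, Q.1 (phi K m θ hθ w) = Q₁.1 w ^ e₁) ∧ IsOver (restr (k := k) Q₁) P := by
  classical
  have hbij := bijective_productMap m hK hmon
  have hfd : FiniteDimensional k (AdjoinRoot m) := hmon.finite_adjoinRoot
  have hg : IsGeometric k K := isGeometric_of_perfectField k K hK
  have hK' : IsFunctionField (AdjoinRoot m) (AdjoinRoot (m.map (algebraMap k K))) :=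
    (isFunctionField_and_isGeometric_constExt hbij hK hg).1
  have hfdK : FiniteDimensional K (AdjoinRoot (m.map (algebraMap k K))) :=
    finiteDimensional_constExt hbij
  let _ : Algebra (AdjoinRoot (m.map (algebraMap k K))) Kb := (phi K m θ hθ).toAlgebra
  let _ : Algebra (AdjoinRoot m) Kb := ((phi K m θ hθ).comp
    (algebraMap (AdjoinRoot m) (AdjoinRoot (m.map (algebraMap k K))))).toAlgebra
  have t1 : IsScalarTower (AdjoinRoot m) (AdjoinRoot (m.map (algebraMap k K))) Kb :=
    IsScalarTower.of_algebraMap_eq' rfl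
  have t2 : IsScalarTower K (AdjoinRoot (m.map (algebraMap k K))) Kb :=
    IsScalarTower.of_algebraMap_eq (fun x => (phi_of m θ hθ x).symm)
  have halgK : Algebra.IsAlgebraic K Kb := isAlgebraic_of_adjoin (k := k) hgen
  have halg' : Algebra.IsAlgebraic (AdjoinRoot (m.map (algebraMap k K))) Kb :=
    Algebra.IsAlgebraic.tower_top (K := K) _
  let Q' : Place (AdjoinRoot m) Kb := ⟨Q.1, fun c => by
    show Q.1 (phi K m θ hθ (algebraMap (AdjoinRoot m) (AdjoinRoot (m.map (algebraMap k K))) c)) ≤ 1
    rw [phi_algebraMap]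
    exact Q.2.1 _, Q.2.2⟩
  obtain ⟨Q₁, e₁, he₁⟩ := exists_place_under hK' Q'
  have hval : ∀ w : AdjoinRoot (m.map (algebraMap k K)),
      Q.1 (phi K m θ hθ w) = Q₁.1 w ^ e₁ := fun w => he₁ w
  refine ⟨Q₁, e₁, (isOverWith_pos he₁).ne', hval, ?_⟩
  obtain ⟨P'', e'', he''⟩ := exists_place_under hK (restr (k := k) Q₁)
  have hPP : P'' = P := by
    apply Place.eq_of_le
    intro x hx
    rw [← hQP, ← phi_of m θ hθ, hval]
    exact pow_le_one₀ zero_le ((isOverWith_le_one_iff he'' x).mpr hx)
  rw [← hPP]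
  exact ⟨e'', he''⟩

include hθ in
/-- two places over the same place of degree one agree on the finite level -/
theorem le_one_iff_of_over_same [Algebra.IsAlgebraic k kb] (hK : IsFunctionField k K)
    (hmon : m.Monic) (hgen : Algebra.adjoin K (Set.range (algebraMap kb Kb)) = ⊤)
    (Q Q' : Place kb Kb) {P : Place k K} (hP : P.deg = 1)
    (hQP : ∀ x : K, Q.1 (algebraMap K Kb x) ≤ 1 ↔ P.1 x ≤ 1)
    (hQ'P : ∀ x : K, Q'.1 (algebraMap K Kb x) ≤ 1 ↔ P.1 x ≤ 1)
    (y : AdjoinRoot (m.map (algebraMap k K))) :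
    Q.1 (phi K m θ hθ y) ≤ 1 → Q'.1 (phi K m θ hθ y) ≤ 1 := by
  have hbij := bijective_productMap m hK hmon
  have hfd : FiniteDimensional k (AdjoinRoot m) := hmon.finite_adjoinRoot
  have hsep : Algebra.IsSeparable k (AdjoinRoot m) :=
    Algebra.IsAlgebraic.isSeparable_of_perfectField
  have hg : IsGeometric k K := isGeometric_of_perfectField k K hK
  have hK' : IsFunctionField (AdjoinRoot m) (AdjoinRoot (m.map (algebraMap k K))) :=
    (isFunctionField_and_isGeometric_constExt hbij hK hg).1
  obtain ⟨Q₁, e₁, he₁, hval, hover⟩ := exists_level_place m θ hθ hK hmon hgen Q hQP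
  obtain ⟨Q₁', e₁', he₁', hval', hover'⟩ := exists_level_place m θ hθ hK hmon hgen Q' hQ'P
  have heq : restr (k := k) Q₁ = restr (k := k) Q₁' :=
    unique_over_of_deg_one hbij hK hK' hP hover hover'
  have heq' : Q₁ = Q₁' := restr_injective heq
  intro h
  rw [hval] at h
  rw [hval', ← heq']
  exact pow_le_one₀ zero_le ((pow_le_one_iff he₁).mp h)

end level

/-- **a place of degree one has at most one place of `k̄ K` above it** -/
theorem unique_over_deg_one [Algebra.IsAlgebraic k kb] (hK : IsFunctionField k K)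
    (hgen : Algebra.adjoin K (Set.range (algebraMap kb Kb)) = ⊤)
    (Q Q' : Place kb Kb) {P : Place k K} (hP : P.deg = 1)
    (hQP : ∀ x : K, Q.1 (algebraMap K Kb x) ≤ 1 ↔ P.1 x ≤ 1)
    (hQ'P : ∀ x : K, Q'.1 (algebraMap K Kb x) ≤ 1 ↔ P.1 x ≤ 1) : Q = Q' := by
  apply Place.eq_of_le
  intro z hz
  obtain ⟨θ, hzθ⟩ := exists_theta (k := k) hgen z
  have hθint : IsIntegral k θ := (Algebra.IsAlgebraic.isAlgebraic θ).isIntegral
  have hirr : Irreducible (minpoly k θ) := minpoly.irreducible hθint
  have hmon : (minpoly k θ).Monic := minpoly.monic hθint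
  have : Fact (Irreducible (minpoly k θ)) := ⟨hirr⟩
  have hirr' : Irreducible ((minpoly k θ).map (algebraMap k K)) :=
    Groth.Agent.H80.irreducible_map_of_algebraicClosure_eq_bot (algebraicClosure_eq_bot hK)
      hirr hmon
  have : Fact (Irreducible ((minpoly k θ).map (algebraMap k K))) := ⟨hirr'⟩
  have hθ : aeval θ (minpoly k θ) = 0 := minpoly.aeval k θ
  obtain ⟨y, rfl⟩ := mem_range_phi (minpoly k θ) θ hθ hzθ
  exact le_one_iff_of_over_same (minpoly k θ) θ hθ hK hmon hgen Q Q' hP hQP hQ'P y hz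

omit [Finite k] in
/-- **every place of `K` has a place of `k̄ K` above it** -/
theorem exists_over [Algebra.IsAlgebraic k kb] (hK : IsFunctionField k K)
    (hKb : IsFunctionField kb Kb)
    (hgen : Algebra.adjoin K (Set.range (algebraMap kb Kb)) = ⊤) (P : Place k K) :
    ∃ Q : Place kb Kb, ∀ x : K, Q.1 (algebraMap K Kb x) ≤ 1 ↔ P.1 x ≤ 1 := by
  obtain ⟨t, ht0, htP, htonly⟩ := exists_only_zero hK P
  have httr : Transcendental k t := W.transcendental_of_val_ne_one P ht0 htP.ne
  have httr' : Transcendental k (algebraMap K Kb t) := transcendental_algebraMap httr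
  have httr'' : Transcendental kb (algebraMap K Kb t) := by
    intro h
    exact httr' (h.restrictScalars k)
  obtain ⟨Q, hQ⟩ := exists_zero hKb httr''
  have halgK : Algebra.IsAlgebraic K Kb := isAlgebraic_of_adjoin (k := k) hgen
  obtain ⟨P', e, he⟩ := exists_place_under hK (restr (k := k) Q)
  have hP' : P' = P := htonly P' ((isOverWith_lt_one_iff he t).mp hQ)
  subst hP'
  exact ⟨Q, fun x => isOverWith_le_one_iff he x⟩

end Groth.Agent.H62.FrobFix
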