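import Groth.Agent.H62.FrobFix6
import Mathlib.FieldTheory.Finite.Extension

/-!
# The number of places of `k̄ K` fixed by a power of the Frobenius
-/

set_option autoImplicit false
set_option linter.unusedSectionVars false

namespace Groth.Agent.H62.FrobFix

open FunFld WithZero Module Polynomial Groth.Agent.H55 Groth.Agent.H62.FFHolRing
open Groth.Agent.H62.Weil Groth.Agent.H86.Zeta
open scoped IntermediateField

attribute [-instance] FunFld.Place.algRes
attribute [local instance] Groth.Agent.H86.Zeta.algAdj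

universe u v

/-- irreducible polynomials of every degree over a finite field -/
theorem exists_irreducible_natDegree {k : Type*} [Field k] [Finite k] (n : ℕ) (hn : 0 < n) :
    ∃ m : k[X], Irreducible m ∧ m.Monic ∧ m.natDegree = n := by
  obtain ⟨p, hp⟩ := CharP.exists k
  have hprime : Fact p.Prime := ⟨CharP.char_is_prime k p⟩
  have : NeZero n := ⟨hn.ne'⟩
  have hsep : Algebra.IsSeparable k (FiniteField.Extension k p n) :=
    Algebra.IsAlgebraic.isSeparable_of_perfectField
  obtain ⟨α, hα⟩ := Field.exists_primitive_element k (FiniteField.Extension k p n)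
  have hint : IsIntegral k α := Algebra.IsIntegral.isIntegral α
  refine ⟨minpoly k α, minpoly.irreducible hint, minpoly.monic hint, ?_⟩
  rw [← IntermediateField.adjoin.finrank hint, hα, IntermediateField.finrank_top',
    FiniteField.finrank_extension]

variable {k : Type u} {K : Type v} {kb Kb : Type*} [Field k] [Finite k] [Field K] [Algebra k K]
  [Field kb] [Algebra k kb] [Field Kb] [Algebra K Kb] [Algebra kb Kb] [Algebra k Kb]
  [IsScalarTower k K Kb] [IsScalarTower k kb Kb]

/-- the places fixed by the Frobenius correspond to the places of degree one -/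
theorem card_fixed_eq [IsAlgClosed kb] [Algebra.IsAlgebraic k kb] (hK : IsFunctionField k K)
    (hKb : IsFunctionField kb Kb)
    (hgen : Algebra.adjoin K (Set.range (algebraMap kb Kb)) = ⊤)
    (F : Kb →+* Kb) (hF1 : ∀ c : kb, F (algebraMap kb Kb c) = algebraMap kb Kb c)
    (hF2 : ∀ x : K, F (algebraMap K Kb x) = algebraMap K Kb x ^ Nat.card k) :
    Nat.card {Q : Place kb Kb // ∀ z : Kb, Q.1 (F z) < 1 ↔ Q.1 z < 1} =
      Nat.card {P : Place k K // P.deg = 1} := by
  classical
  have hex : ∀ Q : {Q : Place kb Kb // ∀ z : Kb, Q.1 (F z) < 1 ↔ Q.1 z < 1},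
      ∃ P : Place k K, (∃ e : ℕ, IsOverWith (restr (k := k) Q.1) P e) ∧ P.deg = 1 :=
    fun Q => exists_deg_one_of_fixed hK hgen F hF1 hF2 Q.1 Q.2
  let f : {Q : Place kb Kb // ∀ z : Kb, Q.1 (F z) < 1 ↔ Q.1 z < 1} →
      {P : Place k K // P.deg = 1} := fun Q => ⟨(hex Q).choose, (hex Q).choose_spec.2⟩
  have hf : ∀ Q, ∀ x : K, Q.1.1 (algebraMap K Kb x) ≤ 1 ↔ (f Q).1.1 x ≤ 1 := by
    intro Q x
    obtain ⟨e, he⟩ := (hex Q).choose_spec.1
    exact isOverWith_le_one_iff he x
  apply Nat.card_eq_of_bijective f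
  constructor
  · intro Q Q' hQQ'
    apply Subtype.ext
    apply unique_over_deg_one hK hgen Q.1 Q'.1 (f Q).2 (hf Q)
    rw [hQQ']
    exact hf Q'
  · intro P
    obtain ⟨Q, hQ⟩ := exists_over hK hKb hgen P.1
    refine ⟨⟨Q, fun z => fixed_of_deg_one hK hgen F hF1 hF2 Q P.2 hQ z⟩, ?_⟩
    apply Subtype.ext
    apply Place.eq_of_le
    intro x hx
    rw [← hQ]
    exact (hf ⟨Q, _⟩ x).mpr hx

end Groth.Agent.H62.FrobFix
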