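import Groth.Agent.H62.FrobFix7

/-!
# The number of places of `k̄ K` fixed by the `a`-th power of the Frobenius is `N_a`
-/

set_option autoImplicit false
set_option linter.unusedSectionVars false

namespace Groth.Agent.H62.FrobFix

open FunFld WithZero Module Polynomial Groth.Agent.H55 Groth.Agent.H62.FFHolRing
open Groth.Agent.H62.Weil Groth.Agent.H86.Zeta
open scoped IntermediateField

attribute [-instance] FunFld.Place.algRes
attribute [local instance] Groth.Agent.H86.Zeta.algAdj

universe u v

variable {k : Type u} {K : Type v} {kb Kb : Type*} [Field k] [Finite k] [Field K] [Algebra k K]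
  [Field kb] [Algebra k kb] [Field Kb] [Algebra K Kb] [Algebra kb Kb] [Algebra k Kb]
  [IsScalarTower k K Kb] [IsScalarTower k kb Kb]

theorem F_pow_apply_algebraMap {K Kb kb : Type*} [Field K] [Field kb] [Field Kb] [Algebra K Kb]
    [Algebra kb Kb] (F : Kb →ₐ[kb] Kb) {q : ℕ}
    (hF : ∀ x : K, F (algebraMap K Kb x) = algebraMap K Kb x ^ q) (a : ℕ) (x : K) :
    (F ^ a) (algebraMap K Kb x) = algebraMap K Kb x ^ (q ^ a) := by
  induction a with
  | zero => rw [pow_zero, pow_zero, pow_one, AlgHom.one_apply]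
  | succ a ih =>
    rw [pow_succ' F a, AlgHom.mul_apply, ih, map_pow, hF, ← pow_mul, pow_succ' q a]

/-- **the number of places fixed by `F ^ a` is `N_a`** -/
theorem card_fixed_pow_eq [IsAlgClosed kb] [Algebra.IsAlgebraic k kb] (hK : IsFunctionField k K)
    (hKb : IsFunctionField kb Kb)
    (hgen : Algebra.adjoin K (Set.range (algebraMap kb Kb)) = ⊤)
    (F : Kb →ₐ[kb] Kb) (hF : ∀ x : K, F (algebraMap K Kb x) = algebraMap K Kb x ^ Nat.card k)
    {a : ℕ} (ha : 0 < a) :
    Nat.card {Q : Place kb Kb // ∀ z : Kb, Q.1 ((F ^ a) z) < 1 ↔ Q.1 z < 1} = Nm k K a := by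
  classical
  obtain ⟨m, hirr, hmon, hdeg⟩ := exists_irreducible_natDegree (k := k) a ha
  have : Fact (Irreducible m) := ⟨hirr⟩
  have hirr' : Irreducible (m.map (algebraMap k K)) :=
    Groth.Agent.H80.irreducible_map_of_algebraicClosure_eq_bot (algebraicClosure_eq_bot hK)
      hirr hmon
  have : Fact (Irreducible (m.map (algebraMap k K))) := ⟨hirr'⟩
  obtain ⟨θ, hθ⟩ := IsAlgClosed.exists_aeval_eq_zero kb m (by
    rw [degree_eq_natDegree hirr.ne_zero, hdeg]
    exact_mod_cast ha.ne')
  have hbij := bijective_productMap m hK hmon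
  have hfd : FiniteDimensional k (AdjoinRoot m) := hmon.finite_adjoinRoot
  have hsep : Algebra.IsSeparable k (AdjoinRoot m) :=
    Algebra.IsAlgebraic.isSeparable_of_perfectField
  have hg : IsGeometric k K := isGeometric_of_perfectField k K hK
  have hK' : IsFunctionField (AdjoinRoot m) (AdjoinRoot (m.map (algebraMap k K))) :=
    (isFunctionField_and_isGeometric_constExt hbij hK hg).1
  have hfin' : Finite (AdjoinRoot m) := Module.finite_of_finite k
  have hrank : finrank k (AdjoinRoot m) = a := by
    rw [← hdeg]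
    exact (AdjoinRoot.powerBasis hirr.ne_zero).finrank
  have hcard : Nat.card (AdjoinRoot m) = Nat.card k ^ a := by
    rw [Module.natCard_eq_pow_finrank (K := k) (V := AdjoinRoot m), hrank]
  -- the level structure
  let _ : Algebra (AdjoinRoot (m.map (algebraMap k K))) Kb := (phi K m θ hθ).toAlgebra
  let _ : Algebra (AdjoinRoot m) kb := (psi m θ hθ).toAlgebra
  let _ : Algebra (AdjoinRoot m) Kb := ((phi K m θ hθ).comp
    (algebraMap (AdjoinRoot m) (AdjoinRoot (m.map (algebraMap k K))))).toAlgebra
  have t1 : IsScalarTower (AdjoinRoot m) (AdjoinRoot (m.map (algebraMap k K))) Kb :=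
    IsScalarTower.of_algebraMap_eq' rfl
  have t2 : IsScalarTower K (AdjoinRoot (m.map (algebraMap k K))) Kb :=
    IsScalarTower.of_algebraMap_eq (fun x => (phi_of m θ hθ x).symm)
  have t3 : IsScalarTower (AdjoinRoot m) kb Kb := by
    apply IsScalarTower.of_algebraMap_eq
    intro c
    exact phi_algebraMap (K := K) m θ hθ c
  have t4 : IsScalarTower k (AdjoinRoot m) kb := by
    apply IsScalarTower.of_algebraMap_eq
    intro c
    show algebraMap k kb c = psi m θ hθ (AdjoinRoot.of m c)
    unfold psi
    rw [AdjoinRoot.lift_of]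
  have halg' : Algebra.IsAlgebraic (AdjoinRoot m) kb :=
    Algebra.IsAlgebraic.tower_top (K := k) _
  have hgen' : Algebra.adjoin (AdjoinRoot (m.map (algebraMap k K)))
      (Set.range (algebraMap kb Kb)) = ⊤ := by
    rw [eq_top_iff]
    intro z hzt
    clear hzt
    have hz : z ∈ Algebra.adjoin K (Set.range (algebraMap kb Kb)) := by
      rw [hgen]; exact Algebra.mem_top
    induction hz using Algebra.adjoin_induction with
    | mem x hx => exact Algebra.subset_adjoin hx
    | algebraMap x =>
      rw [IsScalarTower.algebraMap_apply K (AdjoinRoot (m.map (algebraMap k K))) Kb]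
      exact Subalgebra.algebraMap_mem _ _
    | add x y _ _ hx hy => exact add_mem hx hy
    | mul x y _ _ hx hy => exact mul_mem hx hy
  have hF1 : ∀ c : kb, ((F ^ a : Kb →ₐ[kb] Kb) : Kb →+* Kb) (algebraMap kb Kb c) =
      algebraMap kb Kb c := fun c => (F ^ a).commutes c
  -- the power of the Frobenius is the Frobenius of the level
  let _ := Fintype.ofFinite k
  have hθpow : θ ^ (Nat.card k ^ a) = θ := by
    let _ := Fintype.ofFinite (AdjoinRoot m)
    have h1 := FiniteField.pow_card (AdjoinRoot.root m)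
    rw [← Nat.card_eq_fintype_card, hcard] at h1
    have h2 := congrArg (psi m θ hθ) h1
    rw [map_pow] at h2
    unfold psi at h2
    rw [AdjoinRoot.lift_root] at h2
    exact h2
  have hF2 : ∀ y : AdjoinRoot (m.map (algebraMap k K)),
      ((F ^ a : Kb →ₐ[kb] Kb) : Kb →+* Kb)
        (algebraMap (AdjoinRoot (m.map (algebraMap k K))) Kb y) =
      algebraMap (AdjoinRoot (m.map (algebraMap k K))) Kb y ^ Nat.card (AdjoinRoot m) := by
    have hFr : ∀ w : Kb, ((FiniteField.frobeniusAlgHom k Kb) ^ a) w = w ^ (Nat.card k ^ a) := by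
      intro w
      rw [AlgHom.coe_pow, FiniteField.coe_frobeniusAlgHom, pow_iterate,
        ← Nat.card_eq_fintype_card]
    have heq : ((F ^ a : Kb →ₐ[kb] Kb) : Kb →+* Kb).comp (phi K m θ hθ) =
        (((FiniteField.frobeniusAlgHom k Kb) ^ a : Kb →ₐ[k] Kb) : Kb →+* Kb).comp
          (phi K m θ hθ) := by
      apply AdjoinRoot.ringHom_ext
      · ext x
        simp only [RingHom.comp_apply, RingHom.coe_coe]
        rw [phi_of, hFr, F_pow_apply_algebraMap F hF]
      · simp only [RingHom.comp_apply, RingHom.coe_coe]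
        rw [phi_root, hFr, (F ^ a).commutes, ← map_pow, hθpow]
    intro y
    have h1 := RingHom.congr_fun heq y
    simp only [RingHom.comp_apply, RingHom.coe_coe] at h1
    rw [hcard, ← hFr]
    exact h1
  have hmain := card_fixed_eq (k := AdjoinRoot m) (K := AdjoinRoot (m.map (algebraMap k K)))
    hK' hKb hgen' ((F ^ a : Kb →ₐ[kb] Kb) : Kb →+* Kb) hF1 hF2
  rw [← Nm_one hK', Nm_constExt hbij hK hK' (le_refl 1), mul_one, hrank] at hmain
  exact hmain

end Groth.Agent.H62.FrobFix
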