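import Mathlib
import Groth.Prelude.Def_CohB1

/-!
helper62, GENERAL-FIELD curve ↔ function field dictionary, part 6 (algebra): the homogeneous
localization of `k[T₀, T₁]` at a homogeneous prime not containing `Tᵢ`: every element is a
quotient of two polynomials in the coordinate `Tⱼ / Tᵢ` (with coefficients in `k`), the denominator
being a unit.
-/

set_option autoImplicit false
open MvPolynomial HomogeneousLocalization
universe u

namespace Groth.Agent.H62.GD.P1

variable (k : Type u) [Field k]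

local notation "𝒜" => CohB1.polyGrading 1 k

variable (𝔭 : Ideal (MvPolynomial (Fin (1 + 1)) k)) [𝔭.IsPrime]

/-- the constants in the homogeneous localization -/
noncomputable def cst : k →+* AtPrime 𝒜 𝔭 :=
  (fromZeroRingHom 𝒜 _).comp (algebraMap k (𝒜 0))

theorem val_cst (c : k) :
    (cst k 𝔭 c).val = Localization.mk (C c) (1 : 𝔭.primeCompl) := rfl

variable {k 𝔭}

theorem X_mem (i : Fin (1 + 1)) : (X i : MvPolynomial (Fin (1 + 1)) k) ∈ 𝒜 1 :=
  (mem_homogeneousSubmodule _ _).mpr (isHomogeneous_X k i)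

/-- the coordinate `Tⱼ / Tᵢ` -/
noncomputable def coord (i j : Fin (1 + 1)) (hi : (X i : MvPolynomial (Fin (1 + 1)) k) ∉ 𝔭) :
    AtPrime 𝒜 𝔭 :=
  HomogeneousLocalization.mk ⟨1, ⟨X j, X_mem j⟩, ⟨X i, X_mem i⟩, hi⟩

theorem val_coord (i j : Fin (1 + 1)) (hi : (X i : MvPolynomial (Fin (1 + 1)) k) ∉ 𝔭) :
    (coord i j hi).val = Localization.mk (X j) (⟨X i, hi⟩ : 𝔭.primeCompl) := rfl

/-- polynomials in the coordinate -/
noncomputable def Psi (i j : Fin (1 + 1)) (hi : (X i : MvPolynomial (Fin (1 + 1)) k) ∉ 𝔭) :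
    Polynomial k →+* AtPrime 𝒜 𝔭 :=
  Polynomial.eval₂RingHom (cst k 𝔭) (coord i j hi)

/-- dehomogenization: `Tᵢ ↦ 1`, the other variable to `x` -/
noncomputable def deh (i : Fin (1 + 1)) : MvPolynomial (Fin (1 + 1)) k →+* Polynomial k :=
  (MvPolynomial.aeval (fun l => if l = i then (1 : Polynomial k) else Polynomial.X)).toRingHom

theorem deh_C (i : Fin (1 + 1)) (c : k) : deh i (C c) = Polynomial.C c := by
  simp [deh]

theorem deh_X_self (i : Fin (1 + 1)) : deh (k := k) i (X i) = 1 := by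
  simp [deh]

theorem deh_X_ne (i j : Fin (1 + 1)) (h : j ≠ i) : deh (k := k) i (X j) = Polynomial.X := by
  simp [deh, h]

theorem pow_mem_primeCompl {i : Fin (1 + 1)} (hi : (X i : MvPolynomial (Fin (1 + 1)) k) ∉ 𝔭)
    (d : ℕ) : (X i : MvPolynomial (Fin (1 + 1)) k) ^ d ∈ 𝔭.primeCompl :=
  fun h => hi (Ideal.IsPrime.mem_of_pow_mem inferInstance d h)

/-- the key computation on monomials -/
theorem val_Psi_deh_monomial (i j : Fin (1 + 1)) (hij : j ≠ i)
    (hi : (X i : MvPolynomial (Fin (1 + 1)) k) ∉ 𝔭) (m : Fin (1 + 1) →₀ ℕ) (c : k) :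
    (Psi i j hi (deh i (monomial m c))).val =
      Localization.mk (monomial m c) (⟨X i ^ (m i + m j), pow_mem_primeCompl hi _⟩ : 𝔭.primeCompl) := by
  have hm : (monomial m c : MvPolynomial (Fin (1 + 1)) k) = C c * (X i ^ m i * X j ^ m j) := by
    rw [MvPolynomial.monomial_eq, Finsupp.prod_fintype _ _ (fun l => pow_zero _)]
    congr 1
    rw [Fin.prod_univ_two]
    fin_cases i <;> fin_cases j <;> first | exact absurd rfl hij | rfl | exact mul_comm _ _
  have hd : deh i (monomial m c) = Polynomial.C c * Polynomial.X ^ m j := by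
    rw [hm, map_mul, map_mul, map_pow, map_pow, deh_C, deh_X_self, deh_X_ne i j hij, one_pow,
      one_mul]
  have h1 : Psi i j hi (Polynomial.C c) = cst k 𝔭 c := by
    simp [Psi]
  have h2 : Psi i j hi Polynomial.X = coord i j hi := by
    simp [Psi]
  rw [hd, map_mul, map_pow, h1, h2, val_mul, val_pow, val_cst, val_coord, Localization.mk_pow,
    Localization.mk_mul, hm, Localization.mk_eq_mk_iff, Localization.r_iff_exists]
  refine ⟨1, ?_⟩
  simp only [OneMemClass.coe_one, one_mul, Submonoid.coe_mul, SubmonoidClass.coe_pow]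
  ring

theorem mk_eq_algebraMap_mul (a : MvPolynomial (Fin (1 + 1)) k) (s : 𝔭.primeCompl) :
    Localization.mk a s =
      algebraMap (MvPolynomial (Fin (1 + 1)) k) (Localization 𝔭.primeCompl) a *
        Localization.mk 1 s := by
  rw [← Localization.mk_one_eq_algebraMap, Localization.mk_mul, mul_one, one_mul]

/-- the key computation: `a(1, Tⱼ/Tᵢ) = a / Tᵢ^d` for `a` homogeneous of degree `d` -/
theorem val_Psi_deh (i j : Fin (1 + 1)) (hij : j ≠ i)
    (hi : (X i : MvPolynomial (Fin (1 + 1)) k) ∉ 𝔭) (d : ℕ) (a : MvPolynomial (Fin (1 + 1)) k)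
    (ha : a ∈ 𝒜 d) :
    (Psi i j hi (deh i a)).val =
      Localization.mk a (⟨X i ^ d, pow_mem_primeCompl hi _⟩ : 𝔭.primeCompl) := by
  have hhom : a.IsHomogeneous d := (mem_homogeneousSubmodule _ _).mp ha
  have hdeg : ∀ m ∈ a.support, m i + m j = d := by
    intro m hm
    have h1 := hhom (mem_support_iff.mp hm)
    rw [Finsupp.weight_apply, Finsupp.sum_fintype _ _ (fun l => by simp), Fin.sum_univ_two] at h1
    simp only [Pi.one_apply, smul_eq_mul, mul_one] at h1
    fin_cases i <;> fin_cases j <;> first | exact absurd rfl hij | exact h1 | (rw [add_comm]; exact h1)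
  conv_lhs => rw [← a.support_sum_monomial_coeff]
  rw [map_sum, map_sum]
  have hval : ∀ (t : Finset (Fin (1 + 1) →₀ ℕ)) (g : (Fin (1 + 1) →₀ ℕ) → AtPrime 𝒜 𝔭),
      (∑ m ∈ t, g m).val = ∑ m ∈ t, (g m).val := by
    intro t g
    induction t using Finset.induction_on with
    | empty => simp
    | insert x t hx ih => rw [Finset.sum_insert hx, Finset.sum_insert hx, val_add, ih]
  rw [hval, mk_eq_algebraMap_mul]
  conv_rhs => rw [← a.support_sum_monomial_coeff, map_sum, Finset.sum_mul]
  refine Finset.sum_congr rfl (fun m hm => ?_)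
  rw [val_Psi_deh_monomial i j hij hi, mk_eq_algebraMap_mul]
  congr 2
  exact Subtype.ext (by rw [hdeg m hm])

/-- every element of the homogeneous localization is a quotient of polynomials in the coordinate -/
theorem exists_repr (i j : Fin (1 + 1)) (hij : j ≠ i)
    (hi : (X i : MvPolynomial (Fin (1 + 1)) k) ∉ 𝔭) (z : AtPrime 𝒜 𝔭) :
    ∃ p q : Polynomial k, IsUnit (Psi i j hi q) ∧ z * Psi i j hi q = Psi i j hi p := by
  obtain ⟨⟨d, ⟨a, ha⟩, ⟨b, hb⟩, hb'⟩, rfl⟩ := mk_surjective z
  refine ⟨deh i a, deh i b, ?_, ?_⟩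
  · rw [← isUnit_iff_isUnit_val, val_Psi_deh i j hij hi d b hb]
    refine IsUnit.of_mul_eq_one
      (Localization.mk (X i ^ d) (⟨b, hb'⟩ : 𝔭.primeCompl)) ?_
    rw [Localization.mk_mul, ← Localization.mk_one, Localization.mk_eq_mk_iff,
      Localization.r_iff_exists]
    refine ⟨1, ?_⟩
    simp only [OneMemClass.coe_one, one_mul, Submonoid.coe_mul, mul_one]
    ring
  · apply val_injective
    rw [val_mul, val_mk, val_Psi_deh i j hij hi d b hb, val_Psi_deh i j hij hi d a ha,
      Localization.mk_mul, Localization.mk_eq_mk_iff, Localization.r_iff_exists]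
    refine ⟨1, ?_⟩
    simp only [OneMemClass.coe_one, one_mul, Submonoid.coe_mul]
    ring

end Groth.Agent.H62.GD.P1
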