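import Mathlib
import Groth.Prelude.Def_CurvBase
import Groth.Agent.H62.GD6
import Groth.Agent.H18.ProjSpaceGlobal
import Groth.Agent.Lead.Coh.ProjSpaceCover

/-!
helper62, GENERAL-FIELD curve ↔ function field dictionary, part 7: the local rings of the
projective line `P¹_k`: every element of the local ring at a point `y` is a quotient of two
polynomials (over `k`) in one coordinate `t₀`, with denominator a unit.
-/

set_option autoImplicit false
set_option linter.style.haveILetI false
open CategoryTheory AlgebraicGeometry MvPolynomial HomogeneousLocalization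
universe u

namespace Groth.Agent.H62.GD.P1

attribute [local instance] Curv2.stalkAlgebra

variable (k : Type u) [Field k]

local notation "𝒜" => CohB1.polyGrading 1 k

/-- the stalk of `P¹_k` at `y` as a homogeneous localization -/
noncomputable def stalkEquiv (y : CohB1.ProjSpace 1 k) :
    (CohB1.ProjSpace 1 k).presheaf.stalk y ≃+* AtPrime 𝒜 y.asHomogeneousIdeal.toIdeal :=
  Proj.stalkIso' 𝒜 y

theorem stalkEquiv_algebraMap (y : CohB1.ProjSpace 1 k) (c : k) :
    stalkEquiv k y (algebraMap k ((CohB1.ProjSpace 1 k).presheaf.stalk y) c) =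
      cst k y.asHomogeneousIdeal.toIdeal c := by
  apply val_injective
  rw [val_cst]
  change ((Proj.stalkIso' 𝒜 y) ((ProjectiveSpectrum.Proj.structureSheaf 𝒜).presheaf.germ ⊤ y trivial
    (Coh.toGlobal (CohB1.ProjSpace.toSpec 1 k) c))).val = _
  rw [Proj.stalkIso'_germ]
  exact Groth.Agent.H18.PSL.toGlobal_val 1 k c y

theorem exists_X_notMem (y : CohB1.ProjSpace 1 k) :
    ∃ i : Fin (1 + 1), (X i : MvPolynomial (Fin (1 + 1)) k) ∉ y.asHomogeneousIdeal.toIdeal := by
  by_contra hcon
  push Not at hcon
  apply y.not_irrelevant_le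
  intro a ha
  have h1 := Groth.Agent.Lead.Coh.irrelevant_le_span_X 1 k ha
  have h2 : Ideal.span (Set.range (X : Fin (1 + 1) → MvPolynomial (Fin (1 + 1)) k)) ≤
      y.asHomogeneousIdeal.toIdeal := by
    rw [Ideal.span_le]
    rintro _ ⟨i, rfl⟩
    exact hcon i
  exact h2 h1

/-- **the local rings of the projective line** -/
theorem exists_stalk_repr (y : CohB1.ProjSpace 1 k) :
    ∃ t₀ : (CohB1.ProjSpace 1 k).presheaf.stalk y,
      ∀ z : (CohB1.ProjSpace 1 k).presheaf.stalk y, ∃ p q : Polynomial k,
        IsUnit (Polynomial.aeval t₀ q) ∧ z * Polynomial.aeval t₀ q = Polynomial.aeval t₀ p := by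
  obtain ⟨i, hi⟩ := exists_X_notMem k y
  obtain ⟨j, hij⟩ : ∃ j : Fin (1 + 1), j ≠ i := by
    fin_cases i
    · exact ⟨1, by decide⟩
    · exact ⟨0, by decide⟩
  set e := stalkEquiv k y with he
  refine ⟨e.symm (coord i j hi), fun z => ?_⟩
  have hΨ : ∀ p : Polynomial k, e (Polynomial.aeval (e.symm (coord i j hi)) p) = Psi i j hi p := by
    intro p
    have : (e : _ →+* _).comp (Polynomial.aeval (R := k) (e.symm (coord i j hi))).toRingHom =
        Psi i j hi := by
      apply Polynomial.ringHom_ext
      · intro c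
        simp only [RingHom.comp_apply, AlgHom.toRingHom_eq_coe, RingHom.coe_coe,
          Polynomial.aeval_C, RingEquiv.coe_toRingHom]
        rw [stalkEquiv_algebraMap]
        simp [Psi]
      · simp only [RingHom.comp_apply, AlgHom.toRingHom_eq_coe, RingHom.coe_coe,
          Polynomial.aeval_X, RingEquiv.coe_toRingHom, RingEquiv.apply_symm_apply]
        simp [Psi]
    exact RingHom.congr_fun this p
  obtain ⟨p, q, hq, hpq⟩ := exists_repr i j hij hi (e z)
  refine ⟨p, q, ?_, ?_⟩
  · rw [← hΨ] at hq
    exact (isUnit_map_iff e _).mp hq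
  · apply e.injective
    rw [map_mul, hΨ, hΨ, hpq]

end Groth.Agent.H62.GD.P1
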