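import Mathlib
import Groth.Agent.H62.GD7
import Groth.Agent.H11.CotSmoothSch

/-!
helper62, GENERAL-FIELD curve ↔ function field dictionary, part 8: a morphism `f : X ⟶ P¹_k` over
`k` from an integral scheme gives an element `t` of the function field `K(X)` such that the residue
field extension at the generic point is (isomorphic to) `K(X) / k(t)`: same degree, and
separability transfers.
-/

set_option autoImplicit false
set_option linter.style.haveILetI false
open CategoryTheory AlgebraicGeometry IntermediateField
universe u

namespace Groth.Agent.H62.GD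

section algebra

variable {k A κ K : Type*} [Field k] [CommRing A] [Algebra k A] [Field κ] [Field K] [Algebra k K]

/-- the image of the residue field is generated by one element -/
theorem range_eq_adjoin (ρ : A →+* κ) (hρ : Function.Surjective ρ) (ψ : κ →+* K)
    (hk : ∀ c : k, ψ (ρ (algebraMap k A c)) = algebraMap k K c) (t₀ : A)
    (hrepr : ∀ z : A, ∃ p q : Polynomial k,
      IsUnit (Polynomial.aeval t₀ q) ∧ z * Polynomial.aeval t₀ q = Polynomial.aeval t₀ p) :
    Set.range ψ = (k⟮ψ (ρ t₀)⟯ : Set K) := by
  set φ : A →+* K := ψ.comp ρ with hφ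
  have hφk : φ.comp (algebraMap k A) = algebraMap k K := RingHom.ext hk
  have haeval : ∀ p : Polynomial k, φ (Polynomial.aeval t₀ p) = Polynomial.aeval (φ t₀) p := by
    intro p
    rw [Polynomial.aeval_def, Polynomial.aeval_def, Polynomial.hom_eval₂, hφk]
  apply Set.Subset.antisymm
  · rintro _ ⟨x, rfl⟩
    obtain ⟨z, rfl⟩ := hρ x
    obtain ⟨p, q, hq, hpq⟩ := hrepr z
    have h1 : φ z * Polynomial.aeval (φ t₀) q = Polynomial.aeval (φ t₀) p := by
      rw [← haeval, ← haeval, ← map_mul, hpq]
    have h2 : Polynomial.aeval (φ t₀) q ≠ 0 := by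
      rw [← haeval]
      exact (hq.map φ).ne_zero
    have h3 : φ z = Polynomial.aeval (φ t₀) p / Polynomial.aeval (φ t₀) q := by
      rw [eq_div_iff h2, h1]
    change φ z ∈ k⟮φ t₀⟯
    rw [h3]
    exact div_mem
      (IntermediateField.algebra_adjoin_le_adjoin k _ (Polynomial.aeval_mem_adjoin_singleton k _))
      (IntermediateField.algebra_adjoin_le_adjoin k _ (Polynomial.aeval_mem_adjoin_singleton k _))
  · let L : IntermediateField k K :=
      { ψ.fieldRange with
        algebraMap_mem' := fun c => ⟨ρ (algebraMap k A c), hk c⟩ }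
    have hle : k⟮ψ (ρ t₀)⟯ ≤ L := by
      rw [IntermediateField.adjoin_le_iff]
      rintro _ rfl
      exact ⟨ρ t₀, rfl⟩
    intro x hx
    obtain ⟨y, hy⟩ := hle hx
    exact ⟨y, hy⟩

end algebra

section scheme

attribute [local instance] Curv2.stalkAlgebra

variable {k : Type u} [Field k] {X : Scheme.{u}} [X.Over (Spec (CommRingCat.of k))] [IsIntegral X]

/-- the residue map of the generic stalk is bijective -/
theorem residue_genericPoint_bijective :
    Function.Bijective (X.residue (genericPoint X)).hom := by
  constructor
  · exact RingHom.injective ((X.residue (genericPoint X)).hom :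
      X.functionField →+* X.residueField (genericPoint X))
  · exact Ideal.Quotient.mk_surjective

/-- **the generic residue field extension of a morphism to the projective line** -/
theorem exists_t_of_hom (f : X ⟶ CohB1.ProjSpace 1 k)
    (hf : f ≫ CohB1.ProjSpace.toSpec 1 k = X ↘ Spec (CommRingCat.of k)) :
    ∃ t : X.functionField,
      (letI := (f.residueFieldMap (genericPoint X)).hom.toAlgebra
       Module.finrank k⟮t⟯ X.functionField =
        Module.finrank ((CohB1.ProjSpace 1 k).residueField (f (genericPoint X)))
          (X.residueField (genericPoint X))) ∧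
      (letI := (f.residueFieldMap (genericPoint X)).hom.toAlgebra
       Algebra.IsSeparable ((CohB1.ProjSpace 1 k).residueField (f (genericPoint X)))
          (X.residueField (genericPoint X)) → Algebra.IsSeparable k⟮t⟯ X.functionField) := by
  set ξ := genericPoint X with hξ
  set y := f ξ with hy
  -- the residue field of the generic point is the function field
  let e₂ : X.residueField ξ ≃+* X.functionField :=
    (RingEquiv.ofBijective (X.residue ξ).hom residue_genericPoint_bijective).symm
  let ρ : (CohB1.ProjSpace 1 k).presheaf.stalk y →+* (CohB1.ProjSpace 1 k).residueField y :=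
    ((CohB1.ProjSpace 1 k).residue y).hom
  let ψ : (CohB1.ProjSpace 1 k).residueField y →+* X.functionField :=
    (e₂ : X.residueField ξ →+* X.functionField).comp (f.residueFieldMap ξ).hom
  have hψρ : ∀ z, ψ (ρ z) = (f.stalkMap ξ).hom z := by
    intro z
    have h1 := congrArg (fun g => g.hom z) (Scheme.residue_residueFieldMap f ξ)
    simp only [CommRingCat.hom_comp, RingHom.comp_apply] at h1
    change e₂ ((f.residueFieldMap ξ).hom (((CohB1.ProjSpace 1 k).residue y).hom z)) = _
    rw [h1]
    exact (RingEquiv.ofBijective (X.residue ξ).hom residue_genericPoint_bijective).symm_apply_apply _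
  have hk : ∀ c : k, ψ (ρ (algebraMap k _ c)) = algebraMap k X.functionField c := by
    intro c
    rw [hψρ]
    have := Groth.Agent.H11.CotSmoothSch.stalkMap_comp k X f hf ξ
    exact (RingHom.congr_fun this c).symm
  obtain ⟨t₀, ht₀⟩ := P1.exists_stalk_repr k y
  have hrange := range_eq_adjoin ρ Ideal.Quotient.mk_surjective ψ hk t₀ ht₀
  set t := ψ (ρ t₀) with ht
  refine ⟨t, ?_⟩
  -- the isomorphism `κ(y) ≃ k(t)`
  have hmem : ∀ x, ψ x ∈ k⟮t⟯ := fun x => by
    have : ψ x ∈ Set.range ψ := ⟨x, rfl⟩
    rw [hrange] at this
    exact this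
  let ψ' : (CohB1.ProjSpace 1 k).residueField y →+* k⟮t⟯ := ψ.codRestrict k⟮t⟯ hmem
  have hbij : Function.Bijective ψ' := by
    constructor
    · exact RingHom.injective ψ'
    · rintro ⟨x, hx⟩
      have : x ∈ Set.range ψ := by rw [hrange]; exact hx
      obtain ⟨w, hw⟩ := this
      exact ⟨w, Subtype.ext hw⟩
  let e₁ : (CohB1.ProjSpace 1 k).residueField y ≃+* k⟮t⟯ := RingEquiv.ofBijective ψ' hbij
  letI alg : Algebra ((CohB1.ProjSpace 1 k).residueField y) (X.residueField ξ) :=
    (f.residueFieldMap ξ).hom.toAlgebra
  have he : (algebraMap k⟮t⟯ X.functionField).comp (e₁ : _ →+* _) =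
      (e₂ : X.residueField ξ →+* X.functionField).comp
        (algebraMap ((CohB1.ProjSpace 1 k).residueField y) (X.residueField ξ)) := by
    ext x
    rfl
  constructor
  · have := Algebra.rank_eq_of_equiv_equiv e₁ e₂ he
    exact (congrArg Cardinal.toNat this).symm
  · intro hsep
    haveI : Algebra.IsSeparable ((CohB1.ProjSpace 1 k).residueField y) (X.residueField ξ) := hsep
    exact Algebra.IsSeparable.of_equiv_equiv e₁ e₂ he

end scheme

end Groth.Agent.H62.GD
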