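import Mathlib

/-!
# helper62: a finite flat `k[X]`-algebra of rank two gives a quadratic extension of function fields
-/

set_option autoImplicit false
set_option linter.style.haveILetI false

namespace Groth.Agent.H62.HC

open Polynomial IntermediateField

variable {k K B : Type*} [Field k] [Field K] [Algebra k K] [CommRing B] [Algebra k B]
  [Algebra B K] [IsScalarTower k B K] [IsFractionRing B K]

/-- **degree from rank**: if `B` is finite and flat of rank two over `k[X]` through `X ↦ τ` and `K`
is the fraction field of `B`, then `[K : k(τ)] = 2` -/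
theorem finrank_adjoin_eq_two (τ : B)
    (hfin : (aeval (R := k) τ).toRingHom.Finite)
    (hflat : (aeval (R := k) τ).toRingHom.Flat)
    (hrank : ∀ p, (aeval (R := k) τ).toRingHom.finrank p = 2) :
    Module.finrank k⟮algebraMap B K τ⟯ K = 2 := by
  set t := algebraMap B K τ with ht
  letI algB : Algebra k[X] B := (aeval (R := k) τ).toRingHom.toAlgebra
  haveI : Module.Finite k[X] B := hfin
  haveI : Module.Flat k[X] B := hflat
  have hrank' : ∀ p : PrimeSpectrum k[X], Module.rankAtStalk (R := k[X]) B p = 2 := hrank
  have hinjτ : Function.Injective (algebraMap k[X] B) := by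
    rw [← Module.rankAtStalk_pos_iff_algebraMap_injective]
    intro p
    rw [hrank' p]
    exact Nat.zero_lt_two
  have hBK : Function.Injective (algebraMap B K) := IsFractionRing.injective B K
  -- `k[X]`-algebra structures on `k(t)` and `K`
  have hmem : ∀ p : k[X], aeval t p ∈ k⟮t⟯ := fun p =>
    IntermediateField.algebra_adjoin_le_adjoin k _ (Polynomial.aeval_mem_adjoin_singleton k _)
  let ψ : k[X] →+* k⟮t⟯ := (aeval (R := k) t).toRingHom.codRestrict k⟮t⟯.toSubring hmem
  letI algKt : Algebra k[X] k⟮t⟯ := ψ.toAlgebra
  letI algK : Algebra k[X] K := (aeval (R := k) t).toRingHom.toAlgebra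
  have haev : ∀ p : k[X], algebraMap B K (aeval τ p) = aeval t p := fun p => by
    rw [ht, Polynomial.aeval_algebraMap_apply]
  haveI : IsScalarTower k[X] k⟮t⟯ K := IsScalarTower.of_algebraMap_eq (fun p => rfl)
  haveI : IsScalarTower k[X] B K := IsScalarTower.of_algebraMap_eq (fun p => (haev p).symm)
  have hinjK : Function.Injective (algebraMap k[X] K) := by
    rw [IsScalarTower.algebraMap_eq k[X] B K]
    exact hBK.comp hinjτ
  haveI : FaithfulSMul k[X] k⟮t⟯ := by
    rw [faithfulSMul_iff_algebraMap_injective]
    intro p q hpq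
    apply hinjK
    exact congrArg Subtype.val hpq
  haveI : IsFractionRing k[X] k⟮t⟯ := by
    apply IsFractionRing.of_field
    rintro ⟨z, hz⟩
    obtain ⟨r, s, hrs⟩ := IntermediateField.mem_adjoin_simple_iff k z |>.mp hz
    refine ⟨r, s, ?_⟩
    apply Subtype.ext
    exact hrs
  rw [IsFractionRing.finrank_eq k[X] k⟮t⟯ B K]
  haveI : Module.IsTorsionFree k[X] B := inferInstance
  haveI : Module.Free k[X] B := Module.free_of_finite_type_torsion_free'
  have h1 := congrFun (Module.rankAtStalk_eq_finrank_of_free (R := k[X]) (M := B))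
    (⟨⊥, Ideal.isPrime_bot⟩ : PrimeSpectrum k[X])
  rw [hrank'] at h1
  exact h1.symm

end Groth.Agent.H62.HC
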