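import Mathlib

/-!
# helper62: presentation of a ring `k[τ] ⊕ k[τ] υ` with `υ² + q(τ) υ = p(τ)` as a plane curve
-/

set_option autoImplicit false
set_option linter.style.haveILetI false

namespace Groth.Agent.H62.QuadPres

open Polynomial

variable {k B : Type*} [Field k] [CommRing B] [Algebra k B]

/-- the equation of the plane curve -/
noncomputable def eqn (p q : k[X]) : MvPolynomial (Fin 2) k :=
  MvPolynomial.X 1 ^ 2 + Polynomial.aeval (MvPolynomial.X 0 : MvPolynomial (Fin 2) k) q *
    MvPolynomial.X 1 - Polynomial.aeval (MvPolynomial.X 0 : MvPolynomial (Fin 2) k) p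

/-- the evaluation at `(τ, υ)` -/
noncomputable def ev (τ υ : B) : MvPolynomial (Fin 2) k →ₐ[k] B := MvPolynomial.aeval ![τ, υ]

theorem ev_X0 (τ υ : B) : ev (k := k) τ υ (MvPolynomial.X 0) = τ := by
  simp [ev]

theorem ev_X1 (τ υ : B) : ev (k := k) τ υ (MvPolynomial.X 1) = υ := by
  simp [ev]

theorem ev_aeval (τ υ : B) (a : k[X]) :
    ev (k := k) τ υ (Polynomial.aeval (MvPolynomial.X 0 : MvPolynomial (Fin 2) k) a) =
      Polynomial.aeval τ a := by
  rw [← Polynomial.aeval_algHom_apply, ev_X0]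

theorem ev_eqn (τ υ : B) (p q : k[X]) :
    ev (k := k) τ υ (eqn p q) = υ ^ 2 + Polynomial.aeval τ q * υ - Polynomial.aeval τ p := by
  unfold eqn
  rw [map_sub, map_add, map_mul, map_pow, ev_aeval, ev_aeval, ev_X1]

/-- every polynomial is congruent to `a(X₀) + b(X₀) X₁` modulo the equation -/
theorem exists_repr_mod (p q : k[X]) (f : MvPolynomial (Fin 2) k) :
    ∃ a b : k[X], f - (Polynomial.aeval (MvPolynomial.X 0 : MvPolynomial (Fin 2) k) a +
      Polynomial.aeval (MvPolynomial.X 0 : MvPolynomial (Fin 2) k) b * MvPolynomial.X 1) ∈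
        Ideal.span {eqn p q} := by
  set I := Ideal.span {eqn p q} with hI
  have hgen : eqn p q ∈ I := Ideal.subset_span rfl
  induction f using MvPolynomial.induction_on with
  | C c =>
    refine ⟨Polynomial.C c, 0, ?_⟩
    rw [map_zero, zero_mul, add_zero, Polynomial.aeval_C]
    have : (MvPolynomial.C c : MvPolynomial (Fin 2) k) - algebraMap k _ c = 0 := sub_self _
    rw [this]
    exact I.zero_mem
  | add f g hf hg =>
    obtain ⟨a, b, hab⟩ := hf
    obtain ⟨a', b', hab'⟩ := hg
    refine ⟨a + a', b + b', ?_⟩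
    rw [map_add, map_add]
    have := I.add_mem hab hab'
    convert this using 1
    ring
  | mul_X f i hf =>
    obtain ⟨a, b, hab⟩ := hf
    fin_cases i
    · refine ⟨a * Polynomial.X, b * Polynomial.X, ?_⟩
      rw [map_mul, map_mul, Polynomial.aeval_X]
      have := I.mul_mem_right (MvPolynomial.X 0) hab
      convert this using 1
      simp only [Fin.zero_eta]
      ring
    · refine ⟨b * p, a - b * q, ?_⟩
      rw [map_mul, map_sub, map_mul]
      have h1 := I.mul_mem_right (MvPolynomial.X 1) hab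
      have h2 := I.mul_mem_left
        (Polynomial.aeval (MvPolynomial.X 0 : MvPolynomial (Fin 2) k) b) hgen
      have := I.add_mem h1 h2
      convert this using 1
      simp only [Fin.mk_one, eqn]
      ring

variable {τ υ : B} {p q : k[X]}
  (heq : υ ^ 2 + Polynomial.aeval τ q * υ = Polynomial.aeval τ p)
  (hsurj : ∀ z : B, ∃ a b : k[X], z = Polynomial.aeval τ a + Polynomial.aeval τ b * υ)
  (hinj : ∀ a b : k[X], Polynomial.aeval τ a + Polynomial.aeval τ b * υ = 0 → a = 0 ∧ b = 0)

include heq in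
theorem ev_mem_span (f : MvPolynomial (Fin 2) k) (hf : f ∈ Ideal.span {eqn p q}) :
    ev (k := k) τ υ f = 0 := by
  rw [Ideal.mem_span_singleton] at hf
  obtain ⟨c, rfl⟩ := hf
  rw [map_mul, ev_eqn, heq, sub_self, zero_mul]

/-- the induced map on the quotient -/
noncomputable def quotMap : (MvPolynomial (Fin 2) k ⧸ Ideal.span {eqn p q}) →ₐ[k] B :=
  Ideal.Quotient.liftₐ _ (ev (k := k) τ υ) (fun f hf => ev_mem_span heq f hf)

theorem quotMap_mk (f : MvPolynomial (Fin 2) k) :
    quotMap heq (Ideal.Quotient.mk _ f) = ev (k := k) τ υ f := rfl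

include hsurj in
theorem quotMap_surjective : Function.Surjective (quotMap heq) := by
  intro z
  obtain ⟨a, b, rfl⟩ := hsurj z
  refine ⟨Ideal.Quotient.mk _ (Polynomial.aeval (MvPolynomial.X 0 : MvPolynomial (Fin 2) k) a +
      Polynomial.aeval (MvPolynomial.X 0 : MvPolynomial (Fin 2) k) b * MvPolynomial.X 1), ?_⟩
  rw [quotMap_mk, map_add, map_mul, ev_aeval, ev_aeval, ev_X1]

include hinj in
theorem quotMap_injective : Function.Injective (quotMap heq) := by
  rw [injective_iff_map_eq_zero]
  intro x hx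
  obtain ⟨f, rfl⟩ := Ideal.Quotient.mk_surjective x
  rw [quotMap_mk] at hx
  obtain ⟨a, b, hab⟩ := exists_repr_mod p q f
  have h1 := ev_mem_span heq _ hab
  rw [map_sub, hx, zero_sub, neg_eq_zero, map_add, map_mul, ev_aeval, ev_aeval, ev_X1] at h1
  obtain ⟨rfl, rfl⟩ := hinj a b h1
  rw [map_zero, zero_mul, add_zero, sub_zero] at hab
  exact Ideal.Quotient.eq_zero_iff_mem.mpr hab

/-- **the presentation** -/
noncomputable def equiv : (MvPolynomial (Fin 2) k ⧸ Ideal.span {eqn p q}) ≃ₐ[k] B :=
  AlgEquiv.ofBijective (quotMap heq) ⟨quotMap_injective heq hinj, quotMap_surjective heq hsurj⟩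

end Groth.Agent.H62.QuadPres
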