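import Mathlib
import Groth.Agent.H62.GD5
import Groth.Agent.H62.FFHE2
import Groth.Agent.H62.QuadPres
import Groth.Agent.H62.HC1

/-!
# helper62: an affine open of a curve which is finite flat of rank two over the affine line is a
plane curve `y² + q(x) y = p(x)` with `2g + 1 ≤ max(deg p, 2 deg q) ≤ 2g + 2`
-/

set_option autoImplicit false
set_option linter.style.haveILetI false
open CategoryTheory CategoryTheory.Limits AlgebraicGeometry TopologicalSpace Topology FunFld Opposite
  Polynomial IntermediateField
universe u

namespace Groth.Agent.H62.HC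

attribute [local instance] Curv2.stalkAlgebra Curv2.resAlgebra

open Groth.Agent.H62.GD Groth.Agent.H62.FFHE Groth.Agent.H62.FFHol Groth.Agent.H55

variable {k : Type u} [Field k] {C : Scheme.{u}} [C.Over (Spec (CommRingCat.of k))]
  [IsIntegral C]

/-- sections over a nonempty open form a `k`-algebra compatible with the function field -/
theorem isScalarTower_sec (W : C.Opens) [Nonempty W] :
    letI := Groth.Agent.H11.FtChart.secAlgebra k C W
    IsScalarTower k Γ(C, W) C.functionField := by
  letI := Groth.Agent.H11.FtChart.secAlgebra k C W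
  refine IsScalarTower.of_algebraMap_eq (fun c => ?_)
  change (C.presheaf.germ ⊤ (genericPoint C) trivial).hom
      (Coh.toGlobal (C ↘ Spec (CommRingCat.of k)) c) =
    (C.presheaf.germ W (genericPoint C) _).hom
      ((C.presheaf.map (homOfLE (le_top : W ≤ ⊤)).op).hom
        (Coh.toGlobal (C ↘ Spec (CommRingCat.of k)) c))
  exact (TopCat.Presheaf.germ_res_apply C.presheaf (homOfLE (le_top : W ≤ ⊤)) _ _ _).symm

variable (hC : GCurve k C) {W : C.Opens} (hW : IsAffineOpen W) [Nonempty W]

include hC hW in
/-- **the plane model of a double cover of the affine line** -/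
theorem exists_presentation (τ : Γ(C, W))
    (hfin : letI := Groth.Agent.H11.FtChart.secAlgebra k C W
      (aeval (R := k) τ).toRingHom.Finite)
    (hflat : letI := Groth.Agent.H11.FtChart.secAlgebra k C W
      (aeval (R := k) τ).toRingHom.Flat)
    (hrank : letI := Groth.Agent.H11.FtChart.secAlgebra k C W
      ∀ p, (aeval (R := k) τ).toRingHom.finrank p = 2) :
    letI := Groth.Agent.H11.FtChart.secAlgebra k C W
    ∃ p q : k[X], 2 * Curv2.genus k C + 1 ≤ max p.natDegree (2 * q.natDegree) ∧
      max p.natDegree (2 * q.natDegree) ≤ 2 * Curv2.genus k C + 2 ∧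
      Nonempty ((MvPolynomial (Fin 2) k ⧸ Ideal.span {QuadPres.eqn p q}) ≃ₐ[k] Γ(C, W)) := by
  letI := Groth.Agent.H11.FtChart.secAlgebra k C W
  haveI := isScalarTower_sec (k := k) W
  haveI : IsFractionRing Γ(C, W) C.functionField :=
    functionField_isFractionRing_of_isAffineOpen C W hW
  set γ := algebraMap Γ(C, W) C.functionField with hγ
  have hγinj : Function.Injective γ := IsFractionRing.injective Γ(C, W) C.functionField
  set t : C.functionField := γ τ with ht'
  have hdeg : Module.finrank k⟮t⟯ C.functionField = 2 :=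
    finrank_adjoin_eq_two τ hfin hflat hrank
  have hK := hC.isFunctionField
  have ht := transcendental_of_finrank hK hdeg
  obtain ⟨y, hyL, hy⟩ := exists_y hK ht hdeg
  obtain ⟨P, Q, heq, hP, hQ⟩ := exists_equation hK ht hdeg hyL hy
  have hlow := lower_bound hK ht hdeg heq hy
  have hup : max (2 * Q.natDegree) P.natDegree ≤ 2 * genus k C.functionField + 2 :=
    max_le (by omega) hP
  have haev : ∀ p : k[X], γ (aeval τ p) = aeval t p := fun p => by
    rw [ht', hγ, Polynomial.aeval_algebraMap_apply]
  have hξ : genericPoint C ∈ W := by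
    obtain ⟨⟨x, hx⟩⟩ := (inferInstance : Nonempty W)
    exact ((genericPoint_spec C).mem_open_set_iff W.isOpen).mpr ⟨x, trivial, hx⟩
  have hγgerm : ∀ b : Γ(C, W), γ b = (C.presheaf.germ W (genericPoint C) hξ).hom b := fun b => rfl
  -- the ring of sections is the ring of functions regular away from the poles of `t`
  have hrange : ∀ z : C.functionField, z ∈ Hol (k := k) t ↔ z ∈ Set.range γ := by
    intro z
    constructor
    · intro hz
      have h1 : z ∈ CF.holo (placesIn hC W) := by
        rintro P ⟨x, hxW, rfl⟩
        apply hz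
        rw [placeOf_le_one_iff]
        refine ⟨(C.presheaf.germ W x.1 hxW).hom τ, ?_⟩
        exact C.algebraMap_germ_eq_germToFunctionField hxW τ
      obtain ⟨b, hb⟩ := (mem_holo_placesIn_iff hC hW hξ z).mp h1
      exact ⟨b, hb⟩
    · rintro ⟨b, rfl⟩ v hv
      -- integrality
      have hint : (aeval (R := k) τ).toRingHom.IsIntegralElem b := hfin.to_isIntegral b
      obtain ⟨M, hM, hMb⟩ := hint
      have hmem : ∀ p : k[X], aeval t p ∈ v.1.integer := fun p => Place.aeval_mem v p hv
      let ψ : k[X] →+* v.1.integer := (aeval (R := k) t).toRingHom.codRestrict v.1.integer hmem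
      have hintz : IsIntegral v.1.integer (γ b) := by
        refine ⟨M.map ψ, hM.map _, ?_⟩
        rw [Polynomial.eval₂_map]
        have hcomp : (algebraMap v.1.integer C.functionField).comp ψ =
            γ.comp (aeval (R := k) τ).toRingHom := by
          refine RingHom.ext (fun p => ?_)
          exact (haev p).symm
        rw [hcomp, ← Polynomial.hom_eval₂, hMb, map_zero]
      exact (Valuation.integer.integers v.1).mem_of_integral hintz
  have hyHol : y ∈ Hol (k := k) t := fun v hv => val_le_one_of_eq heq v hv
  obtain ⟨υ, hυ⟩ := (hrange y).mp hyHol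
  have heqB : υ ^ 2 + aeval τ Q * υ = aeval τ P := by
    apply hγinj
    rw [map_add, map_mul, map_pow, haev, haev, hυ, heq]
  have hsurj : ∀ z : Γ(C, W), ∃ a b : k[X], z = aeval τ a + aeval τ b * υ := by
    intro z
    have hz : γ z ∈ Hol (k := k) t := (hrange _).mpr ⟨z, rfl⟩
    obtain ⟨a, b, hab⟩ := exists_repr_of_mem_Hol hK ht hdeg hyL hy hz
    refine ⟨a, b, hγinj ?_⟩
    rw [map_add, map_mul, haev, haev, hυ, hab]
  have hinj : ∀ a b : k[X], aeval τ a + aeval τ b * υ = 0 → a = 0 ∧ b = 0 := by
    intro a b hab
    apply repr_eq_zero ht hy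
    have := congrArg γ hab
    rwa [map_add, map_mul, haev, haev, hυ, map_zero] at this
  have hg : Curv2.genus k C = genus k C.functionField := hC.genus_eq
  refine ⟨P, Q, ?_, ?_, ⟨QuadPres.equiv heqB hsurj hinj⟩⟩
  · rw [hg, max_comm]; exact hlow
  · rw [hg, max_comm]; exact hup

end Groth.Agent.H62.HC
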