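import Mathlib
import Groth.Agent.H62.GD7
import Groth.Agent.H73.Dehom2
import Groth.Agent.H11.FtChart
import Groth.Prelude.Def_LefPen

/-!
# helper62: the standard chart `D₊(T₀)` of `P¹_k` is the affine line: its ring of sections is the
polynomial ring in `x₀ = T₁/T₀`
-/

set_option autoImplicit false
set_option linter.style.haveILetI false
open CategoryTheory AlgebraicGeometry MvPolynomial HomogeneousLocalization
universe u

namespace Groth.Agent.H62.HC.P1

variable (k : Type u) [Field k]

local notation "𝒜" => CohB1.polyGrading 1 k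

/-- the index of the other coordinate -/
def idx : {j : Fin (1 + 1) // j ≠ 0} := ⟨1, by decide⟩

instance : Unique {j : Fin (1 + 1) // j ≠ 0} where
  default := idx
  uniq := by
    rintro ⟨j, hj⟩
    apply Subtype.ext
    change j = 1
    fin_cases j
    · exact absurd rfl hj
    · rfl

/-- the chart is affine -/
theorem isAffineOpen_chart : IsAffineOpen (LefPen.chart 1 k 0) :=
  Proj.isAffineOpen_basicOpen 𝒜 (X 0) (LefPen.X_mem 1 k 0) Nat.one_pos

/-- the coordinate function `x₀ = T₁/T₀` on the chart `D₊(T₀)` -/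
noncomputable def x₀ : Γ(CohB1.ProjSpace 1 k, LefPen.chart 1 k 0) :=
  (Proj.awayToSection 𝒜 (X 0)).hom (Groth.Agent.H73.Dehom.psi 1 k 0 (X idx))

/-- constants on the chart -/
theorem awayToSection_psi_C (c : k) :
    (Proj.awayToSection 𝒜 (X 0)).hom (Groth.Agent.H73.Dehom.psi 1 k 0 (C c)) =
      Groth.Agent.H11.FtChart.secMap k (CohB1.ProjSpace 1 k) (LefPen.chart 1 k 0) c := by
  apply Subtype.ext
  funext y
  apply HomogeneousLocalization.val_injective
  have h1 := ProjectiveSpectrum.Proj.awayToSection_apply 𝒜 (X 0)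
    (Groth.Agent.H73.Dehom.psi 1 k 0 (C c)) y
  have h2 := Groth.Agent.H18.PSL.toGlobal_val 1 k c y.1
  refine h1.trans (Eq.trans ?_ h2.symm)
  rw [Groth.Agent.H73.Dehom.val_psi_C, IsLocalization.map_eq, RingHom.id_apply,
    Localization.mk_one_eq_algebraMap]

/-- polynomials in one variable as polynomials in the variable `T₁` -/
noncomputable def polyEquiv : Polynomial k ≃ₐ[k] MvPolynomial {j : Fin (1 + 1) // j ≠ 0} k :=
  (MvPolynomial.uniqueAlgEquiv k {j : Fin (1 + 1) // j ≠ 0}).symm

theorem polyEquiv_X : polyEquiv k Polynomial.X = X idx := by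
  change Polynomial.eval₂ MvPolynomial.C (X default) Polynomial.X = X idx
  rw [Polynomial.eval₂_X]
  rfl

theorem polyEquiv_C (c : k) : polyEquiv k (Polynomial.C c) = C c := by
  change Polynomial.eval₂ MvPolynomial.C (X default) (Polynomial.C c) = C c
  rw [Polynomial.eval₂_C]

/-- **the chart `D₊(T₀)` is the affine line** -/
noncomputable def chartHom :
    letI := Groth.Agent.H11.FtChart.secAlgebra k (CohB1.ProjSpace 1 k) (LefPen.chart 1 k 0)
    Polynomial k →ₐ[k] Γ(CohB1.ProjSpace 1 k, LefPen.chart 1 k 0) :=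
  letI := Groth.Agent.H11.FtChart.secAlgebra k (CohB1.ProjSpace 1 k) (LefPen.chart 1 k 0)
  Polynomial.aeval (x₀ k)

theorem chartHom_eq :
    letI := Groth.Agent.H11.FtChart.secAlgebra k (CohB1.ProjSpace 1 k) (LefPen.chart 1 k 0)
    (chartHom k).toRingHom =
      ((Proj.awayToSection 𝒜 (X 0)).hom.comp (Groth.Agent.H73.Dehom.psi 1 k 0)).comp
        (polyEquiv k).toAlgHom.toRingHom := by
  letI := Groth.Agent.H11.FtChart.secAlgebra k (CohB1.ProjSpace 1 k) (LefPen.chart 1 k 0)
  apply Polynomial.ringHom_ext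
  · intro c
    have h1 : (polyEquiv k) (Polynomial.C c) = C c := polyEquiv_C k c
    change Polynomial.aeval (x₀ k) (Polynomial.C c) =
      (Proj.awayToSection 𝒜 (X 0)).hom (Groth.Agent.H73.Dehom.psi 1 k 0
        ((polyEquiv k) (Polynomial.C c)))
    rw [h1, awayToSection_psi_C, Polynomial.aeval_C]
    rfl
  · change Polynomial.aeval (x₀ k) Polynomial.X =
      (Proj.awayToSection 𝒜 (X 0)).hom (Groth.Agent.H73.Dehom.psi 1 k 0
        ((polyEquiv k) Polynomial.X))
    rw [polyEquiv_X, Polynomial.aeval_X]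
    rfl

theorem chartHom_bijective : Function.Bijective (chartHom k) := by
  letI := Groth.Agent.H11.FtChart.secAlgebra k (CohB1.ProjSpace 1 k) (LefPen.chart 1 k 0)
  have h : Function.Bijective (chartHom k).toRingHom := by
    rw [chartHom_eq]
    haveI : IsIso (Proj.awayToSection 𝒜 (X 0)) :=
      (Proj.basicOpenIsoAway 𝒜 (X 0) (LefPen.X_mem 1 k 0) Nat.one_pos).isIso_hom
    have h1 : Function.Bijective (Proj.awayToSection 𝒜 (X 0)).hom :=
      ConcreteCategory.bijective_of_isIso (Proj.awayToSection 𝒜 (X 0))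
    have h2 : Function.Bijective (Groth.Agent.H73.Dehom.psi 1 k 0) :=
      ⟨Groth.Agent.H73.Dehom.psi_injective 1 k 0, Groth.Agent.H73.Dehom.psi_surjective 1 k 0⟩
    have h3 : Function.Bijective (polyEquiv k) := (polyEquiv k).bijective
    exact (h1.comp h2).comp h3
  exact h

/-- the chart isomorphism as a ring homomorphism -/
noncomputable def chartRingHom : Polynomial k →+* Γ(CohB1.ProjSpace 1 k, LefPen.chart 1 k 0) :=
  letI := Groth.Agent.H11.FtChart.secAlgebra k (CohB1.ProjSpace 1 k) (LefPen.chart 1 k 0)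
  (chartHom k).toRingHom

theorem chartRingHom_bijective : Function.Bijective (chartRingHom k) :=
  chartHom_bijective k

theorem chartRingHom_C (c : k) :
    chartRingHom k (Polynomial.C c) =
      Groth.Agent.H11.FtChart.secMap k (CohB1.ProjSpace 1 k) (LefPen.chart 1 k 0) c := by
  letI := Groth.Agent.H11.FtChart.secAlgebra k (CohB1.ProjSpace 1 k) (LefPen.chart 1 k 0)
  change Polynomial.aeval (x₀ k) (Polynomial.C c) = _
  rw [Polynomial.aeval_C]
  rfl

theorem chartRingHom_X : chartRingHom k Polynomial.X = x₀ k := by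
  letI := Groth.Agent.H11.FtChart.secAlgebra k (CohB1.ProjSpace 1 k) (LefPen.chart 1 k 0)
  change Polynomial.aeval (x₀ k) Polynomial.X = _
  rw [Polynomial.aeval_X]

end Groth.Agent.H62.HC.P1
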