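import Mathlib
import Groth.Agent.H62.HC3

/-!
# helper62: a finite flat morphism of constant rank `r` to `P¹_k` makes the sections over the
preimage of the chart `D₊(T₀)` a finite flat `k[X]`-algebra of rank `r`
-/

set_option autoImplicit false
set_option linter.style.haveILetI false
open CategoryTheory AlgebraicGeometry
universe u

namespace Groth.Agent.H62.HC

open Groth.Agent.H11.FtChart

section general

variable {X Y : Scheme.{u}} (f : X ⟶ Y) [IsFinite f] [Flat f]

/-- the rank of a finite flat morphism computed on an affine open of the target -/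
theorem finrank_app {U : Y.Opens} (hU : IsAffineOpen U) (x : PrimeSpectrum Γ(Y, U)) :
    (f.app U).hom.finrank x = Scheme.Hom.finrank f (hU.fromSpec x) := by
  have hV : IsAffineOpen (f ⁻¹ᵁ U) := hU.preimage f
  have hfin : (f.app U).hom.Finite := IsFinite.finite_app f U hU
  have hflat : (f.app U).hom.Flat := by
    rw [Scheme.Hom.app_eq_appLE]
    exact Flat.flat_appLE f hU hV le_rfl
  have hsq : hV.fromSpec ≫ f = Spec.map (f.app U) ≫ hU.fromSpec := by
    rw [Scheme.Hom.app_eq_appLE]
    exact (IsAffineOpen.SpecMap_appLE_fromSpec f hU hV le_rfl).symm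
  have hpb : IsPullback (Spec.map (f.app U)) hV.fromSpec hU.fromSpec f := by
    apply IsOpenImmersion.isPullback _ _ _ _ hsq
    rw [hU.opensRange_fromSpec, hV.opensRange_fromSpec]
  have h1 := Scheme.Hom.finrank_of_isPullback hV.fromSpec (Spec.map (f.app U)) f hU.fromSpec
    hpb.flip x
  rw [← h1, Scheme.Hom.finrank_SpecMap_eq_finrank hfin hflat]

end general

section line

variable {k : Type u} [Field k] {C : Scheme.{u}} [C.Over (Spec (CommRingCat.of k))]
  (f : C ⟶ CohB1.ProjSpace 1 k)
  (hf : f ≫ CohB1.ProjSpace.toSpec 1 k = C ↘ Spec (CommRingCat.of k))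

include hf in
/-- the comorphism is compatible with the structure maps from `k` -/
theorem app_secMap (U : (CohB1.ProjSpace 1 k).Opens) (c : k) :
    (f.app U).hom (secMap k (CohB1.ProjSpace 1 k) U c) = secMap k C (f ⁻¹ᵁ U) c := by
  have h1 : Coh.toGlobal (C ↘ Spec (CommRingCat.of k)) c =
      f.appTop.hom (Coh.toGlobal (CohB1.ProjSpace.toSpec 1 k) c) := by
    unfold Coh.toGlobal
    rw [← hf, Scheme.Hom.comp_appTop]
    rfl
  change (f.app U).hom (((CohB1.ProjSpace 1 k).presheaf.map (homOfLE (le_top : U ≤ ⊤)).op).hom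
      (Coh.toGlobal (CohB1.ProjSpace.toSpec 1 k) c)) =
    (C.presheaf.map (homOfLE (le_top : f ⁻¹ᵁ U ≤ ⊤)).op).hom
      (Coh.toGlobal (C ↘ Spec (CommRingCat.of k)) c)
  rw [h1]
  have h2 := f.naturality (homOfLE (le_top : U ≤ ⊤)).op
  have h3 := congrArg (fun g => g.hom (Coh.toGlobal (CohB1.ProjSpace.toSpec 1 k) c)) h2
  simp only [CommRingCat.hom_comp, RingHom.comp_apply] at h3
  exact h3

/-- the function `τ = f^*(T₁/T₀)` on the preimage of the chart `D₊(T₀)` -/
noncomputable def tau : Γ(C, f ⁻¹ᵁ LefPen.chart 1 k 0) := (f.app (LefPen.chart 1 k 0)).hom (P1.x₀ k)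

include hf in
theorem aeval_tau_eq :
    letI := secAlgebra k C (f ⁻¹ᵁ LefPen.chart 1 k 0)
    (Polynomial.aeval (R := k) (tau f)).toRingHom =
      (f.app (LefPen.chart 1 k 0)).hom.comp (P1.chartRingHom k) := by
  letI := secAlgebra k C (f ⁻¹ᵁ LefPen.chart 1 k 0)
  apply Polynomial.ringHom_ext
  · intro c
    change Polynomial.aeval (tau f) (Polynomial.C c) =
      (f.app (LefPen.chart 1 k 0)).hom (P1.chartRingHom k (Polynomial.C c))
    rw [Polynomial.aeval_C, P1.chartRingHom_C]
    exact (app_secMap f hf _ c).symm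
  · change Polynomial.aeval (tau f) Polynomial.X =
      (f.app (LefPen.chart 1 k 0)).hom (P1.chartRingHom k Polynomial.X)
    rw [Polynomial.aeval_X, P1.chartRingHom_X]
    rfl

variable [IsFinite f] [Flat f]

omit [Flat f] in
include hf in
theorem aeval_tau_finite :
    letI := secAlgebra k C (f ⁻¹ᵁ LefPen.chart 1 k 0)
    (Polynomial.aeval (R := k) (tau f)).toRingHom.Finite := by
  rw [aeval_tau_eq f hf]
  exact RingHom.Finite.comp (IsFinite.finite_app f _ (P1.isAffineOpen_chart k))
    (RingHom.Finite.of_surjective _ (P1.chartRingHom_bijective k).2)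

include hf in
theorem aeval_tau_flat :
    letI := secAlgebra k C (f ⁻¹ᵁ LefPen.chart 1 k 0)
    (Polynomial.aeval (R := k) (tau f)).toRingHom.Flat := by
  rw [aeval_tau_eq f hf]
  refine RingHom.Flat.comp (RingHom.Flat.of_bijective (P1.chartRingHom_bijective k)) ?_
  rw [Scheme.Hom.app_eq_appLE]
  exact Flat.flat_appLE f (P1.isAffineOpen_chart k) ((P1.isAffineOpen_chart k).preimage f) le_rfl

include hf in
theorem aeval_tau_finrank (r : ℕ) (hr : ∀ y : ↥(CohB1.ProjSpace 1 k), Scheme.Hom.finrank f y = r)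
    (p : PrimeSpectrum (Polynomial k)) :
    letI := secAlgebra k C (f ⁻¹ᵁ LefPen.chart 1 k 0)
    (Polynomial.aeval (R := k) (tau f)).toRingHom.finrank p = r := by
  rw [aeval_tau_eq f hf]
  let e : Polynomial k ≃+* Γ(CohB1.ProjSpace 1 k, LefPen.chart 1 k 0) :=
    RingEquiv.ofBijective (P1.chartRingHom k) (P1.chartRingHom_bijective k)
  have hfin : (f.app (LefPen.chart 1 k 0)).hom.Finite :=
    IsFinite.finite_app f _ (P1.isAffineOpen_chart k)
  have hflat : (f.app (LefPen.chart 1 k 0)).hom.Flat := by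
    rw [Scheme.Hom.app_eq_appLE]
    exact Flat.flat_appLE f (P1.isAffineOpen_chart k) ((P1.isAffineOpen_chart k).preimage f) le_rfl
  rw [RingHom.finrank_comp_right_of_bijective (P1.chartRingHom k)
    (f.app (LefPen.chart 1 k 0)).hom (P1.chartRingHom_bijective k) hfin hflat p
    (PrimeSpectrum.comap (e.symm : _ →+* _) p) ?_]
  · rw [finrank_app f (P1.isAffineOpen_chart k)]
    exact hr _
  · rw [← PrimeSpectrum.comap_comp_apply]
    have : (e.symm : _ →+* _).comp (P1.chartRingHom k) = RingHom.id _ := by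
      refine RingHom.ext (fun x => ?_)
      exact e.symm_apply_apply x
    rw [this]
    rfl

end line

end Groth.Agent.H62.HC

namespace Groth.Agent.H62.HC

open Groth.Agent.H11.FtChart

section secSpec

variable (k : Type u) [Field k] (X : Scheme.{u}) [X.Over (Spec (CommRingCat.of k))]

/-- the structure morphism of an affine open, in terms of the structure map of its sections -/
theorem fromSpec_over {U : X.Opens} (hU : IsAffineOpen U) :
    hU.fromSpec ≫ (X ↘ Spec (CommRingCat.of k)) =
      Spec.map (CommRingCat.ofHom (secMap k X U)) := by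
  have h1 := IsAffineOpen.SpecMap_appLE_fromSpec (X ↘ Spec (CommRingCat.of k))
    (isAffineOpen_top (Spec (CommRingCat.of k))) hU le_top
  rw [← h1, IsAffineOpen.fromSpec_top, Scheme.isoSpec_Spec_inv, ← Spec.map_comp]
  rfl

theorem ι_over {U : X.Opens} (hU : IsAffineOpen U) :
    U.ι ≫ (X ↘ Spec (CommRingCat.of k)) =
      hU.isoSpec.hom ≫ Spec.map (CommRingCat.ofHom (secMap k X U)) := by
  rw [← fromSpec_over k X hU, ← Category.assoc, hU.isoSpec_hom_fromSpec]

end secSpec

end Groth.Agent.H62.HC
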