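import Mathlib

/-!
Transfer of freeness between two models of the localization of a module.
-/

set_option autoImplicit false

namespace Groth.Agent.H62

attribute [local instance] RingHomInvPair.of_ringEquiv RingHomInvPair.of_ringEquiv_symm in
/-- If `N` (over `A`) and `N'` (over `A'`) are two models of the localization of `M` at `S`
(with `A`, `A'` two models of `S⁻¹R`), then `N'` is free over `A'` as soon as `N` is free
over `A`. -/
theorem free_of_isLocalizedModule_transfer {R : Type*} [CommRing R] (S : Submonoid R)
    {M : Type*} [AddCommGroup M] [Module R M]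
    (A : Type*) [CommRing A] [Algebra R A] [IsLocalization S A]
    {N : Type*} [AddCommGroup N] [Module R N] [Module A N] [IsScalarTower R A N]
    (l : M →ₗ[R] N) [IsLocalizedModule S l]
    (A' : Type*) [CommRing A'] [Algebra R A'] [IsLocalization S A']
    {N' : Type*} [AddCommGroup N'] [Module R N'] [Module A' N'] [IsScalarTower R A' N']
    (l' : M →ₗ[R] N') [IsLocalizedModule S l'] [Module.Free A N] : Module.Free A' N' := by
  set e := (IsLocalization.algEquiv S A A').toRingEquiv
  refine Module.Free.of_equiv (M := N) (R := A) (σ := e)
    { __ := IsLocalizedModule.linearEquiv S l l'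
      map_smul' := ?_ }
  intro r m
  obtain ⟨r, s, rfl⟩ := IsLocalization.exists_mk'_eq S r
  apply ((Module.End.isUnit_iff _).mp (IsLocalizedModule.map_units l' s)).1
  dsimp [e]
  simp only [← map_smul, ← smul_assoc, IsLocalization.smul_mk'_self, algebraMap_smul]
  rw [AlgEquiv.commutes, algebraMap_smul, map_smul]

/-- A finite free module over a commutative ring has a basis indexed by some `Fin n`
(also over the zero ring). -/
theorem exists_fin_basis_of_free_of_finite (A N : Type*) [CommRing A] [AddCommGroup N]
    [Module A N] [Module.Free A N] [Module.Finite A N] :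
    ∃ n : ℕ, Nonempty (Module.Basis (Fin n) A N) := by
  rcases subsingleton_or_nontrivial A with h | h
  · have : Subsingleton N := Module.subsingleton A N
    exact ⟨0, ⟨Module.Basis.empty N⟩⟩
  · exact ⟨_, ⟨Module.finBasis A N⟩⟩

end Groth.Agent.H62
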