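import Groth.Prelude.Def_GLin
import Mathlib.RingTheory.Bialgebra.MonoidAlgebra
import Mathlib.RingTheory.Coalgebra.MonoidAlgebra

set_option autoImplicit false
universe u v w

open TensorProduct LaurentPolynomial Polynomial

namespace Groth.Agent.H62

noncomputable section

section Laurent

variable {k : Type u} [CommRing k]

lemma coeff_toLaurent_natCast (q : k[X]) (n : ℕ) : (toLaurent q).coeff (n : ℤ) = q.coeff n := by
  rw [LaurentPolynomial.coeff_toLaurent]
  have : ((n : ℕ) : ℤ) = Nat.castEmbedding n := rfl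
  rw [this, Finsupp.mapDomain_apply Nat.castEmbedding.injective]
  rfl

lemma coeff_toLaurent_neg (q : k[X]) (n : ℤ) (hn : n < 0) : (toLaurent q).coeff n = 0 := by
  rw [LaurentPolynomial.coeff_toLaurent]
  apply Finsupp.mapDomain_of_notMem_range
  rintro ⟨m, hm⟩
  have : (Nat.castEmbedding m : ℤ) = (m : ℤ) := rfl
  omega

lemma exists_toLaurent_eq_iff (f : k[T;T⁻¹]) :
    (∃ q : k[X], toLaurent q = f) ↔ ∀ n : ℤ, n < 0 → f.coeff n = 0 := by
  constructor
  · rintro ⟨q, rfl⟩ n hn
    exact coeff_toLaurent_neg q n hn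
  · intro h
    refine ⟨LaurentPolynomial.trunc f, ?_⟩
    ext n
    rcases lt_or_ge n 0 with hn | hn
    · rw [coeff_toLaurent_neg _ n hn, h n hn]
    · lift n to ℕ using hn
      rw [coeff_toLaurent_natCast]
      simp [LaurentPolynomial.trunc]

lemma coeff_T_mul (m n : ℤ) (f : k[T;T⁻¹]) : (T m * f).coeff n = f.coeff (n - m) := by
  rw [LaurentPolynomial.T, AddMonoidAlgebra.coeff_single_mul_apply, one_mul]
  congr 1
  ring

end Laurent

section Mu

variable {k : Type u} [CommRing k] {A : Type v} [CommRing A] [Bialgebra k A]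
  {ι : Type w} [Fintype ι] [HopfRep.Comod k A (MvPolynomial ι k)]
  [GLin.IsCoactAlg k A (MvPolynomial ι k)]

/-- the `i`-th coordinate of the orbit of `v` under `lam` -/
def orb (lam : A →ₐc[k] k[T;T⁻¹]) (v : ι → k) (i : ι) : k[T;T⁻¹] :=
  GLin.lamOrbit k A lam (GLin.vecPt k ι v) (MvPolynomial.X i)

omit [Fintype ι] in
lemma isMu_iff_exists (lam : A →ₐc[k] k[T;T⁻¹]) (v : ι → k) (m : ℤ) :
    GLin.IsMu k A lam v m ↔ ∃ q : ι → k[X],
      (∀ i, toLaurent (q i) = T m * orb lam v i) ∧ ∃ i, (q i).coeff 0 ≠ 0 := by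
  constructor
  · rintro ⟨h, h1, h2⟩
    refine ⟨fun i => h (MvPolynomial.X i), ?_, ?_⟩
    · intro i
      have := AlgHom.congr_fun h1 (MvPolynomial.X i)
      simpa [GLin.shiftedOrbit, orb] using this
    · by_contra hcon
      push Not at hcon
      apply h2
      apply MvPolynomial.algHom_ext
      intro i
      simp only [AlgHom.comp_apply, MvPolynomial.aeval_X, Polynomial.coe_aeval_eq_eval]
      rw [← Polynomial.coeff_zero_eq_eval_zero]
      exact hcon i
  · rintro ⟨q, h1, i, hi⟩
    refine ⟨MvPolynomial.aeval q, ?_, ?_⟩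
    · apply MvPolynomial.algHom_ext
      intro j
      simp only [AlgHom.comp_apply, MvPolynomial.aeval_X, GLin.shiftedOrbit]
      exact h1 j
    · intro heq
      have := AlgHom.congr_fun heq (MvPolynomial.X i)
      simp only [AlgHom.comp_apply, MvPolynomial.aeval_X, Polynomial.coe_aeval_eq_eval] at this
      rw [← Polynomial.coeff_zero_eq_eval_zero] at this
      exact hi this

omit [Fintype ι] in
lemma isMu_iff (lam : A →ₐc[k] k[T;T⁻¹]) (v : ι → k) (m : ℤ) :
    GLin.IsMu k A lam v m ↔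
      (∀ i, ∀ n : ℤ, n < -m → (orb lam v i).coeff n = 0) ∧
        ∃ i, (orb lam v i).coeff (-m) ≠ 0 := by
  rw [isMu_iff_exists]
  constructor
  · rintro ⟨q, h1, i, hi⟩
    refine ⟨?_, i, ?_⟩
    · intro j n hn
      have := coeff_toLaurent_neg (q j) (n + m) (by omega)
      rw [h1 j, coeff_T_mul] at this
      simpa using this
    · have := coeff_toLaurent_natCast (q i) 0
      rw [h1 i, Nat.cast_zero, coeff_T_mul, zero_sub] at this
      rwa [this]
  · rintro ⟨h1, i, hi⟩
    have hex : ∀ j, ∃ q : k[X], toLaurent q = T m * orb lam v j := by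
      intro j
      rw [exists_toLaurent_eq_iff]
      intro n hn
      rw [coeff_T_mul]
      exact h1 j _ (by omega)
    choose q hq using hex
    refine ⟨q, hq, i, ?_⟩
    have := coeff_toLaurent_natCast (q i) 0
    rw [hq i, Nat.cast_zero, coeff_T_mul, zero_sub] at this
    rwa [← this]

omit [Fintype ι] in
lemma hasLimit_iff (lam : A →ₐc[k] k[T;T⁻¹]) (v : ι → k) :
    GLin.HasLimit k A lam (GLin.vecPt k ι v) ↔
      ∀ i, ∀ n : ℤ, n < 0 → (orb lam v i).coeff n = 0 := by
  constructor
  · rintro ⟨h, h1⟩ i n hn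
    have := AlgHom.congr_fun h1 (MvPolynomial.X i)
    simp only [AlgHom.comp_apply, Polynomial.toLaurentAlg_apply] at this
    change _ = orb lam v i at this
    rw [← this]
    exact coeff_toLaurent_neg _ n hn
  · intro h1
    have hex : ∀ j, ∃ q : k[X], toLaurent q = orb lam v j := fun j =>
      (exists_toLaurent_eq_iff _).mpr (h1 j)
    choose q hq using hex
    refine ⟨MvPolynomial.aeval q, ?_⟩
    apply MvPolynomial.algHom_ext
    intro j
    simp only [AlgHom.comp_apply, MvPolynomial.aeval_X]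
    exact hq j

omit [Fintype ι] in
lemma isLimit_zero_iff (lam : A →ₐc[k] k[T;T⁻¹]) (v : ι → k) :
    GLin.IsLimit k A lam (GLin.vecPt k ι v) (GLin.vecPt k ι (fun _ => (0 : k))) ↔
      ∀ i, ∀ n : ℤ, n ≤ 0 → (orb lam v i).coeff n = 0 := by
  constructor
  · rintro ⟨h, h1, h2⟩ i n hn
    have e1 := AlgHom.congr_fun h1 (MvPolynomial.X i)
    simp only [AlgHom.comp_apply, Polynomial.toLaurentAlg_apply] at e1
    change _ = orb lam v i at e1
    rw [← e1]
    rcases lt_or_eq_of_le hn with hn | rfl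
    · exact coeff_toLaurent_neg _ n hn
    · have e2 := AlgHom.congr_fun h2 (MvPolynomial.X i)
      simp only [AlgHom.comp_apply, MvPolynomial.aeval_X, Polynomial.coe_aeval_eq_eval] at e2
      rw [← Polynomial.coeff_zero_eq_eval_zero] at e2
      have := coeff_toLaurent_natCast (h (MvPolynomial.X i)) 0
      rw [Nat.cast_zero] at this
      rw [this, e2]
  · intro h1
    have hex : ∀ j, ∃ q : k[X], toLaurent q = orb lam v j := fun j =>
      (exists_toLaurent_eq_iff _).mpr (fun n hn => h1 j n hn.le)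
    choose q hq using hex
    refine ⟨MvPolynomial.aeval q, ?_, ?_⟩
    · apply MvPolynomial.algHom_ext
      intro j
      simp only [AlgHom.comp_apply, MvPolynomial.aeval_X]
      exact hq j
    · apply MvPolynomial.algHom_ext
      intro j
      simp only [AlgHom.comp_apply, MvPolynomial.aeval_X, Polynomial.coe_aeval_eq_eval]
      rw [← Polynomial.coeff_zero_eq_eval_zero]
      have := coeff_toLaurent_natCast (q j) 0
      rw [Nat.cast_zero, hq j] at this
      rw [← this]
      exact h1 j 0 le_rfl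

omit [Fintype ι] in
lemma counit_orbitHom (x : MvPolynomial ι k →ₐ[k] k) (f : MvPolynomial ι k) :
    Coalgebra.counit (R := k) (GLin.orbitHom k A x f) = x f := by
  have hcu := LinearMap.congr_fun
    (HopfRep.Comod.counit_comp (k := k) (A := A) (V := MvPolynomial ι k)) f
  simp only [LinearMap.comp_apply, LinearMap.flip_apply, TensorProduct.mk_apply] at hcu
  have key : ∀ t : MvPolynomial ι k ⊗[k] A,
      Coalgebra.counit (R := k)
        ((Algebra.TensorProduct.lid k A) ((Algebra.TensorProduct.map x (AlgHom.id k A)) t)) =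
      LinearMap.mul' k k ((TensorProduct.map x.toLinearMap LinearMap.id)
        ((Coalgebra.counit (R := k) (A := A)).lTensor (MvPolynomial ι k) t)) := by
    intro t
    induction t with
    | zero => simp
    | tmul r a => simp
    | add t₁ t₂ h₁ h₂ => simp only [map_add, h₁, h₂]
  change Coalgebra.counit (R := k)
    ((Algebra.TensorProduct.lid k A) ((Algebra.TensorProduct.map x (AlgHom.id k A))
      (HopfRep.Comod.coact (k := k) (A := A) f))) = x f
  rw [key, hcu]
  simp

omit [Fintype ι] in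
lemma counit_orb (lam : A →ₐc[k] k[T;T⁻¹]) (v : ι → k) (i : ι) :
    Coalgebra.counit (R := k) (orb lam v i) = v i := by
  change Coalgebra.counit (R := k) (lam (GLin.orbitHom k A (GLin.vecPt k ι v) (MvPolynomial.X i)))
    = v i
  rw [CoalgHomClass.counit_comp_apply, counit_orbitHom]
  simp

omit [Fintype ι] in
lemma orb_ne_zero [Nontrivial k] (lam : A →ₐc[k] k[T;T⁻¹]) (v : ι → k) (i : ι) (hi : v i ≠ 0) :
    orb lam v i ≠ 0 := by
  intro h
  apply hi
  rw [← counit_orb lam v i, h, map_zero]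

/-- the set of exponents occurring in the orbit -/
def orbSupp (lam : A →ₐc[k] k[T;T⁻¹]) (v : ι → k) : Set ℤ :=
  {n | ∃ i, (orb lam v i).coeff n ≠ 0}

omit [Fintype ι] in
lemma isMu_iff_isLeast (lam : A →ₐc[k] k[T;T⁻¹]) (v : ι → k) (m : ℤ) :
    GLin.IsMu k A lam v m ↔ IsLeast (orbSupp lam v) (-m) := by
  rw [isMu_iff]
  constructor
  · rintro ⟨h1, h2⟩
    refine ⟨h2, ?_⟩
    rintro n ⟨i, hi⟩
    by_contra hlt
    exact hi (h1 i n (by omega))
  · rintro ⟨h2, h1⟩
    refine ⟨?_, h2⟩
    intro i n hn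
    by_contra hne
    have := h1 ⟨i, hne⟩
    omega

lemma exists_isLeast_orbSupp [Nontrivial k] (lam : A →ₐc[k] k[T;T⁻¹]) (v : ι → k) (hv : v ≠ 0) :
    ∃ N : ℤ, IsLeast (orbSupp lam v) N := by
  classical
  have hfin : (orbSupp lam v).Finite := by
    have : orbSupp lam v = ⋃ i, ((orb lam v i).coeff.support : Set ℤ) := by
      ext n
      simp [orbSupp]
    rw [this]
    exact Set.finite_iUnion fun i => Finset.finite_toSet _
  have hne : (orbSupp lam v).Nonempty := by
    obtain ⟨i, hi⟩ : ∃ i, v i ≠ 0 := by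
      by_contra h
      push Not at h
      exact hv (funext h)
    have h0 := orb_ne_zero lam v i hi
    have : (orb lam v i).coeff ≠ 0 := fun h => h0 (AddMonoidAlgebra.coeff_eq_zero.mp h)
    obtain ⟨n, hn⟩ := Finsupp.ne_iff.mp this
    exact ⟨n, i, by simpa using hn⟩
  exact Set.exists_min_image _ id hfin hne |>.imp fun N hN => ⟨hN.1, fun n hn => hN.2 n hn⟩

theorem existsUnique_isMu [Nontrivial k] (lam : A →ₐc[k] k[T;T⁻¹]) (v : ι → k) (hv : v ≠ 0) :
    ∃! m : ℤ, GLin.IsMu k A lam v m := by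
  obtain ⟨N, hN⟩ := exists_isLeast_orbSupp lam v hv
  refine ⟨-N, ?_, ?_⟩
  · change GLin.IsMu k A lam v (-N)
    rw [isMu_iff_isLeast, neg_neg]
    exact hN
  · intro m hm
    change GLin.IsMu k A lam v m at hm
    rw [isMu_iff_isLeast] at hm
    have := hm.unique hN
    omega

theorem trichotomy_isMu [Nontrivial k] (lam : A →ₐc[k] k[T;T⁻¹]) (v : ι → k) (hv : v ≠ 0) :
    (¬ GLin.HasLimit k A lam (GLin.vecPt k ι v) ↔ ∃ m : ℤ, GLin.IsMu k A lam v m ∧ 0 < m) ∧
      ((GLin.HasLimit k A lam (GLin.vecPt k ι v) ∧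
          ¬ GLin.IsLimit k A lam (GLin.vecPt k ι v) (GLin.vecPt k ι (fun _ => (0 : k)))) ↔
        GLin.IsMu k A lam v 0) ∧
      (GLin.IsLimit k A lam (GLin.vecPt k ι v) (GLin.vecPt k ι (fun _ => (0 : k))) ↔
        ∃ m : ℤ, GLin.IsMu k A lam v m ∧ m < 0) := by
  obtain ⟨N, hN⟩ := exists_isLeast_orbSupp lam v hv
  have hmu : ∀ m, GLin.IsMu k A lam v m ↔ m = -N := by
    intro m
    rw [isMu_iff_isLeast]
    constructor
    · intro hm
      have := hm.unique hN
      omega
    · rintro rfl
      rwa [neg_neg]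
  have hlim : GLin.HasLimit k A lam (GLin.vecPt k ι v) ↔ 0 ≤ N := by
    rw [hasLimit_iff]
    constructor
    · intro h
      by_contra hlt
      obtain ⟨i, hi⟩ := hN.1
      exact hi (h i N (by omega))
    · intro h i n hn
      by_contra hne
      have := hN.2 ⟨i, hne⟩
      omega
  have hzero : GLin.IsLimit k A lam (GLin.vecPt k ι v) (GLin.vecPt k ι (fun _ => (0 : k))) ↔
      0 < N := by
    rw [isLimit_zero_iff]
    constructor
    · intro h
      by_contra hlt
      obtain ⟨i, hi⟩ := hN.1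
      exact hi (h i N (by omega))
    · intro h i n hn
      by_contra hne
      have := hN.2 ⟨i, hne⟩
      omega
  refine ⟨?_, ?_, ?_⟩
  · rw [hlim]
    constructor
    · intro h
      exact ⟨-N, (hmu _).mpr rfl, by omega⟩
    · rintro ⟨m, hm, hpos⟩
      rw [hmu] at hm
      omega
  · rw [hlim, hzero, hmu]
    omega
  · rw [hzero]
    constructor
    · intro h
      exact ⟨-N, (hmu _).mpr rfl, by omega⟩
    · rintro ⟨m, hm, hneg⟩
      rw [hmu] at hm
      omega

omit [Fintype ι] in
/-- the orbit map is a map of comodules into the regular comodule -/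
lemma comul_orbitHom (x : MvPolynomial ι k →ₐ[k] k) (f : MvPolynomial ι k) :
    Coalgebra.comul (R := k) (GLin.orbitHom k A x f) =
      (GLin.orbitHom k A x).toLinearMap.rTensor A (HopfRep.Comod.coact (k := k) (A := A) f) := by
  let o' : MvPolynomial ι k ⊗[k] A →ₗ[k] A :=
    (Algebra.TensorProduct.lid k A).toLinearMap ∘ₗ
      (Algebra.TensorProduct.map x (AlgHom.id k A)).toLinearMap
  let Φ : MvPolynomial ι k ⊗[k] (A ⊗[k] A) →ₗ[k] A ⊗[k] A :=
    (TensorProduct.lid k (A ⊗[k] A)).toLinearMap ∘ₗ x.toLinearMap.rTensor (A ⊗[k] A)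
  have hA : ∀ t : MvPolynomial ι k ⊗[k] A, Coalgebra.comul (R := k) (o' t) =
      Φ ((Coalgebra.comul (R := k) (A := A)).lTensor (MvPolynomial ι k) t) := by
    intro t
    induction t with
    | zero => simp
    | tmul r a => simp [o', Φ]
    | add t₁ t₂ h₁ h₂ => simp only [map_add, h₁, h₂]
  have hB : ∀ s : (MvPolynomial ι k ⊗[k] A) ⊗[k] A,
      Φ (TensorProduct.assoc k (MvPolynomial ι k) A A s) = o'.rTensor A s := by
    intro s
    induction s with
    | zero => simp
    | tmul t a =>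
      induction t with
      | zero => simp
      | tmul r a' => simp [o', Φ, TensorProduct.smul_tmul']
      | add t₁ t₂ h₁ h₂ => simp only [add_tmul, map_add, h₁, h₂]
    | add s₁ s₂ h₁ h₂ => simp only [map_add, h₁, h₂]
  have hco := LinearMap.congr_fun
    (HopfRep.Comod.coassoc (k := k) (A := A) (V := MvPolynomial ι k)) f
  simp only [LinearMap.comp_apply, LinearEquiv.coe_coe] at hco
  change Coalgebra.comul (R := k) (o' (HopfRep.Comod.coact (k := k) (A := A) f)) = _
  rw [hA, ← hco, hB, ← LinearMap.comp_apply, ← LinearMap.rTensor_comp]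
  rfl

lemma orbitHom_X_of_linear (mm : ι → ι → A)
    (hmm : ∀ i, HopfRep.Comod.coact (k := k) (A := A) (MvPolynomial.X i : MvPolynomial ι k) =
      ∑ j, (MvPolynomial.X j : MvPolynomial ι k) ⊗ₜ[k] mm i j)
    (x : MvPolynomial ι k →ₐ[k] k) (i : ι) :
    GLin.orbitHom k A x (MvPolynomial.X i) = ∑ j, x (MvPolynomial.X j) • mm i j := by
  change (Algebra.TensorProduct.lid k A) ((Algebra.TensorProduct.map x (AlgHom.id k A))
      (HopfRep.Comod.coact (k := k) (A := A) (MvPolynomial.X i))) = _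
  rw [hmm i]
  simp [map_sum]

lemma comul_orbitHom_X_of_linear (mm : ι → ι → A)
    (hmm : ∀ i, HopfRep.Comod.coact (k := k) (A := A) (MvPolynomial.X i : MvPolynomial ι k) =
      ∑ j, (MvPolynomial.X j : MvPolynomial ι k) ⊗ₜ[k] mm i j)
    (x : MvPolynomial ι k →ₐ[k] k) (i : ι) :
    Coalgebra.comul (R := k) (GLin.orbitHom k A x (MvPolynomial.X i)) =
      ∑ j, GLin.orbitHom k A x (MvPolynomial.X j) ⊗ₜ[k] mm i j := by
  rw [comul_orbitHom, hmm i]
  simp [map_sum]

end Mu

end

end Groth.Agent.H62
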