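import Mathlib
import Groth.Agent.H62.GD5
import Groth.Agent.H62.GD8
import Groth.Agent.H62.HC4
import Groth.Agent.H54.ProjDim2
import Groth.Agent.H54.ClosedImmLinSys
import Groth.Agent.H97.ProjSpaceOverIso

/-!
# helper62: basic facts on the projective line `P¹_k` as a curve

`P¹_k` is integral, proper over `k`, of dimension one, its closed points have one-dimensional local
rings, its generic point lies in the chart `D₊(T₀)`, and every element of the local ring at a point
of that chart is a quotient of polynomials in the coordinate `x₀ = T₁/T₀`.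
-/

set_option autoImplicit false
set_option linter.style.haveILetI false
open CategoryTheory CategoryTheory.Limits AlgebraicGeometry TopologicalSpace Topology
universe u

namespace Groth.Agent.H62.PM

attribute [local instance] Curv2.stalkAlgebra Curv2.resAlgebra

section general

variable (k : Type u) [Field k] (C : Scheme.{u}) [C.Over (Spec (CommRingCat.of k))] [IsIntegral C]

/-- closed points of an integral one-dimensional scheme of finite type over a field have
one-dimensional local rings -/
theorem ringKrullDim_stalk_of_dim [LocallyOfFiniteType (C ↘ Spec (CommRingCat.of k))]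
    (hdim : topologicalKrullDim C = 1) (x : C) (hx : IsClosed ({x} : Set C)) :
    ringKrullDim (C.presheaf.stalk x) = 1 := by
  rw [← Groth.Agent.S1617.result k C x hx,
    ← Groth.Agent.H17.Chev.topologicalKrullDim_eq_localDim_of_irreducible k
      (C ↘ Spec (CommRingCat.of k)) x, hdim]

end general

variable (k : Type u) [Field k]

local notation "P1" => CohB1.ProjSpace 1 k

instance isIntegral_P1 : IsIntegral (CohB1.ProjSpace 1 k) :=
  Groth.Agent.H97.ProjChart.isIntegral_projSpace k 1

instance isProper_P1 : IsProper ((CohB1.ProjSpace 1 k) ↘ Spec (CommRingCat.of k)) :=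
  Groth.Agent.H54.LS.isProper_toSpec k 1

theorem dim_P1 : topologicalKrullDim (CohB1.ProjSpace 1 k) = 1 := by
  rw [Groth.Agent.H54.topologicalKrullDim_projSpace k 1]
  rfl

theorem isCurveLike_P1 : Groth.Agent.H22.CurveFibres.IsCurveLike (CohB1.ProjSpace 1 k) :=
  fun y hy => ringKrullDim_stalk_of_dim k _ (dim_P1 k) y hy

/-- the chart `D₊(T₀)` is nonempty -/
theorem genericPoint_mem_chart : genericPoint (CohB1.ProjSpace 1 k) ∈ LefPen.chart 1 k 0 := by
  change genericPoint (CohB1.ProjSpace 1 k) ∈ ((LefPen.chart 1 k 0 : (CohB1.ProjSpace 1 k).Opens) : Set _)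
  rw [(genericPoint_spec (CohB1.ProjSpace 1 k)).mem_open_set_iff (LefPen.chart 1 k 0).isOpen]
  by_contra hcon
  rw [Set.not_nonempty_iff_eq_empty, Set.univ_inter] at hcon
  have hbot : LefPen.chart 1 k 0 = ⊥ := by
    ext y
    simp only [Opens.coe_bot, Set.mem_empty_iff_false, iff_false]
    intro hy
    have : y ∈ ((LefPen.chart 1 k 0 : (CohB1.ProjSpace 1 k).Opens) : Set _) := hy
    rw [hcon] at this
    exact this
  -- the ring of sections of the chart would be trivial
  have h1 : Subsingleton Γ(CohB1.ProjSpace 1 k, LefPen.chart 1 k 0) := by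
    rw [hbot]
    infer_instance
  have hbij := HC.P1.chartRingHom_bijective k
  have : (0 : Polynomial k) = 1 := hbij.1 (Subsingleton.elim _ _)
  exact zero_ne_one this

instance nonempty_chart : Nonempty (LefPen.chart 1 k 0 : (CohB1.ProjSpace 1 k).Opens) :=
  ⟨⟨_, genericPoint_mem_chart k⟩⟩

/-- **the local rings of the chart `D₊(T₀)`**: every germ is a quotient of polynomials in `x₀` -/
theorem stalk_repr_chart (y : CohB1.ProjSpace 1 k) (hy : y ∈ LefPen.chart 1 k 0)
    (z : (CohB1.ProjSpace 1 k).presheaf.stalk y) :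
    ∃ p q : Polynomial k,
      IsUnit (Polynomial.aeval
        (((CohB1.ProjSpace 1 k).presheaf.germ (LefPen.chart 1 k 0) y hy).hom (HC.P1.x₀ k)) q) ∧
      z * Polynomial.aeval
        (((CohB1.ProjSpace 1 k).presheaf.germ (LefPen.chart 1 k 0) y hy).hom (HC.P1.x₀ k)) q =
      Polynomial.aeval
        (((CohB1.ProjSpace 1 k).presheaf.germ (LefPen.chart 1 k 0) y hy).hom (HC.P1.x₀ k)) p := by
  set U := LefPen.chart 1 k 0 with hU
  have hUa : IsAffineOpen U := HC.P1.isAffineOpen_chart k
  set γ := ((CohB1.ProjSpace 1 k).presheaf.germ U y hy).hom with hγ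
  -- polynomials in the germ of `x₀` are germs of polynomials in `x₀`
  have haev : ∀ p : Polynomial k, Polynomial.aeval (γ (HC.P1.x₀ k)) p =
      γ (HC.P1.chartRingHom k p) := by
    intro p
    have : (Polynomial.aeval (R := k) (γ (HC.P1.x₀ k))).toRingHom =
        γ.comp (HC.P1.chartRingHom k) := by
      apply Polynomial.ringHom_ext
      · intro c
        simp only [AlgHom.toRingHom_eq_coe, RingHom.coe_coe, Polynomial.aeval_C,
          RingHom.comp_apply]
        rw [HC.P1.chartRingHom_C]
        change ((CohB1.ProjSpace 1 k).presheaf.germ ⊤ y trivial).hom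
            (Coh.toGlobal ((CohB1.ProjSpace 1 k) ↘ Spec (CommRingCat.of k)) c) =
          ((CohB1.ProjSpace 1 k).presheaf.germ U y hy).hom
            (((CohB1.ProjSpace 1 k).presheaf.map (homOfLE (le_top : U ≤ ⊤)).op).hom
              (Coh.toGlobal ((CohB1.ProjSpace 1 k) ↘ Spec (CommRingCat.of k)) c))
        exact (TopCat.Presheaf.germ_res_apply (CohB1.ProjSpace 1 k).presheaf
          (homOfLE (le_top : U ≤ ⊤)) _ _ _).symm
      · simp only [AlgHom.toRingHom_eq_coe, RingHom.coe_coe, Polynomial.aeval_X,
          RingHom.comp_apply]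
        rw [HC.P1.chartRingHom_X]
    exact RingHom.congr_fun this p
  letI : Algebra Γ(CohB1.ProjSpace 1 k, U) ((CohB1.ProjSpace 1 k).presheaf.stalk y) :=
    γ.toAlgebra
  haveI := hUa.isLocalization_stalk ⟨y, hy⟩
  obtain ⟨⟨a, s⟩, has⟩ := IsLocalization.surj (hUa.primeIdealOf ⟨y, hy⟩).asIdeal.primeCompl z
  obtain ⟨p, hp⟩ := (HC.P1.chartRingHom_bijective k).2 a
  obtain ⟨q, hq⟩ := (HC.P1.chartRingHom_bijective k).2 (s : Γ(CohB1.ProjSpace 1 k, U))
  refine ⟨p, q, ?_, ?_⟩
  · rw [haev, hq]
    exact IsLocalization.map_units _ s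
  · rw [haev, haev, hp, hq]
    exact has

end Groth.Agent.H62.PM
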