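import Mathlib
import Groth.Agent.H62.PM1
import Groth.Agent.H62.HC2

/-!
# helper62: the `k`-embedding `K(P¹_k) → K(X)` attached to a transcendental function
-/

set_option autoImplicit false
set_option linter.style.haveILetI false
open CategoryTheory CategoryTheory.Limits AlgebraicGeometry TopologicalSpace Topology
universe u

namespace Groth.Agent.H62.PM

attribute [local instance] Curv2.stalkAlgebra Curv2.resAlgebra

variable (k : Type u) [Field k]

/-- the germ of the coordinate `x₀` in the function field of the projective line -/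
noncomputable def xgen : (CohB1.ProjSpace 1 k).functionField :=
  ((CohB1.ProjSpace 1 k).presheaf.germ (LefPen.chart 1 k 0) (genericPoint _)
    (genericPoint_mem_chart k)).hom (HC.P1.x₀ k)

variable {k} {X : Scheme.{u}} [X.Over (Spec (CommRingCat.of k))] [IsIntegral X]

/-- **the embedding of function fields attached to a transcendental function** -/
theorem exists_phi (t : X.functionField) (ht : Transcendental k t) :
    ∃ φ : (CohB1.ProjSpace 1 k).functionField →ₐ[k] X.functionField, φ (xgen k) = t := by
  set U := LefPen.chart 1 k 0 with hU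
  have hUa : IsAffineOpen U := HC.P1.isAffineOpen_chart k
  letI := Groth.Agent.H11.FtChart.secAlgebra k (CohB1.ProjSpace 1 k) U
  haveI := HC.isScalarTower_sec (k := k) (C := CohB1.ProjSpace 1 k) U
  haveI : IsFractionRing Γ(CohB1.ProjSpace 1 k, U) (CohB1.ProjSpace 1 k).functionField :=
    functionField_isFractionRing_of_isAffineOpen _ U hUa
  let e : Polynomial k ≃+* Γ(CohB1.ProjSpace 1 k, U) :=
    RingEquiv.ofBijective (HC.P1.chartRingHom k) (HC.P1.chartRingHom_bijective k)
  let g : Γ(CohB1.ProjSpace 1 k, U) →+* X.functionField :=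
    (Polynomial.aeval (R := k) t).toRingHom.comp (e.symm : Γ(CohB1.ProjSpace 1 k, U) →+* Polynomial k)
  have hg : Function.Injective g := by
    have h1 : Function.Injective (Polynomial.aeval (R := k) t) :=
      transcendental_iff_injective.mp ht
    exact h1.comp e.symm.injective
  let φ₀ : (CohB1.ProjSpace 1 k).functionField →+* X.functionField := IsFractionRing.lift hg
  have hφ₀ : ∀ a : Γ(CohB1.ProjSpace 1 k, U),
      φ₀ (algebraMap _ (CohB1.ProjSpace 1 k).functionField a) = g a :=
    fun a => IsFractionRing.lift_algebraMap hg a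
  have hgC : ∀ c : k, g (algebraMap k _ c) = algebraMap k X.functionField c := by
    intro c
    have h1 : e (Polynomial.C c) = algebraMap k Γ(CohB1.ProjSpace 1 k, U) c :=
      HC.P1.chartRingHom_C k c
    have h2 : e.symm (algebraMap k Γ(CohB1.ProjSpace 1 k, U) c) = Polynomial.C c := by
      rw [← h1, RingEquiv.symm_apply_apply]
    change Polynomial.aeval t (e.symm (algebraMap k Γ(CohB1.ProjSpace 1 k, U) c)) = _
    rw [h2, Polynomial.aeval_C]
  have hcomm : ∀ c : k, φ₀ (algebraMap k (CohB1.ProjSpace 1 k).functionField c) =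
      algebraMap k X.functionField c := by
    intro c
    rw [IsScalarTower.algebraMap_apply k Γ(CohB1.ProjSpace 1 k, U)
      (CohB1.ProjSpace 1 k).functionField, hφ₀, hgC]
  refine ⟨{ φ₀ with commutes' := hcomm }, ?_⟩
  change φ₀ (xgen k) = t
  have hx : xgen k = algebraMap Γ(CohB1.ProjSpace 1 k, U) (CohB1.ProjSpace 1 k).functionField
      (HC.P1.x₀ k) := rfl
  rw [hx, hφ₀]
  have h3 : e.symm (HC.P1.x₀ k) = Polynomial.X := by
    rw [← HC.P1.chartRingHom_X k]
    exact e.symm_apply_apply _
  change Polynomial.aeval t (e.symm (HC.P1.x₀ k)) = t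
  rw [h3, Polynomial.aeval_X]

end Groth.Agent.H62.PM
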