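import Mathlib
import Groth.Agent.H62.PM2
import Groth.Agent.S4445

/-!
# helper62: the morphism `X → P¹_k` attached to a transcendental function on a normal proper curve
-/

set_option autoImplicit false
set_option linter.style.haveILetI false
open CategoryTheory CategoryTheory.Limits AlgebraicGeometry TopologicalSpace Topology
universe u

namespace Groth.Agent.H62.PM

attribute [local instance] Curv2.stalkAlgebra Curv2.resAlgebra

variable {k : Type u} [Field k] {X : Scheme.{u}} [X.Over (Spec (CommRingCat.of k))] [IsIntegral X]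

/-- a `PCurve` is a normal scheme -/
theorem isNormalScheme (hP : GD.PCurve k X) : Pi1.IsNormalScheme X := by
  intro x
  rcases hP.isClosed_or_eq_genericPoint x with hx | rfl
  · haveI := hP.dvr x hx
    exact ⟨inferInstance, inferInstance⟩
  · have hf : IsField (X.presheaf.stalk (genericPoint X)) :=
      Field.toIsField X.functionField
    letI : Field (X.presheaf.stalk (genericPoint X)) := hf.toField
    exact ⟨inferInstance, inferInstance⟩

/-- **the morphism to the projective line attached to a transcendental function** -/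
theorem exists_hom (hP : GD.PCurve k X) (t : X.functionField) (ht : Transcendental k t) :
    ∃ (f : X ⟶ CohB1.ProjSpace 1 k) (hmem : genericPoint X ∈ f ⁻¹ᵁ LefPen.chart 1 k 0),
      f ≫ CohB1.ProjSpace.toSpec 1 k = X ↘ Spec (CommRingCat.of k) ∧
      f (genericPoint X) = genericPoint (CohB1.ProjSpace 1 k) ∧
      (X.presheaf.germ _ (genericPoint X) hmem).hom (HC.tau f) = t := by
  obtain ⟨φ, hφ⟩ := exists_phi t ht
  haveI := hP.proper
  obtain ⟨f, ⟨hf, hu, hstalk⟩, -⟩ := Groth.Agent.S4445.result k X (CohB1.ProjSpace 1 k)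
    (fun x hx => hP.ringKrullDim_stalk x hx) (isNormalScheme hP)
    (isCurveLike_P1 k) φ
  have hmem : genericPoint X ∈ f ⁻¹ᵁ LefPen.chart 1 k 0 := by
    change f (genericPoint X) ∈ LefPen.chart 1 k 0
    rw [show f (genericPoint X) = genericPoint (CohB1.ProjSpace 1 k) from hu]
    exact genericPoint_mem_chart k
  refine ⟨f, hmem, hf, hu, ?_⟩
  rw [← hφ]
  have h1 : φ (xgen k) = ((CohB1.ProjSpace 1 k).presheaf.stalkSpecializes (specializes_of_eq hu) ≫
      f.stalkMap (genericPoint X)).hom (xgen k) := by
    rw [hstalk]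
    rfl
  rw [h1]
  unfold xgen HC.tau
  rw [CommRingCat.hom_comp, RingHom.comp_apply]
  have h2 : ((CohB1.ProjSpace 1 k).presheaf.stalkSpecializes (specializes_of_eq hu)).hom
      (((CohB1.ProjSpace 1 k).presheaf.germ (LefPen.chart 1 k 0) (genericPoint _)
        (genericPoint_mem_chart k)).hom (HC.P1.x₀ k)) =
      ((CohB1.ProjSpace 1 k).presheaf.germ (LefPen.chart 1 k 0) (f (genericPoint X)) hmem).hom
        (HC.P1.x₀ k) := by
    have := TopCat.Presheaf.germ_stalkSpecializes (CohB1.ProjSpace 1 k).presheaf
      (genericPoint_mem_chart k) (specializes_of_eq hu)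
    exact congrArg (fun g => g.hom (HC.P1.x₀ k)) this
  rw [h2]
  have h3 := Scheme.Hom.germ_stalkMap f (LefPen.chart 1 k 0) (genericPoint X) hmem
  exact (congrArg (fun g => g.hom (HC.P1.x₀ k)) h3).symm

end Groth.Agent.H62.PM
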