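import Mathlib
import Groth.Agent.H62.PM3

/-!
# helper62: the map of function fields induced by a morphism sending the generic point to the
generic point; morphisms from a normal proper curve are determined by it
-/

set_option autoImplicit false
set_option linter.style.haveILetI false
open CategoryTheory CategoryTheory.Limits AlgebraicGeometry TopologicalSpace Topology
universe u

namespace Groth.Agent.H62.PM

attribute [local instance] Curv2.stalkAlgebra Curv2.resAlgebra

section general

variable {X Y Z : Scheme.{u}} [IsIntegral X] [IsIntegral Y] [IsIntegral Z]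

/-- the map of function fields induced by a morphism sending the generic point to the generic
point -/
noncomputable def ffMap (u : X ⟶ Y) (hu : u (genericPoint X) = genericPoint Y) :
    Y.functionField →+* X.functionField :=
  (Y.presheaf.stalkSpecializes (specializes_of_eq hu) ≫ u.stalkMap (genericPoint X)).hom

theorem ffMap_germ (u : X ⟶ Y) (hu : u (genericPoint X) = genericPoint Y)
    (V : Y.Opens) (hη : genericPoint Y ∈ V) (hη' : genericPoint X ∈ u ⁻¹ᵁ V) (a : Γ(Y, V)) :
    ffMap u hu ((Y.presheaf.germ V (genericPoint Y) hη).hom a) =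
      (X.presheaf.germ (u ⁻¹ᵁ V) (genericPoint X) hη').hom (u.app V a) := by
  unfold ffMap
  rw [CommRingCat.hom_comp, RingHom.comp_apply]
  have h2 : (Y.presheaf.stalkSpecializes (specializes_of_eq hu)).hom
      ((Y.presheaf.germ V (genericPoint Y) hη).hom a) =
      (Y.presheaf.germ V (u (genericPoint X)) hη').hom a := by
    have := TopCat.Presheaf.germ_stalkSpecializes Y.presheaf hη (specializes_of_eq hu)
    exact congrArg (fun g => g.hom a) this
  rw [h2]
  have h3 := Scheme.Hom.germ_stalkMap u V (genericPoint X) hη'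
  exact congrArg (fun g => g.hom a) h3

theorem mem_preimage_of_generic (u : X ⟶ Y) (hu : u (genericPoint X) = genericPoint Y)
    (V : Y.Opens) (hη : genericPoint Y ∈ V) : genericPoint X ∈ u ⁻¹ᵁ V := by
  change u (genericPoint X) ∈ V
  rw [hu]
  exact hη

theorem ffMap_comp (u : X ⟶ Y) (v : Y ⟶ Z) (hu : u (genericPoint X) = genericPoint Y)
    (hv : v (genericPoint Y) = genericPoint Z)
    (huv : (u ≫ v) (genericPoint X) = genericPoint Z) :
    ffMap (u ≫ v) huv = (ffMap u hu).comp (ffMap v hv) := by
  ext z
  obtain ⟨V, hV, s, rfl⟩ := TopCat.Presheaf.exists_germ_eq (F := Z.presheaf) (x := genericPoint Z) z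
  have h1 := mem_preimage_of_generic v hv V hV
  have h2 := mem_preimage_of_generic u hu (v ⁻¹ᵁ V) h1
  rw [RingHom.comp_apply, ffMap_germ v hv V hV h1, ffMap_germ u hu (v ⁻¹ᵁ V) h1 h2,
    ffMap_germ (u ≫ v) huv V hV h2]
  rw [Scheme.Hom.comp_app]
  rfl

theorem ffMap_id : ffMap (𝟙 X) rfl = RingHom.id X.functionField := by
  ext z
  obtain ⟨V, hV, s, rfl⟩ := TopCat.Presheaf.exists_germ_eq (F := X.presheaf) (x := genericPoint X) z
  rw [ffMap_germ (𝟙 X) rfl V hV hV]
  simp
  rfl

theorem ffMap_congr {u v : X ⟶ Y} (h : u = v) (hu : u (genericPoint X) = genericPoint Y) :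
    ffMap u hu = ffMap v (h ▸ hu) := by
  subst h
  rfl

end general

section overk

variable {k : Type u} [Field k] {X Y : Scheme.{u}} [X.Over (Spec (CommRingCat.of k))]
  [Y.Over (Spec (CommRingCat.of k))] [IsIntegral X] [IsIntegral Y]

theorem ffMap_algebraMap (u : X ⟶ Y) (hu : u (genericPoint X) = genericPoint Y)
    (huk : u ≫ (Y ↘ Spec (CommRingCat.of k)) = X ↘ Spec (CommRingCat.of k)) (c : k) :
    ffMap u hu (algebraMap k Y.functionField c) = algebraMap k X.functionField c := by
  change ffMap u hu ((Y.presheaf.germ ⊤ (genericPoint Y) trivial).hom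
      (Coh.toGlobal (Y ↘ Spec (CommRingCat.of k)) c)) =
    (X.presheaf.germ ⊤ (genericPoint X) trivial).hom
      (Coh.toGlobal (X ↘ Spec (CommRingCat.of k)) c)
  rw [ffMap_germ u hu ⊤ trivial trivial]
  congr 1
  unfold Coh.toGlobal
  have h1 : (Y ↘ Spec (CommRingCat.of k)).appTop ≫ u.appTop =
      (X ↘ Spec (CommRingCat.of k)).appTop := by
    rw [← Scheme.Hom.comp_appTop, huk]
  have h3 : ((Scheme.ΓSpecIso (CommRingCat.of k)).inv ≫ (Y ↘ Spec (CommRingCat.of k)).appTop ≫
      u.appTop).hom c =
      ((Scheme.ΓSpecIso (CommRingCat.of k)).inv ≫ (X ↘ Spec (CommRingCat.of k)).appTop).hom c := by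
    rw [h1]
  exact h3

/-- the `k`-algebra map of function fields induced by a `k`-morphism sending the generic point to
the generic point -/
noncomputable def ffAlgHom (u : X ⟶ Y) (hu : u (genericPoint X) = genericPoint Y)
    (huk : u ≫ (Y ↘ Spec (CommRingCat.of k)) = X ↘ Spec (CommRingCat.of k)) :
    Y.functionField →ₐ[k] X.functionField :=
  { ffMap u hu with commutes' := ffMap_algebraMap u hu huk }

theorem ffAlgHom_coe (u : X ⟶ Y) (hu : u (genericPoint X) = genericPoint Y)
    (huk : u ≫ (Y ↘ Spec (CommRingCat.of k)) = X ↘ Spec (CommRingCat.of k)) :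
    ((ffAlgHom u hu huk : Y.functionField →ₐ[k] X.functionField) :
      Y.functionField →+* X.functionField) = ffMap u hu := rfl

theorem ffAlgHom_apply (u : X ⟶ Y) (hu : u (genericPoint X) = genericPoint Y)
    (huk : u ≫ (Y ↘ Spec (CommRingCat.of k)) = X ↘ Spec (CommRingCat.of k)) (z : Y.functionField) :
    ffAlgHom u hu huk z = ffMap u hu z := rfl

/-- **morphisms over `k` from a normal proper curve to a proper curve are determined by the induced
map of function fields** -/
theorem hom_ext_of_ffMap (hP : GD.PCurve k X) [IsProper (Y ↘ Spec (CommRingCat.of k))]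
    (hY : ∀ y : Y, IsClosed ({y} : Set Y) → ringKrullDim (Y.presheaf.stalk y) = 1)
    (u v : X ⟶ Y) (hu : u (genericPoint X) = genericPoint Y)
    (hv : v (genericPoint X) = genericPoint Y)
    (huk : u ≫ (Y ↘ Spec (CommRingCat.of k)) = X ↘ Spec (CommRingCat.of k))
    (hvk : v ≫ (Y ↘ Spec (CommRingCat.of k)) = X ↘ Spec (CommRingCat.of k))
    (h : ffMap u hu = ffMap v hv) : u = v := by
  haveI := hP.proper
  have huniq := Groth.Agent.S4445.result k X Y
    (fun x hx => hP.ringKrullDim_stalk x hx) (isNormalScheme hP) hY (ffAlgHom u hu huk)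
  exact huniq.unique ⟨huk, hu, rfl⟩ ⟨hvk, hv, h.symm⟩

end overk

end Groth.Agent.H62.PM
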