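import Mathlib
import Groth.Agent.H76.CurveN
import Groth.Prelude.Def_Omega4
import Groth.Agent.H62.PM22

/-!
# helper62, Ω-bridge part 1: a generic trivialization of `Ω_{X/k}` gives a `k`-derivation of the
function field

For an integral scheme `X` over a field `k` and a generic trivialization `T` of `Ω_{X/k}`, the
function `germ s ↦ T.eps (d s)` is a `k`-derivation `K(X) → K(X)`.
-/

set_option autoImplicit false
set_option linter.style.haveILetI false
open CategoryTheory CategoryTheory.Limits AlgebraicGeometry TopologicalSpace Topology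
universe u

namespace Groth.Agent.H62.OB

attribute [local instance] Curv2.stalkAlgebra Curv2.resAlgebra

open Groth.Agent.H76.Curve

variable {k : Type u} [Field k] {X : Scheme.{u}} [X.Over (Spec (CommRingCat.of k))] [IsIntegral X]
  [QuasiSeparated (X ↘ Spec (CommRingCat.of k))]

variable (T : GenTriv (Omega.sheaf (X ↘ Spec (CommRingCat.of k))))

/-- the value of `d s` in the generic trivialization -/
noncomputable def dval (U : X.Opens) (hU : genericPoint X ∈ U) (s : Γ(X, U)) : X.functionField :=
  T.eps U hU (OmegaSh.dSect (X ↘ Spec (CommRingCat.of k)) U s)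

theorem dval_res (U V : X.Opens) (h : V ≤ U) (hV : genericPoint X ∈ V) (s : Γ(X, U)) :
    dval T V hV (X.presheaf.map (homOfLE h).op s) = dval T U (h hV) s := by
  unfold dval
  rw [OmegaSh.dSect_map]
  exact T.eps_res U V h hV _

theorem dval_add (U : X.Opens) (hU : genericPoint X ∈ U) (a b : Γ(X, U)) :
    dval T U hU (a + b) = dval T U hU a + dval T U hU b := by
  unfold dval
  rw [OmegaSh.dSect_add, map_add]

theorem dval_mul (U : X.Opens) (hU : genericPoint X ∈ U) (a b : Γ(X, U)) :
    dval T U hU (a * b) =
      (X.presheaf.germ U (genericPoint X) hU).hom a * dval T U hU b +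
        (X.presheaf.germ U (genericPoint X) hU).hom b * dval T U hU a := by
  unfold dval
  rw [OmegaSh.dSect_mul, map_add, T.eps_smul, T.eps_smul]

theorem dval_congr {U V : X.Opens} (hU : genericPoint X ∈ U) (hV : genericPoint X ∈ V)
    (s : Γ(X, U)) (s' : Γ(X, V))
    (h : (X.presheaf.germ U (genericPoint X) hU).hom s =
      (X.presheaf.germ V (genericPoint X) hV).hom s') :
    dval T U hU s = dval T V hV s' := by
  obtain ⟨W, hW, iU, iV, hres⟩ := X.presheaf.germ_eq (genericPoint X) hU hV s s' h
  have h1 := dval_res T U W iU.le hW s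
  have h2 := dval_res T V W iV.le hW s'
  rw [← h1, ← h2]
  exact congrArg (dval T W hW) hres

/-- the underlying function of the derivation -/
noncomputable def der0 (z : X.functionField) : X.functionField :=
  dval T (X.presheaf.exists_germ_eq z).choose (X.presheaf.exists_germ_eq z).choose_spec.choose
    (X.presheaf.exists_germ_eq z).choose_spec.choose_spec.choose

theorem der0_germ (U : X.Opens) (hU : genericPoint X ∈ U) (s : Γ(X, U)) :
    der0 T ((X.presheaf.germ U (genericPoint X) hU).hom s) = dval T U hU s := by
  unfold der0
  apply dval_congr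
  exact (X.presheaf.exists_germ_eq
    ((X.presheaf.germ U (genericPoint X) hU).hom s)).choose_spec.choose_spec.choose_spec

/-- two elements of the function field are germs of sections over a common open -/
theorem exists_common (z w : X.functionField) :
    ∃ (W : X.Opens) (hW : genericPoint X ∈ W) (a b : Γ(X, W)),
      (X.presheaf.germ W (genericPoint X) hW).hom a = z ∧
      (X.presheaf.germ W (genericPoint X) hW).hom b = w := by
  obtain ⟨U, hU, a, rfl⟩ := X.presheaf.exists_germ_eq z
  obtain ⟨V, hV, b, rfl⟩ := X.presheaf.exists_germ_eq w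
  refine ⟨U ⊓ V, ⟨hU, hV⟩, X.presheaf.map (homOfLE inf_le_left).op a,
    X.presheaf.map (homOfLE inf_le_right).op b, ?_, ?_⟩
  · exact X.presheaf.germ_res_apply (homOfLE inf_le_left) (genericPoint X) ⟨hU, hV⟩ a
  · exact X.presheaf.germ_res_apply (homOfLE inf_le_right) (genericPoint X) ⟨hU, hV⟩ b

theorem der0_add (z w : X.functionField) : der0 T (z + w) = der0 T z + der0 T w := by
  obtain ⟨W, hW, a, b, rfl, rfl⟩ := exists_common z w
  rw [← map_add, der0_germ, der0_germ, der0_germ, dval_add]

theorem der0_mul (z w : X.functionField) :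
    der0 T (z * w) = z * der0 T w + w * der0 T z := by
  obtain ⟨W, hW, a, b, rfl, rfl⟩ := exists_common z w
  rw [← map_mul, der0_germ, der0_germ, der0_germ, dval_mul]

theorem der0_algebraMap (c : k) : der0 T (algebraMap k X.functionField c) = 0 := by
  have h0 : algebraMap k X.functionField c =
      (X.presheaf.germ ⊤ (genericPoint X) trivial).hom
        (Coh.toGlobal (X ↘ Spec (CommRingCat.of k)) c) := rfl
  rw [h0, der0_germ]
  unfold dval
  have h1 : OmegaSh.dSect (X ↘ Spec (CommRingCat.of k)) ⊤
      (Coh.toGlobal (X ↘ Spec (CommRingCat.of k)) c) = 0 :=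
    OmegaSh.dSect_app (X ↘ Spec (CommRingCat.of k)) ⊤
      ((Scheme.ΓSpecIso (CommRingCat.of k)).inv.hom c)
  rw [h1, map_zero]

/-- **the derivation of the function field attached to a generic trivialization of `Ω`** -/
noncomputable def derOf : Derivation k X.functionField X.functionField where
  toFun := der0 T
  map_add' := der0_add T
  map_smul' c z := by
    rw [RingHom.id_apply, Algebra.smul_def, der0_mul, der0_algebraMap, mul_zero, add_zero,
      Algebra.smul_def]
  map_one_eq_zero' := by
    change der0 T 1 = 0
    have := der0_algebraMap T (1 : k)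
    rwa [map_one] at this
  leibniz' z w := by
    change der0 T (z * w) = z • der0 T w + w • der0 T z
    rw [der0_mul, smul_eq_mul, smul_eq_mul]

theorem derOf_germ (U : X.Opens) (hU : genericPoint X ∈ U) (s : Γ(X, U)) :
    derOf T ((X.presheaf.germ U (genericPoint X) hU).hom s) =
      T.eps U hU (OmegaSh.dSect (X ↘ Spec (CommRingCat.of k)) U s) :=
  der0_germ T U hU s

end Groth.Agent.H62.OB
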