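import Mathlib
import Groth.Agent.H62.OB1
import Groth.Agent.H44.OmegaD
import Groth.Agent.H63.KaehlerFF
import Groth.Agent.H63.OrdDiff

/-!
# helper62, Ω-bridge part 2: sections of `Ω_{X/k}` over an affine open are combinations of `d s`;
transfer of derivations through expansions
-/

set_option autoImplicit false
set_option linter.style.haveILetI false
open CategoryTheory CategoryTheory.Limits AlgebraicGeometry TopologicalSpace Topology
universe u

namespace Groth.Agent.H62.OB

attribute [local instance] Curv2.stalkAlgebra Curv2.resAlgebra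

open Groth.Agent.H76.Curve

section span

variable {k : Type u} [Field k] {X : Scheme.{u}} [X.Over (Spec (CommRingCat.of k))]
  [QuasiSeparated (X ↘ Spec (CommRingCat.of k))]

/-- over an affine open, the sections of `Ω_{X/k}` are spanned by the differentials `d s` -/
theorem span_dSect_eq_top {U : X.Opens} (hU : IsAffineOpen U) :
    Submodule.span Γ(X, U)
      (Set.range (OmegaSh.dSect (X ↘ Spec (CommRingCat.of k)) U)) = ⊤ := by
  have e : U ≤ (X ↘ Spec (CommRingCat.of k)) ⁻¹ᵁ ⊤ := fun _ _ => trivial
  obtain ⟨Φ, hΦ⟩ := Groth.Agent.H44.exists_omega_kaehler_equiv (X ↘ Spec (CommRingCat.of k)) hU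
    (isAffineOpen_top (Spec (CommRingCat.of k))) e
  letI := ((X ↘ Spec (CommRingCat.of k)).appLE ⊤ U e).hom.toAlgebra
  have h1 : Submodule.map Φ.toLinearMap (Submodule.span Γ(X, U)
      (Set.range (OmegaSh.dSect (X ↘ Spec (CommRingCat.of k)) U))) = ⊤ := by
    rw [Submodule.map_span, ← Set.range_comp]
    have h2 : (Φ.toLinearMap ∘ OmegaSh.dSect (X ↘ Spec (CommRingCat.of k)) U) =
        (KaehlerDifferential.D Γ(Spec (CommRingCat.of k), ⊤) Γ(X, U)) := funext hΦ
    rw [h2]
    exact KaehlerDifferential.span_range_derivation _ _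
  rw [eq_top_iff]
  intro σ _
  have h3 : Φ σ ∈ Submodule.map Φ.toLinearMap (Submodule.span Γ(X, U)
      (Set.range (OmegaSh.dSect (X ↘ Spec (CommRingCat.of k)) U))) := by
    rw [h1]; trivial
  obtain ⟨σ', hσ', hσ'2⟩ := h3
  have : σ' = σ := Φ.injective hσ'2
  rw [← this]
  exact hσ'

variable [IsIntegral X] (T : GenTriv (Omega.sheaf (X ↘ Spec (CommRingCat.of k))))

/-- **induction principle**: a subgroup of the function field stable under multiplication by the
functions regular on an affine open `U`, containing `δ (germ s)` for all `s` regular on `U`,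
contains the coordinates of all sections of `Ω` over `U` -/
theorem eps_mem_of_forall {U : X.Opens} (hU : IsAffineOpen U) (hξ : genericPoint X ∈ U)
    (M : AddSubgroup X.functionField)
    (hM : ∀ (a : Γ(X, U)) (z : X.functionField), z ∈ M →
      (X.presheaf.germ U (genericPoint X) hξ).hom a * z ∈ M)
    (hd : ∀ s : Γ(X, U), derOf T ((X.presheaf.germ U (genericPoint X) hξ).hom s) ∈ M)
    (σ : Γ(Omega.sheaf (X ↘ Spec (CommRingCat.of k)), U)) : T.eps U hξ σ ∈ M := by
  have hσ : σ ∈ Submodule.span Γ(X, U)
      (Set.range (OmegaSh.dSect (X ↘ Spec (CommRingCat.of k)) U)) := by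
    rw [span_dSect_eq_top hU]; trivial
  induction hσ using Submodule.span_induction with
  | mem x hx =>
    obtain ⟨s, rfl⟩ := hx
    rw [← derOf_germ]
    exact hd s
  | zero => rw [map_zero]; exact M.zero_mem
  | add x y _ _ hx hy => rw [map_add]; exact M.add_mem hx hy
  | smul a x _ hx => rw [T.eps_smul]; exact hM a _ hx

end span

section ff

open FunFld LaurentSeries

variable {k K : Type*} [Field k] [PerfectField k] [Field K] [Algebra k K]

/-- **a derivation of a function field through an expansion** -/
theorem map_der_mul (hK : IsFunctionField k K) {x : K}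
    (hx : KaehlerDifferential.D k K x ≠ 0) (δ : Derivation k K K)
    (φ : K →ₐ[k] LaurentSeries k) (z : K) :
    φ (δ z) * LocRes.D k (φ x) = φ (δ x) * LocRes.D k (φ z) := by
  obtain ⟨a, ha⟩ := Groth.Agent.H63.KaehlerFF.exists_smul_D_eq hK hx (KaehlerDifferential.D k K z)
  have h1 := Groth.Agent.H63.KaehlerFF.D_map_eq_of_D_eq φ ha
  have h2 : δ z = a * δ x := by
    have := congrArg δ.liftKaehlerDifferential ha
    rwa [map_smul, Derivation.liftKaehlerDifferential_comp_D,
      Derivation.liftKaehlerDifferential_comp_D, smul_eq_mul] at this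
  rw [h1, h2, map_mul]
  ring

end ff

end Groth.Agent.H62.OB
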