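import Mathlib
import Groth.Agent.H62.OB2
import Groth.Agent.H62.FFRHIneq
import Groth.Agent.H63.WeilRes
import Groth.Agent.S12579

/-!
# helper62, Ω-bridge part 3: canonical data on a function field over an algebraically closed field
-/

set_option autoImplicit false
set_option linter.style.haveILetI false
open FunFld LaurentSeries
universe u v

namespace Groth.Agent.H62.OB

variable {k : Type u} {K : Type v} [Field k] [IsAlgClosed k] [Field K] [Algebra k K]

/-- a separating element, expansions at all places, and the canonical divisor `div (dx)` -/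
theorem exists_canonical_data (hK : IsFunctionField k K) :
    ∃ (x : K) (_ : KaehlerDifferential.D k K x ≠ 0) (φ : Place k K → (K →ₐ[k] LaurentSeries k))
      (_ : ∀ P : Place k K, LocRes.IsExpansionAt P.1 (φ P)) (W : Divisor k K),
      IsCanonical k K W ∧ (∀ P, LocRes.vDiff (φ P) 1 x ≠ 0) ∧
        ∀ P, W P = LocRes.ordDiff (φ P) 1 x := by
  classical
  have hg : IsGeometric k K := Groth.Agent.H55.isGeometric_of_perfectField k K hK
  obtain ⟨x, hxtr, hxsep⟩ := Groth.Agent.H55.exists_separating hK hg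
  haveI := hxsep
  obtain ⟨H, hH⟩ := Groth.Agent.H86.FF.exists_hasse_of_isSeparable x hxtr
  have hex : ∀ P : Place k K, ∃ Φ : K →ₐ[k] LaurentSeries k, LocRes.IsExpansionAt P.1 Φ :=
    fun P => Groth.Agent.H86.FF.exists_expansion hK hH P
  choose φ hφ using hex
  have hx : ∀ P, LocRes.vDiff (φ P) 1 x ≠ 0 := by
    intro P
    rw [Groth.Agent.H63.OrdDiff.vDiff_one]
    exact Groth.Agent.H63.OrdDiff.v_D_ne_zero hK hH P (φ P) (hφ P)
  obtain ⟨P0⟩ := Groth.Agent.H55.W.exists_place hK.weak
  have hdx : KaehlerDifferential.D k K x ≠ 0 := by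
    intro h0
    apply hx P0
    rw [Groth.Agent.H63.DiffExp.vDiff_one]
    have := Groth.Agent.H63.KaehlerFF.D_map_eq_of_D_eq (φ P0) (x := x) (z := x) (a := 0)
      (by rw [h0, zero_smul])
    rw [this, map_zero, zero_mul, map_zero]
  haveI : ∀ P : Place k K, FiniteDimensional k ((fun _ : Place k K => k) P) :=
    fun _ => inferInstanceAs (FiniteDimensional k k)
  have hres : ∀ u v : K, ∑ᶠ P, LocRes.locRes (φ P) u v = 0 := fun u v =>
    (Groth.Agent.S12579.result k K hK (fun _ => k) φ hφ u v).2
  refine ⟨x, hdx, φ, hφ, Groth.Agent.H63.WeilRes.divOf hK hg φ hφ 1 hdx,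
    Groth.Agent.H63.WeilRes.isCanonical_dv hK hg φ hφ hres hdx, hx, fun P => rfl⟩

end Groth.Agent.H62.OB
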