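import Mathlib
import Groth.Agent.H62.PM22
import Groth.Agent.H76.CurveN

/-!
# helper62: a formally unramified morphism of curves is unramified at every place of the function
field (`e = 1`)
-/

set_option autoImplicit false
set_option linter.style.haveILetI false
open CategoryTheory CategoryTheory.Limits AlgebraicGeometry TopologicalSpace Topology FunFld
universe u

namespace Groth.Agent.H62.PM

attribute [local instance] Curv2.stalkAlgebra Curv2.resAlgebra

open Groth.Agent.H62.GD Groth.Agent.H76.Curve WithZero

section compat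

variable {X Y : Scheme.{u}} [IsIntegral X] [IsIntegral Y]

/-- the map of function fields is compatible with the stalk maps -/
theorem ffMap_algebraMap_stalk (f : X ⟶ Y) (hgen : f (genericPoint X) = genericPoint Y) (x : X)
    (r : Y.presheaf.stalk (f x)) :
    ffMap f hgen (algebraMap (Y.presheaf.stalk (f x)) Y.functionField r) =
      algebraMap (X.presheaf.stalk x) X.functionField ((f.stalkMap x).hom r) := by
  obtain ⟨V, hV, a, rfl⟩ := Y.presheaf.exists_germ_eq r
  have hxV : x ∈ f ⁻¹ᵁ V := hV
  haveI : Nonempty V := ⟨⟨_, hV⟩⟩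
  haveI : Nonempty (f ⁻¹ᵁ V : X.Opens) := ⟨⟨x, hxV⟩⟩
  have hηV : genericPoint Y ∈ V :=
    ((genericPoint_spec Y).mem_open_set_iff V.isOpen).mpr ⟨f x, trivial, hV⟩
  have hηW : genericPoint X ∈ f ⁻¹ᵁ V := mem_preimage_of_generic f hgen V hηV
  rw [Y.algebraMap_germ_eq_germToFunctionField hV a]
  have h1 := Scheme.Hom.germ_stalkMap_apply f V x hxV a
  rw [h1, X.algebraMap_germ_eq_germToFunctionField hxV (f.app V a)]
  exact ffMap_germ f hgen V hηV hηW a

end compat

section unram

variable {k : Type u} [Field k] {X Y : Scheme.{u}} [X.Over (Spec (CommRingCat.of k))]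
  [Y.Over (Spec (CommRingCat.of k))] [IsIntegral X] [IsIntegral Y]

/-- an integer power of an element of `ℤᵐ⁰` equal to `exp (-1)` has exponent one -/
theorem eq_one_of_pow_eq_exp_neg_one {v : ℤᵐ⁰} {e : ℕ} (h : v ^ e = exp (-1 : ℤ)) : e = 1 := by
  have hv0 : v ≠ 0 := by
    rintro rfl
    rcases Nat.eq_zero_or_pos e with he | he
    · rw [he, pow_zero] at h
      rw [← exp_zero] at h
      have := exp_injective h
      omega
    · rw [zero_pow he.ne'] at h
      exact exp_ne_zero h.symm
  obtain ⟨a, rfl⟩ : ∃ a : ℤ, v = exp a := ⟨log v, (exp_log hv0).symm⟩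
  rw [← exp_nsmul] at h
  have h1 := exp_injective h
  rw [nsmul_eq_mul] at h1
  have h2 : (e : ℤ) ∣ 1 := ⟨-a, by linarith⟩
  have h3 := Int.eq_one_of_dvd_one (Int.natCast_nonneg e) h2
  exact_mod_cast h3

/-- **a formally unramified morphism of curves is unramified at every place** -/
theorem ramIdx_eq_one_of_formallyUnramified (hX : GCurve k X) (f : X ⟶ Y)
    (hgen : f (genericPoint X) = genericPoint Y) [FormallyUnramified f] [LocallyOfFiniteType f] :
    letI : Algebra Y.functionField X.functionField := (ffMap f hgen).toAlgebra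
    ∀ (Q : Place k X.functionField) (P : Place k Y.functionField) (e : ℕ),
      IsOverWith Q P e → e = 1 := by
  letI : Algebra Y.functionField X.functionField := (ffMap f hgen).toAlgebra
  intro Q P e he
  obtain ⟨x, rfl⟩ := placeOf_surjective hX Q
  -- the stalk map is unramified
  let φ := (f.stalkMap x.1).hom
  algebraize [(f.stalkMap x.1).hom]
  haveI : IsLocalHom (algebraMap (Y.presheaf.stalk (f x.1)) (X.presheaf.stalk x.1)) :=
    inferInstanceAs <| IsLocalHom (f.stalkMap x.1).hom
  haveI : Algebra.EssFiniteType (Y.presheaf.stalk (f x.1)) (X.presheaf.stalk x.1) := by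
    rw [← RingHom.essFiniteType_algebraMap, RingHom.algebraMap_toAlgebra]
    exact LocallyOfFiniteType.stalkMap f x.1
  haveI : Algebra.FormallyUnramified (Y.presheaf.stalk (f x.1)) (X.presheaf.stalk x.1) := by
    rw [← RingHom.formallyUnramified_algebraMap, RingHom.algebraMap_toAlgebra]
    exact FormallyUnramified.stalkMap f x.1
  have hmap := Algebra.FormallyUnramified.map_maximalIdeal
    (R := Y.presheaf.stalk (f x.1)) (S := X.presheaf.stalk x.1)
  -- an element of value `exp (-1)`
  obtain ⟨z, hz⟩ := (placeOf hX x).2.2 (exp (-1 : ℤ))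
  have hlt1 : exp (-1 : ℤ) < (1 : ℤᵐ⁰) := by
    rw [← exp_zero, exp_lt_exp]
    norm_num
  have hz1 : (placeOf hX x).1 z ≤ 1 := by
    rw [hz]
    exact hlt1.le
  obtain ⟨s, rfl⟩ := (placeOf_le_one_iff hX x z).mp hz1
  have hsm : s ∈ IsLocalRing.maximalIdeal (X.presheaf.stalk x.1) := by
    by_contra hns
    have hu : IsUnit s := IsLocalRing.notMem_maximalIdeal.mp hns
    have h1 := val_unit_eq_one hX x hu.unit
    rw [IsUnit.unit_spec, hz] at h1
    exact absurd h1 (ne_of_lt hlt1)
  -- the ideal of the elements of small valuation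
  let I : Ideal (X.presheaf.stalk x.1) :=
    { carrier := {a | (placeOf hX x).1 (algebraMap (X.presheaf.stalk x.1) X.functionField a) <
        exp (-1 : ℤ)}
      add_mem' := fun {a b} ha hb => by
        change (placeOf hX x).1 (algebraMap _ _ (a + b)) < _
        rw [map_add]
        exact lt_of_le_of_lt (Valuation.map_add _ _ _) (max_lt ha hb)
      zero_mem' := by
        change (placeOf hX x).1 (algebraMap _ _ 0) < _
        rw [map_zero, map_zero]
        exact exp_pos
      smul_mem' := fun c a ha => by
        change (placeOf hX x).1 (algebraMap _ _ (c • a)) < _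
        rw [smul_eq_mul, map_mul, map_mul]
        have hc : (placeOf hX x).1 (algebraMap (X.presheaf.stalk x.1) X.functionField c) ≤ 1 :=
          (placeOf_le_one_iff hX x _).mpr ⟨c, rfl⟩
        calc _ ≤ 1 * (placeOf hX x).1 (algebraMap (X.presheaf.stalk x.1) X.functionField a) :=
              mul_le_mul_left hc _
          _ = _ := one_mul _
          _ < _ := ha }
  by_contra hcon
  have hle : (IsLocalRing.maximalIdeal (Y.presheaf.stalk (f x.1))).map
      (algebraMap (Y.presheaf.stalk (f x.1)) (X.presheaf.stalk x.1)) ≤ I := by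
    rw [Ideal.map_le_iff_le_comap]
    intro t ht
    change (placeOf hX x).1 (algebraMap (X.presheaf.stalk x.1) X.functionField
      (algebraMap (Y.presheaf.stalk (f x.1)) (X.presheaf.stalk x.1) t)) < exp (-1 : ℤ)
    have h1 : algebraMap (Y.presheaf.stalk (f x.1)) (X.presheaf.stalk x.1) t ∈
        IsLocalRing.maximalIdeal (X.presheaf.stalk x.1) := by
      rw [← hmap]
      exact Ideal.mem_map_of_mem _ ht
    have h2 := val_lt_one_of_mem_maximalIdeal hX x _ h1
    have h3 := le_exp_neg_one_of_lt_one h2
    refine lt_of_le_of_ne h3 (fun h4 => hcon ?_)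
    have h5 := he (algebraMap (Y.presheaf.stalk (f x.1)) Y.functionField t)
    have h6 : algebraMap Y.functionField X.functionField
        (algebraMap (Y.presheaf.stalk (f x.1)) Y.functionField t) =
        algebraMap (X.presheaf.stalk x.1) X.functionField
          (algebraMap (Y.presheaf.stalk (f x.1)) (X.presheaf.stalk x.1) t) :=
      ffMap_algebraMap_stalk f hgen x.1 t
    rw [h6, h4] at h5
    exact eq_one_of_pow_eq_exp_neg_one h5.symm
  have hsI : s ∈ I := hle (hmap ▸ hsm)
  exact absurd hz (ne_of_lt hsI)

end unram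

end Groth.Agent.H62.PM
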