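import Mathlib
import Groth.Agent.H62.OB3
import Groth.Agent.H62.PM47

/-!
# helper62, Ω-bridge part 4: on a curve over an algebraically closed field, the divisor of the
sheaf of differentials is canonical
-/

set_option autoImplicit false
set_option linter.style.haveILetI false
open CategoryTheory CategoryTheory.Limits AlgebraicGeometry TopologicalSpace Topology FunFld
universe u

namespace Groth.Agent.H62.OB

attribute [local instance] Curv2.stalkAlgebra Curv2.resAlgebra

open Groth.Agent.H62.GD Groth.Agent.H76.Curve WithZero LaurentSeries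

variable {k : Type u} [Field k] [IsAlgClosed k] {X : Scheme.{u}}
  [X.Over (Spec (CommRingCat.of k))] [IsIntegral X]
  [QuasiSeparated (X ↘ Spec (CommRingCat.of k))]

/-- **the divisor of `Ω_{X/k}` is canonical** -/
theorem isDiv_omega (hC : GCurve k X)
    (hΩ : PicF.IsInvertible (Omega.sheaf (X ↘ Spec (CommRingCat.of k)))) :
    ∃ D : Divisor k X.functionField,
      IsDiv hC (Omega.sheaf (X ↘ Spec (CommRingCat.of k))) D ∧
        IsCanonical k X.functionField D := by
  classical
  haveI := hC.compactSpace
  have hK := hC.isFunctionField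
  obtain ⟨T⟩ := exists_genTriv hΩ
  obtain ⟨Cv⟩ := exists_trivCover hΩ
  obtain ⟨x, hdx, φ, hφ, W, hW, hx, hWx⟩ := exists_canonical_data hK
  set δ := derOf T with hδ
  set c := δ x with hc
  have hstar : ∀ (P : Place k X.functionField) (z : X.functionField),
      φ P (δ z) * LocRes.D k (φ P x) = φ P c * LocRes.D k (φ P z) :=
    fun P z => map_der_mul hK hdx δ (φ P) z
  have hDx : ∀ P : Place k X.functionField, Valued.v (LocRes.D k (φ P x)) ≠ 0 := by
    intro P
    have := hx P
    rwa [Groth.Agent.H63.DiffExp.vDiff_one] at this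
  -- `c ≠ 0`
  have hc0 : c ≠ 0 := by
    intro h0
    have hδ0 : ∀ z, δ z = 0 := by
      intro z
      obtain ⟨P0⟩ := Groth.Agent.H55.W.exists_place hK.weak
      have h1 := hstar P0 z
      rw [h0, map_zero, zero_mul] at h1
      have h2 : LocRes.D k (φ P0 x) ≠ 0 := by
        intro h
        apply hDx P0
        rw [h, map_zero]
      have h3 : φ P0 (δ z) = 0 := (mul_eq_zero.mp h1).resolve_right h2
      exact (map_eq_zero (φ P0)).mp h3
    obtain ⟨V, hV, hξV, hVU0⟩ := exists_isAffineOpen_mem_and_subset (x := genericPoint X)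
      (U := T.U) T.mem
    have hVU : V ≤ T.U := hVU0
    have h4 := eps_mem_of_forall T hV hξV ⊥
      (fun a z hz => by
        rw [AddSubgroup.mem_bot] at hz ⊢
        rw [hz, mul_zero])
      (fun s => by
        rw [AddSubgroup.mem_bot]
        exact hδ0 _)
      ((Omega.sheaf (X ↘ Spec (CommRingCat.of k))).presheaf.map (homOfLE hVU).op T.σ)
    rw [AddSubgroup.mem_bot, T.eps_res, T.eps_self] at h4
    exact one_ne_zero h4
  -- the key valuation identity
  have key : ∀ (i : Cv.ι) (Q : Place k X.functionField), Q ∈ Cv.S hC i →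
      Q.1 (Cv.f T i) * LocRes.vDiff (φ Q) 1 x = Q.1 c := by
    intro i Q hQ
    obtain ⟨y, hyU, rfl⟩ := hQ
    rw [Groth.Agent.H63.DiffExp.vDiff_one]
    have hvφ : ∀ z, Valued.v (φ (placeOf hC y) z) = (placeOf hC y).1 z := (hφ (placeOf hC y)).1
    have hreg : ∀ (V : X.Opens) (hyV : y.1 ∈ V) (hξV : genericPoint X ∈ V) (a : Γ(X, V)),
        (placeOf hC y).1 ((X.presheaf.germ V (genericPoint X) hξV).hom a) ≤ 1 := by
      intro V hyV hξV a
      rw [placeOf_le_one_iff hC y]
      haveI : Nonempty V := ⟨⟨_, hyV⟩⟩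
      exact ⟨(X.presheaf.germ V y.1 hyV).hom a,
        X.algebraMap_germ_eq_germToFunctionField hyV a⟩
    apply le_antisymm
    · -- the coordinates of regular differentials
      let M : AddSubgroup X.functionField :=
        { carrier := {z | Valued.v (φ (placeOf hC y) z * LocRes.D k (φ (placeOf hC y) x)) ≤
            (placeOf hC y).1 c}
          add_mem' := fun {a b} ha hb => by
            change Valued.v (φ (placeOf hC y) (a + b) * _) ≤ _
            rw [map_add, add_mul]
            exact le_trans (Valuation.map_add _ _ _) (max_le ha hb)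
          zero_mem' := by
            change Valued.v (φ (placeOf hC y) 0 * _) ≤ _
            rw [map_zero, zero_mul, map_zero]
            exact zero_le
          neg_mem' := fun {a} ha => by
            change Valued.v (φ (placeOf hC y) (-a) * _) ≤ _
            rw [map_neg, neg_mul, Valuation.map_neg]
            exact ha }
      have hmem := eps_mem_of_forall T (Cv.haff i) (Cv.hξ i) M
        (fun a z hz => by
          change Valued.v (φ (placeOf hC y) (_ * z) * _) ≤ _
          have hz' : Valued.v (φ (placeOf hC y) z * LocRes.D k (φ (placeOf hC y) x)) ≤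
              (placeOf hC y).1 c := hz
          have e1 : φ (placeOf hC y)
              ((X.presheaf.germ (Cv.U i) (genericPoint X) (Cv.hξ i)).hom a * z) *
              LocRes.D k (φ (placeOf hC y) x) =
              φ (placeOf hC y) ((X.presheaf.germ (Cv.U i) (genericPoint X) (Cv.hξ i)).hom a) *
                (φ (placeOf hC y) z * LocRes.D k (φ (placeOf hC y) x)) := by
            rw [map_mul, mul_assoc]
          rw [e1, Valuation.map_mul, hvφ]
          calc _ ≤ 1 * Valued.v (φ (placeOf hC y) z * LocRes.D k (φ (placeOf hC y) x)) :=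
                mul_le_mul_left (hreg _ hyU (Cv.hξ i) a) _
            _ = _ := one_mul _
            _ ≤ _ := hz')
        (fun s => by
          change Valued.v (φ (placeOf hC y) (δ _) * _) ≤ _
          rw [hstar, Valuation.map_mul, hvφ]
          have h1 : Valued.v (LocRes.D k (φ (placeOf hC y)
              ((X.presheaf.germ (Cv.U i) (genericPoint X) (Cv.hξ i)).hom s))) ≤ 1 := by
            apply Groth.Agent.H63.OrdDiff.v_D_le_one
            rw [hvφ]
            exact hreg _ hyU (Cv.hξ i) s
          calc _ ≤ (placeOf hC y).1 c * 1 := mul_le_mul_right h1 _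
            _ = _ := mul_one _)
        (Cv.σ i)
      have hmem' : Valued.v (φ (placeOf hC y) (Cv.f T i) *
          LocRes.D k (φ (placeOf hC y) x)) ≤ (placeOf hC y).1 c := hmem
      rw [map_mul, hvφ] at hmem'
      exact hmem'
    · -- the differential of a uniformizer
      obtain ⟨z, hz⟩ := (placeOf hC y).2.2 (exp (-1 : ℤ))
      have hlt1 : exp (-1 : ℤ) < (1 : ℤᵐ⁰) := by
        rw [← exp_zero, exp_lt_exp]
        norm_num
      have hz1 : (placeOf hC y).1 z ≤ 1 := by
        rw [hz]
        exact hlt1.le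
      obtain ⟨s, rfl⟩ := (placeOf_le_one_iff hC y z).mp hz1
      obtain ⟨V, hyV, t, rfl⟩ := X.presheaf.exists_germ_eq s
      set V' : X.Opens := V ⊓ Cv.U i with hV'
      have hyV' : y.1 ∈ V' := ⟨hyV, hyU⟩
      have hξV' : genericPoint X ∈ V' :=
        ((genericPoint_spec X).mem_open_set_iff V'.isOpen).mpr ⟨y.1, trivial, hyV'⟩
      haveI : Nonempty V := ⟨⟨_, hyV⟩⟩
      set t' : Γ(X, V') := X.presheaf.map (homOfLE (inf_le_left : V' ≤ V)).op t with ht'
      have hzt : algebraMap (X.presheaf.stalk y.1) X.functionField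
          ((X.presheaf.germ V y.1 hyV).hom t) =
          (X.presheaf.germ V' (genericPoint X) hξV').hom t' := by
        have h1 : algebraMap (X.presheaf.stalk y.1) X.functionField
            ((X.presheaf.germ V y.1 hyV).hom t) = X.germToFunctionField V t :=
          X.algebraMap_germ_eq_germToFunctionField hyV t
        rw [h1]
        exact (X.presheaf.germ_res_apply (homOfLE (inf_le_left : V' ≤ V)) (genericPoint X)
          hξV' t).symm
      rw [hzt] at hz
      obtain ⟨r, hr⟩ := (Cv.free i V' inf_le_right).2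
        (OmegaSh.dSect (X ↘ Spec (CommRingCat.of k)) V' t')
      have h5 := congrArg (T.eps V' hξV') hr
      rw [T.eps_smul, T.eps_res, ← derOf_germ] at h5
      have h6 := hstar (placeOf hC y) ((X.presheaf.germ V' (genericPoint X) hξV').hom t')
      have h7 := congrArg Valued.v h6
      rw [map_mul, map_mul, hvφ, hvφ,
        Groth.Agent.H63.OrdDiff.v_D_param (placeOf hC y) (φ (placeOf hC y))
          (hφ (placeOf hC y)) _ hz, mul_one] at h7
      rw [← h7]
      change (placeOf hC y).1 (δ ((X.presheaf.germ V' (genericPoint X) hξV').hom t')) *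
        Valued.v (LocRes.D k (φ (placeOf hC y) x)) ≤ _
      rw [hδ, ← h5, map_mul, mul_assoc]
      calc _ ≤ 1 * ((placeOf hC y).1 (T.eps (Cv.U i) (Cv.hξ i) (Cv.σ i)) *
            Valued.v (LocRes.D k (φ (placeOf hC y) x))) :=
            mul_le_mul_left (hreg V' hyV' hξV' r) _
        _ = _ := one_mul _
  -- conclusion
  have hD : Cv.D hC T = W + div k c⁻¹ := by
    ext Q
    obtain ⟨i, hi⟩ := Cv.covS hC Q
    apply exp_injective
    rw [Cv.exp_D hC T i Q hi, Finsupp.add_apply, hWx, Groth.Agent.H55.Place.div_apply hK,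
      Groth.Agent.H55.Place.ord_inv]
    have hk := key i Q hi
    have ha : Q.1 (Cv.f T i) ≠ 0 := (map_ne_zero _).mpr (Cv.f_ne_zero T i)
    have hb : LocRes.vDiff (φ Q) 1 x ≠ 0 := hx Q
    unfold LocRes.ordDiff Place.ord
    rw [← hk, log_mul ha hb]
    have : -log (LocRes.vDiff (φ Q) 1 x) - -(log (Q.1 (Cv.f T i)) +
        log (LocRes.vDiff (φ Q) 1 x)) = log (Q.1 (Cv.f T i)) := by ring
    rw [sub_eq_add_neg] at this
    rw [this, exp_log ha]
  refine ⟨Cv.D hC T, ⟨T, Cv, rfl⟩, ?_⟩
  rw [hD]
  obtain ⟨ω, hω0, hω⟩ := hW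
  exact ⟨mulW c⁻¹ (Groth.Agent.H55.hsm hK c⁻¹) ω,
    Groth.Agent.H55.mulW_ne_zero hK (inv_ne_zero hc0) hω0,
    Groth.Agent.H55.isDivOf_mulW hK (inv_ne_zero hc0) (Groth.Agent.H55.hsm hK c⁻¹) hω⟩

end Groth.Agent.H62.OB
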