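import Mathlib
import Groth.Agent.H62.OB4
import Groth.Agent.H11.OmegaReg
import Groth.Agent.H36.JetScheme
import Groth.Agent.H76.CurveS2
import Groth.Agent.H76.CurveO
import Groth.Agent.H55.FFMisc

/-!
# helper62, Ω-bridge part 5: regular curves over an algebraically closed field
-/

set_option autoImplicit false
set_option linter.style.haveILetI false
open CategoryTheory CategoryTheory.Limits AlgebraicGeometry TopologicalSpace Topology FunFld
universe u

namespace Groth.Agent.H62.OB

attribute [local instance] Curv2.stalkAlgebra Curv2.resAlgebra

open Groth.Agent.H62.GD Groth.Agent.H76.Curve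

variable (k : Type u) [Field k] [IsAlgClosed k] (X : Scheme.{u})
  [X.Over (Spec (CommRingCat.of k))] [IsIntegral X] [IsProper (X ↘ Spec (CommRingCat.of k))]

/-- the sheaf of differentials of a regular curve over an algebraically closed field is
invertible -/
theorem isInvertible_omega_of_regular (hdim : topologicalKrullDim X = 1)
    (hreg : ∀ x : X, IsRegularLocalRing (X.presheaf.stalk x)) :
    PicF.IsInvertible (Omega.sheaf (X ↘ Spec (CommRingCat.of k))) := by
  have hn : topologicalKrullDim X = ((1 : ℕ) : WithBot ℕ∞) := by rw [hdim]; rfl
  have h1 := (Groth.Agent.H11.OmegaReg.isFinLocFreeOfRank_omega_iff_regular (k := k) 1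
    (X := X) hn).mpr hreg
  exact Groth.Agent.H36.Jet.isInvertible_of_rank_one _ h1

/-- **the sheaf of differentials of a regular curve over an algebraically closed field has a
canonical divisor** -/
theorem exists_isDiv_omega_of_regular (hdim : topologicalKrullDim X = 1)
    (hreg : ∀ x : X, IsRegularLocalRing (X.presheaf.stalk x)) :
    ∃ D : Divisor k X.functionField,
      IsDiv (gcurve_of_regular_of_isAlgClosed k X hdim hreg)
        (Omega.sheaf (X ↘ Spec (CommRingCat.of k))) D ∧ IsCanonical k X.functionField D :=
  isDiv_omega (gcurve_of_regular_of_isAlgClosed k X hdim hreg)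
    (isInvertible_omega_of_regular k X hdim hreg)

end Groth.Agent.H62.OB
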