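import Mathlib

/-!
# helper62: a pushout of commutative rings is generated by the images of the two legs
-/

set_option autoImplicit false
open CategoryTheory CategoryTheory.Limits
universe u

namespace Groth.Agent.H62.PM

/-- a pushout of commutative rings is generated, as a ring, by the images of the two legs -/
theorem closure_eq_top_of_isPushout {A B C P : CommRingCat.{u}} {f : A ⟶ B} {g : A ⟶ C}
    {inl : B ⟶ P} {inr : C ⟶ P} (h : IsPushout f g inl inr) :
    Subring.closure (Set.range inl.hom ∪ Set.range inr.hom) = ⊤ := by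
  set S : Subring P := Subring.closure (Set.range inl.hom ∪ Set.range inr.hom) with hS
  let inl' : B ⟶ CommRingCat.of S := CommRingCat.ofHom
    (inl.hom.codRestrict S (fun b => Subring.subset_closure (Or.inl ⟨b, rfl⟩)))
  let inr' : C ⟶ CommRingCat.of S := CommRingCat.ofHom
    (inr.hom.codRestrict S (fun c => Subring.subset_closure (Or.inr ⟨c, rfl⟩)))
  let ι : CommRingCat.of S ⟶ P := CommRingCat.ofHom S.subtype
  have hw : f ≫ inl' = g ≫ inr' := by
    ext a
    exact congrArg (fun φ => φ.hom a) h.w
  let d : P ⟶ CommRingCat.of S := h.desc inl' inr' hw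
  have h1 : inl ≫ d ≫ ι = inl := by
    rw [← Category.assoc, h.inl_desc]
    rfl
  have h2 : inr ≫ d ≫ ι = inr := by
    rw [← Category.assoc, h.inr_desc]
    rfl
  have hid : d ≫ ι = 𝟙 P := h.hom_ext (by rw [h1, Category.comp_id]) (by rw [h2, Category.comp_id])
  rw [eq_top_iff]
  intro x _
  have : x = ι.hom (d.hom x) := by
    have := congrArg (fun φ => φ.hom x) hid
    exact this.symm
  rw [this]
  exact (d.hom x).2

end Groth.Agent.H62.PM
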