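import Mathlib
import Groth.Agent.H62.PM6
import Groth.Agent.H62.GW2
import Groth.Agent.H71.BaseChangeAffine

/-!
# helper62: the function field of the base change of an integral `k`-scheme to an extension field `L`
is generated, as a field, by `L` and the functions coming from the original scheme
-/

set_option autoImplicit false
set_option linter.style.haveILetI false
open CategoryTheory CategoryTheory.Limits AlgebraicGeometry TopologicalSpace Topology
universe u

namespace Groth.Agent.H62.PM

attribute [local instance] Curv2.stalkAlgebra Curv2.resAlgebra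
attribute [local instance] Groth.Agent.H62.GW.bcOver

variable (k : Type u) [Field k] (C : Scheme.{u}) [C.Over (Spec (CommRingCat.of k))]
  (L : Type u) [Field L] [Algebra k L]

instance isAffineHom_bcFst : IsAffineHom (Curv2.bcFst k C L) :=
  MorphismProperty.pullback_fst _ _ (inferInstance :
    IsAffineHom (Spec.map (CommRingCat.ofHom (algebraMap k L))))

instance surjective_bcFst : Surjective (Curv2.bcFst k C L) := by
  haveI : Surjective (Spec.map (CommRingCat.ofHom (algebraMap k L))) :=
    ⟨fun x => ⟨default, Subsingleton.elim _ _⟩⟩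
  exact MorphismProperty.pullback_fst (P := @Surjective) _ _ this

variable [IsIntegral (Curv2.bc k C L)]

/-- the generic point of the base change lies in the preimage of every nonempty open -/
theorem genericPoint_mem_preimage (U : C.Opens) [Nonempty U] :
    genericPoint (Curv2.bc k C L) ∈ (Curv2.bcFst k C L) ⁻¹ᵁ U := by
  change genericPoint (Curv2.bc k C L) ∈ (((Curv2.bcFst k C L) ⁻¹ᵁ U : (Curv2.bc k C L).Opens) : Set _)
  rw [(genericPoint_spec (Curv2.bc k C L)).mem_open_set_iff ((Curv2.bcFst k C L) ⁻¹ᵁ U).isOpen]
  obtain ⟨⟨x, hx⟩⟩ := (inferInstance : Nonempty U)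
  obtain ⟨x', rfl⟩ := (Curv2.bcFst k C L).surjective x
  exact ⟨x', trivial, hx⟩

/-- **the function field of a base change**: a subfield containing the constants `L` and the
pullbacks of the functions on a nonempty affine open of `C` is everything -/
theorem subfield_eq_top (U : C.Opens) (hU : IsAffineOpen U) [Nonempty U]
    (M : Subfield (Curv2.bc k C L).functionField)
    (hL : ∀ c : L, algebraMap L (Curv2.bc k C L).functionField c ∈ M)
    (hA : ∀ a : Γ(C, U), ((Curv2.bc k C L).presheaf.germ ((Curv2.bcFst k C L) ⁻¹ᵁ U)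
      (genericPoint (Curv2.bc k C L)) (genericPoint_mem_preimage k C L U)).hom
        ((Curv2.bcFst k C L).app U a) ∈ M) : M = ⊤ := by
  set π := Curv2.bcFst k C L with hπ
  set σ := Curv2.bcSnd k C L with hσ
  set U' := π ⁻¹ᵁ U with hU'
  have hU'a : IsAffineOpen U' := hU.preimage π
  have hmem := genericPoint_mem_preimage k C L U
  haveI : Nonempty U' := ⟨⟨_, hmem⟩⟩
  haveI : IsFractionRing Γ(Curv2.bc k C L, U') (Curv2.bc k C L).functionField :=
    functionField_isFractionRing_of_isAffineOpen _ U' hU'a
  set γ := ((Curv2.bc k C L).presheaf.germ U' (genericPoint (Curv2.bc k C L)) hmem).hom with hγ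
  have hγalg : ∀ a, algebraMap Γ(Curv2.bc k C L, U') (Curv2.bc k C L).functionField a = γ a :=
    fun a => rfl
  -- the pushout square of sections
  have hpb : IsPullback σ π (Spec.map (CommRingCat.ofHom (algebraMap k L)))
      (C ↘ Spec (CommRingCat.of k)) := (GW.isPullback_bc k C L).flip
  have hpo := Groth.Agent.H71.BaseChange.isPushout_sections hpb
    (V := ⊤) (V' := U) (isAffineOpen_top _) hU le_top (isAffineOpen_top _) le_top
  have hclos := closure_eq_top_of_isPushout hpo
  -- all sections over `U'` have germs in `M`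
  have hall : ∀ a : Γ(Curv2.bc k C L, U'), γ a ∈ M := by
    intro a
    have ha : a ∈ Subring.closure (Set.range (π.appLE U U' le_rfl).hom ∪
        Set.range (σ.appLE ((Spec.map (CommRingCat.ofHom (algebraMap k L))) ⁻¹ᵁ ⊤) U'
          le_top).hom) := by
      rw [hclos]; trivial
    have hle : Subring.closure (Set.range (π.appLE U U' le_rfl).hom ∪
        Set.range (σ.appLE ((Spec.map (CommRingCat.ofHom (algebraMap k L))) ⁻¹ᵁ ⊤) U'
          le_top).hom) ≤ M.toSubring.comap γ := by
      rw [Subring.closure_le]
      rintro _ (⟨b, rfl⟩ | ⟨c, rfl⟩)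
      · change γ ((π.appLE U U' le_rfl).hom b) ∈ M
        rw [← Scheme.Hom.app_eq_appLE]
        exact hA b
      · change γ ((σ.appLE _ U' le_top).hom c) ∈ M
        -- a constant
        obtain ⟨c₀, rfl⟩ : ∃ c₀ : L, (Scheme.ΓSpecIso (CommRingCat.of L)).inv.hom c₀ = c :=
          ⟨(Scheme.ΓSpecIso (CommRingCat.of L)).hom.hom c, by
            change ((Scheme.ΓSpecIso (CommRingCat.of L)).hom ≫
              (Scheme.ΓSpecIso (CommRingCat.of L)).inv).hom c = c
            rw [Iso.hom_inv_id]; rfl⟩
        convert hL c₀ using 1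
        change γ ((σ.appLE _ U' le_top).hom ((Scheme.ΓSpecIso (CommRingCat.of L)).inv.hom c₀)) =
          ((Curv2.bc k C L).presheaf.germ ⊤ (genericPoint (Curv2.bc k C L)) trivial).hom
            (σ.appTop.hom ((Scheme.ΓSpecIso (CommRingCat.of L)).inv.hom c₀))
        rw [Scheme.Hom.appLE, CommRingCat.hom_comp, RingHom.comp_apply]
        exact TopCat.Presheaf.germ_res_apply (Curv2.bc k C L).presheaf _ _ _ _
    exact hle ha
  rw [eq_top_iff]
  intro z _
  obtain ⟨a, b, hb, rfl⟩ := IsFractionRing.div_surjective (A := Γ(Curv2.bc k C L, U')) z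
  rw [hγalg, hγalg]
  exact M.div_mem (hall a) (hall b)

end Groth.Agent.H62.PM
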