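import Mathlib
import Groth.Agent.H62.PM7

/-!
# helper62: the embedding `K(C) → K(C_L)` of function fields for a base change, and transport of
"every square lies in `k(t)`" to the base change
-/

set_option autoImplicit false
set_option linter.style.haveILetI false
open CategoryTheory CategoryTheory.Limits AlgebraicGeometry TopologicalSpace Topology
  IntermediateField
universe u

namespace Groth.Agent.H62.PM

attribute [local instance] Curv2.stalkAlgebra Curv2.resAlgebra
attribute [local instance] Groth.Agent.H62.GW.bcOver

variable (k : Type u) [Field k] (C : Scheme.{u}) [C.Over (Spec (CommRingCat.of k))]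
  (L : Type u) [Field L] [Algebra k L] [IsIntegral C] [IsIntegral (Curv2.bc k C L)]

/-- the projection maps the generic point to the generic point -/
theorem bcFst_genericPoint :
    (Curv2.bcFst k C L) (genericPoint (Curv2.bc k C L)) = genericPoint C := by
  obtain ⟨x', hx'⟩ := (Curv2.bcFst k C L).surjective (genericPoint C)
  have h1 : genericPoint (Curv2.bc k C L) ⤳ x' :=
    (genericPoint_spec (Curv2.bc k C L)).specializes trivial
  have h2 : (Curv2.bcFst k C L) (genericPoint (Curv2.bc k C L)) ⤳ genericPoint C := by
    rw [← hx']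
    exact h1.map (Curv2.bcFst k C L).continuous
  have h3 : genericPoint C ⤳ (Curv2.bcFst k C L) (genericPoint (Curv2.bc k C L)) :=
    (genericPoint_spec C).specializes trivial
  exact (h2.antisymm h3).eq

/-- the embedding of function fields -/
noncomputable def iotaK : C.functionField →+* (Curv2.bc k C L).functionField :=
  (C.presheaf.stalkSpecializes (specializes_of_eq (bcFst_genericPoint k C L)) ≫
    (Curv2.bcFst k C L).stalkMap (genericPoint (Curv2.bc k C L))).hom

theorem iotaK_germ (U : C.Opens) (hη : genericPoint C ∈ U)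
    (hη' : genericPoint (Curv2.bc k C L) ∈ (Curv2.bcFst k C L) ⁻¹ᵁ U) (a : Γ(C, U)) :
    iotaK k C L ((C.presheaf.germ U (genericPoint C) hη).hom a) =
      ((Curv2.bc k C L).presheaf.germ ((Curv2.bcFst k C L) ⁻¹ᵁ U)
        (genericPoint (Curv2.bc k C L)) hη').hom ((Curv2.bcFst k C L).app U a) := by
  unfold iotaK
  rw [CommRingCat.hom_comp, RingHom.comp_apply]
  have h2 : (C.presheaf.stalkSpecializes (specializes_of_eq (bcFst_genericPoint k C L))).hom
      ((C.presheaf.germ U (genericPoint C) hη).hom a) =
      (C.presheaf.germ U ((Curv2.bcFst k C L) (genericPoint (Curv2.bc k C L))) hη').hom a := by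
    have := TopCat.Presheaf.germ_stalkSpecializes C.presheaf hη
      (specializes_of_eq (bcFst_genericPoint k C L))
    exact congrArg (fun g => g.hom a) this
  rw [h2]
  have h3 := Scheme.Hom.germ_stalkMap (Curv2.bcFst k C L) U (genericPoint (Curv2.bc k C L)) hη'
  exact congrArg (fun g => g.hom a) h3

theorem iotaK_algebraMap (c : k) :
    iotaK k C L (algebraMap k C.functionField c) =
      algebraMap L (Curv2.bc k C L).functionField (algebraMap k L c) := by
  change iotaK k C L ((C.presheaf.germ ⊤ (genericPoint C) trivial).hom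
      (Coh.toGlobal (C ↘ Spec (CommRingCat.of k)) c)) =
    ((Curv2.bc k C L).presheaf.germ ⊤ (genericPoint (Curv2.bc k C L)) trivial).hom
      (Coh.toGlobal (Curv2.bcSnd k C L) (algebraMap k L c))
  rw [iotaK_germ k C L ⊤ trivial trivial]
  congr 1
  unfold Coh.toGlobal
  have hw : Curv2.bcFst k C L ≫ (C ↘ Spec (CommRingCat.of k)) =
      Curv2.bcSnd k C L ≫ Spec.map (CommRingCat.ofHom (algebraMap k L)) := pullback.condition
  have h1 : (C ↘ Spec (CommRingCat.of k)).appTop ≫ (Curv2.bcFst k C L).appTop =
      (Spec.map (CommRingCat.ofHom (algebraMap k L))).appTop ≫ (Curv2.bcSnd k C L).appTop := by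
    rw [← Scheme.Hom.comp_appTop, ← Scheme.Hom.comp_appTop, hw]
  have h2 := Scheme.ΓSpecIso_inv_naturality (CommRingCat.ofHom (algebraMap k L))
  have h3 : ((Scheme.ΓSpecIso (CommRingCat.of k)).inv ≫ (C ↘ Spec (CommRingCat.of k)).appTop ≫
      (Curv2.bcFst k C L).appTop).hom c =
      (CommRingCat.ofHom (algebraMap k L) ≫ (Scheme.ΓSpecIso (CommRingCat.of L)).inv ≫
        (Curv2.bcSnd k C L).appTop).hom c := by
    rw [h1, ← Category.assoc, ← h2, Category.assoc]
  exact h3

theorem iotaK_aeval (t : C.functionField) (p : Polynomial k) :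
    iotaK k C L (Polynomial.aeval t p) =
      Polynomial.aeval (iotaK k C L t) (p.map (algebraMap k L)) := by
  rw [Polynomial.aeval_def, Polynomial.aeval_def, Polynomial.hom_eval₂, Polynomial.eval₂_map]
  congr 1
  ext c
  rw [RingHom.comp_apply, iotaK_algebraMap]
  rfl

end Groth.Agent.H62.PM
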