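import Mathlib
import Groth.Agent.H62.PM8
import Groth.Agent.H62.PM9
import Groth.Agent.H62.PM10
import Groth.Agent.H62.GD5
import Groth.Agent.H48.CompDimBC2
import Groth.Agent.H55.FFRational

/-!
# helper62: separability of degree-two maps from smooth curves of positive genus

Let `C` be a smooth proper geometrically connected curve over an arbitrary field `k`, of genus at
least one, and `t` a function with `[K(C) : k(t)] = 2`.  Then `K(C)/k(t)` is separable.
(Otherwise, after base change to the algebraic closure, the function field becomes rational, but the
genus is invariant under base change.)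
-/

set_option autoImplicit false
set_option linter.style.haveILetI false
open CategoryTheory CategoryTheory.Limits AlgebraicGeometry TopologicalSpace Topology
  IntermediateField
universe u

namespace Groth.Agent.H62.PM

attribute [local instance] Curv2.stalkAlgebra Curv2.resAlgebra
attribute [local instance] Groth.Agent.H62.GW.bcOver

variable (k : Type u) [Field k] (C : Scheme.{u}) [C.Over (Spec (CommRingCat.of k))]
  (L : Type u) [Field L] [Algebra k L]

/-- the dimension of an irreducible base change -/
theorem dim_bc [LocallyOfFiniteType (C ↘ Spec (CommRingCat.of k))] [IrreducibleSpace C]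
    [IrreducibleSpace (Curv2.bc k C L)] :
    topologicalKrullDim (Curv2.bc k C L) = topologicalKrullDim C := by
  have h := Groth.Agent.H48.CompDimBC2.image_topologicalKrullDim_irreducibleComponents k L
    (algebraMap k L) (C ↘ Spec (CommRingCat.of k)) (Curv2.bcFst k C L) (Curv2.bcSnd k C L)
    (GW.isPullback_bc k C L)
  rw [irreducibleComponents_eq_singleton, irreducibleComponents_eq_singleton,
    Set.image_singleton, Set.image_singleton, Set.singleton_eq_singleton_iff] at h
  have e1 : topologicalKrullDim ↥(Set.univ : Set (Curv2.bc k C L)) =
      topologicalKrullDim (Curv2.bc k C L) :=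
    IsHomeomorph.topologicalKrullDim_eq _ (Homeomorph.Set.univ _).isHomeomorph
  have e2 : topologicalKrullDim ↥(Set.univ : Set C) = topologicalKrullDim C :=
    IsHomeomorph.topologicalKrullDim_eq _ (Homeomorph.Set.univ _).isHomeomorph
  rw [← e1, ← e2]
  exact h

variable [IsIntegral C] [IsProper (C ↘ Spec (CommRingCat.of k))]
  [Smooth (C ↘ Spec (CommRingCat.of k))]
  [GeometricallyConnected (C ↘ Spec (CommRingCat.of k))]

instance isProper_bc : IsProper ((Curv2.bc k C L) ↘ Spec (CommRingCat.of L)) :=
  MorphismProperty.pullback_snd (P := @IsProper) _ _ inferInstance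

instance smooth_bc : Smooth ((Curv2.bc k C L) ↘ Spec (CommRingCat.of L)) :=
  MorphismProperty.pullback_snd (P := @Smooth) _ _ inferInstance

instance geometricallyConnected_bc :
    GeometricallyConnected ((Curv2.bc k C L) ↘ Spec (CommRingCat.of L)) :=
  MorphismProperty.pullback_snd (P := @GeometricallyConnected) _ _ inferInstance

/-- **the base change of a curve is a curve** -/
theorem gcurve_bc (hdim : topologicalKrullDim C = 1) :
    haveI := GW.isIntegral_bc k C L
    GD.GCurve L (Curv2.bc k C L) := by
  haveI := GW.isIntegral_bc k C L
  apply GW.gcurve L (Curv2.bc k C L)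
  rw [dim_bc k C L, hdim]

/-- **invariance of the genus under base change** -/
theorem genus_bc : Curv2.genus L (Curv2.bc k C L) = Curv2.genus k C := by
  haveI : CompactSpace C :=
    QuasiCompact.compactSpace_of_compactSpace (C ↘ Spec (CommRingCat.of k))
  haveI : QuasiSeparatedSpace C :=
    quasiSeparatedSpace_of_quasiSeparated (C ↘ Spec (CommRingCat.of k))
  exact GW.finrank_HH_bc k C L 1

end Groth.Agent.H62.PM
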