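import Mathlib
import Groth.Agent.H62.GW2
import Groth.Agent.H89.SchemeIdem
import Groth.Agent.H38.GeomIrrField

/-!
# helper62: a proper scheme over a field with one-dimensional `H⁰(O)` is geometrically connected
-/

set_option autoImplicit false
set_option linter.style.haveILetI false
open CategoryTheory CategoryTheory.Limits AlgebraicGeometry TopologicalSpace Topology
universe u

namespace Groth.Agent.H62.PM

attribute [local instance] Curv2.stalkAlgebra Curv2.resAlgebra
attribute [local instance] Groth.Agent.H62.GW.bcOver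

/-- a scheme over a field whose `H⁰(O)` is one-dimensional is connected -/
theorem connectedSpace_of_finrank_HH_zero (K : Type u) [Field K] (Y : Scheme.{u})
    [Y.Over (Spec (CommRingCat.of K))]
    (h0 : Module.finrank K (Coh.HH Y (Coh.structureModule Y) 0) = 1) : ConnectedSpace Y := by
  letI : Module K (Coh.Γtop Y) := Module.compHom _ (Coh.toGlobal (Y ↘ Spec (CommRingCat.of K)))
  have h1 : Module.finrank K (Coh.Γtop Y) = 1 := by
    rw [← (GW.hh0Equiv K Y).finrank_eq, h0]
  haveI hnt : Nontrivial (Coh.Γtop Y) := Module.nontrivial_of_finrank_pos (R := K) (by omega)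
  haveI : Nonempty Y := by
    by_contra hemp
    rw [not_nonempty_iff] at hemp
    have : (⊤ : Y.Opens) = ⊥ := by
      ext x
      exact hemp.elim x
    have hs : Subsingleton Γ(Y, ⊤) := by rw [this]; infer_instance
    exact not_subsingleton (Coh.Γtop Y) hs
  have hone : (1 : Coh.Γtop Y) ≠ 0 := one_ne_zero
  have hspan := (finrank_eq_one_iff_of_nonzero' (1 : Coh.Γtop Y) hone).mp h1
  haveI : PreconnectedSpace Y := by
    rw [preconnectedSpace_iff_clopen]
    intro U hU
    obtain ⟨e, he, heU⟩ := Groth.Agent.H89.SchemeIdem.exists_idem_of_isClopen Y U hU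
    obtain ⟨c, hc⟩ := hspan e
    have hce : Coh.toGlobal (Y ↘ Spec (CommRingCat.of K)) c = e := by
      rw [← hc]
      change _ = Coh.toGlobal (Y ↘ Spec (CommRingCat.of K)) c * 1
      rw [mul_one]
    have hinj : Function.Injective (Coh.toGlobal (Y ↘ Spec (CommRingCat.of K))) :=
      RingHom.injective _
    have hcc : c * c = c := by
      apply hinj
      rw [map_mul, hce]
      exact he
    have h01 : c = 1 ∨ c = 0 := by
      have : c * (c - 1) = 0 := by rw [mul_sub, hcc, mul_one, sub_self]
      rcases mul_eq_zero.mp this with h | h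
      · exact Or.inr h
      · exact Or.inl (sub_eq_zero.mp h)
    rcases h01 with rfl | rfl
    · right
      rw [← heU, ← hce, map_one]
      change ((Y.basicOpen (1 : Γ(Y, ⊤)) : Y.Opens) : Set Y) = Set.univ
      rw [Scheme.basicOpen_of_isUnit _ isUnit_one]
      rfl
    · left
      rw [← heU, ← hce, map_zero]
      change ((Y.basicOpen (0 : Γ(Y, ⊤)) : Y.Opens) : Set Y) = ∅
      rw [Scheme.basicOpen_zero]
      rfl
  exact ConnectedSpace.mk ‹Nonempty Y›

variable (k : Type u) [Field k] (C : Scheme.{u}) [C.Over (Spec (CommRingCat.of k))]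

/-- **geometric connectedness from `h⁰(O) = 1`** -/
theorem geometricallyConnected_of_finrank_HH_zero [CompactSpace C] [QuasiSeparatedSpace C]
    (h0 : Module.finrank k (Coh.HH C (Coh.structureModule C) 0) = 1) :
    GeometricallyConnected (C ↘ Spec (CommRingCat.of k)) := by
  rw [Groth.Agent.H38.GeomIrrField.geometricallyConnected_iff_bc]
  intro K _ _
  apply connectedSpace_of_finrank_HH_zero K (Curv2.bc k C K)
  rw [GW.finrank_HH_bc k C K 0, h0]

end Groth.Agent.H62.PM
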