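import Mathlib
import Groth.Agent.H62.OB5
import Groth.Agent.H62.PM11
import Groth.Agent.H62.PM13
import Groth.Agent.H44.OmegaSection
import Groth.Agent.H44.OmegaFitting
import Groth.Agent.H71.CohBC.FieldExt2
import Groth.Agent.H71.CohBC.HHIso
import Groth.Agent.H53.SmoothFieldRegular

/-!
# helper62, Ω-bridge part 8: smooth proper geometrically connected curves over an arbitrary field

By base change to the algebraic closure, `h⁰(Ω) = g` and `deg Ω = 2g - 2`; hence the divisor of
`Ω_{X/k}` is canonical.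
-/

set_option autoImplicit false
set_option linter.style.haveILetI false
open CategoryTheory CategoryTheory.Limits AlgebraicGeometry TopologicalSpace Topology FunFld
universe u

namespace Groth.Agent.H62.OB

attribute [local instance] Curv2.stalkAlgebra Curv2.resAlgebra
attribute [local instance] Groth.Agent.H62.GW.bcOver

open Groth.Agent.H62.GD Groth.Agent.H76.Curve

variable (k : Type u) [Field k] (X : Scheme.{u}) [X.Over (Spec (CommRingCat.of k))]

/-- the sheaf of differentials of a smooth irreducible curve over a field is invertible -/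
theorem isInvertible_omega_of_smooth [IrreducibleSpace X]
    [LocallyOfFiniteType (X ↘ Spec (CommRingCat.of k))]
    [Smooth (X ↘ Spec (CommRingCat.of k))] [QuasiSeparated (X ↘ Spec (CommRingCat.of k))]
    (hdim : topologicalKrullDim X = 1) :
    PicF.IsInvertible (Omega.sheaf (X ↘ Spec (CommRingCat.of k))) := by
  have hn : topologicalKrullDim X = ((1 : ℕ) : WithBot ℕ∞) := by rw [hdim]; rfl
  have hld : ∀ x : X, FlatMor.localDim X x = ((1 : ℕ) : WithBot ℕ∞) := fun x =>
    Groth.Agent.H11.OmegaSmooth.localDim_eq_of_irreducible k (X ↘ Spec (CommRingCat.of k)) 1 hn x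
  haveI : IsLocallyNoetherian X :=
    LocallyOfFiniteType.isLocallyNoetherian (X ↘ Spec (CommRingCat.of k))
  haveI : SmoothOfRelativeDimension 1 (X ↘ Spec (CommRingCat.of k)) :=
    Groth.Agent.H11.CotSmoothSch.smoothOfRelativeDimension_of_smooth
      (X ↘ Spec (CommRingCat.of k)) 1 0 (Groth.Agent.H11.OmegaReg.localDim_spec_field k)
      (fun x => by rw [hld x, zero_add])
  exact Groth.Agent.H36.Jet.isInvertible_of_rank_one _
    (Groth.Agent.H11.OmegaSmooth.isFinLocFreeOfRank_of_smooth _ 1)

variable [IsIntegral X] [IsProper (X ↘ Spec (CommRingCat.of k))]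
  [Smooth (X ↘ Spec (CommRingCat.of k))]
  [GeometricallyConnected (X ↘ Spec (CommRingCat.of k))]

/-- **`h⁰(Ω) = g` and `χ(Ω) = g - 1` for a smooth proper geometrically connected curve** -/
theorem omega_numerics (hdim : topologicalKrullDim X = 1) :
    Module.finrank k (Coh.HH X (Omega.sheaf (X ↘ Spec (CommRingCat.of k))) 0) =
        Curv2.genus k X ∧
      Curv2.euler k X (Omega.sheaf (X ↘ Spec (CommRingCat.of k))) =
        (Curv2.genus k X : ℤ) - 1 := by
  classical
  let K := AlgebraicClosure k
  haveI : CompactSpace X :=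
    QuasiCompact.compactSpace_of_compactSpace (X ↘ Spec (CommRingCat.of k))
  haveI : QuasiSeparatedSpace X :=
    quasiSeparatedSpace_of_quasiSeparated (X ↘ Spec (CommRingCat.of k))
  haveI := GW.isIntegral_bc k X K
  have hC' := PM.gcurve_bc k X K hdim
  have hK' := hC'.isFunctionField
  have hg' : Curv2.genus K (Curv2.bc k X K) = Curv2.genus k X := PM.genus_bc k X K
  have hpb := GW.isPullback_bc k X K
  have hdim' : topologicalKrullDim (Curv2.bc k X K) = 1 := hC'.dim
  haveI : LocallyOfFiniteType ((Curv2.bc k X K) ↘ Spec (CommRingCat.of K)) := by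
    haveI := hC'.proper
    infer_instance
  haveI : QuasiSeparated ((Curv2.bc k X K) ↘ Spec (CommRingCat.of K)) := by
    haveI := hC'.proper
    infer_instance
  have hΩ' := isInvertible_omega_of_smooth K (Curv2.bc k X K) hdim'
  obtain ⟨D', hD', hcan'⟩ := isDiv_omega hC' hΩ'
  obtain ⟨hell', hdeg'⟩ := Groth.Agent.H55.canonical_ell_deg hK' hcan'
  obtain ⟨e⟩ := Groth.Agent.H44.nonempty_pullback_omega_iso_of_isPullback hpb
  -- `h⁰`
  have h0 : Module.finrank k (Coh.HH X (Omega.sheaf (X ↘ Spec (CommRingCat.of k))) 0) =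
      Curv2.genus k X := by
    rw [← Groth.Agent.H71.CohBC.finrank_hh_fieldExt k K X (Curv2.bc k X K) (Curv2.bcFst k X K) hpb
      (Omega.sheaf (X ↘ Spec (CommRingCat.of k))) 0,
      (Groth.Agent.H71.CohBC.hhLinearEquivOfIso K (Curv2.bc k X K) e 0).finrank_eq,
      hD'.finrank_HH_zero hΩ', hell', ← hC'.genus_eq, hg']
  refine ⟨h0, ?_⟩
  -- `χ`
  have h1 : Module.finrank k (Coh.HH X (Omega.sheaf (X ↘ Spec (CommRingCat.of k))) 1) = 1 := by
    rw [← Groth.Agent.H71.CohBC.finrank_hh_fieldExt k K X (Curv2.bc k X K) (Curv2.bcFst k X K) hpb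
      (Omega.sheaf (X ↘ Spec (CommRingCat.of k))) 1,
      (Groth.Agent.H71.CohBC.hhLinearEquivOfIso K (Curv2.bc k X K) e 1).finrank_eq]
    have h2 := hD'.euler_eq hΩ'
    have h3 := Groth.Agent.H76.Curve.euler_eq hC'
      (Omega.sheaf ((Curv2.bc k X K) ↘ Spec (CommRingCat.of K)))
    rw [h3, hD'.finrank_HH_zero hΩ', hell', hdeg'] at h2
    have hge : (Curv2.genus K (Curv2.bc k X K) : ℤ) =
        (genus K (Curv2.bc k X K).functionField : ℤ) := by exact_mod_cast hC'.genus_eq
    have : (Module.finrank K (Coh.HH (Curv2.bc k X K)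
        (Omega.sheaf ((Curv2.bc k X K) ↘ Spec (CommRingCat.of K))) 1) : ℤ) = 1 := by
      linarith
    exact_mod_cast this
  have hC := GW.gcurve k X hdim
  rw [Groth.Agent.H76.Curve.euler_eq hC (Omega.sheaf (X ↘ Spec (CommRingCat.of k))), h0, h1]
  push_cast
  ring

end Groth.Agent.H62.OB
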