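import Mathlib
import Groth.Agent.H62.OB8
import Groth.Agent.H76.CurveP

/-!
# helper62, Ω-bridge part 9: the canonical divisor of a smooth proper geometrically connected curve
over an arbitrary field, and first consequences
-/

set_option autoImplicit false
set_option linter.style.haveILetI false
open CategoryTheory CategoryTheory.Limits AlgebraicGeometry TopologicalSpace Topology FunFld
universe u

namespace Groth.Agent.H62.OB

attribute [local instance] Curv2.stalkAlgebra Curv2.resAlgebra

open Groth.Agent.H62.GD Groth.Agent.H76.Curve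

variable (k : Type u) [Field k] (X : Scheme.{u}) [X.Over (Spec (CommRingCat.of k))]
  [IsIntegral X] [IsProper (X ↘ Spec (CommRingCat.of k))]
  [Smooth (X ↘ Spec (CommRingCat.of k))]
  [GeometricallyConnected (X ↘ Spec (CommRingCat.of k))]

/-- `Ω_{X/k}` is invertible -/
theorem isInvertible_omega (hdim : topologicalKrullDim X = 1) :
    PicF.IsInvertible (Omega.sheaf (X ↘ Spec (CommRingCat.of k))) :=
  isInvertible_omega_of_smooth k X hdim

/-- `deg Ω = 2g - 2` -/
theorem deg_omega (hdim : topologicalKrullDim X = 1) :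
    Curv2.deg k X (Omega.sheaf (X ↘ Spec (CommRingCat.of k))) 1 =
      2 * (Curv2.genus k X : ℤ) - 2 := by
  have hC := GW.gcurve k X hdim
  unfold Curv2.deg
  rw [(omega_numerics k X hdim).2, euler_structureModule hC]
  push_cast
  ring

/-- **the divisor of `Ω_{X/k}` is canonical** (arbitrary base field) -/
theorem exists_isDiv_omega (hdim : topologicalKrullDim X = 1) :
    ∃ D : Divisor k X.functionField,
      IsDiv (GW.gcurve k X hdim) (Omega.sheaf (X ↘ Spec (CommRingCat.of k))) D ∧
        IsCanonical k X.functionField D := by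
  have hC := GW.gcurve k X hdim
  have hK := hC.isFunctionField
  have hΩ := isInvertible_omega k X hdim
  obtain ⟨D, hD⟩ := exists_isDiv hC hΩ
  refine ⟨D, hD, ?_⟩
  rw [Groth.Agent.H55.isCanonical_iff hK]
  constructor
  · rw [← hD.finrank_HH_zero hΩ, (omega_numerics k X hdim).1, hC.genus_eq]
  · rw [← hD.deg_eq hC hΩ, deg_omega k X hdim, hC.genus_eq]

/-- **an invertible module of degree `2g - 2` with at least `g` sections is the sheaf of
differentials** -/
theorem nonempty_iso_omega (hdim : topologicalKrullDim X = 1) (L : X.Modules)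
    (hL : PicF.IsInvertible L)
    (hdeg : Curv2.deg k X L 1 = 2 * (Curv2.genus k X : ℤ) - 2)
    (hh0 : Curv2.genus k X ≤ Module.finrank k (Coh.HH X L 0)) :
    Nonempty (L ≅ Omega.sheaf (X ↘ Spec (CommRingCat.of k))) := by
  have hC := GW.gcurve k X hdim
  have hK := hC.isFunctionField
  obtain ⟨W, hWdiv, hW⟩ := exists_isDiv_omega k X hdim
  obtain ⟨-, hWdeg⟩ := Groth.Agent.H55.canonical_ell_deg hK hW
  obtain ⟨C, hC'⟩ := exists_isDiv hC hL
  have hCdeg : C.deg = 2 * (genus k X.functionField : ℤ) - 2 := by
    rw [← hC'.deg_eq hC hL, hdeg, hC.genus_eq]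
  have hCell : genus k X.functionField ≤ ell C := by
    rw [← hC'.finrank_HH_zero hL, ← hC.genus_eq]
    exact hh0
  have h1 := Groth.Agent.H55.riemann_roch hK hW C
  have h2 : 0 < ell (W - C) := by
    have : (0 : ℤ) < ell (W - C) := by
      have : (genus k X.functionField : ℤ) ≤ ell C := by exact_mod_cast hCell
      linarith
    exact_mod_cast this
  have h3 : FunFld.L (W - C) ≠ ⊥ := (Groth.Agent.H55.ell_pos_iff hK _).mp h2
  obtain ⟨x, hx0, hx⟩ := (Groth.Agent.H55.L_ne_bot_iff hK _).mp h3
  have h4 : (0 : Divisor k X.functionField) = W - C + div k x := by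
    apply Groth.Agent.H55.Divisor.eq_of_le_of_deg_eq hK hx
    rw [Groth.Agent.H55.Divisor.deg_zero, Groth.Agent.H55.deg_add_div hK,
      Groth.Agent.H55.Divisor.deg_sub, hWdeg, hCdeg, sub_self]
  have h5 : W + div k x = C := by
    have : W - C + div k x + C = W + div k x := by abel
    rw [← this, ← h4, zero_add]
  rw [(hC'.nonempty_iso_iff hC hWdiv)]
  refine ⟨x⁻¹, inv_ne_zero hx0, ?_⟩
  rw [← h5, Groth.Agent.H55.div_inv hK]
  abel

/-- **the sheaf of differentials of a curve of genus one is trivial** -/
theorem nonempty_omega_iso_structureModule (hdim : topologicalKrullDim X = 1)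
    (hg : Curv2.genus k X = 1) :
    Nonempty (Omega.sheaf (X ↘ Spec (CommRingCat.of k)) ≅ Coh.structureModule X) := by
  have hC := GW.gcurve k X hdim
  have hO : PicF.IsInvertible (Coh.structureModule X) :=
    Groth.Agent.H67.ParaExt.isInvertible_structureModule
  have hdegO : Curv2.deg k X (Coh.structureModule X) 1 = 2 * (Curv2.genus k X : ℤ) - 2 := by
    unfold Curv2.deg
    rw [hg]
    push_cast
    ring
  have hh0 : Curv2.genus k X ≤ Module.finrank k (Coh.HH X (Coh.structureModule X) 0) := by
    rw [hg, GW.finrank_HH_zero k X]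
  obtain ⟨e⟩ := nonempty_iso_omega k X hdim (Coh.structureModule X) hO hdegO hh0
  exact ⟨e.symm⟩

end Groth.Agent.H62.OB
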