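import Mathlib
import Groth.Agent.H62.OB9
import Groth.Agent.H76.CurveS1
import Groth.Agent.H54.FiniteLocalPic

/-!
# helper62, Ω-bridge part 10: `h⁰(L) ≤ deg L` in positive genus over an arbitrary field, and global
generation of the sheaf of differentials
-/

set_option autoImplicit false
set_option linter.style.haveILetI false
open CategoryTheory CategoryTheory.Limits AlgebraicGeometry TopologicalSpace Topology FunFld
universe u

namespace Groth.Agent.H62.OB

attribute [local instance] Curv2.stalkAlgebra Curv2.resAlgebra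
attribute [local instance] Groth.Agent.H62.GW.bcOver

open Groth.Agent.H62.GD Groth.Agent.H76.Curve

variable (k : Type u) [Field k] (X : Scheme.{u}) [X.Over (Spec (CommRingCat.of k))]
  [IsIntegral X] [IsProper (X ↘ Spec (CommRingCat.of k))]
  [Smooth (X ↘ Spec (CommRingCat.of k))]
  [GeometricallyConnected (X ↘ Spec (CommRingCat.of k))]

/-- the degree of an invertible module is invariant under extension of the base field -/
theorem deg_pullback_bc (K : Type u) [Field K] [Algebra k K] (L : X.Modules)
    [L.IsQuasicoherent] :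
    Curv2.deg K (Curv2.bc k X K) ((Scheme.Modules.pullback (Curv2.bcFst k X K)).obj L) 1 =
      Curv2.deg k X L 1 := by
  haveI : CompactSpace X :=
    QuasiCompact.compactSpace_of_compactSpace (X ↘ Spec (CommRingCat.of k))
  haveI : QuasiSeparatedSpace X :=
    quasiSeparatedSpace_of_quasiSeparated (X ↘ Spec (CommRingCat.of k))
  unfold Curv2.deg
  rw [Groth.Agent.H71.CohBC.euler_bc k X K L]
  congr 2
  unfold Curv2.euler
  exact finsum_congr fun i => by rw [GW.finrank_HH_bc k X K i]

/-- **in positive genus, an invertible module of positive degree has `h⁰(L) ≤ deg L`** -/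
theorem finrank_HH_zero_le_deg (hdim : topologicalKrullDim X = 1) (hg : 1 ≤ Curv2.genus k X)
    (L : X.Modules) (hL : PicF.IsInvertible L) (hdeg : 0 < Curv2.deg k X L 1) :
    (Module.finrank k (Coh.HH X L 0) : ℤ) ≤ Curv2.deg k X L 1 := by
  classical
  let K := AlgebraicClosure k
  haveI : CompactSpace X :=
    QuasiCompact.compactSpace_of_compactSpace (X ↘ Spec (CommRingCat.of k))
  haveI : QuasiSeparatedSpace X :=
    quasiSeparatedSpace_of_quasiSeparated (X ↘ Spec (CommRingCat.of k))
  haveI := GW.isIntegral_bc k X K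
  have hC' := PM.gcurve_bc k X K hdim
  have hK' := hC'.isFunctionField
  have hg' : Curv2.genus K (Curv2.bc k X K) = Curv2.genus k X := PM.genus_bc k X K
  have hpb := GW.isPullback_bc k X K
  haveI : L.IsQuasicoherent := Groth.Agent.H54.GenSection.isQuasicoherent_of_isInvertible hL
  have hL' : PicF.IsInvertible ((Scheme.Modules.pullback (Curv2.bcFst k X K)).obj L) :=
    Groth.Agent.H54.FiniteLocalPic.isInvertible_pullback _ hL
  obtain ⟨D', hD'⟩ := exists_isDiv hC' hL'
  have h0 := Groth.Agent.H71.CohBC.finrank_hh_fieldExt k K X (Curv2.bc k X K)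
    (Curv2.bcFst k X K) hpb L 0
  have h1 := deg_pullback_bc k X K L
  rw [← h0, ← h1, hD'.finrank_HH_zero hL', hD'.deg_eq hC' hL']
  apply ell_le_deg_of_deg_pos hK'
  · rw [← hC'.genus_eq, hg']
    omega
  · rw [← hD'.deg_eq hC' hL', h1]
    exact hdeg

/-- **the sheaf of differentials of a curve of positive genus is globally generated** -/
theorem omega_isGloballyGenerated (hdim : topologicalKrullDim X = 1)
    (hg : 1 ≤ Curv2.genus k X) :
    Curv2.IsGloballyGenerated (Omega.sheaf (X ↘ Spec (CommRingCat.of k))) := by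
  classical
  have hC := GW.gcurve k X hdim
  have hK := hC.isFunctionField
  obtain ⟨W, hWdiv, hW⟩ := exists_isDiv_omega k X hdim
  obtain ⟨hell, hdeg⟩ := Groth.Agent.H55.canonical_ell_deg hK hW
  rw [IsDiv.isGloballyGenerated_iff_ell hC hWdiv]
  intro P
  have hPpos : 0 < P.deg := Groth.Agent.H55.Place.deg_pos hK P
  have hLP := isInvertible_OD hC (Finsupp.single P 1)
  have hDP := isDiv_OD hC (Finsupp.single P 1)
  have hdegP : Curv2.deg k X (OD hC (Finsupp.single P 1)) 1 = (P.deg : ℤ) := by
    rw [hDP.deg_eq hC hLP, Groth.Agent.H55.Divisor.deg_single, one_mul]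
  have h1 := finrank_HH_zero_le_deg k X hdim hg _ hLP (by rw [hdegP]; exact_mod_cast hPpos)
  rw [hDP.finrank_HH_zero hLP, hdegP] at h1
  have h2 := Groth.Agent.H55.riemann_roch hK hW (W - Finsupp.single P 1)
  have h3 : W - (W - Finsupp.single P 1) =
      (Finsupp.single P 1 : FunFld.Divisor k X.functionField) := by
    abel
  rw [h3, Groth.Agent.H55.Divisor.deg_sub, hdeg, Groth.Agent.H55.Divisor.deg_single, one_mul] at h2
  rw [hell]
  intro h4
  rw [h4] at h2
  have hgg : (1 : ℤ) ≤ (genus k X.functionField : ℤ) := by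
    rw [← hC.genus_eq]
    exact_mod_cast hg
  linarith

end Groth.Agent.H62.OB
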