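import Mathlib
import Groth.Agent.H62.PM11

/-!
# helper62: separability of degree-two maps from smooth curves of positive genus (main theorem)
-/

set_option autoImplicit false
set_option linter.style.haveILetI false
open CategoryTheory CategoryTheory.Limits AlgebraicGeometry TopologicalSpace Topology
  IntermediateField
universe u

namespace Groth.Agent.H62.PM

attribute [local instance] Curv2.stalkAlgebra Curv2.resAlgebra
attribute [local instance] Groth.Agent.H62.GW.bcOver

variable (k : Type u) [Field k] (C : Scheme.{u}) [C.Over (Spec (CommRingCat.of k))]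
  [IsIntegral C] [IsProper (C ↘ Spec (CommRingCat.of k))]
  [Smooth (C ↘ Spec (CommRingCat.of k))]
  [GeometricallyConnected (C ↘ Spec (CommRingCat.of k))]

/-- **separability of double covers**: on a smooth proper geometrically connected curve of positive
genus, a function `t` with `[K(C) : k(t)] = 2` is separating -/
theorem isSeparable_of_finrank_two (hdim : topologicalKrullDim C = 1)
    (hg : 1 ≤ Curv2.genus k C) (t : C.functionField)
    (hdeg : Module.finrank k⟮t⟯ C.functionField = 2) :
    Algebra.IsSeparable k⟮t⟯ C.functionField := by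
  by_contra hns
  obtain ⟨hchar, hsq⟩ := sq_mem_of_finrank_two hdeg hns
  haveI : CharP k 2 := RingHom.charP (algebraMap k k⟮t⟯) (algebraMap k k⟮t⟯).injective 2
  let L := AlgebraicClosure k
  haveI : CharP L 2 := charP_of_injective_algebraMap (algebraMap k L).injective 2
  haveI hint := GW.isIntegral_bc k C L
  have hC' : GD.GCurve L (Curv2.bc k C L) := gcurve_bc k C L hdim
  have hK' := hC'.isFunctionField
  haveI : CharP (Curv2.bc k C L).functionField 2 := charP_two L _
  set t' := iotaK k C L t with ht'
  -- every square of the big function field lies in `L(t')`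
  let M : Subfield (Curv2.bc k C L).functionField :=
    (L⟮t'⟯.toSubfield).comap (frobenius (Curv2.bc k C L).functionField 2)
  obtain ⟨_, ⟨U, hU, rfl⟩, hηU, -⟩ :=
    C.isBasis_affineOpens.exists_subset_of_mem_open (Set.mem_univ (genericPoint C)) isOpen_univ
  haveI : Nonempty U := ⟨⟨_, hηU⟩⟩
  have hiota_mem : ∀ x : C.functionField, x ∈ k⟮t⟯ → iotaK k C L x ∈ L⟮t'⟯ := by
    intro x hx
    obtain ⟨r, q, rfl⟩ := (mem_adjoin_simple_iff k x).mp hx
    rw [map_div₀, iotaK_aeval, iotaK_aeval]
    exact (mem_adjoin_simple_iff L _).mpr ⟨_, _, rfl⟩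
  have hM : M = ⊤ := by
    apply subfield_eq_top k C L U hU M
    · intro c
      change (frobenius _ 2) (algebraMap L _ c) ∈ L⟮t'⟯
      rw [frobenius_def, ← map_pow]
      exact L⟮t'⟯.algebraMap_mem _
    · intro a
      change (frobenius _ 2) _ ∈ L⟮t'⟯
      rw [frobenius_def, ← iotaK_germ k C L U hηU, ← map_pow]
      apply hiota_mem
      obtain ⟨b, hb⟩ := hsq ((C.presheaf.germ U (genericPoint C) hηU).hom a)
      rw [← hb]
      exact b.2
  have hall : ∀ w : (Curv2.bc k C L).functionField, w ^ 2 ∈ L⟮t'⟯ := by
    intro w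
    have hw : w ∈ M := by rw [hM]; trivial
    have : (frobenius _ 2) w ∈ L⟮t'⟯ := hw
    rwa [frobenius_def] at this
  obtain ⟨s, hs⟩ := exists_adjoin_eq_top t' hall
  have h0 := Groth.Agent.H55.genus_eq_zero_of_adjoin_eq_top hK' hs
  rw [← hC'.genus_eq, genus_bc k C L] at h0
  omega

end Groth.Agent.H62.PM
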