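import Mathlib
import Groth.Prelude.Def_Curv2
import Groth.Agent.H7.FieldResidue

/-!
# helper62: a rational point (a section of the structure morphism) is a closed point with residue
field `k`
-/

set_option autoImplicit false
set_option linter.style.haveILetI false
open CategoryTheory CategoryTheory.Limits AlgebraicGeometry TopologicalSpace Topology
universe u

namespace Groth.Agent.H62.PM

attribute [local instance] Curv2.stalkAlgebra Curv2.resAlgebra

variable (k : Type u) [Field k] (X : Scheme.{u}) [X.Over (Spec (CommRingCat.of k))]

/-- the residue field at the image of a section is `k` (after helper82,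
`H82.GrpRegSmooth.isSeparable_residueField_of_section`) -/
theorem resMap_bijective_of_section (u : Spec (CommRingCat.of k) ⟶ X)
    (hu : u ≫ (X ↘ Spec (CommRingCat.of k)) = 𝟙 _) (pt : ↥(Spec (CommRingCat.of k))) :
    Function.Bijective (Curv2.resMap k X (u pt)) := by
  set f := X ↘ Spec (CommRingCat.of k) with hf
  rw [Groth.Agent.H7.resMap_eq]
  haveI : IsIso (u ≫ f) := by rw [hu]; infer_instance
  haveI : IsIso ((u ≫ f).residueFieldMap pt) := inferInstance
  have h1 : (u ≫ f).residueFieldMap pt = f.residueFieldMap (u pt) ≫ u.residueFieldMap pt :=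
    Scheme.residueFieldMap_comp u f pt
  have h2 : Function.Bijective ((u.residueFieldMap pt).hom.comp (f.residueFieldMap (u pt)).hom) := by
    have := ConcreteCategory.bijective_of_isIso ((u ≫ f).residueFieldMap pt)
    rw [h1] at this
    exact this
  have h3 : Function.Bijective (u.residueFieldMap pt).hom :=
    ⟨(u.residueFieldMap pt).hom.injective, Function.Surjective.of_comp h2.2⟩
  have h4 : Function.Bijective (f.residueFieldMap (u pt)).hom := by
    refine ⟨(f.residueFieldMap (u pt)).hom.injective, fun y => ?_⟩
    obtain ⟨z, hz⟩ := h2.2 ((u.residueFieldMap pt).hom y)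
    exact ⟨z, h3.1 hz⟩
  exact h4.comp (Groth.Agent.H7.fieldToResidue_bijective k _)

/-- **a rational point is a closed point of degree one** -/
theorem exists_closedPoint_of_section (u : Spec (CommRingCat.of k) ⟶ X)
    (hu : u ≫ (X ↘ Spec (CommRingCat.of k)) = 𝟙 _) :
    ∃ x : X, IsClosed ({x} : Set X) ∧ Module.finrank k (X.residueField x) = 1 := by
  let pt : ↥(Spec (CommRingCat.of k)) := default
  refine ⟨u pt, ?_, ?_⟩
  · haveI : IsClosedImmersion u :=
      isClosedImmersion_of_comp_eq_id (X ↘ Spec (CommRingCat.of k)) u hu
    have h1 : IsClosed (Set.range u) := u.isClosedEmbedding.isClosed_range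
    have h2 : Set.range u = {u pt} := by
      ext y
      constructor
      · rintro ⟨q, rfl⟩
        rw [Subsingleton.elim q pt]
        rfl
      · rintro rfl
        exact ⟨pt, rfl⟩
    rwa [h2] at h1
  · have hbij := resMap_bijective_of_section k X u hu pt
    let ε : k ≃ₐ[k] X.residueField (u pt) :=
      AlgEquiv.ofBijective (Algebra.ofId k (X.residueField (u pt))) hbij
    rw [← ε.toLinearEquiv.finrank_eq]
    exact Module.finrank_self k

end Groth.Agent.H62.PM
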