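import Mathlib
import Groth.Agent.H62.PM3

/-!
# helper62: a dominant morphism from a proper curve to the projective line is finite
-/

set_option autoImplicit false
set_option linter.style.haveILetI false
open CategoryTheory CategoryTheory.Limits AlgebraicGeometry TopologicalSpace Topology
universe u

namespace Groth.Agent.H62.PM

attribute [local instance] Curv2.stalkAlgebra Curv2.resAlgebra

variable {k : Type u} [Field k] {X : Scheme.{u}} [X.Over (Spec (CommRingCat.of k))] [IsIntegral X]

/-- **finiteness** of a morphism over `k` from a proper curve to `P¹_k` sending the generic point to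
the generic point -/
theorem isFinite_of_generic (hP : GD.PCurve k X) (f : X ⟶ CohB1.ProjSpace 1 k)
    (hf : f ≫ CohB1.ProjSpace.toSpec 1 k = X ↘ Spec (CommRingCat.of k))
    (hgen : f (genericPoint X) = genericPoint (CohB1.ProjSpace 1 k)) : IsFinite f := by
  haveI := hP.proper
  haveI hprop : IsProper (f ≫ CohB1.ProjSpace.toSpec 1 k) := by rw [hf]; infer_instance
  haveI : IsSeparated (CohB1.ProjSpace.toSpec 1 k) :=
    inferInstanceAs (IsSeparated ((CohB1.ProjSpace 1 k) ↘ Spec (CommRingCat.of k)))
  haveI : IsProper f := IsProper.of_comp f (CohB1.ProjSpace.toSpec 1 k)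
  haveI : LocallyOfFiniteType (X ↘ Spec (CommRingCat.of k)) := hP.locallyOfFiniteType
  haveI : LocallyOfFiniteType ((CohB1.ProjSpace 1 k) ↘ Spec (CommRingCat.of k)) := inferInstance
  haveI : JacobsonSpace X := LocallyOfFiniteType.jacobsonSpace (X ↘ Spec (CommRingCat.of k))
  haveI : JacobsonSpace (CohB1.ProjSpace 1 k) :=
    LocallyOfFiniteType.jacobsonSpace ((CohB1.ProjSpace 1 k) ↘ Spec (CommRingCat.of k))
  haveI : IsLocallyNoetherian X :=
    LocallyOfFiniteType.isLocallyNoetherian (X ↘ Spec (CommRingCat.of k))
  haveI : CompactSpace X := hP.compactSpace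
  haveI : IsNoetherian X := {}
  haveI : NoetherianSpace X := inferInstance
  haveI : CompactSpace (CohB1.ProjSpace 1 k) :=
    QuasiCompact.compactSpace_of_compactSpace ((CohB1.ProjSpace 1 k) ↘ Spec (CommRingCat.of k))
  have hdom : IsDominant f := by
    refine ⟨?_⟩
    rw [DenseRange, dense_iff_closure_eq]
    apply Set.eq_univ_of_univ_subset
    rw [← (genericPoint_spec (CohB1.ProjSpace 1 k)).def]
    apply closure_mono
    rintro _ rfl
    exact ⟨genericPoint X, hgen⟩
  have hfib := (Groth.Agent.H22.CurveFibres.isDominant_iff_finite_fibres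
    (fun x hx => hP.ringKrullDim_stalk x hx) (isCurveLike_P1 k) f).mp hdom
  haveI : LocallyQuasiFinite f := LocallyQuasiFinite.of_finite_preimage_singleton f hfib
  exact IsFinite.of_isProper_of_locallyQuasiFinite f

end Groth.Agent.H62.PM
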