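import Mathlib
import Groth.Agent.H62.PM4

/-!
# helper62: the generic residue field extension of a morphism `f : X → P¹_k` is `K(X)/k(t)` with
`t = f^*(T₁/T₀)`: same degree, and separability is equivalent
-/

set_option autoImplicit false
set_option linter.style.haveILetI false
open CategoryTheory CategoryTheory.Limits AlgebraicGeometry TopologicalSpace Topology
  IntermediateField
universe u

namespace Groth.Agent.H62.PM

attribute [local instance] Curv2.stalkAlgebra Curv2.resAlgebra

variable {k : Type u} [Field k] {X : Scheme.{u}} [X.Over (Spec (CommRingCat.of k))] [IsIntegral X]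

/-- **the generic residue field extension of a morphism to the projective line** -/
theorem generic_ext (f : X ⟶ CohB1.ProjSpace 1 k)
    (hf : f ≫ CohB1.ProjSpace.toSpec 1 k = X ↘ Spec (CommRingCat.of k))
    (hmem : genericPoint X ∈ f ⁻¹ᵁ LefPen.chart 1 k 0) (t : X.functionField)
    (ht : (X.presheaf.germ _ (genericPoint X) hmem).hom (HC.tau f) = t) :
    (Module.finrank k⟮t⟯ X.functionField = f.residueDegree (genericPoint X)) ∧
      (letI := (f.residueFieldMap (genericPoint X)).hom.toAlgebra
       Algebra.IsSeparable k⟮t⟯ X.functionField ↔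
        Algebra.IsSeparable ((CohB1.ProjSpace 1 k).residueField (f (genericPoint X)))
          (X.residueField (genericPoint X))) := by
  set ξ := genericPoint X with hξ
  set y := f ξ with hy
  have hyU : y ∈ LefPen.chart 1 k 0 := hmem
  let e₂ : X.residueField ξ ≃+* X.functionField :=
    (RingEquiv.ofBijective (X.residue ξ).hom GD.residue_genericPoint_bijective).symm
  let ρ : (CohB1.ProjSpace 1 k).presheaf.stalk y →+* (CohB1.ProjSpace 1 k).residueField y :=
    ((CohB1.ProjSpace 1 k).residue y).hom
  let ψ : (CohB1.ProjSpace 1 k).residueField y →+* X.functionField :=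
    (e₂ : X.residueField ξ →+* X.functionField).comp (f.residueFieldMap ξ).hom
  have hψρ : ∀ z, ψ (ρ z) = (f.stalkMap ξ).hom z := by
    intro z
    have h1 := congrArg (fun g => g.hom z) (Scheme.residue_residueFieldMap f ξ)
    simp only [CommRingCat.hom_comp, RingHom.comp_apply] at h1
    change e₂ ((f.residueFieldMap ξ).hom (((CohB1.ProjSpace 1 k).residue y).hom z)) = _
    rw [h1]
    exact (RingEquiv.ofBijective (X.residue ξ).hom
      GD.residue_genericPoint_bijective).symm_apply_apply _
  have hk : ∀ c : k, ψ (ρ (algebraMap k _ c)) = algebraMap k X.functionField c := by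
    intro c
    rw [hψρ]
    have := Groth.Agent.H11.CotSmoothSch.stalkMap_comp k X f hf ξ
    exact (RingHom.congr_fun this c).symm
  set t₀ := ((CohB1.ProjSpace 1 k).presheaf.germ (LefPen.chart 1 k 0) y hyU).hom (HC.P1.x₀ k)
    with ht₀
  have hrange := GD.range_eq_adjoin ρ Ideal.Quotient.mk_surjective ψ hk t₀
    (fun z => stalk_repr_chart k y hyU z)
  have htt : ψ (ρ t₀) = t := by
    rw [hψρ, ← ht]
    have h3 := Scheme.Hom.germ_stalkMap f (LefPen.chart 1 k 0) ξ hmem
    exact congrArg (fun g => g.hom (HC.P1.x₀ k)) h3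
  rw [htt] at hrange
  have hmemt : ∀ x, ψ x ∈ k⟮t⟯ := fun x => by
    have : ψ x ∈ Set.range ψ := ⟨x, rfl⟩
    rw [hrange] at this
    exact this
  let ψ' : (CohB1.ProjSpace 1 k).residueField y →+* k⟮t⟯ := ψ.codRestrict k⟮t⟯ hmemt
  have hbij : Function.Bijective ψ' := by
    constructor
    · exact RingHom.injective ψ'
    · rintro ⟨x, hx⟩
      have : x ∈ Set.range ψ := by rw [hrange]; exact hx
      obtain ⟨w, hw⟩ := this
      exact ⟨w, Subtype.ext hw⟩
  let e₁ : (CohB1.ProjSpace 1 k).residueField y ≃+* k⟮t⟯ := RingEquiv.ofBijective ψ' hbij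
  letI alg : Algebra ((CohB1.ProjSpace 1 k).residueField y) (X.residueField ξ) :=
    (f.residueFieldMap ξ).hom.toAlgebra
  have he : (algebraMap k⟮t⟯ X.functionField).comp (e₁ : _ →+* _) =
      (e₂ : X.residueField ξ →+* X.functionField).comp
        (algebraMap ((CohB1.ProjSpace 1 k).residueField y) (X.residueField ξ)) := by
    ext x
    rfl
  constructor
  · have := Algebra.rank_eq_of_equiv_equiv e₁ e₂ he
    exact (congrArg Cardinal.toNat this).symm
  · exact (Algebra.IsSeparable.iff_of_equiv_equiv e₁ e₂ he).symm

end Groth.Agent.H62.PM
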