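import Mathlib
import Groth.Statements.S11577
import Groth.Agent.H62.PM5
import Groth.Agent.H62.PM12
import Groth.Agent.H62.PM13
import Groth.Agent.H62.PM14
import Groth.Agent.H55.FFElliptic
import Groth.Agent.H54.ClosedImmLinSys

/-!
# helper62: an elliptic curve over an arbitrary field is a separable double cover of the
projective line (assembly for S11577)
-/

set_option autoImplicit false
set_option linter.style.haveILetI false
universe u
open CategoryTheory CategoryTheory.Limits AlgebraicGeometry

namespace Groth.Agent.H62.PM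

attribute [local instance] Curv2.stalkAlgebra Curv2.resAlgebra

theorem hyperelliptic_of_elliptic (k : Type u) [Field k] (X : Scheme.{u}) [X.Over (Spec (CommRingCat.of k))]
    (hprojX : ∃ (N : ℕ) (i : X ⟶ CohB1.ProjSpace N k), IsClosedImmersion i ∧ i ≫ CohB1.ProjSpace.toSpec N k = X ↘ (Spec (CommRingCat.of k)))
    [IsIntegral X] (hdX : topologicalKrullDim X = 1) [Smooth (X ↘ (Spec (CommRingCat.of k)))]
    (hX0 : Module.finrank k (Coh.HH X (Coh.structureModule X) 0) = 1)
    (hg : Curv2.genus k X = 1) (hs : ∃ s : Spec (CommRingCat.of k) ⟶ X, s ≫ (X ↘ (Spec (CommRingCat.of k))) = 𝟙 _) :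
    (∃ f : X ⟶ CohB1.ProjSpace 1 k, f ≫ CohB1.ProjSpace.toSpec 1 k = X ↘ (Spec (CommRingCat.of k)) ∧ IsFinite f ∧
        f.residueDegree (genericPoint X) = 2 ∧
        letI := (f.residueFieldMap (genericPoint X)).hom.toAlgebra
        Algebra.IsSeparable ((CohB1.ProjSpace 1 k).residueField (f (genericPoint X))) (X.residueField (genericPoint X))) := by
  classical
  -- properness
  have hproper : IsProper (X ↘ Spec (CommRingCat.of k)) := by
    obtain ⟨N, i, hi, hcomp⟩ := hprojX
    rw [← hcomp]
    haveI := hi
    haveI : IsProper (CohB1.ProjSpace.toSpec N k) :=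
      Groth.Agent.H54.LS.isProper_toSpec k N
    infer_instance
  haveI := hproper
  have hP : Groth.Agent.H62.GD.PCurve k X := Groth.Agent.H62.GD.PCurve.of_smooth hproper hdX
  have hC : Groth.Agent.H62.GD.GCurve k X := hP.gcurve hX0
  have hK := hC.isFunctionField
  have hgen : FunFld.genus k X.functionField = 1 := by rw [← hC.genus_eq, hg]
  -- the rational point gives a place of degree one
  obtain ⟨s, hs⟩ := hs
  obtain ⟨x, hxcl, hxdeg⟩ := Groth.Agent.H62.PM.exists_closedPoint_of_section k X s hs
  set P₀ := Groth.Agent.H62.GD.placeOf hC ⟨x, hxcl⟩ with hP₀def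
  have hP₀ : P₀.deg = 1 := by
    rw [hP₀def, Groth.Agent.H62.GD.deg_placeOf]
    exact_mod_cast hxdeg
  -- a function with a double pole at the rational point
  obtain ⟨t, y, htL, -, htord, -, -, -⟩ := Groth.Agent.H55.weierstrass hK hgen P₀ hP₀
  have ht0 : t ≠ 0 := by
    rintro rfl
    rw [Groth.Agent.H55.Place.ord_zero] at htord
    exact absurd htord (by decide)
  have hpole : Groth.Agent.H55.PoleAt P₀ t 2 := by
    refine ⟨ht0, htord, fun Q hQ => ?_⟩
    have := (Groth.Agent.H55.mem_L_iff_ord ht0).mp htL Q
    rwa [Finsupp.single_apply, if_neg (Ne.symm hQ), neg_zero] at this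
  have hdeg : Module.finrank (IntermediateField.adjoin k ({t} : Set X.functionField))
      X.functionField = 2 := hpole.finrank hK hP₀ (j := 2) (by norm_num)
  have htr : Transcendental k t := hpole.transcendental hK (by norm_num)
  -- the morphism
  obtain ⟨f, hmem, hf, hgenpt, htau⟩ := Groth.Agent.H62.PM.exists_hom hP t htr
  haveI hfin : IsFinite f := Groth.Agent.H62.PM.isFinite_of_generic hP f hf hgenpt
  obtain ⟨h1, h2⟩ := Groth.Agent.H62.PM.generic_ext f hf hmem t htau
  -- separability
  haveI : CompactSpace X := hP.compactSpace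
  haveI : QuasiSeparatedSpace X :=
    quasiSeparatedSpace_of_quasiSeparated (X ↘ Spec (CommRingCat.of k))
  haveI : GeometricallyConnected (X ↘ Spec (CommRingCat.of k)) :=
    Groth.Agent.H62.PM.geometricallyConnected_of_finrank_HH_zero k X hX0
  have hsep := Groth.Agent.H62.PM.isSeparable_of_finrank_two k X hdX (by rw [hg]) t hdeg
  exact ⟨f, hf, hfin, by rw [← h1, hdeg], h2.mp hsep⟩


end Groth.Agent.H62.PM
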