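import Mathlib
import Groth.Agent.H62.PM15
import Groth.Agent.H62.FFDegTwo
import Groth.Agent.H76.CurveJ

/-!
# helper62: a smooth projective curve of positive genus is hyperelliptic iff it carries an
invertible module of degree two with a two-dimensional space of sections
-/

set_option autoImplicit false
set_option linter.style.haveILetI false
open CategoryTheory CategoryTheory.Limits AlgebraicGeometry TopologicalSpace Topology
  IntermediateField
universe u

namespace Groth.Agent.H62.PM

attribute [local instance] Curv2.stalkAlgebra Curv2.resAlgebra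

variable {k : Type u} [Field k] {X : Scheme.{u}} [X.Over (Spec (CommRingCat.of k))] [IsIntegral X]

/-- a finite morphism from a proper curve to the projective line maps the generic point to the
generic point -/
theorem generic_of_isFinite (hC : GD.GCurve k X) (f : X ⟶ CohB1.ProjSpace 1 k) [IsFinite f] :
    f (genericPoint X) = genericPoint (CohB1.ProjSpace 1 k) := by
  haveI : CompactSpace (CohB1.ProjSpace 1 k) :=
    QuasiCompact.compactSpace_of_compactSpace ((CohB1.ProjSpace 1 k) ↘ Spec (CommRingCat.of k))
  rcases Groth.Agent.H22.CurveFibres.isClosed_or_eq_genericPoint (isCurveLike_P1 k)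
    (f (genericPoint X)) with hc | hc
  · exfalso
    have key : ∀ c : X, f c = f (genericPoint X) := by
      intro c
      have h1 : genericPoint X ⤳ c := (genericPoint_spec X).specializes trivial
      have h2 := h1.map f.continuous
      exact h2.mem_closed hc (Set.mem_singleton _)
    have huniv : f ⁻¹' {f (genericPoint X)} = Set.univ := by
      ext c
      simp [key c]
    have hdisc := Scheme.Hom.isDiscrete_preimage_singleton f (f (genericPoint X))
    rw [huniv] at hdisc
    haveI : DiscreteTopology X := by
      have h1 : DiscreteTopology (Set.univ : Set X) := hdisc.to_subtype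
      exact (Homeomorph.Set.univ X).symm.isEmbedding.discreteTopology
    exact hC.not_isClosed_genericPoint (isClosed_discrete _)
  · exact hc

theorem hyperelliptic_iff_deg_two (k : Type u) [Field k] (X : Scheme.{u})
    [X.Over (Spec (CommRingCat.of k))]
    (hprojX : ∃ (N : ℕ) (i : X ⟶ CohB1.ProjSpace N k), IsClosedImmersion i ∧ i ≫ CohB1.ProjSpace.toSpec N k = X ↘ (Spec (CommRingCat.of k)))
    [IsIntegral X] (hdX : topologicalKrullDim X = 1) [Smooth (X ↘ (Spec (CommRingCat.of k)))]
    (hX0 : Module.finrank k (Coh.HH X (Coh.structureModule X) 0) = 1)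
    (hg : 1 ≤ Curv2.genus k X) :
    (∃ f : X ⟶ CohB1.ProjSpace 1 k, f ≫ CohB1.ProjSpace.toSpec 1 k = X ↘ (Spec (CommRingCat.of k)) ∧ IsFinite f ∧
        f.residueDegree (genericPoint X) = 2 ∧
        letI := (f.residueFieldMap (genericPoint X)).hom.toAlgebra
        Algebra.IsSeparable ((CohB1.ProjSpace 1 k).residueField (f (genericPoint X))) (X.residueField (genericPoint X))) ↔
      ∃ L : X.Modules, PicF.IsInvertible L ∧ Curv2.deg k X L 1 = 2 ∧ Module.finrank k (Coh.HH X L 0) = 2 := by
  classical
  have hproper : IsProper (X ↘ Spec (CommRingCat.of k)) := by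
    obtain ⟨N, i, hi, hcomp⟩ := hprojX
    rw [← hcomp]
    haveI := hi
    haveI : IsProper (CohB1.ProjSpace.toSpec N k) :=
      Groth.Agent.H54.LS.isProper_toSpec k N
    infer_instance
  haveI := hproper
  have hP : Groth.Agent.H62.GD.PCurve k X := Groth.Agent.H62.GD.PCurve.of_smooth hproper hdX
  have hC : Groth.Agent.H62.GD.GCurve k X := hP.gcurve hX0
  have hK := hC.isFunctionField
  have hgen : 1 ≤ FunFld.genus k X.functionField := by rw [← hC.genus_eq]; exact hg
  constructor
  · rintro ⟨f, hf, hfin, hrd, -⟩
    haveI := hfin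
    have hgenpt := generic_of_isFinite hC f
    have hmem : genericPoint X ∈ f ⁻¹ᵁ LefPen.chart 1 k 0 := by
      change f (genericPoint X) ∈ LefPen.chart 1 k 0
      rw [hgenpt]
      exact genericPoint_mem_chart k
    set t := (X.presheaf.germ _ (genericPoint X) hmem).hom (HC.tau f) with ht
    obtain ⟨h1, -⟩ := generic_ext f hf hmem t rfl
    have hdeg : Module.finrank k⟮t⟯ X.functionField = 2 := by rw [h1, hrd]
    have htr := Groth.Agent.H62.FFHE.transcendental_of_finrank hK hdeg
    set D : FunFld.Divisor k X.functionField := Groth.Agent.H55.poleDiv k t with hD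
    have hLinv := Groth.Agent.H76.Curve.isInvertible_OD hC D
    have hdiv := Groth.Agent.H76.Curve.isDiv_OD hC D
    refine ⟨Groth.Agent.H76.Curve.OD hC D, hLinv, ?_, ?_⟩
    · rw [Groth.Agent.H76.Curve.IsDiv.deg_eq hC hLinv hdiv, hD,
        Groth.Agent.H55.deg_poleDiv hK htr, hdeg]
      rfl
    · rw [hdiv.finrank_HH_zero hLinv]
      exact Groth.Agent.H62.FFDegTwo.ell_poleDiv_eq_two hK hgen hdeg
  · rintro ⟨L, hL, hLdeg, hLsec⟩
    obtain ⟨D, hD⟩ := Groth.Agent.H76.Curve.exists_isDiv hC hL
    have hdeg : D.deg = 2 := by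
      rw [← Groth.Agent.H76.Curve.IsDiv.deg_eq hC hL hD, hLdeg]
    have hell : 2 ≤ FunFld.ell D := by
      rw [← hD.finrank_HH_zero hL, hLsec]
    obtain ⟨t, htr, hdeg2⟩ := Groth.Agent.H62.FFDegTwo.exists_finrank_two hK hgen D hdeg hell
    obtain ⟨f, hmem, hf, hgenpt, htau⟩ := Groth.Agent.H62.PM.exists_hom hP t htr
    haveI hfin : IsFinite f := Groth.Agent.H62.PM.isFinite_of_generic hP f hf hgenpt
    obtain ⟨h1, h2⟩ := Groth.Agent.H62.PM.generic_ext f hf hmem t htau
    haveI : CompactSpace X := hP.compactSpace
    haveI : QuasiSeparatedSpace X :=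
      quasiSeparatedSpace_of_quasiSeparated (X ↘ Spec (CommRingCat.of k))
    haveI : GeometricallyConnected (X ↘ Spec (CommRingCat.of k)) :=
      Groth.Agent.H62.PM.geometricallyConnected_of_finrank_HH_zero k X hX0
    have hsep := Groth.Agent.H62.PM.isSeparable_of_finrank_two k X hdX hg t hdeg2
    exact ⟨f, hf, hfin, by rw [← h1, hdeg2], h2.mp hsep⟩

end Groth.Agent.H62.PM
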