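import Mathlib
import Groth.Agent.H62.PM5
import Groth.Agent.H22.DedekindFlat

/-!
# helper62: the projective line is normal; a dominant morphism from an integral scheme to it is
flat; the rank of a finite flat cover is constant and can be read off the function fields
-/

set_option autoImplicit false
set_option linter.style.haveILetI false
open CategoryTheory CategoryTheory.Limits AlgebraicGeometry TopologicalSpace Topology
  IntermediateField MvPolynomial
universe u

namespace Groth.Agent.H62.PM

attribute [local instance] Curv2.stalkAlgebra Curv2.resAlgebra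

variable (k : Type u) [Field k]

local notation "𝒜" => CohB1.polyGrading 1 k

/-- the sections of a standard chart of `P¹_k` form an integrally closed domain -/
theorem isIntegrallyClosed_chart (i : Fin (1 + 1)) :
    IsIntegrallyClosed Γ(CohB1.ProjSpace 1 k, LefPen.chart 1 k i) := by
  haveI : IsIso (Proj.awayToSection 𝒜 (X i)) :=
    (Proj.basicOpenIsoAway 𝒜 (X i) (LefPen.X_mem 1 k i) Nat.one_pos).isIso_hom
  have h1 : Function.Bijective (Proj.awayToSection 𝒜 (X i)).hom :=
    ConcreteCategory.bijective_of_isIso (Proj.awayToSection 𝒜 (X i))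
  have h2 : Function.Bijective (Groth.Agent.H73.Dehom.psi 1 k i) :=
    ⟨Groth.Agent.H73.Dehom.psi_injective 1 k i, Groth.Agent.H73.Dehom.psi_surjective 1 k i⟩
  let e : MvPolynomial {j : Fin (1 + 1) // j ≠ i} k ≃+*
      Γ(CohB1.ProjSpace 1 k, LefPen.chart 1 k i) :=
    RingEquiv.ofBijective ((Proj.awayToSection 𝒜 (X i)).hom.comp
      (Groth.Agent.H73.Dehom.psi 1 k i)) (h1.comp h2)
  exact IsIntegrallyClosed.of_equiv e

/-- **the projective line is normal** -/
theorem isIntegrallyClosed_stalk_P1 (y : CohB1.ProjSpace 1 k) :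
    IsIntegrallyClosed ((CohB1.ProjSpace 1 k).presheaf.stalk y) := by
  obtain ⟨i, hi⟩ := GD.P1.exists_X_notMem k y
  have hy : y ∈ LefPen.chart 1 k i := hi
  have hU : IsAffineOpen (LefPen.chart 1 k i) :=
    Proj.isAffineOpen_basicOpen 𝒜 (X i) (LefPen.X_mem 1 k i) Nat.one_pos
  haveI := isIntegrallyClosed_chart k i
  haveI : Nonempty (LefPen.chart 1 k i : (CohB1.ProjSpace 1 k).Opens) := ⟨⟨y, hy⟩⟩
  haveI : IsDomain Γ(CohB1.ProjSpace 1 k, LefPen.chart 1 k i) := inferInstance
  letI : Algebra Γ(CohB1.ProjSpace 1 k, LefPen.chart 1 k i)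
      ((CohB1.ProjSpace 1 k).presheaf.stalk y) :=
    ((CohB1.ProjSpace 1 k).presheaf.germ (LefPen.chart 1 k i) y hy).hom.toAlgebra
  haveI := hU.isLocalization_stalk ⟨y, hy⟩
  exact isIntegrallyClosed_of_isLocalization _
    (hU.primeIdealOf ⟨y, hy⟩).asIdeal.primeCompl
    (Ideal.primeCompl_le_nonZeroDivisors _)

instance isLocallyNoetherian_P1 : IsLocallyNoetherian (CohB1.ProjSpace 1 k) :=
  LocallyOfFiniteType.isLocallyNoetherian ((CohB1.ProjSpace 1 k) ↘ Spec (CommRingCat.of k))

variable {k} {X : Scheme.{u}} [IsIntegral X]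

/-- **flatness**: a morphism from an integral scheme to `P¹_k` mapping the generic point to the
generic point is flat -/
theorem flat_of_generic (f : X ⟶ CohB1.ProjSpace 1 k)
    (hgen : f (genericPoint X) = genericPoint (CohB1.ProjSpace 1 k)) : Flat f :=
  Groth.Agent.H22.DedekindFlat.flat_of_dominant (isIntegrallyClosed_stalk_P1 k)
    (dim_P1 k).le f hgen

end Groth.Agent.H62.PM
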