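import Mathlib
import Groth.Agent.H62.PM17

/-!
# helper62: the rank of a finite flat cover of the projective line by an integral curve equals the
degree of the function field extension
-/

set_option autoImplicit false
set_option linter.style.haveILetI false
open CategoryTheory CategoryTheory.Limits AlgebraicGeometry TopologicalSpace Topology
  IntermediateField Polynomial
universe u

namespace Groth.Agent.H62.PM

section algebra

variable {k K B : Type*} [Field k] [Field K] [Algebra k K] [CommRing B] [Algebra k B]
  [Algebra B K] [IsScalarTower k B K] [IsFractionRing B K]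

/-- **rank from degree**: if `B` is finite and flat over `k[X]` through `X ↦ τ`, `K` is the
fraction field of `B` and the image `t` of `τ` is transcendental, then the rank of `B` at every
prime of `k[X]` is `[K : k(t)]` -/
theorem finrank_eq_finrank_adjoin (τ : B)
    (hfin : (aeval (R := k) τ).toRingHom.Finite)
    (hflat : (aeval (R := k) τ).toRingHom.Flat)
    (ht : Transcendental k (algebraMap B K τ)) (p : PrimeSpectrum k[X]) :
    (aeval (R := k) τ).toRingHom.finrank p = Module.finrank k⟮algebraMap B K τ⟯ K := by
  set t := algebraMap B K τ with htdef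
  letI algB : Algebra k[X] B := (aeval (R := k) τ).toRingHom.toAlgebra
  haveI : Module.Finite k[X] B := hfin
  haveI : Module.Flat k[X] B := hflat
  have hBK : Function.Injective (algebraMap B K) := IsFractionRing.injective B K
  have hmem : ∀ p : k[X], aeval t p ∈ k⟮t⟯ := fun p =>
    IntermediateField.algebra_adjoin_le_adjoin k _ (Polynomial.aeval_mem_adjoin_singleton k _)
  let ψ : k[X] →+* k⟮t⟯ := (aeval (R := k) t).toRingHom.codRestrict k⟮t⟯.toSubring hmem
  letI algKt : Algebra k[X] k⟮t⟯ := ψ.toAlgebra
  letI algK : Algebra k[X] K := (aeval (R := k) t).toRingHom.toAlgebra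
  have haev : ∀ p : k[X], algebraMap B K (aeval τ p) = aeval t p := fun p => by
    rw [htdef, Polynomial.aeval_algebraMap_apply]
  haveI : IsScalarTower k[X] k⟮t⟯ K := IsScalarTower.of_algebraMap_eq (fun p => rfl)
  haveI : IsScalarTower k[X] B K := IsScalarTower.of_algebraMap_eq (fun p => (haev p).symm)
  have hinjK : Function.Injective (algebraMap k[X] K) :=
    transcendental_iff_injective.mp ht
  haveI : FaithfulSMul k[X] k⟮t⟯ := by
    rw [faithfulSMul_iff_algebraMap_injective]
    intro p q hpq
    apply hinjK
    exact congrArg Subtype.val hpq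
  haveI : IsFractionRing k[X] k⟮t⟯ := by
    apply IsFractionRing.of_field
    rintro ⟨z, hz⟩
    obtain ⟨r, s, hrs⟩ := IntermediateField.mem_adjoin_simple_iff k z |>.mp hz
    refine ⟨r, s, ?_⟩
    apply Subtype.ext
    exact hrs
  rw [IsFractionRing.finrank_eq k[X] k⟮t⟯ B K]
  haveI : Module.IsTorsionFree k[X] B := inferInstance
  haveI : Module.Free k[X] B := Module.free_of_finite_type_torsion_free'
  have h1 := congrFun (Module.rankAtStalk_eq_finrank_of_free (R := k[X]) (M := B)) p
  exact h1

end algebra

attribute [local instance] Curv2.stalkAlgebra Curv2.resAlgebra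

variable {k : Type u} [Field k] {C : Scheme.{u}} [C.Over (Spec (CommRingCat.of k))] [IsIntegral C]

open Groth.Agent.H11.FtChart

/-- **the rank of a finite flat cover of the projective line** -/
theorem finrank_eq_of_generic (f : C ⟶ CohB1.ProjSpace 1 k) [IsFinite f] [Flat f]
    (hf : f ≫ CohB1.ProjSpace.toSpec 1 k = C ↘ Spec (CommRingCat.of k))
    (hmem : genericPoint C ∈ f ⁻¹ᵁ LefPen.chart 1 k 0) (t : C.functionField)
    (ht : (C.presheaf.germ _ (genericPoint C) hmem).hom (HC.tau f) = t)
    (htr : Transcendental k t) (y : CohB1.ProjSpace 1 k) :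
    Scheme.Hom.finrank f y = Module.finrank k⟮t⟯ C.functionField := by
  set U := LefPen.chart 1 k 0 with hUdef
  have hU : IsAffineOpen U := HC.P1.isAffineOpen_chart k
  set W := f ⁻¹ᵁ U with hWdef
  have hW : IsAffineOpen W := hU.preimage f
  haveI : Nonempty W := ⟨⟨_, hmem⟩⟩
  -- the rank is constant
  haveI : LocallyOfFiniteType f := inferInstance
  have hlc : IsLocallyConstant (Scheme.Hom.finrank f) := Scheme.Hom.isLocallyConstant_finrank f
  have hconst : ∀ y y' : CohB1.ProjSpace 1 k, Scheme.Hom.finrank f y = Scheme.Hom.finrank f y' :=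
    fun y y' => hlc.apply_eq_of_preconnectedSpace y y'
  -- compute at a point of the chart
  letI := secAlgebra k C W
  haveI := HC.isScalarTower_sec (k := k) W
  haveI : IsFractionRing Γ(C, W) C.functionField :=
    functionField_isFractionRing_of_isAffineOpen C W hW
  have hfin := HC.aeval_tau_finite f hf
  have hflat := HC.aeval_tau_flat f hf
  have htτ : algebraMap Γ(C, W) C.functionField (HC.tau f) = t := ht
  let p₀ : PrimeSpectrum k[X] := ⟨⊥, Ideal.isPrime_bot⟩
  have h1 := finrank_eq_finrank_adjoin (K := C.functionField) (HC.tau f) hfin hflat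
    (by rw [htτ]; exact htr) p₀
  rw [htτ] at h1
  rw [← h1, HC.aeval_tau_eq f hf]
  let e : Polynomial k ≃+* Γ(CohB1.ProjSpace 1 k, U) :=
    RingEquiv.ofBijective (HC.P1.chartRingHom k) (HC.P1.chartRingHom_bijective k)
  have hfin' : (f.app U).hom.Finite := IsFinite.finite_app f _ hU
  have hflat' : (f.app U).hom.Flat := by
    rw [Scheme.Hom.app_eq_appLE]
    exact Flat.flat_appLE f hU hW le_rfl
  rw [RingHom.finrank_comp_right_of_bijective (HC.P1.chartRingHom k)
    (f.app U).hom (HC.P1.chartRingHom_bijective k) hfin' hflat' p₀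
    (PrimeSpectrum.comap (e.symm : _ →+* _) p₀) ?_]
  · rw [HC.finrank_app f hU]
    exact hconst _ _
  · rw [← PrimeSpectrum.comap_comp_apply]
    have : (e.symm : _ →+* _).comp (HC.P1.chartRingHom k) = RingHom.id _ := by
      refine RingHom.ext (fun x => ?_)
      exact e.symm_apply_apply x
    rw [this]
    rfl

end Groth.Agent.H62.PM
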