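import Mathlib
import Groth.Agent.H62.PM18
import Groth.Agent.H62.PM4
import Groth.Agent.H62.GD1
import Groth.Agent.H55.FFRational

/-!
# helper62: a normal proper curve whose function field is `k(x)` is the projective line
-/

set_option autoImplicit false
set_option linter.style.haveILetI false
open CategoryTheory CategoryTheory.Limits AlgebraicGeometry TopologicalSpace Topology
  IntermediateField
universe u

namespace Groth.Agent.H62.PM

attribute [local instance] Curv2.stalkAlgebra Curv2.resAlgebra

variable {k : Type u} [Field k] {X : Scheme.{u}} [X.Over (Spec (CommRingCat.of k))] [IsIntegral X]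

/-- **a normal proper curve with rational function field is the projective line** -/
theorem exists_iso_P1_of_adjoin_eq_top (hP : GD.PCurve k X) {x : X.functionField}
    (hxtr : Transcendental k x) (hx : k⟮x⟯ = ⊤) :
    ∃ e : X ≅ CohB1.ProjSpace 1 k,
      e.hom ≫ CohB1.ProjSpace.toSpec 1 k = X ↘ Spec (CommRingCat.of k) := by
  obtain ⟨f, hmem, hf, hgenpt, htau⟩ := exists_hom hP x hxtr
  haveI hfin : IsFinite f := isFinite_of_generic hP f hf hgenpt
  haveI hflat : Flat f := flat_of_generic f hgenpt
  haveI : LocallyOfFinitePresentation f := inferInstance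
  have h1 : Module.finrank k⟮x⟯ X.functionField = 1 := finrank_eq_one_iff_eq_top.mpr hx
  have hrank : Scheme.Hom.finrank f = 1 := by
    ext y
    rw [finrank_eq_of_generic f hf hmem x htau hxtr y, h1]
    rfl
  haveI : IsIso f := (Scheme.Hom.isIso_iff_finrank_eq f).mpr hrank
  exact ⟨asIso f, hf⟩

/-- the same for a `GCurve`, where transcendence is automatic -/
theorem exists_iso_P1_of_adjoin_eq_top' (hC : GD.GCurve k X) {x : X.functionField}
    (hx : k⟮x⟯ = ⊤) :
    ∃ e : X ≅ CohB1.ProjSpace 1 k,
      e.hom ≫ CohB1.ProjSpace.toSpec 1 k = X ↘ Spec (CommRingCat.of k) :=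
  exists_iso_P1_of_adjoin_eq_top hC.toPCurve
    (Groth.Agent.H55.transcendental_of_adjoin_eq_top hC.isFunctionField hx) hx

end Groth.Agent.H62.PM
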