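import Mathlib
import Groth.Agent.H62.PM30
import Groth.Agent.H62.PM22
import Groth.Agent.H62.GW1

/-!
# helper62: Lüroth's theorem for curves: a normal curve dominated by the projective line is the
projective line
-/

set_option autoImplicit false
set_option linter.style.haveILetI false
open CategoryTheory CategoryTheory.Limits AlgebraicGeometry TopologicalSpace Topology
  IntermediateField
universe u

namespace Groth.Agent.H62.PM

attribute [local instance] Curv2.stalkAlgebra Curv2.resAlgebra

section pcurve

variable {k : Type u} [Field k] {C : Scheme.{u}} [C.Over (Spec (CommRingCat.of k))] [IsIntegral C]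

theorem PCurve.exists_isClosed_singleton (hP : GD.PCurve k C) :
    ∃ x : C, IsClosed ({x} : Set C) := by
  haveI := hP.compactSpace
  obtain ⟨x, -, hx⟩ := IsClosed.exists_closed_singleton (isClosed_univ (X := C))
    ⟨genericPoint C, trivial⟩
  exact ⟨x, hx⟩

theorem PCurve.trdeg_eq_one (hP : GD.PCurve k C) : Algebra.trdeg k C.functionField = 1 := by
  haveI := hP.locallyOfFiniteType
  obtain ⟨x, hx⟩ := PCurve.exists_isClosed_singleton hP
  obtain ⟨n, hn1, hn2⟩ := Groth.Agent.H22.NCurve.ringKrullDim_stalk_of_isClosed k C x hx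
  rw [hP.ringKrullDim_stalk x hx] at hn2
  have h1 : n = 1 := by exact_mod_cast hn2.symm
  rw [hn1, h1]
  rfl

theorem PCurve.transcendental_of_adjoin_eq_top (hP : GD.PCurve k C) {x : C.functionField}
    (hx : k⟮x⟯ = ⊤) : Transcendental k x := by
  intro halg
  have h1 : Algebra.IsAlgebraic k k⟮x⟯ := isAlgebraic_adjoin_simple halg.isIntegral
  haveI : Algebra.IsAlgebraic k C.functionField := by
    refine ⟨fun z => ?_⟩
    have hz : z ∈ k⟮x⟯ := by rw [hx]; trivial
    have h3 := h1.isAlgebraic ⟨z, hz⟩
    exact (isAlgebraic_algHom_iff (k⟮x⟯.val) Subtype.val_injective (a := ⟨z, hz⟩)).mpr h3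
  have h2 : Algebra.trdeg k C.functionField = 0 := trdeg_eq_zero
  rw [PCurve.trdeg_eq_one hP] at h2
  exact one_ne_zero h2

/-- a normal proper integral curve is a `PCurve` -/
theorem PCurve.of_normal (hproper : IsProper (C ↘ Spec (CommRingCat.of k)))
    (hdim : topologicalKrullDim C = 1) (hN : Pi1.IsNormalScheme C) : GD.PCurve k C where
  proper := hproper
  dim := hdim
  dvr x hx := by
    haveI := hproper
    haveI : LocallyOfFiniteType (C ↘ Spec (CommRingCat.of k)) := inferInstance
    haveI : IsLocallyNoetherian C :=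
      LocallyOfFiniteType.isLocallyNoetherian (C ↘ Spec (CommRingCat.of k))
    haveI : IsDomain (C.presheaf.stalk x) := (hN x).1
    haveI : IsIntegrallyClosed (C.presheaf.stalk x) := (hN x).2
    have hkd : ringKrullDim (C.presheaf.stalk x) = 1 := ringKrullDim_stalk_of_dim k C hdim x hx
    haveI : Ring.KrullDimLE 1 (C.presheaf.stalk x) := (Ring.krullDimLE_iff).mpr hkd.le
    haveI : Ring.DimensionLEOne (C.presheaf.stalk x) :=
      ⟨fun {p} hp hpp => Ideal.IsPrime.isMaximal_of_ne_bot hpp hp⟩
    haveI : IsNoetherianRing (C.presheaf.stalk x) := inferInstance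
    haveI : IsLocalRing (C.presheaf.stalk x) := inferInstance
    haveI : IsDedekindDomain (C.presheaf.stalk x) := { }
    have hnf : ¬ IsField (C.presheaf.stalk x) := by
      intro hf
      rw [ringKrullDim_eq_zero_of_isField hf] at hkd
      exact zero_ne_one hkd
    have htfae := IsDiscreteValuationRing.TFAE (C.presheaf.stalk x) hnf
    have h02 : IsDiscreteValuationRing (C.presheaf.stalk x) ↔
        IsDedekindDomain (C.presheaf.stalk x) := htfae.out 0 2
    exact h02.mpr inferInstance

end pcurve

variable (k : Type u) [Field k]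

/-- the embedding of the function field of the projective line into a field with a transcendental
element -/
theorem exists_phi_field {L : Type u} [Field L] [Algebra k L] (t : L) (ht : Transcendental k t) :
    ∃ φ : (CohB1.ProjSpace 1 k).functionField →ₐ[k] L, φ (xgen k) = t := by
  set U := LefPen.chart 1 k 0 with hU
  have hUa : IsAffineOpen U := HC.P1.isAffineOpen_chart k
  letI := Groth.Agent.H11.FtChart.secAlgebra k (CohB1.ProjSpace 1 k) U
  haveI := HC.isScalarTower_sec (k := k) (C := CohB1.ProjSpace 1 k) U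
  haveI : IsFractionRing Γ(CohB1.ProjSpace 1 k, U) (CohB1.ProjSpace 1 k).functionField :=
    functionField_isFractionRing_of_isAffineOpen _ U hUa
  let e : Polynomial k ≃+* Γ(CohB1.ProjSpace 1 k, U) :=
    RingEquiv.ofBijective (HC.P1.chartRingHom k) (HC.P1.chartRingHom_bijective k)
  let g : Γ(CohB1.ProjSpace 1 k, U) →+* L :=
    (Polynomial.aeval (R := k) t).toRingHom.comp (e.symm : Γ(CohB1.ProjSpace 1 k, U) →+* Polynomial k)
  have hg : Function.Injective g := by
    have h1 : Function.Injective (Polynomial.aeval (R := k) t) :=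
      transcendental_iff_injective.mp ht
    exact h1.comp e.symm.injective
  let φ₀ : (CohB1.ProjSpace 1 k).functionField →+* L := IsFractionRing.lift hg
  have hφ₀ : ∀ a : Γ(CohB1.ProjSpace 1 k, U),
      φ₀ (algebraMap _ (CohB1.ProjSpace 1 k).functionField a) = g a :=
    fun a => IsFractionRing.lift_algebraMap hg a
  have hgC : ∀ c : k, g (algebraMap k _ c) = algebraMap k L c := by
    intro c
    have h1 : e (Polynomial.C c) = algebraMap k Γ(CohB1.ProjSpace 1 k, U) c :=
      HC.P1.chartRingHom_C k c
    have h2 : e.symm (algebraMap k Γ(CohB1.ProjSpace 1 k, U) c) = Polynomial.C c := by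
      rw [← h1, RingEquiv.symm_apply_apply]
    change Polynomial.aeval t (e.symm (algebraMap k Γ(CohB1.ProjSpace 1 k, U) c)) = _
    rw [h2, Polynomial.aeval_C]
  have hcomm : ∀ c : k, φ₀ (algebraMap k (CohB1.ProjSpace 1 k).functionField c) =
      algebraMap k L c := by
    intro c
    rw [IsScalarTower.algebraMap_apply k Γ(CohB1.ProjSpace 1 k, U)
      (CohB1.ProjSpace 1 k).functionField, hφ₀, hgC]
  refine ⟨{ φ₀ with commutes' := hcomm }, ?_⟩
  change φ₀ (xgen k) = t
  have hx : xgen k = algebraMap Γ(CohB1.ProjSpace 1 k, U) (CohB1.ProjSpace 1 k).functionField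
      (HC.P1.x₀ k) := rfl
  rw [hx, hφ₀]
  have h3 : e.symm (HC.P1.x₀ k) = Polynomial.X := by
    rw [← HC.P1.chartRingHom_X k]
    exact e.symm_apply_apply _
  change Polynomial.aeval t (e.symm (HC.P1.x₀ k)) = t
  rw [h3, Polynomial.aeval_X]

variable {k}

/-- **Lüroth**: a field between `k` and the function field of the projective line is generated by
one element -/
theorem exists_adjoin_eq_top_of_algHom {K : Type u} [Field K] [Algebra k K]
    (ι : K →ₐ[k] (CohB1.ProjSpace 1 k).functionField) : ∃ x : K, k⟮x⟯ = ⊤ := by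
  obtain ⟨j₀, -⟩ := exists_phi_field k (RatFunc.X : RatFunc k)
    (RatFunc.transcendental_X (K := k))
  set j : K →ₐ[k] RatFunc k := j₀.comp ι with hj
  have hjinj : Function.Injective j := j.toRingHom.injective
  set E : IntermediateField k (RatFunc k) := j.fieldRange with hE
  have hL := RatFunc.Luroth.eq_adjoin_generator (E := E)
  have hmem : RatFunc.Luroth.generator E ∈ E := RatFunc.Luroth.generator_mem
  obtain ⟨x, hx⟩ := hmem
  refine ⟨x, ?_⟩
  rw [eq_top_iff]
  intro z _
  have hz : j z ∈ E := ⟨z, rfl⟩
  rw [hL] at hz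
  have hx' : j x = RatFunc.Luroth.generator E := hx
  rw [← hx'] at hz
  have hmap : (k⟮x⟯).map j = k⟮j x⟯ := by
    rw [adjoin_map, Set.image_singleton]
  rw [← hmap] at hz
  obtain ⟨w, hw, hwz⟩ := hz
  have : w = z := hjinj hwz
  rw [← this]
  exact hw

end Groth.Agent.H62.PM
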