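import Mathlib
import Groth.Agent.H62.PM22

/-!
# helper62: normal proper curves over a field with isomorphic function fields are isomorphic
-/

set_option autoImplicit false
set_option linter.style.haveILetI false
set_option linter.unusedSectionVars false
open CategoryTheory CategoryTheory.Limits AlgebraicGeometry TopologicalSpace Topology
universe u

namespace Groth.Agent.H62.PM

attribute [local instance] Curv2.stalkAlgebra Curv2.resAlgebra

variable {k : Type u} [Field k] {X Y : Scheme.{u}} [X.Over (Spec (CommRingCat.of k))]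
  [Y.Over (Spec (CommRingCat.of k))] [IsIntegral X] [IsIntegral Y]

/-- **an isomorphism of function fields over `k` of normal proper curves comes from a unique
isomorphism of the curves** -/
theorem exists_iso_of_algEquiv (hX : GD.PCurve k X) (hY : GD.PCurve k Y)
    (φ : Y.functionField ≃ₐ[k] X.functionField) :
    ∃ (e : X ≅ Y) (he : e.hom (genericPoint X) = genericPoint Y),
      e.hom ≫ (Y ↘ Spec (CommRingCat.of k)) = X ↘ Spec (CommRingCat.of k) ∧
      ffMap e.hom he = ((φ : Y.functionField →ₐ[k] X.functionField) :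
        Y.functionField →+* X.functionField) := by
  haveI := hX.proper
  haveI := hY.proper
  obtain ⟨u, ⟨huk, hu, hus⟩, -⟩ := Groth.Agent.S4445.result k X Y
    (fun x hx => hX.ringKrullDim_stalk x hx) (isNormalScheme hX)
    (fun y hy => hY.ringKrullDim_stalk y hy) (φ : Y.functionField →ₐ[k] X.functionField)
  obtain ⟨v, ⟨hvk, hv, hvs⟩, -⟩ := Groth.Agent.S4445.result k Y X
    (fun y hy => hY.ringKrullDim_stalk y hy) (isNormalScheme hY)
    (fun x hx => hX.ringKrullDim_stalk x hx)
    (φ.symm : X.functionField →ₐ[k] Y.functionField)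
  have hus' : ∀ z, ffMap u hu z = φ z := fun z => congrArg (fun ψ => ψ z) hus
  have hvs' : ∀ z, ffMap v hv z = φ.symm z := fun z => congrArg (fun ψ => ψ z) hvs
  have huvg : (u ≫ v) (genericPoint X) = genericPoint X := by
    rw [Scheme.Hom.comp_apply, hu, hv]
  have hvug : (v ≫ u) (genericPoint Y) = genericPoint Y := by
    rw [Scheme.Hom.comp_apply, hv, hu]
  have huv : u ≫ v = 𝟙 X := by
    refine hom_ext_of_ffMap hX (fun x hx => hX.ringKrullDim_stalk x hx) (u ≫ v) (𝟙 X) huvg rfl
      (by rw [Category.assoc, hvk, huk]) (Category.id_comp _) ?_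
    rw [ffMap_comp u v hu hv huvg, ffMap_id]
    ext z
    change ffMap u hu (ffMap v hv z) = z
    rw [hvs', hus', φ.apply_symm_apply]
  have hvu : v ≫ u = 𝟙 Y := by
    refine hom_ext_of_ffMap hY (fun y hy => hY.ringKrullDim_stalk y hy) (v ≫ u) (𝟙 Y) hvug rfl
      (by rw [Category.assoc, huk, hvk]) (Category.id_comp _) ?_
    rw [ffMap_comp v u hv hu hvug, ffMap_id]
    ext z
    change ffMap v hv (ffMap u hu z) = z
    rw [hus', hvs', φ.symm_apply_apply]
  exact ⟨⟨u, v, huv, hvu⟩, hu, huk, hus⟩

end Groth.Agent.H62.PM
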