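import Mathlib
import Groth.Agent.H62.PM18
import Groth.Agent.H62.PM22
import Groth.Agent.H62.FFIndexTwo

/-!
# helper62: double covers of the projective line by a curve of genus `≥ 2` and their covering
involutions: uniqueness
-/

set_option autoImplicit false
set_option linter.style.haveILetI false
set_option linter.unusedSectionVars false
open CategoryTheory CategoryTheory.Limits AlgebraicGeometry TopologicalSpace Topology
  IntermediateField Polynomial
universe u

namespace Groth.Agent.H62.PM

section algebra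

/-- in an extension of degree two, two non-identity endomorphisms over the base coincide -/
theorem algHom_eq_of_finrank_two {F K : Type*} [Field F] [Field K] [Algebra F K]
    (h2 : Module.finrank F K = 2) (φ ψ : K →ₐ[F] K) (hφ : φ ≠ AlgHom.id F K)
    (hψ : ψ ≠ AlgHom.id F K) : φ = ψ := by
  by_contra hne
  haveI : FiniteDimensional F K := Module.finite_of_finrank_pos (by omega)
  have hcard := card_algHom_le_finrank F K K
  rw [h2] at hcard
  haveI : Finite (K →ₐ[F] K) := inferInstance
  let g : Fin 3 → (K →ₐ[F] K) := ![AlgHom.id F K, φ, ψ]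
  have hg : Function.Injective g := by
    intro i j hij
    fin_cases i <;> fin_cases j <;> simp [g] at hij ⊢
    · exact absurd hij.symm hφ
    · exact absurd hij.symm hψ
    · exact absurd hij hφ
    · exact absurd hij hne
    · exact absurd hij hψ
    · exact absurd hij.symm hne
  have := Nat.card_le_card_of_injective g hg
  rw [Nat.card_eq_fintype_card, Fintype.card_fin] at this
  omega

/-- a `k`-algebra endomorphism fixing `t` restricts to a `k(t)`-algebra endomorphism -/
noncomputable def algHomOfFix {k K : Type*} [Field k] [Field K] [Algebra k K] (φ : K →ₐ[k] K)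
    (t : K) (F : IntermediateField k K) (hF : F = k⟮t⟯) (ht : φ t = t) : K →ₐ[F] K :=
  { (φ : K →+* K) with
    commutes' := by
      rintro ⟨z, hz⟩
      subst hF
      change φ z = z
      have hle : k⟮t⟯ ≤ (AlgHom.equalizer φ (AlgHom.id k K)).toIntermediateField
          (fun x hx => by
            have h1 : φ x = x := hx
            change φ x⁻¹ = x⁻¹
            rw [map_inv₀, h1]) := by
        rw [adjoin_simple_le_iff]
        exact ht
      exact hle hz }

theorem algHomOfFix_apply {k K : Type*} [Field k] [Field K] [Algebra k K] (φ : K →ₐ[k] K)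
    (t : K) (F : IntermediateField k K) (hF : F = k⟮t⟯) (ht : φ t = t) (z : K) :
    algHomOfFix φ t F hF ht z = φ z := rfl

/-- **two non-identity `k`-endomorphisms fixing generators of the same index-two subfield agree** -/
theorem algHom_eq_of_fix {k K : Type*} [Field k] [Field K] [Algebra k K] {t₁ t₂ : K}
    (h2 : Module.finrank k⟮t₁⟯ K = 2) (heq : k⟮t₁⟯ = k⟮t₂⟯) (φ ψ : K →ₐ[k] K)
    (hφ : φ t₁ = t₁) (hψ : ψ t₂ = t₂) (hφ₁ : φ ≠ AlgHom.id k K) (hψ₁ : ψ ≠ AlgHom.id k K) :
    φ = ψ := by
  have h := algHom_eq_of_finrank_two h2 (algHomOfFix φ t₁ k⟮t₁⟯ rfl hφ)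
    (algHomOfFix ψ t₂ k⟮t₁⟯ heq hψ) ?_ ?_
  · ext z
    have := congrArg (fun f => f z) h
    exact this
  · intro hid
    apply hφ₁
    ext z
    exact congrArg (fun f => f z) hid
  · intro hid
    apply hψ₁
    ext z
    exact congrArg (fun f => f z) hid

end algebra

attribute [local instance] Curv2.stalkAlgebra Curv2.resAlgebra

section general

variable {X Y : Scheme.{u}} [IsIntegral X] [IsIntegral Y]

/-- a surjective morphism of integral schemes maps the generic point to the generic point -/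
theorem generic_of_surjective (h : X ⟶ Y) (hs : Function.Surjective h) :
    h (genericPoint X) = genericPoint Y := by
  obtain ⟨x', hx'⟩ := hs (genericPoint Y)
  have h1 : genericPoint X ⤳ x' := (genericPoint_spec X).specializes trivial
  have h2 : h (genericPoint X) ⤳ genericPoint Y := by
    rw [← hx']
    exact h1.map h.continuous
  have h3 : genericPoint Y ⤳ h (genericPoint X) := (genericPoint_spec Y).specializes trivial
  exact (h2.antisymm h3).eq

end general

variable {k : Type u} [Field k] {X : Scheme.{u}} [X.Over (Spec (CommRingCat.of k))] [IsIntegral X]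

open Groth.Agent.H11.FtChart

/-- the generic point of the projective line is not closed -/
theorem not_isClosed_genericPoint_P1 :
    ¬ IsClosed ({genericPoint (CohB1.ProjSpace 1 k)} : Set (CohB1.ProjSpace 1 k)) := by
  intro hcl
  have h1 := isCurveLike_P1 k (genericPoint (CohB1.ProjSpace 1 k)) hcl
  have hf : IsField ((CohB1.ProjSpace 1 k).presheaf.stalk (genericPoint (CohB1.ProjSpace 1 k))) :=
    Field.toIsField (CohB1.ProjSpace 1 k).functionField
  rw [ringKrullDim_eq_zero_of_isField hf] at h1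
  exact zero_ne_one h1

/-- a finite flat cover of the projective line of positive rank maps the generic point to the
generic point -/
theorem generic_of_finrank (h : X ⟶ CohB1.ProjSpace 1 k) [IsFinite h] [Flat h]
    (hr : ∀ y : ↥(CohB1.ProjSpace 1 k), 1 ≤ Scheme.Hom.finrank h y) :
    h (genericPoint X) = genericPoint (CohB1.ProjSpace 1 k) := by
  have hs : Surjective h := (Scheme.Hom.one_le_finrank_iff_surjective h).mp hr
  exact generic_of_surjective h hs.surj

/-- the coordinate function of a finite flat cover of the projective line is transcendental -/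
theorem transcendental_tau (h : X ⟶ CohB1.ProjSpace 1 k) [IsFinite h] [Flat h]
    (hh : h ≫ CohB1.ProjSpace.toSpec 1 k = X ↘ Spec (CommRingCat.of k))
    (hmem : genericPoint X ∈ h ⁻¹ᵁ LefPen.chart 1 k 0) :
    Transcendental k ((X.presheaf.germ _ (genericPoint X) hmem).hom (HC.tau h)) := by
  set U := LefPen.chart 1 k 0 with hUdef
  have hU : IsAffineOpen U := HC.P1.isAffineOpen_chart k
  set W := h ⁻¹ᵁ U with hWdef
  have hW : IsAffineOpen W := hU.preimage h
  haveI : Nonempty W := ⟨⟨_, hmem⟩⟩
  letI := secAlgebra k X W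
  haveI := HC.isScalarTower_sec (k := k) W
  haveI : IsFractionRing Γ(X, W) X.functionField :=
    functionField_isFractionRing_of_isAffineOpen X W hW
  have hflat := HC.aeval_tau_flat h hh
  have hBK : Function.Injective (algebraMap Γ(X, W) X.functionField) :=
    IsFractionRing.injective Γ(X, W) X.functionField
  change Transcendental k (algebraMap Γ(X, W) X.functionField (HC.tau h))
  rw [transcendental_iff_injective]
  letI algB : Algebra k[X] Γ(X, W) := (aeval (R := k) (HC.tau h)).toRingHom.toAlgebra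
  haveI : Module.Flat k[X] Γ(X, W) := hflat
  haveI : Module.IsTorsionFree k[X] Γ(X, W) := inferInstance
  haveI : IsDomain Γ(X, W) := inferInstance
  have hinj : Function.Injective (aeval (R := k) (HC.tau h)) := by
    rw [injective_iff_map_eq_zero]
    intro p hp
    by_contra hp0
    have h1 : p • (1 : Γ(X, W)) = 0 := by
      rw [Algebra.smul_def, mul_one]
      exact hp
    have h2 := (smul_eq_zero_iff_right (M := Γ(X, W)) hp0).mp h1
    exact one_ne_zero h2
  intro p q hpq
  apply hinj
  apply hBK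
  rw [← Polynomial.aeval_algebraMap_apply, ← Polynomial.aeval_algebraMap_apply]
  exact hpq

/-- a self-map of a curve compatible with a finite cover of the line fixes the generic point -/
theorem generic_of_comp_eq (hP : GD.PCurve k X) (h : X ⟶ CohB1.ProjSpace 1 k) [IsFinite h]
    (hgen : h (genericPoint X) = genericPoint (CohB1.ProjSpace 1 k))
    (σ : X ⟶ X) (hσ : σ ≫ h = h) : σ (genericPoint X) = genericPoint X := by
  rcases hP.isClosed_or_eq_genericPoint (σ (genericPoint X)) with hcl | heq
  · exfalso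
    have h1 : h (σ (genericPoint X)) = genericPoint (CohB1.ProjSpace 1 k) := by
      rw [← Scheme.Hom.comp_apply, hσ, hgen]
    have hclosed : IsClosedMap h := h.isClosedMap
    have h2 := hclosed _ hcl
    rw [Set.image_singleton, h1] at h2
    exact not_isClosed_genericPoint_P1 h2
  · exact heq

/-- the coordinate function is natural -/
theorem ffMap_tau (h : X ⟶ CohB1.ProjSpace 1 k) (σ : X ⟶ X)
    (hσ : σ (genericPoint X) = genericPoint X)
    (hmem : genericPoint X ∈ h ⁻¹ᵁ LefPen.chart 1 k 0)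
    (hmem' : genericPoint X ∈ (σ ≫ h) ⁻¹ᵁ LefPen.chart 1 k 0) :
    ffMap σ hσ ((X.presheaf.germ _ (genericPoint X) hmem).hom (HC.tau h)) =
      (X.presheaf.germ _ (genericPoint X) hmem').hom (HC.tau (σ ≫ h)) := by
  rw [ffMap_germ σ hσ _ hmem hmem']
  unfold HC.tau
  rw [Scheme.Hom.comp_app]
  rfl

theorem germ_tau_congr {h h' : X ⟶ CohB1.ProjSpace 1 k} (e : h' = h)
    (hmem : genericPoint X ∈ h ⁻¹ᵁ LefPen.chart 1 k 0)
    (hmem' : genericPoint X ∈ h' ⁻¹ᵁ LefPen.chart 1 k 0) :
    (X.presheaf.germ _ (genericPoint X) hmem').hom (HC.tau h') =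
      (X.presheaf.germ _ (genericPoint X) hmem).hom (HC.tau h) := by
  subst e
  rfl

/-- **uniqueness of the covering involution of a double cover of the line**, genus `≥ 2` -/
theorem involution_unique (hGC : GD.GCurve k X) (hg : 2 ≤ Curv2.genus k X)
    (h₁ h₂ : X ⟶ CohB1.ProjSpace 1 k)
    (hh₁ : h₁ ≫ CohB1.ProjSpace.toSpec 1 k = X ↘ Spec (CommRingCat.of k))
    (hh₂ : h₂ ≫ CohB1.ProjSpace.toSpec 1 k = X ↘ Spec (CommRingCat.of k))
    [IsFinite h₁] [Flat h₁] (hr₁ : ∀ y : ↥(CohB1.ProjSpace 1 k), Scheme.Hom.finrank h₁ y = 2)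
    [IsFinite h₂] [Flat h₂] (hr₂ : ∀ y : ↥(CohB1.ProjSpace 1 k), Scheme.Hom.finrank h₂ y = 2)
    (σ τ : X ⟶ X) (hσ : σ ≫ h₁ = h₁) (hσ₁ : σ ≠ 𝟙 X) (hτ : τ ≫ h₂ = h₂) (hτ₁ : τ ≠ 𝟙 X) :
    σ = τ := by
  have hP : GD.PCurve k X := hGC.toPCurve
  have hK := hGC.isFunctionField
  haveI := hP.proper
  have hgen : 2 ≤ FunFld.genus k X.functionField := by
    rw [← hGC.genus_eq]
    exact hg
  have hg₁ := generic_of_finrank h₁ (fun y => by rw [hr₁ y]; omega)
  have hg₂ := generic_of_finrank h₂ (fun y => by rw [hr₂ y]; omega)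
  have hm₁ := mem_preimage_of_generic h₁ hg₁ (LefPen.chart 1 k 0) (genericPoint_mem_chart k)
  have hm₂ := mem_preimage_of_generic h₂ hg₂ (LefPen.chart 1 k 0) (genericPoint_mem_chart k)
  set t₁ := (X.presheaf.germ _ (genericPoint X) hm₁).hom (HC.tau h₁) with ht₁
  set t₂ := (X.presheaf.germ _ (genericPoint X) hm₂).hom (HC.tau h₂) with ht₂
  have htr₁ : Transcendental k t₁ := transcendental_tau h₁ hh₁ hm₁
  have htr₂ : Transcendental k t₂ := transcendental_tau h₂ hh₂ hm₂
  have hd₁ : Module.finrank k⟮t₁⟯ X.functionField = 2 := by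
    rw [← finrank_eq_of_generic h₁ hh₁ hm₁ t₁ rfl htr₁ (genericPoint _)]
    exact hr₁ _
  have hd₂ : Module.finrank k⟮t₂⟯ X.functionField = 2 := by
    rw [← finrank_eq_of_generic h₂ hh₂ hm₂ t₂ rfl htr₂ (genericPoint _)]
    exact hr₂ _
  have heq : k⟮t₁⟯ = k⟮t₂⟯ := Groth.Agent.H62.FFIndexTwo.adjoin_eq_of_finrank_two hK hgen hd₁ hd₂
  -- the self-maps
  have hσg := generic_of_comp_eq hP h₁ hg₁ σ hσ
  have hτg := generic_of_comp_eq hP h₂ hg₂ τ hτ
  have hσk : σ ≫ (X ↘ Spec (CommRingCat.of k)) = X ↘ Spec (CommRingCat.of k) := by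
    rw [← hh₁, ← Category.assoc, hσ]
  have hτk : τ ≫ (X ↘ Spec (CommRingCat.of k)) = X ↘ Spec (CommRingCat.of k) := by
    rw [← hh₂, ← Category.assoc, hτ]
  have hσt : ffAlgHom σ hσg hσk t₁ = t₁ := by
    rw [ffAlgHom_apply, ht₁]
    have hm' : genericPoint X ∈ (σ ≫ h₁) ⁻¹ᵁ LefPen.chart 1 k 0 := by rw [hσ]; exact hm₁
    rw [ffMap_tau h₁ σ hσg hm₁ hm']
    exact germ_tau_congr hσ hm₁ hm'
  have hτt : ffAlgHom τ hτg hτk t₂ = t₂ := by
    rw [ffAlgHom_apply, ht₂]
    have hm' : genericPoint X ∈ (τ ≫ h₂) ⁻¹ᵁ LefPen.chart 1 k 0 := by rw [hτ]; exact hm₂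
    rw [ffMap_tau h₂ τ hτg hm₂ hm']
    exact germ_tau_congr hτ hm₂ hm'
  have hid : ∀ (ρ : X ⟶ X) (hρg : ρ (genericPoint X) = genericPoint X)
      (hρk : ρ ≫ (X ↘ Spec (CommRingCat.of k)) = X ↘ Spec (CommRingCat.of k)),
      ρ ≠ 𝟙 X → ffAlgHom ρ hρg hρk ≠ AlgHom.id k X.functionField := by
    intro ρ hρg hρk hρ hid
    apply hρ
    refine hom_ext_of_ffMap hP (fun x hx => hP.ringKrullDim_stalk x hx) ρ (𝟙 X) hρg rfl hρk
      (Category.id_comp _) ?_
    rw [ffMap_id]
    ext z
    exact congrArg (fun f => f z) hid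
  have hmain := algHom_eq_of_fix hd₁ heq (ffAlgHom σ hσg hσk) (ffAlgHom τ hτg hτk) hσt hτt
    (hid σ hσg hσk hσ₁) (hid τ hτg hτk hτ₁)
  refine hom_ext_of_ffMap hP (fun x hx => hP.ringKrullDim_stalk x hx) σ τ hσg hτg hσk hτk ?_
  ext z
  exact congrArg (fun f => f z) hmain

end Groth.Agent.H62.PM
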