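import Mathlib
import Groth.Agent.H62.PM22
import Groth.Agent.H62.PM23
import Groth.Agent.H62.HC4

/-!
# helper62: the rank of a finite flat morphism of integral schemes is the degree of the extension
of function fields
-/

set_option autoImplicit false
set_option linter.style.haveILetI false
open CategoryTheory CategoryTheory.Limits AlgebraicGeometry TopologicalSpace Topology
universe u

namespace Groth.Agent.H62.PM

section algebra

variable {A B : Type*} [CommRing A] [CommRing B] [IsDomain A]

/-- the rank of a finite flat algebra over a domain at any prime is its rank as a module -/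
theorem ringHom_finrank_eq_finrank (φ : A →+* B) (hfin : φ.Finite) (hflat : φ.Flat)
    (p : PrimeSpectrum A) :
    φ.finrank p = @Module.finrank A B _ _ φ.toAlgebra.toModule := by
  letI := φ.toAlgebra
  haveI : Module.Finite A B := hfin
  haveI : Module.Flat A B := hflat
  change Module.rankAtStalk B p = Module.finrank A B
  haveI := p.2
  rw [← Ideal.finrank_fiber_eq_rankAtStalk (M := B) p.asIdeal,
    Ideal.finrank_fiber_eq_finrank (M := B) p.asIdeal]

end algebra

variable {C P : Scheme.{u}} [IsIntegral C] [IsIntegral P]

/-- **the rank of a finite flat morphism of integral schemes is the degree of the function field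
extension** -/
theorem finrank_eq_finrank_ffMap (f : C ⟶ P) [IsFinite f] [Flat f]
    [LocallyOfFinitePresentation f] (hgen : f (genericPoint C) = genericPoint P) (y : P) :
    Scheme.Hom.finrank f y =
      @Module.finrank P.functionField C.functionField _ _ (ffMap f hgen).toAlgebra.toModule := by
  obtain ⟨U, hU, hηU, -⟩ := exists_isAffineOpen_mem_and_subset (x := genericPoint P)
    (U := ⊤) trivial
  set W := f ⁻¹ᵁ U with hWdef
  have hW : IsAffineOpen W := hU.preimage f
  have hηW : genericPoint C ∈ W := mem_preimage_of_generic f hgen U hηU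
  haveI : Nonempty U := ⟨⟨_, hηU⟩⟩
  haveI : Nonempty W := ⟨⟨_, hηW⟩⟩
  -- the rank is constant
  have hlc : IsLocallyConstant (Scheme.Hom.finrank f) := Scheme.Hom.isLocallyConstant_finrank f
  have hconst : ∀ y y' : P, Scheme.Hom.finrank f y = Scheme.Hom.finrank f y' :=
    fun y y' => hlc.apply_eq_of_preconnectedSpace y y'
  have hfin' : (f.app U).hom.Finite := IsFinite.finite_app f _ hU
  have hflat' : (f.app U).hom.Flat := by
    rw [Scheme.Hom.app_eq_appLE]
    exact Flat.flat_appLE f hU hW le_rfl
  let p₀ : PrimeSpectrum Γ(P, U) := ⟨⊥, Ideal.isPrime_bot⟩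
  rw [hconst y (hU.fromSpec p₀), ← HC.finrank_app f hU p₀,
    ringHom_finrank_eq_finrank (f.app U).hom hfin' hflat' p₀]
  haveI : IsFractionRing Γ(P, U) P.functionField :=
    functionField_isFractionRing_of_isAffineOpen P U hU
  haveI : IsFractionRing Γ(C, W) C.functionField :=
    functionField_isFractionRing_of_isAffineOpen C W hW
  letI algAB : Algebra Γ(P, U) Γ(C, W) := (f.app U).hom.toAlgebra
  letI algFK : Algebra P.functionField C.functionField := (ffMap f hgen).toAlgebra
  letI algAK : Algebra Γ(P, U) C.functionField :=
    ((algebraMap Γ(C, W) C.functionField).comp (f.app U).hom).toAlgebra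
  haveI : IsScalarTower Γ(P, U) Γ(C, W) C.functionField :=
    IsScalarTower.of_algebraMap_eq (fun a => rfl)
  haveI : IsScalarTower Γ(P, U) P.functionField C.functionField :=
    IsScalarTower.of_algebraMap_eq (fun a => (ffMap_germ f hgen U hηU hηW a).symm)
  exact (IsFractionRing.finrank_eq Γ(P, U) P.functionField Γ(C, W) C.functionField).symm

end Groth.Agent.H62.PM
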