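import Mathlib
import Groth.Agent.H62.PM26
import Groth.Agent.H62.PM28
import Groth.Agent.H62.GD4

/-!
# helper62: two dominant morphisms from a normal proper curve to normal proper curves whose
function fields have the same image differ by an isomorphism of the targets
-/

set_option autoImplicit false
set_option linter.style.haveILetI false
open CategoryTheory CategoryTheory.Limits AlgebraicGeometry TopologicalSpace Topology
universe u

namespace Groth.Agent.H62.PM

attribute [local instance] Curv2.stalkAlgebra Curv2.resAlgebra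

variable {k : Type u} [Field k] {C P₁ P₂ : Scheme.{u}} [C.Over (Spec (CommRingCat.of k))]
  [P₁.Over (Spec (CommRingCat.of k))] [P₂.Over (Spec (CommRingCat.of k))]
  [IsIntegral C] [IsIntegral P₁] [IsIntegral P₂]

/-- **equal images of function fields give an isomorphism of the targets** -/
theorem exists_iso_of_range_eq (hC : GD.PCurve k C) (h₁ : GD.PCurve k P₁) (h₂ : GD.PCurve k P₂)
    (f₁ : C ⟶ P₁) (hf₁ : f₁ ≫ (P₁ ↘ Spec (CommRingCat.of k)) = C ↘ Spec (CommRingCat.of k))
    (f₂ : C ⟶ P₂) (hf₂ : f₂ ≫ (P₂ ↘ Spec (CommRingCat.of k)) = C ↘ Spec (CommRingCat.of k))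
    (hgen₁ : f₁ (genericPoint C) = genericPoint P₁)
    (hgen₂ : f₂ (genericPoint C) = genericPoint P₂)
    (hrange : Set.range (ffMap f₁ hgen₁) = Set.range (ffMap f₂ hgen₂)) :
    ∃ e : P₁ ≅ P₂, e.hom ≫ (P₂ ↘ Spec (CommRingCat.of k)) = P₁ ↘ Spec (CommRingCat.of k) ∧
      f₁ ≫ e.hom = f₂ := by
  haveI := h₁.proper
  haveI := h₂.proper
  set ι₁ : P₁.functionField →ₐ[k] C.functionField := ffAlgHom f₁ hgen₁ hf₁ with hι₁
  set ι₂ : P₂.functionField →ₐ[k] C.functionField := ffAlgHom f₂ hgen₂ hf₂ with hι₂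
  have hR : ι₂.fieldRange = ι₁.fieldRange := by
    apply SetLike.ext'
    rw [AlgHom.coe_fieldRange, AlgHom.coe_fieldRange]
    exact hrange.symm
  let e₁ := AlgEquiv.ofInjectiveField ι₁
  let e₂ := AlgEquiv.ofInjectiveField ι₂
  let φ : P₂.functionField ≃ₐ[k] P₁.functionField :=
    e₂.trans ((IntermediateField.equivOfEq hR).trans e₁.symm)
  have hφ : ∀ z, ι₁ (φ z) = ι₂ z := by
    intro z
    have h1 : ∀ w : ι₁.fieldRange, ι₁ (e₁.symm w) = w.1 := fun w =>
      congrArg Subtype.val (e₁.apply_symm_apply w)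
    exact h1 _
  obtain ⟨e, he, hek, heφ⟩ := exists_iso_of_algEquiv h₁ h₂ φ
  refine ⟨e, hek, ?_⟩
  have hgen' : (f₁ ≫ e.hom) (genericPoint C) = genericPoint P₂ := by
    rw [Scheme.Hom.comp_apply, hgen₁, he]
  refine hom_ext_of_ffMap hC (fun y hy => h₂.ringKrullDim_stalk y hy) (f₁ ≫ e.hom) f₂
    hgen' hgen₂ (by rw [Category.assoc, hek, hf₁]) hf₂ ?_
  rw [ffMap_comp f₁ e.hom hgen₁ he hgen', heφ]
  ext z
  exact hφ z

end Groth.Agent.H62.PM
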