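import Mathlib
import Groth.Agent.H62.PM35
import Groth.Agent.H62.PM34
import Groth.Agent.H62.PM32
import Groth.Agent.H62.FFEllDeg2
import Groth.Agent.H67.CoverFree
import Groth.Agent.H76.CurveS2

/-!
# helper62: two double covers of the projective line by a curve of genus one differ by
automorphisms of the curve and of the line
-/

set_option autoImplicit false
set_option linter.style.haveILetI false
open CategoryTheory CategoryTheory.Limits AlgebraicGeometry TopologicalSpace Topology
  IntermediateField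
universe u

namespace Groth.Agent.H62.PM

attribute [local instance] Curv2.stalkAlgebra Curv2.resAlgebra

section P1

variable (k : Type u) [Field k]

/-- the function field of the projective line is generated by the coordinate -/
theorem adjoin_xgen_eq_top :
    k⟮xgen k⟯ = (⊤ : IntermediateField k (CohB1.ProjSpace 1 k).functionField) := by
  set U := LefPen.chart 1 k 0 with hU
  have hUa : IsAffineOpen U := HC.P1.isAffineOpen_chart k
  letI := Groth.Agent.H11.FtChart.secAlgebra k (CohB1.ProjSpace 1 k) U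
  haveI := HC.isScalarTower_sec (k := k) (C := CohB1.ProjSpace 1 k) U
  haveI : IsFractionRing Γ(CohB1.ProjSpace 1 k, U) (CohB1.ProjSpace 1 k).functionField :=
    functionField_isFractionRing_of_isAffineOpen _ U hUa
  have hcomp : (algebraMap Γ(CohB1.ProjSpace 1 k, U) (CohB1.ProjSpace 1 k).functionField).comp
      (HC.P1.chartRingHom k) = (Polynomial.aeval (R := k) (xgen k)).toRingHom := by
    apply Polynomial.ringHom_ext
    · intro c
      rw [RingHom.comp_apply, HC.P1.chartRingHom_C k c]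
      change algebraMap Γ(CohB1.ProjSpace 1 k, U) (CohB1.ProjSpace 1 k).functionField
        (algebraMap k Γ(CohB1.ProjSpace 1 k, U) c) = Polynomial.aeval (xgen k) (Polynomial.C c)
      rw [← IsScalarTower.algebraMap_apply, Polynomial.aeval_C]
    · rw [RingHom.comp_apply, HC.P1.chartRingHom_X k]
      change _ = Polynomial.aeval (xgen k) Polynomial.X
      rw [Polynomial.aeval_X]
      rfl
  have hpoly : ∀ p : Polynomial k,
      algebraMap Γ(CohB1.ProjSpace 1 k, U) (CohB1.ProjSpace 1 k).functionField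
        (HC.P1.chartRingHom k p) = Polynomial.aeval (xgen k) p :=
    fun p => RingHom.congr_fun hcomp p
  have hmem : ∀ p : Polynomial k, Polynomial.aeval (xgen k) p ∈ k⟮xgen k⟯ := fun p =>
    IntermediateField.algebra_adjoin_le_adjoin k _ (Polynomial.aeval_mem_adjoin_singleton k _)
  rw [eq_top_iff]
  intro z _
  obtain ⟨a, b, -, rfl⟩ := IsFractionRing.div_surjective (A := Γ(CohB1.ProjSpace 1 k, U)) z
  obtain ⟨p, rfl⟩ := (HC.P1.chartRingHom_bijective k).2 a
  obtain ⟨q, rfl⟩ := (HC.P1.chartRingHom_bijective k).2 b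
  rw [hpoly, hpoly]
  exact div_mem (hmem p) (hmem q)

/-- the projective line is a normal proper curve -/
theorem pcurve_P1 : GD.PCurve k (CohB1.ProjSpace 1 k) :=
  PCurve.of_normal (isProper_P1 k) (dim_P1 k)
    (fun y => ⟨inferInstance, isIntegrallyClosed_stalk_P1 k y⟩)

end P1

variable {k : Type u} [Field k] {X : Scheme.{u}} [X.Over (Spec (CommRingCat.of k))] [IsIntegral X]

/-- the image of the function field of the line is generated by the image of the coordinate -/
theorem range_ffMap_P1 (f : X ⟶ CohB1.ProjSpace 1 k)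
    (hf : f ≫ ((CohB1.ProjSpace 1 k) ↘ Spec (CommRingCat.of k)) = X ↘ Spec (CommRingCat.of k))
    (hgen : f (genericPoint X) = genericPoint (CohB1.ProjSpace 1 k)) :
    Set.range (ffMap f hgen) = (k⟮ffMap f hgen (xgen k)⟯ : Set X.functionField) := by
  have h1 : (ffAlgHom f hgen hf).fieldRange = k⟮ffMap f hgen (xgen k)⟯ := by
    rw [AlgHom.fieldRange_eq_map, ← adjoin_xgen_eq_top k, adjoin_map, Set.image_singleton]
    rfl
  rw [← h1, AlgHom.coe_fieldRange]
  rfl

/-- the degree of the image of the coordinate -/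
theorem finrank_adjoin_ffMap_xgen (f : X ⟶ CohB1.ProjSpace 1 k) [IsFinite f] [Flat f]
    (hf : f ≫ ((CohB1.ProjSpace 1 k) ↘ Spec (CommRingCat.of k)) = X ↘ Spec (CommRingCat.of k))
    (hgen : f (genericPoint X) = genericPoint (CohB1.ProjSpace 1 k)) (d : ℕ)
    (hr : ∀ y, Scheme.Hom.finrank f y = d) :
    Module.finrank k⟮ffMap f hgen (xgen k)⟯ X.functionField = d := by
  haveI : LocallyOfFinitePresentation f := inferInstance
  letI alg : Algebra (CohB1.ProjSpace 1 k).functionField X.functionField :=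
    (ffMap f hgen).toAlgebra
  haveI : IsScalarTower k (CohB1.ProjSpace 1 k).functionField X.functionField :=
    IsScalarTower.of_algebraMap_eq (fun c => (ffMap_algebraMap f hgen hf c).symm)
  have hdeg : Module.finrank (CohB1.ProjSpace 1 k).functionField X.functionField = d := by
    rw [← finrank_eq_finrank_ffMap f hgen (genericPoint _)]
    exact hr _
  have h1 : Module.finrank k⟮xgen k⟯ (CohB1.ProjSpace 1 k).functionField = 1 :=
    finrank_eq_one_iff_eq_top.mpr (adjoin_xgen_eq_top k)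
  have h2 := Groth.Agent.H55.finrank_adjoin_algebraMap (k := k)
    (K := (CohB1.ProjSpace 1 k).functionField) (K' := X.functionField) (xgen k)
  rw [h1, hdeg, one_mul] at h2
  exact h2

/-- **degree-two maps from a curve of genus one to the line differ by automorphisms** -/
theorem degree_two_maps_genus_one [IsAlgClosed k] (hC : GD.GCurve k X)
    (hg : Curv2.genus k X = 1) (h2 : (2 : k) ≠ 0)
    (f₁ f₂ : X ⟶ CohB1.ProjSpace 1 k) [IsFinite f₁] [IsFinite f₂] [Flat f₁] [Flat f₂]
    (hf₁ : f₁ ≫ ((CohB1.ProjSpace 1 k) ↘ Spec (CommRingCat.of k)) =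
      X ↘ Spec (CommRingCat.of k))
    (hf₂ : f₂ ≫ ((CohB1.ProjSpace 1 k) ↘ Spec (CommRingCat.of k)) =
      X ↘ Spec (CommRingCat.of k))
    (hr₁ : ∀ y, Scheme.Hom.finrank f₁ y = 2) (hr₂ : ∀ y, Scheme.Hom.finrank f₂ y = 2) :
    ∃ (σ : X ≅ X) (τ : (CohB1.ProjSpace 1 k) ≅ (CohB1.ProjSpace 1 k)),
      σ.hom ≫ (X ↘ Spec (CommRingCat.of k)) = X ↘ Spec (CommRingCat.of k) ∧
      τ.hom ≫ ((CohB1.ProjSpace 1 k) ↘ Spec (CommRingCat.of k)) =
        ((CohB1.ProjSpace 1 k) ↘ Spec (CommRingCat.of k)) ∧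
      σ.hom ≫ f₂ = f₁ ≫ τ.hom := by
  have hgen₁ := generic_of_isFinite hC f₁
  have hgen₂ := generic_of_isFinite hC f₂
  have hK := hC.isFunctionField
  have hgK : FunFld.genus k X.functionField = 1 := by rw [← hC.genus_eq]; exact hg
  have hdeg₁ := finrank_adjoin_ffMap_xgen f₁ hf₁ hgen₁ 2 hr₁
  have hdeg₂ := finrank_adjoin_ffMap_xgen f₂ hf₂ hgen₂ 2 hr₂
  obtain ⟨Sg, hSg⟩ := Groth.Agent.H62.FFEllDeg2.exists_algEquiv_adjoin_eq hK hgK h2 hdeg₁ hdeg₂
  obtain ⟨σ, hσgen, hσk, hσφ⟩ := exists_iso_of_algEquiv hC.toPCurve hC.toPCurve Sg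
  have hP := pcurve_P1 k
  have hgen' : (σ.hom ≫ f₂) (genericPoint X) = genericPoint (CohB1.ProjSpace 1 k) := by
    rw [Scheme.Hom.comp_apply, hσgen, hgen₂]
  have hk' : (σ.hom ≫ f₂) ≫ ((CohB1.ProjSpace 1 k) ↘ Spec (CommRingCat.of k)) =
      X ↘ Spec (CommRingCat.of k) := by
    rw [Category.assoc, hf₂, hσk]
  have hrange : Set.range (ffMap (σ.hom ≫ f₂) hgen') = Set.range (ffMap f₁ hgen₁) := by
    rw [range_ffMap_P1 f₁ hf₁ hgen₁, ← hSg, ffMap_comp σ.hom f₂ hσgen hgen₂ hgen', hσφ,
      RingHom.coe_comp, Set.range_comp, range_ffMap_P1 f₂ hf₂ hgen₂]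
    have h1 : k⟮Sg (ffMap f₂ hgen₂ (xgen k))⟯ =
        k⟮ffMap f₂ hgen₂ (xgen k)⟯.map (Sg : X.functionField →ₐ[k] X.functionField) := by
      rw [adjoin_map, Set.image_singleton]
      rfl
    rw [h1, IntermediateField.coe_map]
    rfl
  obtain ⟨e, hek, he⟩ := exists_iso_of_range_eq hC.toPCurve hP hP (σ.hom ≫ f₂) hk' f₁ hf₁
    hgen' hgen₁ hrange
  refine ⟨σ, e.symm, hσk, ?_, ?_⟩
  · change e.inv ≫ _ = _
    rw [Iso.inv_comp_eq, hek]
  · change σ.hom ≫ f₂ = f₁ ≫ e.inv
    rw [← he, Category.assoc, Iso.hom_inv_id, Category.comp_id]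

end Groth.Agent.H62.PM
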