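import Mathlib
import Groth.Agent.H62.PM37
import Groth.Agent.H54.ProjLinSys
import Groth.Agent.H76.CurveN
import Groth.Agent.H54.FiniteLocalPic

/-!
# helper62: the divisor of `f^* O(1)` for a finite morphism `f : C ⟶ P¹_k` from a curve is the
pole divisor of the function `t = f^*(T₁/T₀)`
-/

set_option autoImplicit false
set_option linter.style.haveILetI false
open CategoryTheory CategoryTheory.Limits AlgebraicGeometry TopologicalSpace Topology
  IntermediateField FunFld
universe u

namespace Groth.Agent.H62.PM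

attribute [local instance] Curv2.stalkAlgebra Curv2.resAlgebra

open Groth.Agent.H18 Groth.Agent.H54.PB Groth.Agent.H54.PL Groth.Agent.H54.PC Groth.Agent.H54.LS
open Groth.Agent.H8

section P1

variable (k : Type u) [Field k]

local notation "𝒬" => CohB1.polyGrading 1 k

/-- the coordinate function on the chart is the fraction `T₁ / T₀` -/
theorem x₀_eq_fracO :
    HC.P1.x₀ k = fracO 𝒬 (X_mem k 1 1) (X_mem k 1 0) (LefPen.chart 1 k 0) (fun _ hx => hx) := by
  apply projSection_ext
  intro y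
  have h1 := ProjectiveSpectrum.Proj.awayToSection_apply 𝒬 (MvPolynomial.X 0)
    (Groth.Agent.H73.Dehom.psi 1 k 0 (MvPolynomial.X HC.P1.idx)) y
  refine h1.trans ?_
  rw [fracO_val, Groth.Agent.H73.Dehom.val_psi_X, Localization.mk_eq_mk', IsLocalization.map_mk',
    ← Localization.mk_eq_mk']
  rfl

end P1

section general

variable {X : Scheme.{u}}

/-- a global section whose section morphism is an isomorphism over `U` is a free generator over
`U` -/
theorem isFreeGen_mres_of_isIso (L : X.Modules) (s : Γ(L, (⊤ : X.Opens))) (U : X.Opens)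
    (h : IsIso ((Scheme.Modules.restrictFunctor U.ι).map (sectionHom L s))) :
    IsFreeGen L U (mres L (le_top : U ≤ ⊤) s) := by
  intro V hV
  have h1 := smul_mres_bijective L s U h V hV
  have h2 : L.presheaf.map (homOfLE hV).op (mres L (le_top : U ≤ ⊤) s) =
      mres L (le_top : V ≤ ⊤) s := mres_mres L (le_top : U ≤ ⊤) hV s
  simp only [h2]
  exact h1

end general

section main

open Groth.Agent.H76.Curve Groth.Agent.H62.GD Groth.Agent.H55 WithZero

variable {k : Type u} [Field k] {C : Scheme.{u}} [C.Over (Spec (CommRingCat.of k))] [IsIntegral C]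

local notation "𝒬" => CohB1.polyGrading 1 k
local notation "M1" => Twist.twist (CohB1.polyGrading 1 k) ((1 : ℕ) : ℤ)

/-- **the divisor of `f^* O(1)` is the pole divisor of `f^*(T₁/T₀)`** -/
theorem isDiv_pullback_twist (hC : GCurve k C) (f : C ⟶ CohB1.ProjSpace 1 k)
    (hgen : f (genericPoint C) = genericPoint (CohB1.ProjSpace 1 k)) :
    IsDiv hC ((Scheme.Modules.pullback f).obj M1) (poleDiv k (ffMap f hgen (xgen k))) := by
  have hK := hC.isFunctionField
  set L : C.Modules := (Scheme.Modules.pullback f).obj M1 with hLdef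
  have hM : PicF.IsInvertible M1 :=
    Groth.Agent.H18.isInvertible_twist 𝒬 (fun x => by
      obtain ⟨i, hi⟩ := exists_X_notMem k 1 x
      exact ⟨_, X_mem k 1 i, hi⟩) _
  have hL : PicF.IsInvertible L := Groth.Agent.H54.FiniteLocalPic.isInvertible_pullback f hM
  let s : Fin 2 → Γ(L, (⊤ : C.Opens)) := fun i => pullSect f M1 ⊤ (secN 𝒬 (X_mem k 1 i))
  let U : Fin 2 → C.Opens := fun i =>
    f ⁻¹ᵁ (Proj.basicOpen 𝒬 (MvPolynomial.X i : MvPolynomial (Fin 2) k))
  have hfree : ∀ i, IsFreeGen L (U i) (mres L (le_top : U i ≤ ⊤) (s i)) := fun i =>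
    isFreeGen_mres_of_isIso L (s i) (U i)
      (isIso_restrict_sectionHom_pullSect f M1 _ _
        (isIso_restrict_sectionHom_secN 𝒬 (X_mem k 1 i)))
  have hξ0 : genericPoint C ∈ U 0 :=
    mem_preimage_of_generic f hgen (LefPen.chart 1 k 0) (genericPoint_mem_chart k)
  let T : GenTriv L := ⟨U 0, hξ0, mres L (le_top : U 0 ≤ ⊤) (s 0), hfree 0⟩
  haveI := hC.compactSpace
  obtain ⟨Cv⟩ := exists_trivCover hL
  refine ⟨T, Cv, ?_⟩
  -- the relations between the two coordinate sections
  have hrel : ∀ i j : Fin 2, mres L (le_top : U i ≤ ⊤) (s j) =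
      (f.app (Proj.basicOpen 𝒬 (MvPolynomial.X i : MvPolynomial (Fin 2) k))).hom
        (fracO 𝒬 (X_mem k 1 j) (X_mem k 1 i)
          (Proj.basicOpen 𝒬 (MvPolynomial.X i : MvPolynomial (Fin 2) k)) (fun _ hx => hx)) •
        mres L (le_top : U i ≤ ⊤) (s i) := by
    intro i j
    have h1 := congrArg (pullSect f M1 _) (mres_coord k 1 i j)
    have h2 := pullSect_smul f M1 _ (fracO 𝒬 (X_mem k 1 j) (X_mem k 1 i)
      (Proj.basicOpen 𝒬 (MvPolynomial.X i : MvPolynomial (Fin 2) k)) (fun _ hx => hx))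
      (mres M1 (le_top : Proj.basicOpen 𝒬 (MvPolynomial.X i : MvPolynomial (Fin 2) k) ≤ ⊤)
        (secN 𝒬 (X_mem k 1 i)))
    have h3 := pullSect_mres f M1
      (le_top : Proj.basicOpen 𝒬 (MvPolynomial.X i : MvPolynomial (Fin 2) k) ≤ ⊤)
      (secN 𝒬 (X_mem k 1 j))
    have h4 := pullSect_mres f M1
      (le_top : Proj.basicOpen 𝒬 (MvPolynomial.X i : MvPolynomial (Fin 2) k) ≤ ⊤)
      (secN 𝒬 (X_mem k 1 i))
    refine h3.symm.trans (h1.trans (h2.trans ?_))
    exact congrArg (fun z : Γ(L, U i) =>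
      ((f.app (Proj.basicOpen 𝒬 (MvPolynomial.X i : MvPolynomial (Fin 2) k))).hom
        (fracO 𝒬 (X_mem k 1 j) (X_mem k 1 i)
          (Proj.basicOpen 𝒬 (MvPolynomial.X i : MvPolynomial (Fin 2) k)) (fun _ hx => hx)) :
        Γ(C, U i)) • z) h4
  have heps : ∀ (i j : Fin 2) (hξ : genericPoint C ∈ U i),
      T.eps ⊤ trivial (s j) = C.presheaf.germ (U i) (genericPoint C) hξ
        ((f.app (Proj.basicOpen 𝒬 (MvPolynomial.X i : MvPolynomial (Fin 2) k))).hom
          (fracO 𝒬 (X_mem k 1 j) (X_mem k 1 i)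
            (Proj.basicOpen 𝒬 (MvPolynomial.X i : MvPolynomial (Fin 2) k)) (fun _ hx => hx))) *
        T.eps ⊤ trivial (s i) := by
    intro i j hξ
    rw [← T.eps_res ⊤ (U i) le_top hξ (s j), ← T.eps_res ⊤ (U i) le_top hξ (s i)]
    change T.eps (U i) hξ (mres L (le_top : U i ≤ ⊤) (s j)) = _
    rw [hrel i j, T.eps_smul]
  have he0 : T.eps ⊤ trivial (s 0) = 1 := by
    rw [← T.eps_res ⊤ (U 0) le_top hξ0 (s 0)]
    exact T.eps_self
  have he1 : T.eps ⊤ trivial (s 1) = ffMap f hgen (xgen k) := by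
    rw [heps 0 1 hξ0, he0, mul_one]
    unfold xgen
    rw [ffMap_germ f hgen _ _ hξ0, x₀_eq_fracO]
  set t := ffMap f hgen (xgen k) with ht
  ext Q
  obtain ⟨x, rfl⟩ := placeOf_surjective hC Q
  rw [poleDiv_apply hK]
  obtain ⟨i, hi⟩ := exists_X_notMem k 1 (show ProjectiveSpectrum 𝒬 from f x.1)
  have hxi : x.1 ∈ U i := hi
  have hξi : genericPoint C ∈ U i :=
    ((genericPoint_spec C).mem_open_set_iff (U i).isOpen).mpr ⟨x.1, trivial, hxi⟩
  have hD := Cv.exp_D_of_isFreeGen hC T (hfree i) x hxi hξi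
  have hres : T.eps (U i) hξi (mres L (le_top : U i ≤ ⊤) (s i)) = T.eps ⊤ trivial (s i) :=
    T.eps_res ⊤ (U i) le_top hξi (s i)
  rw [hres] at hD
  fin_cases i
  · -- `x` lies over the chart `T₀ ≠ 0`
    change exp _ = (placeOf hC x).1 (T.eps ⊤ trivial (s 0)) at hD
    rw [he0, map_one, ← exp_zero] at hD
    have hD0 := exp_injective hD
    rw [hD0]
    have h1 : (placeOf hC x).1 t ≤ 1 := by
      rw [← he1, heps 0 1 hξ0, he0, mul_one]
      exact val_germ_le_one hC x hxi hξ0 _
    by_cases ht0 : t = 0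
    · rw [ht0, Place.ord_zero]
      simp
    · have h2 : 0 ≤ (placeOf hC x).ord t := by
        rw [Place.le_ord_iff _ ht0, neg_zero, exp_zero]
        exact h1
      change (0 : ℤ) = _
      rw [max_eq_right (by omega)]
  · -- `x` lies over the chart `T₁ ≠ 0`
    change exp _ = (placeOf hC x).1 (T.eps ⊤ trivial (s 1)) at hD
    rw [he1] at hD
    have h1 := heps 1 0 hξi
    rw [he0, he1] at h1
    have ht0 : t ≠ 0 := by
      intro h0
      rw [h0, mul_zero] at h1
      exact one_ne_zero h1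
    have h2 := val_germ_le_one hC x hxi hξi
      ((f.app (Proj.basicOpen 𝒬 (MvPolynomial.X (1 : Fin 2) : MvPolynomial (Fin 2) k))).hom
        (fracO 𝒬 (X_mem k 1 0) (X_mem k 1 1)
          (Proj.basicOpen 𝒬 (MvPolynomial.X (1 : Fin 2) : MvPolynomial (Fin 2) k))
          (fun _ hx => hx)))
    have h3 : (1 : ℤᵐ⁰) ≤ (placeOf hC x).1 t := by
      have h4 := congrArg (placeOf hC x).1 h1
      rw [map_one, map_mul] at h4
      calc (1 : ℤᵐ⁰) = _ := h4
        _ ≤ 1 * (placeOf hC x).1 t := mul_le_mul_left h2 _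
        _ = _ := one_mul _
    rw [Place.val_eq_exp_neg_ord _ ht0] at hD h3
    have hD' := exp_injective hD
    rw [← exp_zero, exp_le_exp] at h3
    rw [hD', max_eq_left h3]

end main

end Groth.Agent.H62.PM
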