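import Mathlib
import Groth.Agent.H62.OB9
import Groth.Agent.H62.PM45
import Groth.Agent.H62.PM34
import Groth.Agent.H62.PM37
import Groth.Agent.H62.FFHypSmall

/-!
# helper62, Ω-bridge part 11: on a hyperelliptic curve of genus `g`, `(f^* O(1))^{⊗ (g-1)} ≅ Ω`
-/

set_option autoImplicit false
set_option linter.style.haveILetI false
open CategoryTheory CategoryTheory.Limits AlgebraicGeometry TopologicalSpace Topology FunFld
universe u

namespace Groth.Agent.H62.OB

attribute [local instance] Curv2.stalkAlgebra Curv2.resAlgebra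

open Groth.Agent.H62.GD Groth.Agent.H76.Curve

variable (k : Type u) [Field k] (C : Scheme.{u}) [C.Over (Spec (CommRingCat.of k))]
  [IsProper (C ↘ Spec (CommRingCat.of k))] [Smooth (C ↘ Spec (CommRingCat.of k))]
  [GeometricallyConnected (C ↘ Spec (CommRingCat.of k))]

/-- **the canonical sheaf of a hyperelliptic curve** -/
theorem tensorPow_pullback_twist_iso_omega (hC : topologicalKrullDim C = 1)
    (g : ℕ) (hg2 : 2 ≤ g) (hg : Curv2.genus k C = g)
    (f : C ⟶ CohB1.ProjSpace 1 k)
    (hf : f ≫ CohB1.ProjSpace.toSpec 1 k = C ↘ Spec (CommRingCat.of k)) [IsFinite f] [Flat f]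
    (hrk : ∀ y : ↥(CohB1.ProjSpace 1 k), Scheme.Hom.finrank f y = 2) :
    Nonempty (CohB1.tensorPow ((Scheme.Modules.pullback f).obj (Twist.twistProjSpace 1 k 1))
      (g - 1) ≅ Omega.sheaf (C ↘ Spec (CommRingCat.of k))) := by
  haveI : IsIntegral C := GW.isIntegral_of_smooth_of_geometricallyConnected k C
  have hC' : GCurve k C := GW.gcurve k C hC
  have hK := hC'.isFunctionField
  have hgen := PM.generic_of_isFinite hC' f
  have hdiv := PM.isDiv_pullback_twist hC' f hgen
  have hM : PicF.IsInvertible (Twist.twist (CohB1.polyGrading 1 k) ((1 : ℕ) : ℤ)) :=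
    Groth.Agent.H18.isInvertible_twist (CohB1.polyGrading 1 k) (fun x => by
      obtain ⟨i, hi⟩ := Groth.Agent.H54.PL.exists_X_notMem k 1 x
      exact ⟨_, Groth.Agent.H54.PL.X_mem k 1 i, hi⟩) _
  have hL := Groth.Agent.H54.FiniteLocalPic.isInvertible_pullback f hM
  have hdeg := PM.finrank_adjoin_ffMap_xgen f hf hgen 2 hrk
  have htr := Groth.Agent.H62.FFHE.transcendental_of_finrank hK hdeg
  have hgen' : (g - 1) + 1 ≤ FunFld.genus k C.functionField := by
    rw [← hC'.genus_eq, hg]
    omega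
  have hLr := Groth.Agent.H18.STL.isInvertible_tensorPow hL (g - 1)
  have hdr := hdiv.tensorPow hC' (g - 1)
  apply nonempty_iso_omega k C hC _ hLr
  · rw [hdr.deg_eq hC' hLr, Groth.Agent.H55.Divisor.deg_nsmul,
      Groth.Agent.H55.deg_poleDiv hK htr, hdeg, hg]
    have : ((g - 1 : ℕ) : ℤ) = (g : ℤ) - 1 := by
      rw [Nat.cast_sub (by omega)]
      rfl
    rw [this]
    push_cast
    ring
  · rw [hdr.finrank_HH_zero hLr, Groth.Agent.H62.FFHypSmall.ell_nsmul_small hK hdeg hgen', hg]
    omega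

end Groth.Agent.H62.OB
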