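import Mathlib
import Groth.Agent.H62.OB9
import Groth.Agent.H76.CurveS1
import Groth.Agent.H76.CurveS10

/-!
# helper62, Ω-bridge part 12: `h¹(T_C) = 3g - 3`
-/

set_option autoImplicit false
set_option linter.style.haveILetI false
open CategoryTheory CategoryTheory.Limits AlgebraicGeometry TopologicalSpace Topology FunFld
universe u

namespace Groth.Agent.H62.OB

attribute [local instance] Curv2.stalkAlgebra Curv2.resAlgebra

open Groth.Agent.H62.GD Groth.Agent.H76.Curve

variable (k : Type u) [Field k] [IsAlgClosed k] (C : Scheme.{u})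
  [C.Over (Spec (CommRingCat.of k))] [IsProper (C ↘ Spec (CommRingCat.of k))]
  [Smooth (C ↘ Spec (CommRingCat.of k))] [IsIntegral C]

/-- **the first cohomology of the tangent sheaf of a curve of genus `g ≥ 2` has dimension
`3g - 3`** -/
theorem finrank_HH_one_tangent (hdim : topologicalKrullDim C = 1) (g : ℕ)
    (hg : Curv2.genus k C = g) (h2 : 2 ≤ g) (T : C.Modules)
    (hT : ClSub.IsInverseOf T (Omega.sheaf (C ↘ Spec (CommRingCat.of k)))) :
    Module.finrank k (Coh.HH C T 1) = 3 * g - 3 := by
  classical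
  have hC := gcurve_of_smooth_of_isAlgClosed k C hdim
  have hK := hC.isFunctionField
  have hΩ := isInvertible_omega_of_smooth k C hdim
  obtain ⟨W, hWdiv, hW⟩ := isDiv_omega hC hΩ
  obtain ⟨-, hWdeg⟩ := Groth.Agent.H55.canonical_ell_deg hK hW
  obtain ⟨e⟩ := hT
  have hO : PicF.IsInvertible (Coh.structureModule C) :=
    Groth.Agent.H67.ParaExt.isInvertible_structureModule
  have hTinv : PicF.IsInvertible T :=
    isInvertible_of_tensor_iso hΩ hO (Groth.Agent.H18.tensorModComm _ _ ≪≫ e)
  obtain ⟨E, hE⟩ := exists_isDiv hC hTinv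
  obtain ⟨c, hc, hc2⟩ := (hE.tensor hC hWdiv).exists_eq_add_div_of_iso hC e
    (isDiv_structureModule hC)
  have hgen : (genus k C.functionField : ℤ) = g := by
    rw [← hC.genus_eq, hg]
  have hEdeg : E.deg = 2 - 2 * (g : ℤ) := by
    have h1 := congrArg FunFld.Divisor.deg hc2
    rw [Groth.Agent.H55.Divisor.deg_zero, Groth.Agent.H55.deg_add_div hK,
      Groth.Agent.H55.Divisor.deg_add, hWdeg, hgen] at h1
    linarith
  have hEell : ell E = 0 := by
    have h2g : (2 : ℤ) ≤ g := by exact_mod_cast h2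
    have : FunFld.L E = ⊥ :=
      Groth.Agent.H55.L_eq_bot_of_deg_neg hK E (by rw [hEdeg]; linarith)
    unfold ell
    rw [this]
    exact finrank_bot k C.functionField
  have h3 := hE.finrank_HH_one hTinv
  rw [hEdeg, hEell, hgen] at h3
  have h2g : (2 : ℤ) ≤ g := by exact_mod_cast h2
  have h4 : (Module.finrank k (Coh.HH C T 1) : ℤ) = 3 * (g : ℤ) - 3 := by
    rw [h3]; push_cast; ring
  omega

end Groth.Agent.H62.OB
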