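import Mathlib
import Groth.Agent.H62.OB9
import Groth.Agent.H76.CurveM
import Groth.Agent.H76.CurveS1

/-!
# helper62, Ω-bridge part 13: morphisms of invertible modules that drop the degree vanish;
`Hom(Ω, O) = 0` on a smooth proper curve of genus `≥ 2`
-/

set_option autoImplicit false
set_option linter.style.haveILetI false
open CategoryTheory CategoryTheory.Limits AlgebraicGeometry TopologicalSpace Topology FunFld
universe u

namespace Groth.Agent.H62.OB

attribute [local instance] Curv2.stalkAlgebra Curv2.resAlgebra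

open Groth.Agent.H62.GD Groth.Agent.H76.Curve WithZero

section general

variable {k : Type u} [Field k] {C : Scheme.{u}} [C.Over (Spec (CommRingCat.of k))]
  [IsIntegral C]

/-- **a morphism of invertible modules on a curve from a module of larger degree is zero** -/
theorem hom_eq_zero_of_deg_lt (hC : GCurve k C) {L M : C.Modules} (hM : PicF.IsInvertible M)
    {D E : Divisor k C.functionField} (hD : IsDiv hC L D) (hE : IsDiv hC M E)
    (hdeg : E.deg < D.deg) (φ : L ⟶ M) : φ = 0 := by
  classical
  have hK := hC.isFunctionField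
  obtain ⟨T, Cv, rfl⟩ := hD
  obtain ⟨T', Cv', rfl⟩ := hE
  have hc : T.homConst T' φ ∈ FunFld.L (Cv'.D hC T' - Cv.D hC T) := by
    intro Q
    have h1 := TrivCover.homConst_le hC Cv T Cv' T' φ Q
    rw [Finsupp.sub_apply, sub_eq_add_neg, exp_add, exp_neg]
    have hne : (exp (Cv.D hC T Q) : ℤᵐ⁰) ≠ 0 := exp_ne_zero
    rw [← div_eq_mul_inv, le_div_iff₀ (zero_lt_iff.mpr hne)]
    exact h1
  have hbot : FunFld.L (Cv'.D hC T' - Cv.D hC T) = ⊥ :=
    Groth.Agent.H55.L_eq_bot_of_deg_neg hK _ (by
      rw [Groth.Agent.H55.Divisor.deg_sub]; linarith)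
  rw [hbot, Submodule.mem_bot] at hc
  apply Scheme.Modules.hom_ext
  intro V
  ext s
  by_cases hV : genericPoint C ∈ V
  · apply T'.eps_injective hM V hV
    rw [T.eps_hom T' φ V hV s, hc, zero_mul]
    simp
  · apply TopCat.Presheaf.section_ext ⟨M.presheaf, M.isSheaf⟩
    intro x hx
    exact absurd (((genericPoint_spec C).mem_open_set_iff V.isOpen).mpr ⟨x, trivial, hx⟩) hV

end general

variable (k : Type u) [Field k] [IsAlgClosed k] (C : Scheme.{u})
  [C.Over (Spec (CommRingCat.of k))] [IsProper (C ↘ Spec (CommRingCat.of k))]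
  [Smooth (C ↘ Spec (CommRingCat.of k))] [IsIntegral C]

/-- **a smooth proper curve of genus `≥ 2` has no nonzero vector fields** -/
theorem hom_omega_structureModule_eq_zero (hdim : topologicalKrullDim C = 1)
    (hg : 2 ≤ Curv2.genus k C)
    (θ : Omega.sheaf (C ↘ Spec (CommRingCat.of k)) ⟶ Coh.structureModule C) : θ = 0 := by
  classical
  have hC := gcurve_of_smooth_of_isAlgClosed k C hdim
  have hK := hC.isFunctionField
  have hΩ := isInvertible_omega_of_smooth k C hdim
  obtain ⟨W, hWdiv, hW⟩ := isDiv_omega hC hΩ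
  obtain ⟨-, hWdeg⟩ := Groth.Agent.H55.canonical_ell_deg hK hW
  have hO : PicF.IsInvertible (Coh.structureModule C) :=
    Groth.Agent.H67.ParaExt.isInvertible_structureModule
  refine hom_eq_zero_of_deg_lt hC hO hWdiv (isDiv_structureModule hC) ?_ θ
  rw [Groth.Agent.H55.Divisor.deg_zero, hWdeg, ← hC.genus_eq]
  have : (2 : ℤ) ≤ (Curv2.genus k C : ℤ) := by exact_mod_cast hg
  linarith

end Groth.Agent.H62.OB
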