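import Mathlib
import Groth.Agent.H62.OB5

/-!
# helper62, Ω-bridge part 6: consequences over an algebraically closed field
-/

set_option autoImplicit false
set_option linter.style.haveILetI false
open CategoryTheory CategoryTheory.Limits AlgebraicGeometry TopologicalSpace Topology FunFld
universe u

namespace Groth.Agent.H62.OB

attribute [local instance] Curv2.stalkAlgebra Curv2.resAlgebra

open Groth.Agent.H62.GD Groth.Agent.H76.Curve

variable (k : Type u) [Field k] [IsAlgClosed k] (X : Scheme.{u})
  [X.Over (Spec (CommRingCat.of k))] [IsIntegral X] [IsProper (X ↘ Spec (CommRingCat.of k))]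

/-- **the canonical sheaf of a curve of positive genus is globally generated** (algebraically
closed base field) -/
theorem omega_isGloballyGenerated_of_regular (hdim : topologicalKrullDim X = 1)
    (hreg : ∀ x : X, IsRegularLocalRing (X.presheaf.stalk x)) (hg : 1 ≤ Curv2.genus k X) :
    Curv2.IsGloballyGenerated (Omega.sheaf (X ↘ Spec (CommRingCat.of k))) := by
  classical
  have hC := gcurve_of_regular_of_isAlgClosed k X hdim hreg
  have hK := hC.isFunctionField
  obtain ⟨D, hD, hcan⟩ := exists_isDiv_omega_of_regular k X hdim hreg
  rw [IsDiv.isGloballyGenerated_iff_ell hC hD]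
  intro P
  have hgen : Curv2.genus k X = FunFld.genus k X.functionField := hC.genus_eq
  have hg1 : 0 < FunFld.genus k X.functionField := by rw [← hgen]; omega
  obtain ⟨hell, hdeg⟩ := Groth.Agent.H55.canonical_ell_deg hK hcan
  have hP : P.deg = 1 := Groth.Agent.H55.Place.deg_eq_one_of_isAlgClosed hK P
  have h1 := Groth.Agent.H55.riemann_roch hK hcan (D - Finsupp.single P 1)
  have h2 : D - (D - Finsupp.single P 1) =
      (Finsupp.single P 1 : FunFld.Divisor k X.functionField) := by
    abel
  rw [h2, Groth.Agent.H55.ell_single_one hK hg1 hP, Groth.Agent.H55.Divisor.deg_sub, hdeg,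
    Groth.Agent.H55.deg_single_of_deg_one hP] at h1
  rw [hell]
  intro h3
  rw [h3] at h1
  push_cast at h1
  omega

end Groth.Agent.H62.OB
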