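import Mathlib
import Groth.Agent.H62.OB6
import Groth.Agent.H76.CurveFF
import Groth.Agent.H76.CurveS10
import Groth.Agent.H76.CurveP

/-!
# helper62, Ω-bridge part 7: Clifford's inequality for an effective special invertible module
-/

set_option autoImplicit false
set_option linter.style.haveILetI false
open CategoryTheory CategoryTheory.Limits AlgebraicGeometry TopologicalSpace Topology FunFld
universe u

namespace Groth.Agent.H62.OB

attribute [local instance] Curv2.stalkAlgebra Curv2.resAlgebra

open Groth.Agent.H62.GD Groth.Agent.H76.Curve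

variable (k : Type u) [Field k] [IsAlgClosed k] (X : Scheme.{u})
  [X.Over (Spec (CommRingCat.of k))] [IsIntegral X] [IsProper (X ↘ Spec (CommRingCat.of k))]

/-- **Clifford's inequality** -/
theorem clifford_inequality (hdim : topologicalKrullDim X = 1)
    (hreg : ∀ x : X, IsRegularLocalRing (X.presheaf.stalk x))
    (L M : X.Modules) (hL : PicF.IsInvertible L) (hM : ClSub.IsInverseOf L M)
    (hs : Nontrivial (Coh.HH X L 0))
    (hsp : Nontrivial (Coh.HH X
      (CohB1.tensorMod (Omega.sheaf (X ↘ Spec (CommRingCat.of k))) M) 0)) :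
    2 * (Module.finrank k (Coh.HH X L 0) : ℤ) ≤ Curv2.deg k X L 1 + 2 := by
  classical
  have hC := gcurve_of_regular_of_isAlgClosed k X hdim hreg
  have hK := hC.isFunctionField
  have hΩ := isInvertible_omega_of_regular k X hdim hreg
  obtain ⟨W, hWdiv, hW⟩ := exists_isDiv_omega_of_regular k X hdim hreg
  obtain ⟨e⟩ := hM
  have hO : PicF.IsInvertible (Coh.structureModule X) :=
    Groth.Agent.H67.ParaExt.isInvertible_structureModule
  have hMinv : PicF.IsInvertible M := isInvertible_of_tensor_iso hL hO e
  obtain ⟨D, hD⟩ := exists_isDiv hC hL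
  obtain ⟨E, hE⟩ := exists_isDiv hC hMinv
  obtain ⟨c, hc, hc2⟩ := (hD.tensor hC hE).exists_eq_add_div_of_iso hC e
    (isDiv_structureModule hC)
  have hΩM : PicF.IsInvertible
      (CohB1.tensorMod (Omega.sheaf (X ↘ Spec (CommRingCat.of k))) M) :=
    Groth.Agent.H18.STL.isInvertible_tensorMod hΩ hMinv
  have hWE := hWdiv.tensor hC hE
  -- `W + E = (W - D) + div c⁻¹`
  have hE' : E = -D + div k c⁻¹ := by
    have h1 : D + E = -(div k c) := by
      have : D + E + div k c + -(div k c) = -(div k c) := by rw [← hc2, zero_add]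
      rwa [add_neg_cancel_right] at this
    have h2 : E = -D + -(div k c) := by
      rw [← h1]; abel
    rw [h2, Groth.Agent.H55.div_inv hK]
  have hWE' : W + E = (W - D) + div k c⁻¹ := by rw [hE']; abel
  have hell2 : Module.finrank k (Coh.HH X
      (CohB1.tensorMod (Omega.sheaf (X ↘ Spec (CommRingCat.of k))) M) 0) = ell (W - D) := by
    rw [hWE.finrank_HH_zero hΩM, hWE', Groth.Agent.H55.ell_add_div hK _ (inv_ne_zero hc)]
  have hell1 : Module.finrank k (Coh.HH X L 0) = ell D := hD.finrank_HH_zero hL
  have hpos1 : 0 < ell D := by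
    rw [← hell1]
    obtain ⟨f⟩ := hD.nonempty_linearEquiv_HH_zero hL
    haveI : Module.Finite k (FunFld.L D) := Groth.Agent.H55.L_finite hK _
    haveI : Module.Finite k (Coh.HH X L 0) := Module.Finite.equiv f.symm
    exact Module.finrank_pos
  have hpos2 : 0 < ell (W - D) := by
    rw [← hell2]
    obtain ⟨f⟩ := hWE.nonempty_linearEquiv_HH_zero hΩM
    haveI : Module.Finite k (FunFld.L (W + E)) := Groth.Agent.H55.L_finite hK _
    haveI : Module.Finite k (Coh.HH X
        (CohB1.tensorMod (Omega.sheaf (X ↘ Spec (CommRingCat.of k))) M) 0) :=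
      Module.Finite.equiv f.symm
    exact Module.finrank_pos
  have hLD : FunFld.L D ≠ ⊥ := (Groth.Agent.H55.ell_pos_iff hK _).mp hpos1
  have hRR := Groth.Agent.H55.riemann_roch hK hW D
  have hcl := clifford hK D hLD (by
    have : (0 : ℤ) < ell (W - D) := by exact_mod_cast hpos2
    linarith)
  rw [hell1, hD.deg_eq hC hL]
  exact hcl

end Groth.Agent.H62.OB
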