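import Mathlib
import Groth.Agent.H76.CurveK

/-!
# helper62: linearly equivalent divisors give isomorphic invertible modules on a `GCurve`

`O_C(D) ≅ O_C(D + div g)`; consequently two invertible modules whose divisors differ by a
principal divisor are isomorphic.
-/

set_option autoImplicit false
set_option linter.style.haveILetI false
open CategoryTheory CategoryTheory.Limits AlgebraicGeometry TopologicalSpace Topology FunFld Opposite
universe u

namespace Groth.Agent.H62.ODLin

attribute [local instance] Curv2.stalkAlgebra Curv2.resAlgebra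

open Groth.Agent.H8 Groth.Agent.H62 Groth.Agent.H62.GD WithZero Groth.Agent.H55
  Groth.Agent.H76.Curve

variable {k : Type u} [Field k] {C : Scheme.{u}} [C.Over (Spec (CommRingCat.of k))]
  [IsIntegral C]

variable (hC : GCurve k C) (D : Divisor k C.functionField) (g : C.functionField)

/-- the open set on which `g` generates `O_C(D)` -/
noncomputable def genOpen : C.Opens := suppCompl hC D ⊓ suppCompl hC (div k g)

theorem genericPoint_mem_genOpen : genericPoint C ∈ genOpen hC D g :=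
  ⟨genericPoint_mem_suppCompl hC D, genericPoint_mem_suppCompl hC _⟩

theorem val_g_eq (hg : g ≠ 0) (y : genOpen hC D g) (hy : IsClosed ({y.1} : Set C)) :
    (placeOf hC ⟨y.1, hy⟩).1 g = exp (D (placeOf hC ⟨y.1, hy⟩)) := by
  have h0 : D (placeOf hC ⟨y.1, hy⟩) = 0 := by
    by_contra hne
    exact y.2.1 ⟨hy, Finsupp.mem_support_iff.mpr hne⟩
  have h1 : (div k g) (placeOf hC ⟨y.1, hy⟩) = 0 := by
    by_contra hne
    exact y.2.2 ⟨hy, Finsupp.mem_support_iff.mpr hne⟩
  rw [Place.div_apply hC.isFunctionField] at h1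
  rw [h0, exp_zero, Place.val_eq_exp_neg_ord _ hg, h1, neg_zero, exp_zero]

/-- the generic trivialization of `O_C(D)` by the function `g` -/
noncomputable def ODtrivG (hg : g ≠ 0) : GenTriv (OD hC D) :=
  ⟨genOpen hC D g, genericPoint_mem_genOpen hC D g,
    ODsec (genOpen hC D g) g (fun y hy => (val_g_eq hC D g hg y hy).le),
    isFreeGen_ODsec (genOpen hC D g) g hg (val_g_eq hC D g hg)⟩

theorem ODtrivG_eps (hg : g ≠ 0) (V : C.Opens) (hξ : genericPoint C ∈ V) (s : Γ(OD hC D, V)) :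
    (ODtrivG hC D g hg).eps V hξ s * g = ODval hξ s := by
  set T := ODtrivG hC D g hg with hT
  let W : C.Opens := V ⊓ genOpen hC D g
  have hξW : genericPoint C ∈ W := ⟨hξ, genericPoint_mem_genOpen hC D g⟩
  have hWV : W ≤ V := inf_le_left
  have hWU : W ≤ T.U := inf_le_right
  obtain ⟨r, hr⟩ := T.free.exists_smul_eq hWU ((OD hC D).presheaf.map (homOfLE hWV).op s)
  haveI : Nonempty W := ⟨⟨_, hξW⟩⟩
  have h1 : ODval hξ s = C.presheaf.germ W (genericPoint C) hξW r * g := by
    have h2 := congrArg (ODval hξW) hr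
    rw [OD_smul_val, OD_map_val, OD_map_val] at h2
    have h4 : ODval (hWU hξW) T.σ = g := rfl
    rw [h4] at h2
    exact h2.symm
  rw [← T.eps_res V W hWV hξW s, ← hr, T.eps_smul, T.eps_res T.U W hWU hξW T.σ, T.eps_self,
    mul_one, h1]

/-- **`D + div g` is also a divisor of `O_C(D)`** -/
theorem isDiv_OD_add_div (hg : g ≠ 0) : IsDiv hC (OD hC D) (D + div k g) := by
  classical
  haveI := hC.compactSpace
  have h1 : ∀ x : C, ∃ (V : C.Opens) (t : C.functionField), IsAffineOpen V ∧ x ∈ V ∧ t ≠ 0 ∧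
      ∀ y : V, ∀ hy : IsClosed ({y.1} : Set C),
        (placeOf hC ⟨y.1, hy⟩).1 t = exp (D (placeOf hC ⟨y.1, hy⟩)) := by
    intro x
    obtain ⟨V, t, hxV, ht0, ht⟩ := exists_local_gen hC D x
    obtain ⟨V', hV', hxV', hV'V⟩ := exists_isAffineOpen_mem_and_subset hxV
    exact ⟨V', t, hV', hxV', ht0, fun y hy => ht ⟨y.1, hV'V y.2⟩ hy⟩
  choose V t hV hxV ht0 ht using h1
  obtain ⟨s, hs⟩ := isCompact_univ.elim_finite_subcover (fun x : C => ((V x : C.Opens) : Set C))
    (fun x => (V x).isOpen) (fun x _ => Set.mem_iUnion.2 ⟨x, hxV x⟩)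
  let Cv : TrivCover (OD hC D) :=
    { ι := {x : C // x ∈ s}
      fin := inferInstance
      U := fun i => V i.1
      haff := fun i => hV i.1
      hξ := fun i =>
        ((genericPoint_spec C).mem_open_set_iff (V i.1).isOpen).mpr ⟨i.1, trivial, hxV i.1⟩
      σ := fun i => ODsec (V i.1) (t i.1) (fun y hy => (ht i.1 y hy).le)
      free := fun i => isFreeGen_ODsec (V i.1) (t i.1) (ht0 i.1) (ht i.1)
      cov := fun x => by
        have := hs (Set.mem_univ x)
        simp only [Set.mem_iUnion] at this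
        obtain ⟨y, hy, hxy⟩ := this
        exact ⟨⟨y, hy⟩, hxy⟩ }
  refine ⟨ODtrivG hC D g hg, Cv, ?_⟩
  have hf : ∀ i, Cv.f (ODtrivG hC D g hg) i * g = t i.1 := by
    intro i
    change (ODtrivG hC D g hg).eps (V i.1) _ (ODsec (V i.1) (t i.1)
      (fun y hy => (ht i.1 y hy).le)) * g = t i.1
    rw [ODtrivG_eps]
    rfl
  ext Q
  obtain ⟨i, hi⟩ := Cv.covS hC Q
  have h1 := Cv.exp_D hC (ODtrivG hC D g hg) i Q hi
  obtain ⟨y, hy, hyQ⟩ := hi
  have h2 := ht i.1 ⟨y.1, hy⟩ y.2
  have h3 : placeOf hC ⟨y.1, y.2⟩ = Q := hyQ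
  rw [h3] at h2
  have h4 : Q.1 (Cv.f (ODtrivG hC D g hg) i) * Q.1 g = exp (D Q) := by
    rw [← map_mul, hf, h2]
  rw [← exp_inj, h1, Finsupp.add_apply, Place.div_apply hC.isFunctionField, exp_add, ← h4,
    Place.val_eq_exp_neg_ord Q hg, mul_assoc, ← exp_add, neg_add_cancel, exp_zero, mul_one]

/-- **`O_C(D) ≅ O_C(D + div g)`** -/
theorem nonempty_iso_OD_add_div (hg : g ≠ 0) : Nonempty (OD hC D ≅ OD hC (D + div k g)) :=
  IsDiv.nonempty_iso_OD hC (isDiv_OD_add_div hC D g hg)

/-- **invertible modules with linearly equivalent divisors are isomorphic** -/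
theorem nonempty_iso_of_isDiv {L L' : C.Modules} {D D' : Divisor k C.functionField}
    (h : IsDiv hC L D) (h' : IsDiv hC L' D') {g : C.functionField} (hg : g ≠ 0)
    (hD : D' = D + div k g) : Nonempty (L ≅ L') := by
  obtain ⟨e⟩ := IsDiv.nonempty_iso_OD hC h
  obtain ⟨e'⟩ := IsDiv.nonempty_iso_OD hC h'
  obtain ⟨e''⟩ := nonempty_iso_OD_add_div hC D g hg
  rw [← hD] at e''
  exact ⟨e ≪≫ e'' ≪≫ e'.symm⟩

end Groth.Agent.H62.ODLin
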