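import Mathlib
import Groth.Agent.H55.FFRiemannRoch
import Groth.Agent.H55.FFRational

/-!
# helper62: a function field of genus two is a quadratic extension of a rational function field
(the canonical map)
-/

set_option autoImplicit false
set_option linter.style.haveILetI false
open FunFld Module IntermediateField

namespace Groth.Agent.H62.PM

open Groth.Agent.H55

variable {k K : Type*} [Field k] [Field K] [Algebra k K]

/-- **genus two**: there is a function of degree two -/
theorem exists_finrank_two_of_genus_two (hK : IsFunctionField k K) (hg : genus k K = 2) :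
    ∃ t : K, finrank k⟮t⟯ K = 2 := by
  classical
  obtain ⟨C, hC⟩ := exists_canonical hK
  obtain ⟨hell, hdeg⟩ := canonical_ell_deg hK hC
  rw [hg] at hell hdeg
  have hfr : finrank k (L C) = 2 := hell
  haveI : FiniteDimensional k (L C) := FiniteDimensional.of_finrank_pos (by omega)
  -- two independent elements of `L(C)`
  obtain ⟨u, hu⟩ : ∃ u : L C, u ≠ 0 := by
    haveI : Nontrivial (L C) := Module.nontrivial_of_finrank_pos (R := k) (by omega)
    exact exists_ne 0
  obtain ⟨v, hv⟩ := exists_linearIndependent_pair_of_one_lt_finrank (R := k) (by omega) hu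
  have hu0 : (u : K) ≠ 0 := fun h => hu (Subtype.ext h)
  have hv0 : (v : K) ≠ 0 := by
    intro h
    have hv' : v = 0 := Subtype.ext h
    have := hv.ne_zero 1
    simp [hv'] at this
  set t : K := (v : K) / (u : K) with ht
  have ht0 : t ≠ 0 := div_ne_zero hv0 hu0
  have htk : t ∉ Set.range (algebraMap k K) := by
    rintro ⟨c, hc⟩
    have h1 : (v : K) = c • (u : K) := by
      rw [Algebra.smul_def, hc, ht, div_mul_cancel₀ _ hu0]
    have h2 : v = c • u := Subtype.ext h1
    have h3 := LinearIndependent.pair_iff.mp hv (-c) 1 (by rw [h2]; simp)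
    exact one_ne_zero h3.2
  have htr : Transcendental k t := transcendental_of_notMem_range hK htk
  -- the pole divisor of `t` is bounded by `C + div u`
  have hle : poleDiv k t ≤ C + FunFld.div k (u : K) := by
    intro P
    rw [poleDiv_apply hK, Finsupp.add_apply, Place.div_apply hK]
    have h1 := (mem_L_iff_ord hu0).mp u.2 P
    have h2 := (mem_L_iff_ord hv0).mp v.2 P
    have h3 : P.ord t = P.ord (v : K) - P.ord (u : K) := by
      have : (v : K) = t * (u : K) := by rw [ht, div_mul_cancel₀ _ hu0]
      rw [this, Place.ord_mul P ht0 hu0]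
      ring
    apply max_le
    · rw [h3]; linarith
    · linarith
  have hdegle := Divisor.deg_mono hle
  rw [Divisor.deg_add, deg_div hK, add_zero, hdeg, deg_poleDiv hK htr] at hdegle
  haveI := finiteDimensional_adjoin_of_transcendental hK htr
  have hpos : 0 < finrank k⟮t⟯ K := finrank_pos
  have hne1 : finrank k⟮t⟯ K ≠ 1 := by
    intro h1
    have htop : k⟮t⟯ = ⊤ := IntermediateField.finrank_eq_one_iff_eq_top.mp h1
    have := genus_eq_zero_of_adjoin_eq_top hK htop
    omega
  refine ⟨t, ?_⟩
  have : (finrank k⟮t⟯ K : ℤ) ≤ 2 := by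
    have h22 : (2 * ((2 : ℕ) : ℤ) - 2 : ℤ) = 2 := by norm_num
    rw [h22] at hdegle
    exact hdegle
  omega

end Groth.Agent.H62.PM
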