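import Mathlib
import Groth.Agent.H62.PM18

/-!
# helper62: a finite cover of the projective line by an integral curve with separable function
field extension is étale over a nonempty open of the source
-/

set_option autoImplicit false
set_option linter.style.haveILetI false
open CategoryTheory CategoryTheory.Limits AlgebraicGeometry TopologicalSpace Topology
  IntermediateField Polynomial
universe u

namespace Groth.Agent.H62.PM

section algebra

variable {k K B : Type u} [Field k] [Field K] [Algebra k K] [CommRing B] [Algebra k B]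
  [Algebra B K] [IsScalarTower k B K] [IsFractionRing B K]

/-- **generic étaleness**: if `B` is a domain, finite over `k[X]` through `X ↦ τ`, with fraction
field `K` separable over `k(t)` (`t` the image of `τ`, transcendental), then some localization
`B_g`, `g ≠ 0`, is étale over `k[X]` -/
theorem exists_etale_away (τ : B)
    (hfin : (aeval (R := k) τ).toRingHom.Finite)
    (ht : Transcendental k (algebraMap B K τ))
    (hsep : Algebra.IsSeparable k⟮algebraMap B K τ⟯ K) :
    ∃ g : B, g ≠ 0 ∧ ∀ (B' : Type u) [CommRing B'] [Algebra B B'] [IsLocalization.Away g B'],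
      ((algebraMap B B').comp (aeval (R := k) τ).toRingHom).Etale := by
  set t := algebraMap B K τ with htdef
  haveI : IsDomain B := (IsFractionRing.injective B K).isDomain (algebraMap B K)
  letI algB : Algebra k[X] B := (aeval (R := k) τ).toRingHom.toAlgebra
  haveI : Module.Finite k[X] B := hfin
  have hmem : ∀ p : k[X], aeval t p ∈ k⟮t⟯ := fun p =>
    IntermediateField.algebra_adjoin_le_adjoin k _ (Polynomial.aeval_mem_adjoin_singleton k _)
  let ψ : k[X] →+* k⟮t⟯ := (aeval (R := k) t).toRingHom.codRestrict k⟮t⟯.toSubring hmem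
  letI algKt : Algebra k[X] k⟮t⟯ := ψ.toAlgebra
  letI algK : Algebra k[X] K := (aeval (R := k) t).toRingHom.toAlgebra
  have haev : ∀ p : k[X], algebraMap B K (aeval τ p) = aeval t p := fun p => by
    rw [htdef, Polynomial.aeval_algebraMap_apply]
  haveI : IsScalarTower k[X] k⟮t⟯ K := IsScalarTower.of_algebraMap_eq (fun p => rfl)
  haveI : IsScalarTower k[X] B K := IsScalarTower.of_algebraMap_eq (fun p => (haev p).symm)
  have hinjK : Function.Injective (algebraMap k[X] K) :=
    transcendental_iff_injective.mp ht
  haveI : FaithfulSMul k[X] k⟮t⟯ := by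
    rw [faithfulSMul_iff_algebraMap_injective]
    intro p q hpq
    apply hinjK
    exact congrArg Subtype.val hpq
  haveI : IsFractionRing k[X] k⟮t⟯ := by
    apply IsFractionRing.of_field
    rintro ⟨z, hz⟩
    obtain ⟨r, s, hrs⟩ := IntermediateField.mem_adjoin_simple_iff k z |>.mp hz
    refine ⟨r, s, ?_⟩
    apply Subtype.ext
    exact hrs
  -- `K` is formally étale over `k[X]`
  haveI h1 : Algebra.FormallyEtale k[X] k⟮t⟯ :=
    Algebra.FormallyEtale.of_isLocalization (nonZeroDivisors k[X])
  haveI h2 : Algebra.FormallyEtale k⟮t⟯ K := Algebra.FormallyEtale.of_isSeparable _ _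
  haveI h3 : Algebra.FormallyEtale k[X] K := Algebra.FormallyEtale.comp k[X] k⟮t⟯ K
  -- the local ring at the zero ideal is `K`
  haveI hbot : (⊥ : Ideal B).IsPrime := Ideal.isPrime_bot
  haveI : IsLocalization (⊥ : Ideal B).primeCompl K := by
    have : (⊥ : Ideal B).primeCompl = nonZeroDivisors B := by
      ext x
      simp [Ideal.primeCompl, mem_nonZeroDivisors_iff_ne_zero]
    rw [this]
    infer_instance
  let e₀ : K ≃ₐ[B] Localization.AtPrime (⊥ : Ideal B) :=
    IsLocalization.algEquiv (⊥ : Ideal B).primeCompl K _
  let e : K ≃ₐ[k[X]] Localization.AtPrime (⊥ : Ideal B) := e₀.restrictScalars k[X]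
  haveI : Algebra.IsEtaleAt k[X] (⊥ : Ideal B) := Algebra.FormallyEtale.of_equiv e
  haveI : Algebra.FinitePresentation k[X] B :=
    Algebra.FinitePresentation.of_finiteType.mp inferInstance
  obtain ⟨g, hg, hget⟩ := Algebra.exists_etale_of_isEtaleAt (R := k[X]) (⊥ : Ideal B)
  refine ⟨g, fun h => hg (h ▸ Ideal.zero_mem _), ?_⟩
  intro B' _ _ _
  let e' : Localization.Away g ≃ₐ[B] B' := IsLocalization.algEquiv (Submonoid.powers g) _ _
  letI : Algebra k[X] B' := ((algebraMap B B').comp (aeval (R := k) τ).toRingHom).toAlgebra
  haveI : IsScalarTower k[X] B B' := IsScalarTower.of_algebraMap_eq (fun p => rfl)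
  haveI : Algebra.Etale k[X] B' := Algebra.Etale.of_equiv (e'.restrictScalars k[X])
  exact RingHom.etale_algebraMap.mpr inferInstance

end algebra

end Groth.Agent.H62.PM
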