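import Mathlib
import Groth.Agent.H62.PM19

/-!
# helper62: generic étaleness of a separable finite cover of the projective line (scheme level)
-/

set_option autoImplicit false
set_option linter.style.haveILetI false
open CategoryTheory CategoryTheory.Limits AlgebraicGeometry TopologicalSpace Topology
  IntermediateField Polynomial
universe u

namespace Groth.Agent.H62.PM

attribute [local instance] Curv2.stalkAlgebra Curv2.resAlgebra

variable {k : Type u} [Field k] {C : Scheme.{u}} [C.Over (Spec (CommRingCat.of k))] [IsIntegral C]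

open Groth.Agent.H11.FtChart

/-- **generic étaleness** -/
theorem exists_etale_open (f : C ⟶ CohB1.ProjSpace 1 k) [IsFinite f]
    (hf : f ≫ CohB1.ProjSpace.toSpec 1 k = C ↘ Spec (CommRingCat.of k))
    (hmem : genericPoint C ∈ f ⁻¹ᵁ LefPen.chart 1 k 0) (t : C.functionField)
    (ht : (C.presheaf.germ _ (genericPoint C) hmem).hom (HC.tau f) = t)
    (htr : Transcendental k t) (hsep : Algebra.IsSeparable k⟮t⟯ C.functionField) :
    ∃ V : C.Opens, (V : Set C).Nonempty ∧ Etale (V.ι ≫ f) := by
  set U := LefPen.chart 1 k 0 with hUdef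
  have hU : IsAffineOpen U := HC.P1.isAffineOpen_chart k
  set W := f ⁻¹ᵁ U with hWdef
  have hW : IsAffineOpen W := hU.preimage f
  haveI : Nonempty W := ⟨⟨_, hmem⟩⟩
  letI := secAlgebra k C W
  haveI := HC.isScalarTower_sec (k := k) W
  haveI : IsFractionRing Γ(C, W) C.functionField :=
    functionField_isFractionRing_of_isAffineOpen C W hW
  have hfin := HC.aeval_tau_finite f hf
  have htτ : algebraMap Γ(C, W) C.functionField (HC.tau f) = t := ht
  obtain ⟨g, hg0, hget⟩ := exists_etale_away (K := C.functionField) (HC.tau f) hfin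
    (by rw [htτ]; exact htr) (by rw [htτ]; exact hsep)
  set V := C.basicOpen g with hVdef
  have hVW : V ≤ W := C.basicOpen_le g
  have hV : IsAffineOpen V := hW.basicOpen g
  haveI := hW.isLocalization_basicOpen g
  have h1 := hget Γ(C, V)
  rw [HC.aeval_tau_eq f hf] at h1
  -- remove the chart isomorphism
  let e : Polynomial k ≃+* Γ(CohB1.ProjSpace 1 k, U) :=
    RingEquiv.ofBijective (HC.P1.chartRingHom k) (HC.P1.chartRingHom_bijective k)
  have h2 : (f.appLE U V hVW).hom.Etale := by
    have h3 := RingHom.Etale.respectsIso.2 _ e.symm h1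
    have h4 : ((algebraMap Γ(C, W) Γ(C, V)).comp
        ((f.app U).hom.comp (HC.P1.chartRingHom k))).comp e.symm.toRingHom =
        (f.appLE U V hVW).hom := by
      ext x
      simp only [RingHom.comp_apply, RingEquiv.toRingHom_eq_coe, RingHom.coe_coe]
      have : HC.P1.chartRingHom k (e.symm x) = x := e.apply_symm_apply x
      rw [this]
      rfl
    rwa [h4] at h3
  refine ⟨V, ?_, ?_⟩
  · by_contra hemp
    rw [Set.not_nonempty_iff_eq_empty] at hemp
    have hbot : V = ⊥ := Opens.ext hemp
    have : g = 0 := (AlgebraicGeometry.basicOpen_eq_bot_iff g).mp hbot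
    exact hg0 this
  · haveI : IsAffine (V : Scheme.{u}) := hV
    haveI : IsAffine (U : Scheme.{u}) := hU
    have h5 : Etale (f.resLE U V hVW) := by
      rw [HasRingHomProperty.iff_of_isAffine (P := @Etale)]
      exact (RingHom.Etale.propertyIsLocal.respectsIso.arrow_mk_iso_iff
        (arrowResLEAppIso f U V hVW)).mpr h2
    rw [← Scheme.Hom.resLE_comp_ι f hVW]
    infer_instance

end Groth.Agent.H62.PM
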