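import Mathlib
import Groth.Statements.S7812
import Groth.Agent.H62.PM12
import Groth.Agent.H62.PM16
import Groth.Agent.H62.PM20

/-!
# helper62: a smooth proper geometrically connected curve of genus two over an arbitrary field is a
generically étale double cover of the projective line (assembly for S7812)
-/

set_option autoImplicit false
set_option linter.style.haveILetI false
universe u
open CategoryTheory CategoryTheory.Limits AlgebraicGeometry

namespace Groth.Agent.H62.PM

attribute [local instance] Curv2.stalkAlgebra Curv2.resAlgebra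

theorem hyperelliptic_of_genus_two (k : Type u) [Field k] {C : Scheme.{u}}
    (p : C ⟶ Spec (CommRingCat.of k)) [IsProper p] [Smooth p] [GeometricallyConnected p] (hC : topologicalKrullDim C = 1)
    (hg : @Curv2.genus k _ C ⟨p⟩ = 2) :
    ∃ f : C ⟶ CohB1.ProjSpace 1 k, f ≫ CohB1.ProjSpace.toSpec 1 k = p ∧ IsFinite f ∧ Flat f ∧
      (∀ y : ↥(CohB1.ProjSpace 1 k), Scheme.Hom.finrank f y = 2) ∧ ∃ V : C.Opens, (V : Set C).Nonempty ∧ Etale (V.ι ≫ f) := by
  classical
  letI : C.Over (Spec (CommRingCat.of k)) := ⟨p⟩
  haveI : IsProper (C ↘ Spec (CommRingCat.of k)) := ‹IsProper p›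
  haveI : Smooth (C ↘ Spec (CommRingCat.of k)) := ‹Smooth p›
  haveI : GeometricallyConnected (C ↘ Spec (CommRingCat.of k)) := ‹GeometricallyConnected p›
  haveI : IsIntegral C := Groth.Agent.H62.GW.isIntegral_of_smooth_of_geometricallyConnected k C
  have hGC : Groth.Agent.H62.GD.GCurve k C := Groth.Agent.H62.GW.gcurve k C hC
  have hP : Groth.Agent.H62.GD.PCurve k C := hGC.toPCurve
  have hK := hGC.isFunctionField
  have hgen : FunFld.genus k C.functionField = 2 := by
    rw [← hGC.genus_eq]
    exact hg
  obtain ⟨t, hdeg⟩ := exists_finrank_two_of_genus_two hK hgen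
  have htr : Transcendental k t := Groth.Agent.H62.FFHE.transcendental_of_finrank hK hdeg
  obtain ⟨f, hmem, hf, hgenpt, htau⟩ := exists_hom hP t htr
  haveI hfin : IsFinite f := isFinite_of_generic hP f hf hgenpt
  haveI hflat : Flat f := flat_of_generic f hgenpt
  have hrank : ∀ y : ↥(CohB1.ProjSpace 1 k), Scheme.Hom.finrank f y = 2 :=
    fun y => (finrank_eq_of_generic f hf hmem t htau htr y).trans hdeg
  have hg1 : 1 ≤ Curv2.genus k C := by
    have : Curv2.genus k C = 2 := hg
    omega
  have hsep := isSeparable_of_finrank_two k C hC hg1 t hdeg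
  obtain ⟨V, hV, het⟩ := exists_etale_open f hf hmem t htau htr hsep
  exact ⟨f, hf, hfin, hflat, hrank, V, hV, het⟩

end Groth.Agent.H62.PM
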