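import Mathlib
import Groth.Agent.H62.PM22
import Groth.Agent.H62.GD2
import Groth.Agent.H55.FFAut

/-!
# helper62: an automorphism of a curve, its action on the function field, and the places of the
fixed closed points
-/

set_option autoImplicit false
set_option linter.style.haveILetI false
set_option linter.unusedSectionVars false
open CategoryTheory CategoryTheory.Limits AlgebraicGeometry TopologicalSpace Topology FunFld
universe u

namespace Groth.Agent.H62.PM

attribute [local instance] Curv2.stalkAlgebra Curv2.resAlgebra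

open Groth.Agent.H55

variable {k : Type u} [Field k] {C : Scheme.{u}} [C.Over (Spec (CommRingCat.of k))] [IsIntegral C]

/-- the map of function fields is compatible with the maps of local rings -/
theorem ffMap_algebraMap_stalk (σ : C ⟶ C) (hσ : σ (genericPoint C) = genericPoint C) (x : C)
    (z : C.presheaf.stalk (σ x)) :
    ffMap σ hσ (algebraMap (C.presheaf.stalk (σ x)) C.functionField z) =
      algebraMap (C.presheaf.stalk x) C.functionField ((σ.stalkMap x).hom z) := by
  have hsp : genericPoint C ⤳ x := (genericPoint_spec C).specializes trivial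
  have hsp' : genericPoint C ⤳ σ x := (genericPoint_spec C).specializes trivial
  have h1 := Scheme.Hom.stalkSpecializes_stalkMap σ (genericPoint C) x hsp
  have h2 : C.presheaf.stalkSpecializes hsp' ≫
      C.presheaf.stalkSpecializes (specializes_of_eq hσ) =
      C.presheaf.stalkSpecializes (σ.base.hom.map_specializes hsp) := by
    rw [TopCat.Presheaf.stalkSpecializes_comp]
  have h3 : C.presheaf.stalkSpecializes hsp' ≫
      (C.presheaf.stalkSpecializes (specializes_of_eq hσ) ≫ σ.stalkMap (genericPoint C)) =
      σ.stalkMap x ≫ C.presheaf.stalkSpecializes hsp := by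
    rw [← Category.assoc, h2, h1]
  exact congrArg (fun g => g.hom z) h3

variable (hC : GD.GCurve k C)
include hC

/-- the place of the image point is the pulled-back place -/
theorem placeOf_map (σ : C ⟶ C) (hσ : σ (genericPoint C) = genericPoint C)
    (σK : C.functionField ≃ₐ[k] C.functionField) (hσK : ∀ z, σK z = ffMap σ hσ z)
    (x : C) (hx : IsClosed ({x} : Set C)) (hσx : IsClosed ({σ x} : Set C)) :
    GD.placeOf hC ⟨σ x, hσx⟩ = Place.comapAlg (GD.placeOf hC ⟨x, hx⟩) σK := by
  apply Place.eq_of_le
  intro z hz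
  obtain ⟨a, rfl⟩ := (GD.placeOf_le_one_iff hC ⟨σ x, hσx⟩ z).mp hz
  rw [Place.comapAlg_val, hσK, ffMap_algebraMap_stalk σ hσ x a]
  exact (GD.placeOf_le_one_iff hC ⟨x, hx⟩ _).mpr ⟨_, rfl⟩

theorem isClosed_map_of_involution (σ : C ⟶ C) (hinv : σ ≫ σ = 𝟙 C) (x : C)
    (hx : IsClosed ({x} : Set C)) : IsClosed ({σ x} : Set C) := by
  have hσσ : ∀ y : C, σ (σ y) = y := by
    intro y
    rw [← Scheme.Hom.comp_apply, hinv]
    rfl
  have : ({σ x} : Set C) = σ ⁻¹' {x} := by
    ext y
    simp only [Set.mem_singleton_iff, Set.mem_preimage]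
    constructor
    · rintro rfl
      exact hσσ x
    · intro h
      rw [← h, hσσ]
  rw [this]
  exact hx.preimage σ.continuous

/-- a closed point is fixed iff its place is fixed -/
theorem fixed_iff (σ : C ⟶ C) (hσ : σ (genericPoint C) = genericPoint C)
    (hinv : σ ≫ σ = 𝟙 C)
    (σK : C.functionField ≃ₐ[k] C.functionField) (hσK : ∀ z, σK z = ffMap σ hσ z)
    (x : C) (hx : IsClosed ({x} : Set C)) :
    σ x = x ↔ Place.comapAlg (GD.placeOf hC ⟨x, hx⟩) σK = GD.placeOf hC ⟨x, hx⟩ := by
  have hσx := isClosed_map_of_involution hC σ hinv x hx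
  rw [← placeOf_map hC σ hσ σK hσK x hx hσx]
  constructor
  · intro h
    congr 1
    exact Subtype.ext h
  · intro h
    exact congrArg Subtype.val (GD.placeOf_injective hC h)

/-- **the fixed closed points of an involution correspond to the fixed places** -/
theorem card_fixed_points (σ : C ⟶ C) (hσ : σ (genericPoint C) = genericPoint C)
    (hinv : σ ≫ σ = 𝟙 C)
    (σK : C.functionField ≃ₐ[k] C.functionField) (hσK : ∀ z, σK z = ffMap σ hσ z) :
    Nat.card {x : C // IsClosed ({x} : Set C) ∧ σ x = x} =
      Nat.card {Q : Place k C.functionField // Place.comapAlg Q σK = Q} := by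
  let e₁ : {x : C // IsClosed ({x} : Set C) ∧ σ x = x} ≃
      {x : {x : C // IsClosed ({x} : Set C)} // σ x.1 = x.1} :=
    { toFun := fun x => ⟨⟨x.1, x.2.1⟩, x.2.2⟩
      invFun := fun x => ⟨x.1.1, x.1.2, x.2⟩
      left_inv := fun x => rfl
      right_inv := fun x => rfl }
  let e₂ : {x : {x : C // IsClosed ({x} : Set C)} // σ x.1 = x.1} ≃
      {Q : Place k C.functionField // Place.comapAlg Q σK = Q} :=
    (GD.placeEquiv hC).subtypeEquiv (fun x => by
      rw [GD.placeEquiv_apply]
      exact fixed_iff hC σ hσ hinv σK hσK x.1 x.2)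
  exact Nat.card_congr (e₁.trans e₂)

end Groth.Agent.H62.PM
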