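import Mathlib
import Groth.Agent.H62.PM20
import Groth.Agent.H62.PM23
import Groth.Agent.H62.PM24
import Groth.Agent.H62.FFInvol5
import Groth.Agent.H62.FFHE
import Groth.Agent.H62.GD4

/-!
# helper62: hyperelliptic curves over an algebraically closed field of characteristic `≠ 2` are the
curves with an involution with `2g + 2` fixed points (assembly for S7870)
-/

set_option autoImplicit false
set_option linter.style.haveILetI false
set_option linter.unusedSectionVars false
open CategoryTheory CategoryTheory.Limits AlgebraicGeometry TopologicalSpace Topology FunFld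
  IntermediateField
universe u

namespace Groth.Agent.H62.PM

attribute [local instance] Curv2.stalkAlgebra Curv2.resAlgebra

open Groth.Agent.H55

variable {k : Type u} [Field k] {C : Scheme.{u}} [C.Over (Spec (CommRingCat.of k))] [IsIntegral C]

/-- the generator of `k(t)` generates it -/
theorem adjoin_gen_eq_top {K : Type*} [Field K] [Algebra k K] (t : K) :
    k⟮AdjoinSimple.gen k t⟯ = (⊤ : IntermediateField k k⟮t⟯) := by
  apply IntermediateField.map_injective (k⟮t⟯.val)
  rw [adjoin_map, Set.image_singleton, ← AlgHom.fieldRange_eq_map, fieldRange_val]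
  rfl

/-- **from an involution with `2g + 2` fixed points to a double cover of the line** -/
theorem hyperelliptic_of_involution [IsAlgClosed k] (h2 : (2 : k) ≠ 0) (hGC : GD.GCurve k C)
    (g : ℕ) (hg : Curv2.genus k C = g)
    (σ : C ⟶ C) (hσk : σ ≫ (C ↘ Spec (CommRingCat.of k)) = C ↘ Spec (CommRingCat.of k))
    (hinv : σ ≫ σ = 𝟙 C)
    (hcard : Nat.card {x : C // IsClosed ({x} : Set C) ∧ σ x = x} = 2 * g + 2) :
    ∃ f : C ⟶ CohB1.ProjSpace 1 k,
      f ≫ CohB1.ProjSpace.toSpec 1 k = C ↘ Spec (CommRingCat.of k) ∧ IsFinite f ∧ Flat f ∧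
      (∀ y : ↥(CohB1.ProjSpace 1 k), Scheme.Hom.finrank f y = 2) ∧
      ∃ V : C.Opens, (V : Set C).Nonempty ∧ Etale (V.ι ≫ f) := by
  classical
  have hP : GD.PCurve k C := hGC.toPCurve
  have hK := hGC.isFunctionField
  have hσσ : ∀ y : C, σ (σ y) = y := by
    intro y
    rw [← Scheme.Hom.comp_apply, hinv]
    rfl
  have hσg : σ (genericPoint C) = genericPoint C :=
    generic_of_surjective σ (fun y => ⟨σ y, hσσ y⟩)
  set σA := ffAlgHom σ hσg hσk with hσA
  have hff : ∀ z, ffMap σ hσg (ffMap σ hσg z) = z := by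
    intro z
    have huv : (σ ≫ σ) (genericPoint C) = genericPoint C := by rw [hinv]; rfl
    have h1 := ffMap_comp σ σ hσg hσg huv
    have h2' := ffMap_congr hinv huv
    rw [h1] at h2'
    have h3 := h2'.trans ffMap_id
    exact congrArg (fun f => f z) h3
  have hcomp : σA.comp σA = AlgHom.id k C.functionField := by
    ext z
    exact hff z
  set σK : C.functionField ≃ₐ[k] C.functionField := AlgEquiv.ofAlgHom σA σA hcomp hcomp with hσK
  have hσKap : ∀ z, σK z = ffMap σ hσg z := fun z => rfl
  have hσ2 : ∀ z, σK (σK z) = z := hff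
  have hcardK := card_fixed_points hGC σ hσg hinv σK hσKap
  rw [hcard] at hcardK
  have hσ1 : ∃ w, σK w ≠ w := by
    by_contra hno
    push Not at hno
    have hall : ∀ Q : Place k C.functionField, Place.comapAlg Q σK = Q := fun Q =>
      Place.ext' (fun x => by rw [Place.comapAlg_val, hno])
    haveI := Groth.Agent.H62.FFSepPlaces.infinite_places hK
    haveI : Infinite {Q : Place k C.functionField // Place.comapAlg Q σK = Q} :=
      Infinite.of_injective (fun Q => ⟨Q, hall Q⟩) (fun a b h => congrArg Subtype.val h)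
    have h0 : Nat.card {Q : Place k C.functionField // Place.comapAlg Q σK = Q} = 0 :=
      Nat.card_eq_zero_of_infinite
    omega
  obtain ⟨hF, hdegF, hform⟩ := Groth.Agent.H62.FFInvol.involution_main hK h2 σK hσ2 hσ1
  rw [← hcardK, ← hGC.genus_eq, hg] at hform
  have hgF : genus k (Groth.Agent.H62.FFInvol.fixedField σK) = 0 := by
    push_cast at hform
    have : (genus k (Groth.Agent.H62.FFInvol.fixedField σK) : ℤ) = 0 := by linarith
    exact_mod_cast this
  obtain ⟨P⟩ := exists_place hF
  obtain ⟨x, hx⟩ := (genus_zero_iff hF).mp ⟨hgF, P, Place.deg_eq_one_of_isAlgClosed hF P⟩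
  set t : C.functionField := (x : C.functionField) with ht
  have hdeg : Module.finrank k⟮t⟯ C.functionField = 2 := by
    have h1 := finrank_adjoin_algebraMap (k := k)
      (K := Groth.Agent.H62.FFInvol.fixedField σK) (K' := C.functionField) x
    rw [hx, IntermediateField.finrank_top, one_mul, hdegF] at h1
    exact h1
  have htr : Transcendental k t := Groth.Agent.H62.FFHE.transcendental_of_finrank hK hdeg
  obtain ⟨f, hmem, hf, hgenpt, htau⟩ := exists_hom hP t htr
  haveI hfin : IsFinite f := isFinite_of_generic hP f hf hgenpt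
  haveI hflat : Flat f := flat_of_generic f hgenpt
  have hrank : ∀ y : ↥(CohB1.ProjSpace 1 k), Scheme.Hom.finrank f y = 2 :=
    fun y => (finrank_eq_of_generic f hf hmem t htau htr y).trans hdeg
  have h2t : (2 : k⟮t⟯) ≠ 0 := Groth.Agent.H62.FFInvol.two_ne_zero_K (K := k⟮t⟯) h2
  have hsep := Groth.Agent.H62.FFInvol.isSeparable_of_finrank_two h2t hdeg
  obtain ⟨V, hV, het⟩ := exists_etale_open f hf hmem t htau htr hsep
  exact ⟨f, hf, hfin, hflat, hrank, V, hV, het⟩

/-- **from a double cover of the line to an involution with `2g + 2` fixed points** -/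
theorem involution_of_hyperelliptic [IsAlgClosed k] (h2 : (2 : k) ≠ 0) (hGC : GD.GCurve k C)
    (g : ℕ) (hg : Curv2.genus k C = g)
    (f : C ⟶ CohB1.ProjSpace 1 k)
    (hf : f ≫ CohB1.ProjSpace.toSpec 1 k = C ↘ Spec (CommRingCat.of k))
    [IsFinite f] [Flat f] (hr : ∀ y : ↥(CohB1.ProjSpace 1 k), Scheme.Hom.finrank f y = 2) :
    ∃ σ : C ⟶ C, σ ≫ (C ↘ Spec (CommRingCat.of k)) = C ↘ Spec (CommRingCat.of k) ∧
      σ ≫ σ = 𝟙 C ∧
      Nat.card {x : C // IsClosed ({x} : Set C) ∧ σ x = x} = 2 * g + 2 := by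
  classical
  have hP : GD.PCurve k C := hGC.toPCurve
  have hK := hGC.isFunctionField
  haveI := hP.proper
  have hgen := generic_of_finrank f (fun y => by rw [hr y]; omega)
  have hm := mem_preimage_of_generic f hgen (LefPen.chart 1 k 0) (genericPoint_mem_chart k)
  set t := (C.presheaf.germ _ (genericPoint C) hm).hom (HC.tau f) with ht
  have htr : Transcendental k t := transcendental_tau f hf hm
  have hdeg : Module.finrank k⟮t⟯ C.functionField = 2 := by
    rw [← finrank_eq_of_generic f hf hm t rfl htr (genericPoint _)]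
    exact hr _
  haveI : FiniteDimensional k⟮t⟯ C.functionField := Module.finite_of_finrank_pos (by omega)
  have h2t : (2 : k⟮t⟯) ≠ 0 := Groth.Agent.H62.FFInvol.two_ne_zero_K (K := k⟮t⟯) h2
  obtain ⟨y, u, hyu, hy⟩ := Groth.Agent.H62.FFInvol.exists_sqrt_of_finrank_two h2t hdeg
  obtain ⟨σF, hσy⟩ := Groth.Agent.H62.FFQuad.exists_algEquiv_neg hdeg hy hyu
  set σK : C.functionField ≃ₐ[k] C.functionField := σF.restrictScalars k with hσK
  have hσ2 : ∀ z, σK (σK z) = z := fun z => Groth.Agent.H62.FFInvol.conj_conj hdeg hy σF hσy z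
  obtain ⟨σ, ⟨hσk, hσg, hstalk⟩, -⟩ := Groth.Agent.S4445.result k C C
    (fun x hx => hP.ringKrullDim_stalk x hx) (isNormalScheme hP)
    (fun x hx => hP.ringKrullDim_stalk x hx) (σK : C.functionField →ₐ[k] C.functionField)
  have hσKap : ∀ z, σK z = ffMap σ hσg z := fun z =>
    (congrArg (fun φ => φ z) hstalk).symm
  have huv : (σ ≫ σ) (genericPoint C) = genericPoint C := by
    rw [Scheme.Hom.comp_apply, hσg, hσg]
  have hinv : σ ≫ σ = 𝟙 C := by
    refine hom_ext_of_ffMap hP (fun x hx => hP.ringKrullDim_stalk x hx) (σ ≫ σ) (𝟙 C) huv rfl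
      (by rw [Category.assoc, hσk, hσk]) (Category.id_comp _) ?_
    rw [ffMap_comp σ σ hσg hσg huv, ffMap_id]
    ext z
    change ffMap σ hσg (ffMap σ hσg z) = z
    rw [← hσKap, ← hσKap, hσ2]
  refine ⟨σ, hσk, hinv, ?_⟩
  rw [card_fixed_points hGC σ hσg hinv σK hσKap]
  have hF : IsFunctionField k k⟮t⟯ := Groth.Agent.H62.FFInvol.isFunctionField_of_finite hK
  have hform := Groth.Agent.H62.FFInvol.card_fixed_add hF hK hdeg h2 hyu hy σF hσy
  have hg0 : genus k k⟮t⟯ = 0 := genus_eq_zero_of_adjoin_eq_top hF (adjoin_gen_eq_top t)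
  rw [hg0, ← hGC.genus_eq, hg] at hform
  have hcast : (Nat.card {Q : Place k C.functionField // Place.comapK Q σF = Q} : ℤ) =
      2 * g + 2 := by
    push_cast at hform
    linarith
  have : Nat.card {Q : Place k C.functionField // Place.comapK Q σF = Q} = 2 * g + 2 := by
    exact_mod_cast hcast
  exact this

end Groth.Agent.H62.PM
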