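import Mathlib
import Groth.Agent.H62.PM26
import Groth.Agent.H62.FFEllAut
import Groth.Agent.H62.FFSepPlaces1
import Groth.Agent.H62.GD4

/-!
# helper62: a curve of genus one over an algebraically closed field has infinitely many
automorphisms (assembly for S14473)
-/

set_option autoImplicit false
set_option linter.style.haveILetI false
set_option linter.unusedSectionVars false
open CategoryTheory CategoryTheory.Limits AlgebraicGeometry TopologicalSpace Topology FunFld
universe u

namespace Groth.Agent.H62.PM

attribute [local instance] Curv2.stalkAlgebra Curv2.resAlgebra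

open Groth.Agent.H55

variable {k : Type u} [Field k] {C : Scheme.{u}} [C.Over (Spec (CommRingCat.of k))] [IsIntegral C]

theorem infinite_aut_of_genus_one [IsAlgClosed k] (hGC : GD.GCurve k C)
    (hg : Curv2.genus k C = 1) :
    Infinite {e : C ≅ C // e.hom ≫ (C ↘ Spec (CommRingCat.of k)) =
      C ↘ Spec (CommRingCat.of k)} := by
  classical
  have hP : GD.PCurve k C := hGC.toPCurve
  have hK := hGC.isFunctionField
  have hgen : genus k C.functionField = 1 := by
    rw [← hGC.genus_eq]
    exact hg
  obtain ⟨P₀⟩ := exists_place hK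
  choose σ hσ using fun Q => Groth.Agent.H62.FFEllAut.exists_algEquiv_comapAlg_eq hK hgen P₀ Q
  choose e he hek hff using fun Q => exists_iso_of_algEquiv hP hP (σ Q)
  haveI := Groth.Agent.H62.FFSepPlaces.infinite_places hK
  let F : Place k C.functionField → {e : C ≅ C // e.hom ≫ (C ↘ Spec (CommRingCat.of k)) =
      C ↘ Spec (CommRingCat.of k)} := fun Q => ⟨e Q, hek Q⟩
  apply Infinite.of_injective F
  intro Q Q' hQQ
  have h1 : e Q = e Q' := congrArg Subtype.val hQQ
  have h2 : ffMap (e Q).hom (he Q) = ffMap (e Q').hom (he Q') :=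
    ffMap_congr (congrArg Iso.hom h1) (he Q)
  rw [hff Q, hff Q'] at h2
  rw [← hσ Q, ← hσ Q']
  apply Place.ext'
  intro x
  rw [Place.comapAlg_val, Place.comapAlg_val]
  have h3 : σ Q x = σ Q' x := congrArg (fun ψ => ψ x) h2
  rw [h3]

end Groth.Agent.H62.PM
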