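import Mathlib
import Groth.Agent.H62.PM26
import Groth.Agent.H62.PM28
import Groth.Agent.H62.FFUniq4
import Groth.Agent.H62.GD4

/-!
# helper62: a curve of genus at least two has at most one double cover of a curve of genus zero,
up to isomorphism of the target
-/

set_option autoImplicit false
set_option linter.style.haveILetI false
open CategoryTheory CategoryTheory.Limits AlgebraicGeometry TopologicalSpace Topology
universe u

namespace Groth.Agent.H62.PM

attribute [local instance] Curv2.stalkAlgebra Curv2.resAlgebra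

variable {k : Type u} [Field k] {C P₁ P₂ : Scheme.{u}} [C.Over (Spec (CommRingCat.of k))]
  [P₁.Over (Spec (CommRingCat.of k))] [P₂.Over (Spec (CommRingCat.of k))]
  [IsIntegral C] [IsIntegral P₁] [IsIntegral P₂]

/-- **uniqueness of the double cover of a genus zero curve** -/
theorem doubleCover_unique (hC : GD.GCurve k C) (h₁ : GD.GCurve k P₁) (h₂ : GD.GCurve k P₂)
    (hg : 2 ≤ Curv2.genus k C) (hg₁ : Curv2.genus k P₁ = 0) (hg₂ : Curv2.genus k P₂ = 0)
    (f₁ : C ⟶ P₁) (hf₁ : f₁ ≫ (P₁ ↘ Spec (CommRingCat.of k)) = C ↘ Spec (CommRingCat.of k))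
    [IsFinite f₁] [Flat f₁] (hr₁ : ∀ y : P₁, Scheme.Hom.finrank f₁ y = 2)
    (f₂ : C ⟶ P₂) (hf₂ : f₂ ≫ (P₂ ↘ Spec (CommRingCat.of k)) = C ↘ Spec (CommRingCat.of k))
    [IsFinite f₂] [Flat f₂] (hr₂ : ∀ y : P₂, Scheme.Hom.finrank f₂ y = 2) :
    ∃ e : P₁ ≅ P₂, e.hom ≫ (P₂ ↘ Spec (CommRingCat.of k)) = P₁ ↘ Spec (CommRingCat.of k) ∧
      f₁ ≫ e.hom = f₂ := by
  haveI := h₁.proper
  haveI := h₂.proper
  haveI : IsLocallyNoetherian P₁ :=
    LocallyOfFiniteType.isLocallyNoetherian (P₁ ↘ Spec (CommRingCat.of k))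
  haveI : IsLocallyNoetherian P₂ :=
    LocallyOfFiniteType.isLocallyNoetherian (P₂ ↘ Spec (CommRingCat.of k))
  haveI : LocallyOfFinitePresentation f₁ := inferInstance
  haveI : LocallyOfFinitePresentation f₂ := inferInstance
  have hs₁ : Surjective f₁ :=
    (Scheme.Hom.one_le_finrank_iff_surjective f₁).mp (fun y => by rw [hr₁ y]; norm_num)
  have hs₂ : Surjective f₂ :=
    (Scheme.Hom.one_le_finrank_iff_surjective f₂).mp (fun y => by rw [hr₂ y]; norm_num)
  have hgen₁ : f₁ (genericPoint C) = genericPoint P₁ := generic_of_surjective f₁ hs₁.surj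
  have hgen₂ : f₂ (genericPoint C) = genericPoint P₂ := generic_of_surjective f₂ hs₂.surj
  letI alg₁ : Algebra P₁.functionField C.functionField := (ffMap f₁ hgen₁).toAlgebra
  letI alg₂ : Algebra P₂.functionField C.functionField := (ffMap f₂ hgen₂).toAlgebra
  haveI : IsScalarTower k P₁.functionField C.functionField :=
    IsScalarTower.of_algebraMap_eq (fun c => (ffMap_algebraMap f₁ hgen₁ hf₁ c).symm)
  haveI : IsScalarTower k P₂.functionField C.functionField :=
    IsScalarTower.of_algebraMap_eq (fun c => (ffMap_algebraMap f₂ hgen₂ hf₂ c).symm)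
  have hdeg₁ : Module.finrank P₁.functionField C.functionField = 2 := by
    rw [← finrank_eq_finrank_ffMap f₁ hgen₁ (genericPoint P₁)]
    exact hr₁ _
  have hdeg₂ : Module.finrank P₂.functionField C.functionField = 2 := by
    rw [← finrank_eq_finrank_ffMap f₂ hgen₂ (genericPoint P₂)]
    exact hr₂ _
  haveI : FiniteDimensional P₁.functionField C.functionField :=
    Module.finite_of_finrank_pos (by rw [hdeg₁]; norm_num)
  haveI : FiniteDimensional P₂.functionField C.functionField :=
    Module.finite_of_finrank_pos (by rw [hdeg₂]; norm_num)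
  have hgK : 2 ≤ FunFld.genus k C.functionField := by rw [← hC.genus_eq]; exact hg
  have hgF₁ : FunFld.genus k P₁.functionField = 0 := by rw [← h₁.genus_eq]; exact hg₁
  have hgF₂ : FunFld.genus k P₂.functionField = 0 := by rw [← h₂.genus_eq]; exact hg₂
  have hrange := Groth.Agent.H62.FFUniq.range_eq_of_genus_zero_index_two
    h₁.isFunctionField h₂.isFunctionField hC.isFunctionField hdeg₁ hgF₁ hdeg₂ hgF₂ hgK
  -- the isomorphism of function fields
  set ι₁ : P₁.functionField →ₐ[k] C.functionField := ffAlgHom f₁ hgen₁ hf₁ with hι₁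
  set ι₂ : P₂.functionField →ₐ[k] C.functionField := ffAlgHom f₂ hgen₂ hf₂ with hι₂
  have hR : ι₂.fieldRange = ι₁.fieldRange := by
    apply SetLike.ext'
    rw [AlgHom.coe_fieldRange, AlgHom.coe_fieldRange]
    exact hrange.symm
  let e₁ := AlgEquiv.ofInjectiveField ι₁
  let e₂ := AlgEquiv.ofInjectiveField ι₂
  let φ : P₂.functionField ≃ₐ[k] P₁.functionField :=
    e₂.trans ((IntermediateField.equivOfEq hR).trans e₁.symm)
  have hφ : ∀ z, ι₁ (φ z) = ι₂ z := by
    intro z
    have h1 : ∀ w : ι₁.fieldRange, ι₁ (e₁.symm w) = w.1 := fun w =>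
      congrArg Subtype.val (e₁.apply_symm_apply w)
    exact h1 _
  obtain ⟨e, he, hek, heφ⟩ := exists_iso_of_algEquiv h₁.toPCurve h₂.toPCurve φ
  refine ⟨e, hek, ?_⟩
  have hgen' : (f₁ ≫ e.hom) (genericPoint C) = genericPoint P₂ := by
    rw [Scheme.Hom.comp_apply, hgen₁, he]
  refine hom_ext_of_ffMap hC.toPCurve (fun y hy => h₂.ringKrullDim_stalk y hy) (f₁ ≫ e.hom) f₂
    hgen' hgen₂ (by rw [Category.assoc, hek, hf₁]) hf₂ ?_
  rw [ffMap_comp f₁ e.hom hgen₁ he hgen', heφ]
  ext z
  exact hφ z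

end Groth.Agent.H62.PM
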