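import Mathlib
import Groth.Agent.H62.PM30
import Groth.Agent.H62.FFOddDeg
import Groth.Agent.H62.GW2
import Groth.Agent.H76.CurveH

/-!
# helper62: a smooth proper geometrically irreducible curve of genus zero carrying an invertible
module of odd degree is the projective line
-/

set_option autoImplicit false
set_option linter.style.haveILetI false
open CategoryTheory CategoryTheory.Limits AlgebraicGeometry TopologicalSpace Topology
  IntermediateField
universe u

namespace Groth.Agent.H62.PM

attribute [local instance] Curv2.stalkAlgebra Curv2.resAlgebra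

theorem geometricallyConnected_of_geometricallyIrreducible {X Y : Scheme.{u}} (f : X ⟶ Y)
    [h : GeometricallyIrreducible f] : GeometricallyConnected f :=
  ⟨fun K _ y Z fst snd hpb => by
    haveI : IrreducibleSpace Z := h.geometrically_irreducibleSpace y fst snd hpb
    infer_instance⟩

variable {k : Type u} [Field k] {X : Scheme.{u}} [X.Over (Spec (CommRingCat.of k))] [IsIntegral X]

/-- a `GCurve` of genus zero with an invertible module of odd degree is the projective line -/
theorem exists_iso_P1_of_odd_deg (hC : GD.GCurve k X) (hg : Curv2.genus k X = 0)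
    (L : X.Modules) (hL : PicF.IsInvertible L) (hodd : Odd (Curv2.deg k X L 1)) :
    ∃ e : X ≅ CohB1.ProjSpace 1 k,
      e.hom ≫ CohB1.ProjSpace.toSpec 1 k = X ↘ Spec (CommRingCat.of k) := by
  obtain ⟨D, hD⟩ := Groth.Agent.H76.Curve.exists_isDiv hC hL
  have hdeg := Groth.Agent.H76.Curve.IsDiv.deg_eq hC hL hD
  rw [hdeg] at hodd
  have hgK : FunFld.genus k X.functionField = 0 := by rw [← hC.genus_eq]; exact hg
  obtain ⟨x, hx⟩ := Groth.Agent.H62.FFOddDeg.exists_adjoin_eq_top_of_odd_deg
    hC.isFunctionField hgK D hodd
  exact exists_iso_P1_of_adjoin_eq_top' hC hx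

end Groth.Agent.H62.PM
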