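import Mathlib
import Groth.Agent.H62.PM32

/-!
# helper62: Lüroth's theorem for curves, scheme version
-/

set_option autoImplicit false
set_option linter.style.haveILetI false
open CategoryTheory CategoryTheory.Limits AlgebraicGeometry TopologicalSpace Topology
  IntermediateField
universe u

namespace Groth.Agent.H62.PM

attribute [local instance] Curv2.stalkAlgebra Curv2.resAlgebra

/-- **Lüroth for curves**: a connected normal separated curve of finite type over `k` receiving a
nonconstant morphism from the projective line is the projective line -/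
theorem luroth_curve (k : Type u) [Field k] {X : Scheme.{u}}
    (p : X ⟶ Spec (CommRingCat.of k)) [IsSeparated p] [LocallyOfFiniteType p] [QuasiCompact p]
    [ConnectedSpace X] (hN : Pi1.IsNormalScheme X) (hdim : topologicalKrullDim X = 1)
    (f : CohB1.ProjSpace 1 k ⟶ X) (hf : f ≫ p = CohB1.ProjSpace.toSpec 1 k)
    (hnc : ∃ a b : ↥(CohB1.ProjSpace 1 k), f.base a ≠ f.base b) :
    ∃ e : X ≅ CohB1.ProjSpace 1 k, e.hom ≫ CohB1.ProjSpace.toSpec 1 k = p := by
  letI : X.Over (Spec (CommRingCat.of k)) := ⟨p⟩
  haveI : LocallyOfFiniteType (X ↘ Spec (CommRingCat.of k)) := ‹LocallyOfFiniteType p›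
  haveI : IsLocallyNoetherian X := LocallyOfFiniteType.isLocallyNoetherian p
  haveI : IsIntegral X :=
    Groth.Agent.H62.GW.isIntegral_of_connected_of_isDomain_stalk (fun x => (hN x).1)
  haveI : CompactSpace X := QuasiCompact.compactSpace_of_compactSpace p
  haveI hfp : IsProper (f ≫ p) := by
    rw [hf]
    exact Groth.Agent.H54.LS.isProper_toSpec k 1
  haveI : IsProper f := IsProper.of_comp f p
  have hcl : Groth.Agent.H22.CurveFibres.IsCurveLike X :=
    fun x hx => ringKrullDim_stalk_of_dim k X hdim x hx
  -- the generic point goes to the generic point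
  have hgen : f (genericPoint (CohB1.ProjSpace 1 k)) = genericPoint X := by
    rcases Groth.Agent.H22.CurveFibres.isClosed_or_eq_genericPoint hcl
      (f (genericPoint (CohB1.ProjSpace 1 k))) with hc | hc
    · exfalso
      obtain ⟨a, b, hab⟩ := hnc
      have key : ∀ c : ↥(CohB1.ProjSpace 1 k), f c = f (genericPoint (CohB1.ProjSpace 1 k)) := by
        intro c
        have h1 : genericPoint (CohB1.ProjSpace 1 k) ⤳ c :=
          (genericPoint_spec (CohB1.ProjSpace 1 k)).specializes trivial
        have h2 := h1.map f.continuous
        exact h2.mem_closed hc (Set.mem_singleton _)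
      exact hab ((key a).trans (key b).symm)
    · exact hc
  -- surjectivity
  have hsurj : Function.Surjective f := by
    have hclr : IsClosed (Set.range f) := (Scheme.Hom.isClosedMap f).isClosed_range
    intro x
    have h1 : genericPoint X ⤳ x := (genericPoint_spec X).specializes trivial
    exact h1.mem_closed hclr ⟨_, hgen⟩
  haveI : Surjective f := ⟨hsurj⟩
  haveI : UniversallyClosed p := UniversallyClosed.of_comp_surjective f p
  haveI hpp : IsProper p := { }
  have hP : GD.PCurve k X := PCurve.of_normal hpp hdim hN
  let ι : X.functionField →ₐ[k] (CohB1.ProjSpace 1 k).functionField := ffAlgHom f hgen hf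
  obtain ⟨x, hx⟩ := exists_adjoin_eq_top_of_algHom ι
  exact exists_iso_P1_of_adjoin_eq_top hP (PCurve.transcendental_of_adjoin_eq_top hP hx) hx

end Groth.Agent.H62.PM
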