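import Mathlib
import Groth.Agent.H62.PM35
import Groth.Agent.H62.FFCS
import Groth.Agent.H76.CurveS2

/-!
# helper62: uniqueness of double covers onto curves of small genus (Castelnuovo–Severi)
-/

set_option autoImplicit false
set_option linter.style.haveILetI false
open CategoryTheory CategoryTheory.Limits AlgebraicGeometry TopologicalSpace Topology
universe u

namespace Groth.Agent.H62.PM

attribute [local instance] Curv2.stalkAlgebra Curv2.resAlgebra

variable {k : Type u} [Field k] {C P₁ P₂ : Scheme.{u}} [C.Over (Spec (CommRingCat.of k))]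
  [P₁.Over (Spec (CommRingCat.of k))] [P₂.Over (Spec (CommRingCat.of k))]
  [IsIntegral C] [IsIntegral P₁] [IsIntegral P₂]

/-- **uniqueness of the double cover of a curve of small genus** -/
theorem doubleCover_unique_of_genus_lt [IsAlgClosed k] [CharZero k]
    (hC : GD.GCurve k C) (h₁ : GD.GCurve k P₁) (h₂ : GD.GCurve k P₂)
    (hg : 2 * Curv2.genus k P₁ + 2 * Curv2.genus k P₂ + 1 < Curv2.genus k C)
    (f₁ : C ⟶ P₁) (hf₁ : f₁ ≫ (P₁ ↘ Spec (CommRingCat.of k)) = C ↘ Spec (CommRingCat.of k))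
    [IsFinite f₁] [Flat f₁] (hr₁ : ∀ y : P₁, Scheme.Hom.finrank f₁ y = 2)
    (f₂ : C ⟶ P₂) (hf₂ : f₂ ≫ (P₂ ↘ Spec (CommRingCat.of k)) = C ↘ Spec (CommRingCat.of k))
    [IsFinite f₂] [Flat f₂] (hr₂ : ∀ y : P₂, Scheme.Hom.finrank f₂ y = 2) :
    ∃ e : P₁ ≅ P₂, e.hom ≫ (P₂ ↘ Spec (CommRingCat.of k)) = P₁ ↘ Spec (CommRingCat.of k) ∧
      f₁ ≫ e.hom = f₂ := by
  haveI := h₁.proper
  haveI := h₂.proper
  haveI : IsLocallyNoetherian P₁ :=
    LocallyOfFiniteType.isLocallyNoetherian (P₁ ↘ Spec (CommRingCat.of k))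
  haveI : IsLocallyNoetherian P₂ :=
    LocallyOfFiniteType.isLocallyNoetherian (P₂ ↘ Spec (CommRingCat.of k))
  haveI : LocallyOfFinitePresentation f₁ := inferInstance
  haveI : LocallyOfFinitePresentation f₂ := inferInstance
  have hs₁ : Surjective f₁ :=
    (Scheme.Hom.one_le_finrank_iff_surjective f₁).mp (fun y => by rw [hr₁ y]; norm_num)
  have hs₂ : Surjective f₂ :=
    (Scheme.Hom.one_le_finrank_iff_surjective f₂).mp (fun y => by rw [hr₂ y]; norm_num)
  have hgen₁ : f₁ (genericPoint C) = genericPoint P₁ := generic_of_surjective f₁ hs₁.surj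
  have hgen₂ : f₂ (genericPoint C) = genericPoint P₂ := generic_of_surjective f₂ hs₂.surj
  refine exists_iso_of_range_eq hC.toPCurve h₁.toPCurve h₂.toPCurve f₁ hf₁ f₂ hf₂ hgen₁ hgen₂ ?_
  letI alg₁ : Algebra P₁.functionField C.functionField := (ffMap f₁ hgen₁).toAlgebra
  letI alg₂ : Algebra P₂.functionField C.functionField := (ffMap f₂ hgen₂).toAlgebra
  haveI : IsScalarTower k P₁.functionField C.functionField :=
    IsScalarTower.of_algebraMap_eq (fun c => (ffMap_algebraMap f₁ hgen₁ hf₁ c).symm)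
  haveI : IsScalarTower k P₂.functionField C.functionField :=
    IsScalarTower.of_algebraMap_eq (fun c => (ffMap_algebraMap f₂ hgen₂ hf₂ c).symm)
  have hdeg₁ : Module.finrank P₁.functionField C.functionField = 2 := by
    rw [← finrank_eq_finrank_ffMap f₁ hgen₁ (genericPoint P₁)]
    exact hr₁ _
  have hdeg₂ : Module.finrank P₂.functionField C.functionField = 2 := by
    rw [← finrank_eq_finrank_ffMap f₂ hgen₂ (genericPoint P₂)]
    exact hr₂ _
  haveI : FiniteDimensional P₁.functionField C.functionField :=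
    Module.finite_of_finrank_pos (by rw [hdeg₁]; norm_num)
  haveI : FiniteDimensional P₂.functionField C.functionField :=
    Module.finite_of_finrank_pos (by rw [hdeg₂]; norm_num)
  by_contra hne
  have hcs := Groth.Agent.H62.FFCS.castelnuovo_severi_two
    h₁.isFunctionField h₂.isFunctionField hC.isFunctionField hdeg₁ hdeg₂ hne
  rw [← hC.genus_eq, ← h₁.genus_eq, ← h₂.genus_eq] at hcs
  have : (Curv2.genus k C : ℤ) ≤ 2 * Curv2.genus k P₁ + 2 * Curv2.genus k P₂ + 1 := hcs
  omega

end Groth.Agent.H62.PM
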