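import Mathlib
import Groth.Agent.H62.ODLin
import Groth.Agent.H62.FFLinEq
import Groth.Agent.H76.CurveS2
import Groth.Agent.H18.HH0Sections
import Groth.Prelude.Def_LinSer

/-!
# helper62: uniqueness of the `g¹₂` on a curve of genus at least two
-/

set_option autoImplicit false
set_option linter.style.haveILetI false
open CategoryTheory CategoryTheory.Limits AlgebraicGeometry TopologicalSpace Topology Opposite
universe u

namespace Groth.Agent.H62.PM

attribute [local instance] Curv2.stalkAlgebra Curv2.resAlgebra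

variable {k : Type u} [Field k] {X : Scheme.{u}} [X.Over (Spec (CommRingCat.of k))]

/-- linearly independent global sections bound `h⁰` from below -/
theorem le_finrank_HH_zero_of_linIndep {L : X.Modules}
    (hfin : Module.Finite k (Coh.HH X L 0)) {n : ℕ} (s : Fin n → LinSer.Sect X L)
    (hs : LinSer.LinIndep k X L s) : n ≤ Module.finrank k (Coh.HH X L 0) := by
  have hli : LinearIndependent k (fun i => (Groth.Agent.H18.HH0.equiv L).symm (s i)) := by
    rw [Fintype.linearIndependent_iff]
    intro c hc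
    have h1 := congrArg (Groth.Agent.H18.HH0.equiv L) hc
    rw [map_sum, map_zero] at h1
    have h2 : ∀ i, Groth.Agent.H18.HH0.equiv L (c i • (Groth.Agent.H18.HH0.equiv L).symm (s i)) =
        Coh.toGlobal (X ↘ Spec (CommRingCat.of k)) (c i) • s i := by
      intro i
      rw [Groth.Agent.H18.HH0.smul_def', Groth.Agent.H18.HH0.equiv_smul,
        AddEquiv.apply_symm_apply]
    simp_rw [h2] at h1
    exact fun i => congrFun (hs c h1) i
  have := hli.fintype_card_le_finrank
  simpa using this

variable [IsIntegral X]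

/-- **uniqueness of the `g¹₂`** -/
theorem g12_unique (hC : GD.GCurve k X) (hg : 2 ≤ Curv2.genus k X)
    (M : X.Modules) (s : Fin 2 → LinSer.Sect X M) (hM : LinSer.IsLinSer k X M 2 1 s)
    (M' : X.Modules) (s' : Fin 2 → LinSer.Sect X M') (hM' : LinSer.IsLinSer k X M' 2 1 s') :
    Nonempty (M ≅ M') := by
  obtain ⟨hMinv, hMdeg, hMli⟩ := hM
  obtain ⟨hM'inv, hM'deg, hM'li⟩ := hM'
  obtain ⟨D, hD⟩ := Groth.Agent.H76.Curve.exists_isDiv hC hMinv
  obtain ⟨D', hD'⟩ := Groth.Agent.H76.Curve.exists_isDiv hC hM'inv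
  have hdeg : D.deg = 2 := by
    rw [← Groth.Agent.H76.Curve.IsDiv.deg_eq hC hMinv hD, hMdeg]
    rfl
  have hdeg' : D'.deg = 2 := by
    rw [← Groth.Agent.H76.Curve.IsDiv.deg_eq hC hM'inv hD', hM'deg]
    rfl
  have hell : 2 ≤ FunFld.ell D := by
    rw [← hD.finrank_HH_zero hMinv]
    exact le_finrank_HH_zero_of_linIndep (hD.finite_HH_zero hMinv) s hMli
  have hell' : 2 ≤ FunFld.ell D' := by
    rw [← hD'.finrank_HH_zero hM'inv]
    exact le_finrank_HH_zero_of_linIndep (hD'.finite_HH_zero hM'inv) s' hM'li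
  have hgK : 2 ≤ FunFld.genus k X.functionField := by rw [← hC.genus_eq]; exact hg
  obtain ⟨g, hg0, hgD⟩ := Groth.Agent.H62.FFLinEq.exists_div_eq_of_deg_two hC.isFunctionField hgK
    hdeg hell hdeg' hell'
  exact Groth.Agent.H62.ODLin.nonempty_iso_of_isDiv hC hD hD' hg0 hgD

end Groth.Agent.H62.PM
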