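import Mathlib
import Groth.Agent.H62.PM37
import Groth.Agent.H62.ConstField
import Groth.Agent.H62.FFDegOne
import Groth.Agent.H95.EulerPn
import Groth.Agent.H71.CohBC.HHIso

/-!
# helper62: a normal projective curve is the projective line iff it carries an invertible module of
degree one with two independent sections
-/

set_option autoImplicit false
set_option linter.style.haveILetI false
open CategoryTheory CategoryTheory.Limits AlgebraicGeometry TopologicalSpace Topology
  IntermediateField
universe u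

namespace Groth.Agent.H62.PM

attribute [local instance] Curv2.stalkAlgebra Curv2.resAlgebra

/-- `h⁰(P¹, O) = 1` -/
theorem finrank_HH_zero_P1 (k : Type u) [Field k] :
    Module.finrank k (Coh.HH (CohB1.ProjSpace 1 k)
      (Coh.structureModule (CohB1.ProjSpace 1 k)) 0) = 1 := by
  obtain ⟨e0⟩ := Groth.Agent.H18.nonempty_twist_zero_iso (CohB1.polyGrading 1 k)
  obtain ⟨e⟩ := Groth.Agent.H18.PSL.nonempty_HH0_linearEquiv 1 k 0
  have h := Groth.Agent.H95.TopCech.finrank_homogeneousSubmodule k 1 0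
  have h1 := (Groth.Agent.H71.CohBC.hhLinearEquivOfIso k (CohB1.ProjSpace 1 k) e0 0).finrank_eq
  have h2 := e.finrank_eq
  rw [h] at h2
  exact h1.symm.trans h2

variable {k : Type u} [Field k] {X Y : Scheme.{u}} [X.Over (Spec (CommRingCat.of k))]
  [Y.Over (Spec (CommRingCat.of k))]

/-- `h⁰(O)` is invariant under isomorphisms over `k` -/
theorem finrank_HH_zero_of_iso (e : X ≅ Y)
    (he : e.hom ≫ (Y ↘ Spec (CommRingCat.of k)) = X ↘ Spec (CommRingCat.of k)) :
    Module.finrank k (Coh.HH X (Coh.structureModule X) 0) =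
      Module.finrank k (Coh.HH Y (Coh.structureModule Y) 0) := by
  letI : Module k (Coh.Γtop X) := Module.compHom _ (Coh.toGlobal (X ↘ Spec (CommRingCat.of k)))
  letI : Module k (Coh.Γtop Y) := Module.compHom _ (Coh.toGlobal (Y ↘ Spec (CommRingCat.of k)))
  rw [(Groth.Agent.H62.GW.hh0Equiv k X).finrank_eq, (Groth.Agent.H62.GW.hh0Equiv k Y).finrank_eq]
  have hcomp : ∀ c : k, e.hom.appTop.hom (Coh.toGlobal (Y ↘ Spec (CommRingCat.of k)) c) =
      Coh.toGlobal (X ↘ Spec (CommRingCat.of k)) c := by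
    intro c
    unfold Coh.toGlobal
    have h1 : (Y ↘ Spec (CommRingCat.of k)).appTop ≫ e.hom.appTop =
        (X ↘ Spec (CommRingCat.of k)).appTop := by
      rw [← Scheme.Hom.comp_appTop, he]
    have h3 : ((Scheme.ΓSpecIso (CommRingCat.of k)).inv ≫ (Y ↘ Spec (CommRingCat.of k)).appTop ≫
        e.hom.appTop).hom c =
        ((Scheme.ΓSpecIso (CommRingCat.of k)).inv ≫ (X ↘ Spec (CommRingCat.of k)).appTop).hom c := by
      rw [h1]
    exact h3
  haveI : IsIso e.hom.appTop := inferInstanceAs (IsIso (e.hom.app ⊤))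
  let φ : Coh.Γtop Y ≃+* Coh.Γtop X := (asIso e.hom.appTop).commRingCatIsoToRingEquiv
  let ψ : Coh.Γtop Y ≃ₗ[k] Coh.Γtop X :=
    { φ.toAddEquiv with
      map_smul' := fun c a => by
        change φ (Coh.toGlobal (Y ↘ Spec (CommRingCat.of k)) c * a) =
          Coh.toGlobal (X ↘ Spec (CommRingCat.of k)) c * φ a
        rw [map_mul]
        congr 1
        exact hcomp c }
  exact ψ.finrank_eq.symm

theorem iso_P1_iff_deg_one (k : Type u) [Field k] (X : Scheme.{u})
    [X.Over (Spec (CommRingCat.of k))]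
    (hprojX : ∃ (N : ℕ) (i : X ⟶ CohB1.ProjSpace N k), IsClosedImmersion i ∧
      i ≫ CohB1.ProjSpace.toSpec N k = X ↘ (Spec (CommRingCat.of k)))
    [IsIntegral X] (hdim : topologicalKrullDim X = 1) (hn : Pi1.IsNormalScheme X) :
    (∃ e : X ≅ CohB1.ProjSpace 1 k,
        e.hom ≫ CohB1.ProjSpace.toSpec 1 k = X ↘ (Spec (CommRingCat.of k))) ↔
      ∃ L : X.Modules, PicF.IsInvertible L ∧ Curv2.deg k X L 1 = 1 ∧
        2 ≤ Module.finrank k (Coh.HH X L 0) := by
  classical
  have hproper : IsProper (X ↘ Spec (CommRingCat.of k)) := by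
    obtain ⟨N, i, hi, hcomp⟩ := hprojX
    rw [← hcomp]
    haveI := hi
    haveI : IsProper (CohB1.ProjSpace.toSpec N k) :=
      Groth.Agent.H54.LS.isProper_toSpec k N
    infer_instance
  haveI := hproper
  have hP : Groth.Agent.H62.GD.PCurve k X := PCurve.of_normal hproper hdim hn
  constructor
  · rintro ⟨e, he⟩
    have h0 : Module.finrank k (Coh.HH X (Coh.structureModule X) 0) = 1 := by
      rw [finrank_HH_zero_of_iso e he]
      exact finrank_HH_zero_P1 k
    have hC : Groth.Agent.H62.GD.GCurve k X := hP.gcurve h0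
    have hK := hC.isFunctionField
    have hgen : e.hom (genericPoint X) = genericPoint (CohB1.ProjSpace 1 k) :=
      genericPoint_eq_of_isOpenImmersion e.hom
    have hgen' : e.inv (genericPoint (CohB1.ProjSpace 1 k)) = genericPoint X :=
      genericPoint_eq_of_isOpenImmersion e.inv
    set x := ffMap e.hom hgen (xgen k) with hx
    have hsurj : Function.Surjective (ffMap e.hom hgen) := by
      intro z
      refine ⟨ffMap e.inv hgen' z, ?_⟩
      have h1 := ffMap_comp e.hom e.inv hgen hgen' (by rw [e.hom_inv_id]; rfl)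
      have h2 : ffMap (e.hom ≫ e.inv) (by rw [e.hom_inv_id]; rfl) = ffMap (𝟙 X) rfl :=
        ffMap_congr e.hom_inv_id _
      rw [h2, ffMap_id] at h1
      exact (RingHom.congr_fun h1 z).symm
    have htop : k⟮x⟯ = ⊤ := by
      have h1 := range_ffMap_P1 e.hom he hgen
      rw [hsurj.range_eq] at h1
      exact SetLike.coe_injective h1.symm
    have htr := Groth.Agent.H55.transcendental_of_adjoin_eq_top hK htop
    set D : FunFld.Divisor k X.functionField := Groth.Agent.H55.poleDiv k x with hD
    have hLinv := Groth.Agent.H76.Curve.isInvertible_OD hC D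
    have hdiv := Groth.Agent.H76.Curve.isDiv_OD hC D
    refine ⟨Groth.Agent.H76.Curve.OD hC D, hLinv, ?_, ?_⟩
    · rw [Groth.Agent.H76.Curve.IsDiv.deg_eq hC hLinv hdiv, hD,
        Groth.Agent.H55.deg_poleDiv hK htr, finrank_eq_one_iff_eq_top.mpr htop]
      rfl
    · rw [hdiv.finrank_HH_zero hLinv]
      exact Groth.Agent.H62.FFDegOne.two_le_ell_poleDiv hK htr
  · rintro ⟨L, hL, hLdeg, hLsec⟩
    haveI : UniversallyClosed (X ↘ Spec (CommRingCat.of k)) := inferInstance
    have h0 : Module.finrank k (Coh.HH X (Coh.structureModule X) 0) = 1 :=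
      Groth.Agent.H62.ConstField.finrank_HH_zero_eq_one_of_deg_eq_one k X L 1 hLdeg
    have hC : Groth.Agent.H62.GD.GCurve k X := hP.gcurve h0
    have hK := hC.isFunctionField
    obtain ⟨D, hD⟩ := Groth.Agent.H76.Curve.exists_isDiv hC hL
    have hdeg : D.deg = 1 := by
      rw [← Groth.Agent.H76.Curve.IsDiv.deg_eq hC hL hD, hLdeg]
    have hell : 2 ≤ FunFld.ell D := by
      rw [← hD.finrank_HH_zero hL]
      exact hLsec
    obtain ⟨t, ht⟩ := Groth.Agent.H62.FFDegOne.exists_adjoin_eq_top hK D hdeg hell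
    exact exists_iso_P1_of_adjoin_eq_top' hC ht

end Groth.Agent.H62.PM
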