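import Mathlib
import Groth.Agent.H62.PM26
import Groth.Agent.H62.PM24
import Groth.Agent.H62.FFEllInvol
import Groth.Agent.H62.ODLin
import Groth.Agent.H76.CurveN
import Groth.Agent.H76.CurveS2

/-!
# helper62: on a curve of genus one (char `≠ 2`), for any two closed points `P`, `Q` there is an
involution `σ` with `σ P = Q` and `I_R ⊗ I_{σ R} ≅ I_P ⊗ I_Q` for every closed point `R`
-/

set_option autoImplicit false
set_option linter.style.haveILetI false
open CategoryTheory CategoryTheory.Limits AlgebraicGeometry TopologicalSpace Topology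
  IntermediateField FunFld
universe u

namespace Groth.Agent.H62.PM

attribute [local instance] Curv2.stalkAlgebra Curv2.resAlgebra

open Groth.Agent.H55 Groth.Agent.H76.Curve

variable {k : Type u} [Field k] {X : Scheme.{u}} [X.Over (Spec (CommRingCat.of k))] [IsIntegral X]

theorem exists_involution_swapping [IsAlgClosed k] (hC : GD.GCurve k X)
    (hg : Curv2.genus k X = 1) (h2 : (2 : k) ≠ 0)
    (P Q : X) (hP : IsClosed ({P} : Set X)) (hQ : IsClosed ({Q} : Set X)) :
    ∃ σ : X ≅ X, σ.hom ≫ (X ↘ (Spec (CommRingCat.of k))) = (X ↘ (Spec (CommRingCat.of k))) ∧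
      σ.hom ≫ σ.hom = 𝟙 X ∧ σ.hom P = Q ∧
      ∀ (R R' : X) (hR : IsClosed ({R} : Set X)) (hR' : IsClosed ({R'} : Set X)),
        σ.hom R = R' →
        Nonempty (CohB1.tensorMod
            (ClSub.idealMod (Scheme.IdealSheafData.vanishingIdeal ⟨{R}, hR⟩))
            (ClSub.idealMod (Scheme.IdealSheafData.vanishingIdeal ⟨{R'}, hR'⟩)) ≅
          CohB1.tensorMod (ClSub.idealMod (Scheme.IdealSheafData.vanishingIdeal ⟨{P}, hP⟩))
            (ClSub.idealMod (Scheme.IdealSheafData.vanishingIdeal ⟨{Q}, hQ⟩))) := by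
  classical
  have hK := hC.isFunctionField
  have hgK : FunFld.genus k X.functionField = 1 := by rw [← hC.genus_eq]; exact hg
  obtain ⟨σK, hinvK, hPQ, hlin⟩ := Groth.Agent.H62.FFEllInvol.exists_involution hK hgK h2
    (GD.placeOf hC ⟨P, hP⟩) (GD.placeOf hC ⟨Q, hQ⟩)
  obtain ⟨σ, hσgen, hσk, hσφ⟩ := exists_iso_of_algEquiv hC.toPCurve hC.toPCurve σK
  have hσK : ∀ z, σK z = ffMap σ.hom hσgen z := fun z => (RingHom.congr_fun hσφ z).symm
  have hσσgen : (σ.hom ≫ σ.hom) (genericPoint X) = genericPoint X := by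
    rw [Scheme.Hom.comp_apply, hσgen, hσgen]
  haveI := hC.proper
  have hinv : σ.hom ≫ σ.hom = 𝟙 X := by
    refine hom_ext_of_ffMap hC.toPCurve (fun x hx => hC.ringKrullDim_stalk x hx)
      (σ.hom ≫ σ.hom) (𝟙 X) hσσgen rfl (by rw [Category.assoc, hσk, hσk])
      (Category.id_comp _) ?_
    rw [ffMap_comp σ.hom σ.hom hσgen hσgen hσσgen, ffMap_id]
    ext z
    rw [RingHom.comp_apply, ← hσK, ← hσK, hinvK]
    rfl
  refine ⟨σ, hσk, hinv, ?_, ?_⟩
  · have hσP := isClosed_map_of_involution hC σ.hom hinv P hP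
    have h1 := placeOf_map hC σ.hom hσgen σK hσK P hP hσP
    rw [hPQ] at h1
    exact congrArg Subtype.val (GD.placeOf_injective hC h1)
  · intro R R' hR hR' hRR'
    subst hRR'
    have h1 := placeOf_map hC σ.hom hσgen σK hσK R hR hR'
    obtain ⟨g, hg0, hgeq⟩ := hlin (GD.placeOf hC ⟨R, hR⟩)
    rw [← h1] at hgeq
    have hd1 := (isDiv_pointIdeal hC R hR).tensor hC (isDiv_pointIdeal hC (σ.hom R) hR')
    have hd2 := (isDiv_pointIdeal hC P hP).tensor hC (isDiv_pointIdeal hC Q hQ)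
    refine Groth.Agent.H62.ODLin.nonempty_iso_of_isDiv hC hd1 hd2 (g := g) hg0 ?_
    unfold negPt
    have h3 : Finsupp.single (GD.placeOf hC ⟨P, hP⟩) (1 : ℤ) +
        Finsupp.single (GD.placeOf hC ⟨Q, hQ⟩) 1 =
        Finsupp.single (GD.placeOf hC ⟨R, hR⟩) 1 +
          Finsupp.single (GD.placeOf hC ⟨σ.hom R, hR'⟩) 1 - div k g := by
      rw [hgeq]
      abel
    rw [← neg_add, ← neg_add, h3]
    abel

end Groth.Agent.H62.PM
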