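import Mathlib
import Groth.Agent.H62.FFEllPic
import Groth.Agent.H62.ODLin
import Groth.Agent.H62.GW2
import Groth.Agent.H76.CurveN

/-!
# helper62: on a curve of genus one with a rational point `O`, every invertible module of degree
zero is `O_X(P - O)` for a unique rational point `P`
-/

set_option autoImplicit false
set_option linter.style.haveILetI false
open CategoryTheory CategoryTheory.Limits AlgebraicGeometry TopologicalSpace Topology
  IntermediateField FunFld
universe u

namespace Groth.Agent.H62.PM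

attribute [local instance] Curv2.stalkAlgebra Curv2.resAlgebra

open Groth.Agent.H55 Groth.Agent.H76.Curve

variable {k : Type u} [Field k] {X : Scheme.{u}} [X.Over (Spec (CommRingCat.of k))]

/-- a point is rational iff its residue field has degree one -/
theorem bijective_resMap_iff (x : X) :
    Function.Bijective (Curv2.resMap k X x) ↔ Module.finrank k (X.residueField x) = 1 := by
  constructor
  · intro h
    have e : k ≃ₗ[k] X.residueField x :=
      LinearEquiv.ofBijective (Algebra.linearMap k (X.residueField x)) h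
    rw [← e.finrank_eq, Module.finrank_self]
  · intro h
    refine ⟨(Curv2.resMap k X x).injective, ?_⟩
    have h1 := Subalgebra.bot_eq_top_of_finrank_eq_one h
    exact Algebra.surjective_algebraMap_iff.mpr h1.symm

variable [IsIntegral X]

theorem pic_zero_genus_one (hC : GD.GCurve k X) (hg : Curv2.genus k X = 1)
    (O : X) (hOc : IsClosed ({O} : Set X)) (hO : Function.Bijective (Curv2.resMap k X O))
    (L : X.Modules) (hL : PicF.IsInvertible L) (hdeg : Curv2.deg k X L 1 = 0) :
    ∃! P : {x : X // IsClosed ({x} : Set X) ∧ Function.Bijective (Curv2.resMap k X x)},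
      Nonempty (CohB1.tensorMod L
        (ClSub.idealMod (Scheme.IdealSheafData.vanishingIdeal ⟨{P.1}, P.2.1⟩)) ≅
        ClSub.idealMod (Scheme.IdealSheafData.vanishingIdeal ⟨{O}, hOc⟩)) := by
  classical
  have hK := hC.isFunctionField
  have hgK : FunFld.genus k X.functionField = 1 := by rw [← hC.genus_eq]; exact hg
  obtain ⟨D, hD⟩ := exists_isDiv hC hL
  have hDdeg : D.deg = 0 := by rw [← IsDiv.deg_eq hC hL hD, hdeg]
  set P₀ := GD.placeOf hC ⟨O, hOc⟩ with hP₀
  have hP₀1 : P₀.deg = 1 := by
    rw [hP₀, GD.deg_placeOf hC]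
    exact (bijective_resMap_iff O).mp hO
  have hdO := isDiv_pointIdeal hC O hOc
  obtain ⟨Q, hQ1, g, hg0, hQ⟩ :=
    Groth.Agent.H62.FFEllPic.exists_place_of_deg_zero hK hgK P₀ hP₀1 D hDdeg
  obtain ⟨x, rfl⟩ := GD.placeOf_surjective hC Q
  have hx1 : Function.Bijective (Curv2.resMap k X x.1) := by
    rw [bijective_resMap_iff, ← GD.deg_placeOf hC x]
    exact hQ1
  refine ⟨⟨x.1, x.2, hx1⟩, ?_, ?_⟩
  · -- existence
    have hd1 := hD.tensor hC (isDiv_pointIdeal hC x.1 x.2)
    refine Groth.Agent.H62.ODLin.nonempty_iso_of_isDiv hC hd1 hdO (g := g) hg0 ?_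
    unfold negPt
    rw [← hP₀]
    have h3 : Finsupp.single (GD.placeOf hC ⟨x.1, x.2⟩) (1 : ℤ) =
        D + Finsupp.single P₀ (1 : ℤ) + div k g := hQ.symm
    rw [h3]
    abel
  · -- uniqueness
    rintro ⟨y, hyc, hy1⟩ ⟨e'⟩
    have hd1 := hD.tensor hC (isDiv_pointIdeal hC x.1 x.2)
    have hd2 := hD.tensor hC (isDiv_pointIdeal hC y hyc)
    obtain ⟨c, hc0, hc⟩ := IsDiv.exists_eq_add_div_of_iso hC e' hd2 hdO
    have hyP : Finsupp.single (GD.placeOf hC ⟨y, hyc⟩) (1 : ℤ) =
        Finsupp.single (GD.placeOf hC ⟨x.1, x.2⟩) 1 + div k (c * g⁻¹) := by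
      rw [div_mul hK hc0 (inv_ne_zero hg0), div_inv hK]
      unfold negPt at hc
      rw [← hP₀] at hc
      have h3 : Finsupp.single (GD.placeOf hC ⟨x.1, x.2⟩) (1 : ℤ) =
          D + Finsupp.single P₀ (1 : ℤ) + div k g := hQ.symm
      rw [h3]
      have h4 : Finsupp.single (GD.placeOf hC ⟨y, hyc⟩) (1 : ℤ) =
          D + Finsupp.single P₀ (1 : ℤ) + div k c := by
        have h5 : Finsupp.single (GD.placeOf hC ⟨y, hyc⟩) (1 : ℤ) =
            D + div k c - (-Finsupp.single P₀ (1 : ℤ)) := by
          rw [hc]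
          abel
        rw [h5]
        abel
      rw [h4]
      abel
    have hxy := Groth.Agent.H62.FFEllPic.place_unique hK (by omega) hQ1
      (mul_ne_zero hc0 (inv_ne_zero hg0)) hyP
    have := GD.placeOf_injective hC hxy
    apply Subtype.ext
    exact (congrArg Subtype.val this).symm

end Groth.Agent.H62.PM
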