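import Mathlib
import Groth.Agent.H62.PM39
import Groth.Agent.H62.FFEllPic
import Groth.Agent.H76.CurveN

/-!
# helper62: a connected normal proper curve with two distinct rational points whose ideal sheaves
are isomorphic is the projective line
-/

set_option autoImplicit false
set_option linter.style.haveILetI false
open CategoryTheory CategoryTheory.Limits AlgebraicGeometry TopologicalSpace Topology
  IntermediateField FunFld
universe u

namespace Groth.Agent.H62.PM

attribute [local instance] Curv2.stalkAlgebra Curv2.resAlgebra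

variable {k : Type u} [Field k] {C : Scheme.{u}} [C.Over (Spec (CommRingCat.of k))]

/-- a section of the structure morphism splits the map from the constants to the global
functions -/
theorem appTop_toGlobal (x : Spec (CommRingCat.of k) ⟶ C)
    (hx : x ≫ (C ↘ Spec (CommRingCat.of k)) = 𝟙 _) (c : k) :
    (Scheme.ΓSpecIso (CommRingCat.of k)).hom.hom
      (x.appTop.hom (Coh.toGlobal (C ↘ Spec (CommRingCat.of k)) c)) = c := by
  unfold Coh.toGlobal
  have h1 : (C ↘ Spec (CommRingCat.of k)).appTop ≫ x.appTop = 𝟙 _ := by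
    rw [← Scheme.Hom.comp_appTop, hx]
    rfl
  have h2 : ((Scheme.ΓSpecIso (CommRingCat.of k)).inv ≫
      ((C ↘ Spec (CommRingCat.of k)).appTop ≫ x.appTop) ≫
        (Scheme.ΓSpecIso (CommRingCat.of k)).hom).hom c = c := by
    rw [h1, Category.id_comp, Iso.inv_hom_id]
    rfl
  exact h2

theorem stalkClosedPointTo_stalkMap (x : Spec (CommRingCat.of k) ⟶ C)
    (hx : x ≫ (C ↘ Spec (CommRingCat.of k)) = 𝟙 _) (c : k) :
    (Scheme.stalkClosedPointTo x).hom
      (Curv2.stalkMap k C (x (IsLocalRing.closedPoint k)) c) = c := by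
  unfold Curv2.stalkMap
  have h1 := Scheme.germ_stalkClosedPointTo x ⊤ trivial
  have h2 : ∀ a : Γ(C, ⊤), (Scheme.stalkClosedPointTo x).hom
      ((C.presheaf.germ ⊤ (x (IsLocalRing.closedPoint k)) trivial).hom a) =
      (Scheme.ΓSpecIso (CommRingCat.of k)).hom.hom (x.appTop.hom a) := by
    intro a
    have h3 := congrArg (fun φ => φ.hom a) h1
    simp only [CommRingCat.hom_comp, RingHom.comp_apply] at h3
    rw [h3]
    simp
    rfl
  rw [RingHom.comp_apply, h2]
  exact appTop_toGlobal x hx c

/-- a `k`-algebra with an injective retraction onto `k` has dimension one -/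
theorem finrank_eq_one_of_retraction {A : Type*} [CommRing A] [Algebra k A] (ψ : A →+* k)
    (hψ : Function.Injective ψ) (h : ∀ c, ψ (algebraMap k A c) = c) :
    Module.finrank k A = 1 := by
  have hbij : Function.Bijective (Algebra.linearMap k A) := by
    constructor
    · intro a b hab
      have := congrArg ψ hab
      simpa [h] using this
    · intro a
      refine ⟨ψ a, hψ ?_⟩
      exact h (ψ a)
  rw [← (LinearEquiv.ofBijective (Algebra.linearMap k A) hbij).finrank_eq, Module.finrank_self]

/-- the image of a section is a rational point -/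
theorem finrank_residueField_of_section (x : Spec (CommRingCat.of k) ⟶ C)
    (hx : x ≫ (C ↘ Spec (CommRingCat.of k)) = 𝟙 _) :
    Module.finrank k (C.residueField (x (IsLocalRing.closedPoint k))) = 1 := by
  refine finrank_eq_one_of_retraction
    (C.descResidueField (Scheme.stalkClosedPointTo x)).hom (RingHom.injective _) ?_
  intro c
  change (C.descResidueField (Scheme.stalkClosedPointTo x)).hom
    ((C.residue _).hom (Curv2.stalkMap k C _ c)) = c
  have h1 := Scheme.residue_descResidueField (Scheme.stalkClosedPointTo x)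
  have h2 := congrArg (fun φ => φ.hom (Curv2.stalkMap k C _ c)) h1
  simp only [CommRingCat.hom_comp, RingHom.comp_apply] at h2
  rw [h2]
  exact stalkClosedPointTo_stalkMap x hx c

/-- an integral proper scheme with a rational point has only constant global functions -/
theorem finrank_HH_zero_of_section [IsIntegral C] [UniversallyClosed (C ↘ Spec (CommRingCat.of k))]
    (x : Spec (CommRingCat.of k) ⟶ C)
    (hx : x ≫ (C ↘ Spec (CommRingCat.of k)) = 𝟙 _) :
    Module.finrank k (Coh.HH C (Coh.structureModule C) 0) = 1 := by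
  letI : Algebra k Γ(C, ⊤) := (Coh.toGlobal (C ↘ Spec (CommRingCat.of k))).toAlgebra
  letI : Module k (Coh.Γtop C) :=
    Module.compHom _ (Coh.toGlobal (C ↘ Spec (CommRingCat.of k)))
  have h4 : Module.finrank k (Coh.HH C (Coh.structureModule C) 0) =
      Module.finrank k Γ(C, ⊤) := (Groth.Agent.H62.GW.hh0Equiv k C).finrank_eq
  rw [h4]
  have hF : IsField Γ(C, ⊤) := isField_of_universallyClosed k (C ↘ Spec (CommRingCat.of k))
  letI : Field Γ(C, ⊤) := hF.toField
  refine finrank_eq_one_of_retraction
    ((Scheme.ΓSpecIso (CommRingCat.of k)).hom.hom.comp x.appTop.hom) (RingHom.injective _) ?_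
  intro c
  exact appTop_toGlobal x hx c

omit [C.Over (Spec (CommRingCat.of k))] in
/-- the kernel of a section is the vanishing ideal of its image point -/
theorem ker_of_section (x : Spec (CommRingCat.of k) ⟶ C)
    (hpx : IsClosed ({x (IsLocalRing.closedPoint k)} : Set C)) :
    x.ker = Scheme.IdealSheafData.vanishingIdeal ⟨{x (IsLocalRing.closedPoint k)}, hpx⟩ := by
  have h1 : x.ker = (⊥ : (Spec (CommRingCat.of k)).IdealSheafData).map x :=
    (Scheme.IdealSheafData.map_bot x).symm
  have h2 : (⊥ : (Spec (CommRingCat.of k)).IdealSheafData) =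
      Scheme.IdealSheafData.vanishingIdeal ⊤ := by
    rw [Scheme.IdealSheafData.vanishingIdeal_top, Scheme.nilradical_eq_bot]
  rw [h1, h2, Scheme.IdealSheafData.map_vanishingIdeal]
  congr 1
  apply TopologicalSpace.Closeds.ext
  rw [TopologicalSpace.Closeds.coe_closure]
  have h3 : (x '' ((⊤ : TopologicalSpace.Closeds (Spec (CommRingCat.of k))) : Set _)) =
      {x (IsLocalRing.closedPoint k)} := by
    ext c
    constructor
    · rintro ⟨a, -, rfl⟩
      rw [Subsingleton.elim a (IsLocalRing.closedPoint k)]
      rfl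
    · rintro rfl
      exact ⟨_, trivial, rfl⟩
  rw [h3, hpx.closure_eq]
  rfl

/-- **two distinct rational points with isomorphic ideal sheaves force the projective line** -/
theorem iso_P1_of_two_points [IsProper (C ↘ Spec (CommRingCat.of k))] [ConnectedSpace C]
    (hN : Pi1.IsNormalScheme C) (hdim : topologicalKrullDim C = 1)
    (x y : Spec (CommRingCat.of k) ⟶ C)
    (hx : x ≫ (C ↘ Spec (CommRingCat.of k)) = 𝟙 _)
    (hy : y ≫ (C ↘ Spec (CommRingCat.of k)) = 𝟙 _) (hxy : x ≠ y)
    (hlin : Nonempty (ClSub.idealMod x.ker ≅ ClSub.idealMod y.ker)) :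
    ∃ e : C ≅ CohB1.ProjSpace 1 k,
      e.hom ≫ CohB1.ProjSpace.toSpec 1 k = C ↘ Spec (CommRingCat.of k) := by
  classical
  haveI : IsLocallyNoetherian C :=
    LocallyOfFiniteType.isLocallyNoetherian (C ↘ Spec (CommRingCat.of k))
  haveI : IsIntegral C :=
    Groth.Agent.H62.GW.isIntegral_of_connected_of_isDomain_stalk (fun c => (hN c).1)
  have hP : Groth.Agent.H62.GD.PCurve k C := PCurve.of_normal inferInstance hdim hN
  have h0 := finrank_HH_zero_of_section x hx
  have hC : Groth.Agent.H62.GD.GCurve k C := hP.gcurve h0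
  have hK := hC.isFunctionField
  haveI hxc : IsClosedImmersion x :=
    isClosedImmersion_of_comp_eq_id (C ↘ Spec (CommRingCat.of k)) x hx
  haveI hyc : IsClosedImmersion y :=
    isClosedImmersion_of_comp_eq_id (C ↘ Spec (CommRingCat.of k)) y hy
  set px := x (IsLocalRing.closedPoint k) with hpx
  set py := y (IsLocalRing.closedPoint k) with hpy
  have hrange : ∀ z : Spec (CommRingCat.of k) ⟶ C,
      Set.range z = {z (IsLocalRing.closedPoint k)} := by
    intro z
    ext c
    constructor
    · rintro ⟨a, rfl⟩
      rw [Subsingleton.elim a (IsLocalRing.closedPoint k)]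
      rfl
    · rintro rfl
      exact ⟨_, rfl⟩
  have hpxc : IsClosed ({px} : Set C) := by
    rw [hpx, ← hrange x]
    exact x.isClosedEmbedding.isClosed_range
  have hpyc : IsClosed ({py} : Set C) := by
    rw [hpy, ← hrange y]
    exact y.isClosedEmbedding.isClosed_range
  have hkx := ker_of_section x hpxc
  have hky := ker_of_section y hpyc
  -- the two points are distinct
  have hne : px ≠ py := by
    intro heq
    apply hxy
    have hker : y.ker = x.ker := by
      rw [hkx, hky]
      congr 1
      apply TopologicalSpace.Closeds.ext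
      change ({py} : Set C) = {px}
      rw [heq]
    have h1 := IsClosedImmersion.lift_fac y x hker.le
    have h2 : IsClosedImmersion.lift y x hker.le = 𝟙 _ := by
      have h3 : IsClosedImmersion.lift y x hker.le ≫ y ≫ (C ↘ Spec (CommRingCat.of k)) =
          x ≫ (C ↘ Spec (CommRingCat.of k)) := by
        rw [← Category.assoc, h1]
      rwa [hy, hx, Category.comp_id] at h3
    rw [h2, Category.id_comp] at h1
    exact h1.symm
  obtain ⟨e⟩ := hlin
  rw [hkx, hky] at e
  have hdx := Groth.Agent.H76.Curve.isDiv_pointIdeal hC px hpxc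
  have hdy := Groth.Agent.H76.Curve.isDiv_pointIdeal hC py hpyc
  obtain ⟨c, hc0, hc⟩ := Groth.Agent.H76.Curve.IsDiv.exists_eq_add_div_of_iso hC e hdx hdy
  unfold Groth.Agent.H76.Curve.negPt at hc
  set Px := Groth.Agent.H62.GD.placeOf hC ⟨px, hpxc⟩ with hPx
  set Py := Groth.Agent.H62.GD.placeOf hC ⟨py, hpyc⟩ with hPy
  have hPne : Px ≠ Py := by
    intro h
    exact hne (congrArg Subtype.val (Groth.Agent.H62.GD.placeOf_injective hC h))
  have hPx1 : Px.deg = 1 := by
    rw [hPx, Groth.Agent.H62.GD.deg_placeOf hC]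
    exact finrank_residueField_of_section x hx
  -- `Py = Px + div c⁻¹`
  have hrel : Finsupp.single Py (1 : ℤ) = Finsupp.single Px 1 + div k c⁻¹ := by
    rw [Groth.Agent.H55.div_inv hK]
    have h5 : Finsupp.single Py (1 : ℤ) = -(-Finsupp.single Py (1 : ℤ)) := by abel
    rw [h5, hc]
    abel
  have hcinv : c⁻¹ ≠ 0 := inv_ne_zero hc0
  have hck : c⁻¹ ∉ Set.range (algebraMap k C.functionField) := by
    rintro ⟨a, ha⟩
    rw [← ha, Groth.Agent.H55.div_algebraMap hK, add_zero] at hrel
    have h1 := congrArg (fun E : Divisor k C.functionField => E Px) hrel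
    simp only [Finsupp.single_apply, if_true] at h1
    rw [if_neg (fun h' => hPne h'.symm)] at h1
    norm_num at h1
  have hcL : c⁻¹ ∈ L (Finsupp.single Px (1 : ℤ)) := by
    rw [Groth.Agent.H55.mem_L_iff_div hK hcinv, ← hrel]
    intro R
    rw [Finsupp.zero_apply, Finsupp.single_apply]
    split_ifs <;> norm_num
  have h1L : (1 : C.functionField) ∈ L (Finsupp.single Px (1 : ℤ)) := by
    intro R
    rw [map_one, ← WithZero.exp_zero, WithZero.exp_le_exp, Finsupp.single_apply]
    split_ifs <;> norm_num
  have h2 := Groth.Agent.H62.FFEllPic.two_le_ell_of_mem hK h1L hcL hck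
  obtain ⟨t, ht⟩ := Groth.Agent.H62.FFDegOne.exists_adjoin_eq_top hK
    (Finsupp.single Px (1 : ℤ)) (Groth.Agent.H55.deg_single_of_deg_one hPx1 1) h2
  exact exists_iso_P1_of_adjoin_eq_top' hC ht

end Groth.Agent.H62.PM
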