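import Mathlib
import Groth.Agent.H62.PM42
import Groth.Agent.H62.FFBaseLocus

/-!
# helper62: twisting by a rational point off the base locus of `K - L` drops `h¹` by one
-/

set_option autoImplicit false
set_option linter.style.haveILetI false
open CategoryTheory CategoryTheory.Limits AlgebraicGeometry TopologicalSpace Topology FunFld
universe u

namespace Groth.Agent.H62.PM

attribute [local instance] Curv2.stalkAlgebra Curv2.resAlgebra

variable {k : Type u} [Field k] {C : Scheme.{u}} [C.Over (Spec (CommRingCat.of k))] [IsIntegral C]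

theorem h1_twist_rational (hC : Groth.Agent.H62.GD.GCurve k C) (L : C.Modules)
    (hL : PicF.IsInvertible L) (hL1 : 0 < Module.finrank k (Coh.HH C L 1)) :
    ∃ U : C.Opens, (U : Set ↥C).Nonempty ∧
      ∀ (σ : Spec (CommRingCat.of k) ⟶ C) (_ : σ ≫ (C ↘ Spec (CommRingCat.of k)) = 𝟙 _)
        (M : C.Modules) (_ : PicF.IsInvertible M)
        (_ : Nonempty (CohB1.tensorMod M (ClSub.idealMod σ.ker) ≅ L)),
        ((∀ p, σ.base p ∈ U) →
          Module.finrank k (Coh.HH C M 1) = Module.finrank k (Coh.HH C L 1) - 1) ∧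
        ((∀ p, σ.base p ∉ U) →
          Module.finrank k (Coh.HH C M 1) = Module.finrank k (Coh.HH C L 1)) := by
  classical
  have hK := hC.isFunctionField
  obtain ⟨W, hW⟩ := Groth.Agent.H55.exists_canonical hK
  obtain ⟨D0, hD0⟩ := Groth.Agent.H76.Curve.exists_isDiv hC hL
  set E : Divisor k C.functionField := W - D0 with hE
  -- `h¹(L) = ℓ(E)`
  have hh1 : ∀ (N : C.Modules) (hN : PicF.IsInvertible N) (D : Divisor k C.functionField),
      Groth.Agent.H76.Curve.IsDiv hC N D → Module.finrank k (Coh.HH C N 1) = ell (W - D) := by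
    intro N hN D hD
    have h1 := hD.finrank_HH_one hN
    rw [Groth.Agent.H62.FFBaseLocus.index_eq_ell hK hW D] at h1
    exact_mod_cast h1
  have hLE : Module.finrank k (Coh.HH C L 1) = ell E := hh1 L hL D0 hD0
  have hEne : FunFld.L E ≠ ⊥ := by
    intro h
    have : ell E = 0 := by
      unfold ell
      rw [h]
      exact finrank_bot k _
    omega
  have hfin := Groth.Agent.H62.FFBaseLocus.finite_base hK E hEne
  -- the closed set of base points
  set Z : Set C := (fun x : {x : C // IsClosed ({x} : Set C)} => x.1) ''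
    ((Groth.Agent.H62.GD.placeOf hC) ⁻¹'
      {Q : Place k C.functionField | ell (E - Finsupp.single Q 1) = ell E}) with hZ
  have hZfin : Z.Finite :=
    (hfin.preimage (Groth.Agent.H62.GD.placeOf_injective hC).injOn).image _
  have hZcl : IsClosed Z := by
    have : Z = ⋃ x ∈ Z, {x} := by
      ext y
      simp
    rw [this]
    refine hZfin.isClosed_biUnion ?_
    rintro x ⟨x', -, rfl⟩
    exact x'.2
  refine ⟨⟨Zᶜ, hZcl.isOpen_compl⟩, ⟨genericPoint C, ?_⟩, ?_⟩
  · rintro ⟨x', -, hx'⟩
    apply hC.not_isClosed_genericPoint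
    rw [← hx']
    exact x'.2
  intro σ hσ M hM ⟨e⟩
  haveI hσc : IsClosedImmersion σ :=
    isClosedImmersion_of_comp_eq_id (C ↘ Spec (CommRingCat.of k)) σ hσ
  set px := σ (IsLocalRing.closedPoint k) with hpx
  have hrange : Set.range σ = {px} := by
    ext c
    constructor
    · rintro ⟨a, rfl⟩
      rw [Subsingleton.elim a (IsLocalRing.closedPoint k)]
      rfl
    · rintro rfl
      exact ⟨_, rfl⟩
  have hpxc : IsClosed ({px} : Set C) := by
    rw [← hrange]
    exact σ.isClosedEmbedding.isClosed_range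
  have hk := ker_of_section σ hpxc
  rw [hk] at e
  set Q := Groth.Agent.H62.GD.placeOf hC ⟨px, hpxc⟩ with hQ
  have hQ1 : Q.deg = 1 := by
    rw [hQ, Groth.Agent.H62.GD.deg_placeOf hC]
    exact finrank_residueField_of_section σ hσ
  obtain ⟨D', hD'⟩ := Groth.Agent.H76.Curve.exists_isDiv hC hM
  have hdI := Groth.Agent.H76.Curve.isDiv_pointIdeal hC px hpxc
  have hdL : Groth.Agent.H76.Curve.IsDiv hC L (D' + Groth.Agent.H76.Curve.negPt hC px hpxc) :=
    (Groth.Agent.H76.Curve.IsDiv.tensor hC hD' hdI).of_iso hC e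
  obtain ⟨c, hc0, hc⟩ := Groth.Agent.H76.Curve.IsDiv.exists_eq_add_div hC hD0 hdL
  unfold Groth.Agent.H76.Curve.negPt at hc
  -- `h¹(M) = ℓ(E - Q)`
  have hME : Module.finrank k (Coh.HH C M 1) = ell (E - Finsupp.single Q 1) := by
    rw [hh1 M hM D' hD']
    have h5 : W - D' = (E - Finsupp.single Q 1) + div k c⁻¹ := by
      rw [Groth.Agent.H55.div_inv hK, hE]
      have : D' = D0 + div k c + Finsupp.single Q 1 := by
        rw [← hc]
        abel
      rw [this]
      abel
    rw [h5, Groth.Agent.H55.ell_add_div hK _ (inv_ne_zero hc0)]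
  have hmemZ : px ∈ Z ↔ ell (E - Finsupp.single Q 1) = ell E := by
    constructor
    · rintro ⟨x', hx', hx'eq⟩
      have : x' = ⟨px, hpxc⟩ := Subtype.ext hx'eq
      rw [this] at hx'
      exact hx'
    · intro h
      exact ⟨⟨px, hpxc⟩, h, rfl⟩
  constructor
  · intro hU
    have hnot : px ∉ Z := hU (IsLocalRing.closedPoint k)
    rw [hmemZ] at hnot
    rw [hME, hLE]
    rcases Groth.Agent.H62.FFBaseLocus.ell_sub_single hK E hQ1 with h | h
    · exact absurd h hnot
    · omega
  · intro hU
    have hin : px ∈ Z := by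
      by_contra h
      exact hU (IsLocalRing.closedPoint k) h
    rw [hmemZ] at hin
    rw [hME, hLE, hin]

end Groth.Agent.H62.PM
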