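import Mathlib
import Groth.Agent.H62.PM36
import Groth.Agent.H62.PM3
import Groth.Agent.H62.FFRHIneq
import Groth.Agent.S7830

/-!
# helper62: a finite separable morphism between curves of the same genus `≥ 2` over an
algebraically closed field is an isomorphism
-/

set_option autoImplicit false
set_option linter.style.haveILetI false
open CategoryTheory CategoryTheory.Limits AlgebraicGeometry TopologicalSpace Topology
universe u

namespace Groth.Agent.H62.PM

attribute [local instance] Curv2.stalkAlgebra Curv2.resAlgebra

variable {k : Type u} [Field k] {X Y : Scheme.{u}} [X.Over (Spec (CommRingCat.of k))]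
  [Y.Over (Spec (CommRingCat.of k))] [IsIntegral X] [IsIntegral Y]

theorem isIso_of_separable_of_genus_eq [IsAlgClosed k]
    (hX : GD.GCurve k X) (hY : GD.GCurve k Y)
    (f : X ⟶ Y) (hf : f ≫ (Y ↘ Spec (CommRingCat.of k)) = X ↘ Spec (CommRingCat.of k))
    (e : f (genericPoint X) = genericPoint Y)
    (hg : Curv2.genus k X = Curv2.genus k Y) (h2 : 2 ≤ Curv2.genus k Y)
    (hsep : letI := (ffMap f e).toAlgebra
      Algebra.IsSeparable Y.functionField X.functionField) : IsIso f := by
  letI alg : Algebra Y.functionField X.functionField := (ffMap f e).toAlgebra
  haveI : IsScalarTower k Y.functionField X.functionField :=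
    IsScalarTower.of_algebraMap_eq (fun c => (ffMap_algebraMap f e hf c).symm)
  haveI := hsep
  have hKX := hX.isFunctionField
  have hKY := hY.isFunctionField
  -- finiteness of the extension
  haveI hfd : FiniteDimensional Y.functionField X.functionField := by
    obtain ⟨x, hx, hfin⟩ := hKY.1
    have hx' : Transcendental k (algebraMap Y.functionField X.functionField x) := by
      intro h
      apply hx
      have : algebraMap Y.functionField X.functionField x =
          (IsScalarTower.toAlgHom k Y.functionField X.functionField) x := rfl
      rw [this] at h
      exact (isAlgebraic_algHom_iff _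
        (IsScalarTower.toAlgHom k Y.functionField X.functionField).injective).mp h
    have hfd' := Groth.Agent.H55.finiteDimensional_adjoin_of_transcendental hKX hx'
    have h1 := Groth.Agent.H55.finrank_adjoin_algebraMap (k := k) (K' := X.functionField) x
    have h3 : 0 < Module.finrank
        (IntermediateField.adjoin k {algebraMap Y.functionField X.functionField x})
        X.functionField := Module.finrank_pos
    rw [h1] at h3
    exact Module.finite_of_finrank_pos (Nat.pos_of_mul_pos_left h3)
  have hrh := Groth.Agent.H62.FFRHIneq.rh_ineq hKY hKX
  rw [← hX.genus_eq, ← hY.genus_eq, hg] at hrh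
  have hpos : 0 < Module.finrank Y.functionField X.functionField := Module.finrank_pos
  have hn : Module.finrank Y.functionField X.functionField = 1 := by
    have h3 : (2 : ℤ) ≤ Curv2.genus k Y := by exact_mod_cast h2
    have h4 : (1 : ℤ) ≤ Module.finrank Y.functionField X.functionField := by exact_mod_cast hpos
    have h5 : ((Module.finrank Y.functionField X.functionField : ℤ) - 1) *
        (2 * (Curv2.genus k Y : ℤ) - 2) ≤ 0 := by linarith
    have h6 : (Module.finrank Y.functionField X.functionField : ℤ) - 1 ≤ 0 := by
      by_contra hcon
      push Not at hcon
      have : 0 < ((Module.finrank Y.functionField X.functionField : ℤ) - 1) *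
          (2 * (Curv2.genus k Y : ℤ) - 2) := mul_pos hcon (by linarith)
      linarith
    have : (Module.finrank Y.functionField X.functionField : ℤ) = 1 := by linarith
    exact_mod_cast this
  -- the map of function fields is bijective
  have hbij : Function.Bijective (ffMap f e) := by
    refine ⟨(ffMap f e).injective, ?_⟩
    have h1 := Subalgebra.bot_eq_top_of_finrank_eq_one hn
    exact Algebra.surjective_algebraMap_iff.mpr h1.symm
  have hiso : IsIso (f.stalkMap (genericPoint X)) := by
    have h1 : IsIso (Y.presheaf.stalkSpecializes (specializes_of_eq e) ≫
        f.stalkMap (genericPoint X)) :=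
      (ConcreteCategory.isIso_iff_bijective _).mpr hbij
    haveI : IsIso (Y.presheaf.stalkSpecializes (specializes_of_eq e)) := by
      have hins : Inseparable (genericPoint Y) (f (genericPoint X)) := by
        rw [e]
      exact (Y.presheaf.stalkCongr hins).isIso_hom
    exact IsIso.of_isIso_comp_left (Y.presheaf.stalkSpecializes (specializes_of_eq e)) _
  haveI := hX.proper
  haveI := hY.proper
  exact Groth.Agent.S7830.result k (X ↘ Spec (CommRingCat.of k)) (Y ↘ Spec (CommRingCat.of k))
    hX.dim hY.dim (isNormalScheme hY.toPCurve) f hf e hiso

end Groth.Agent.H62.PM
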