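import Mathlib
import Groth.Prelude.Def_FinCov
import Groth.Agent.H54.PullbackSection
import Groth.Agent.Lead.Coh.FiniteLES
import Groth.Agent.H38.EulerAdd
import Groth.Agent.H62.PM28
import Groth.Agent.H62.HC4
import Groth.Agent.H62.GW2
import Groth.Agent.H62.PM39
import Groth.Agent.H88.LerayLinearAffine
import Groth.Agent.H67.CoverFree
import Groth.Agent.H76.CurveG
import Groth.Agent.H18.ProjSpaceVanish

/-!
# helper62: the trace of a finite flat cover splits off the structure sheaf when the degree is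
invertible, and the Euler characteristic of the kernel of the trace
-/

set_option autoImplicit false
set_option linter.style.haveILetI false
open CategoryTheory CategoryTheory.Limits AlgebraicGeometry TopologicalSpace Topology Opposite
universe u

namespace Groth.Agent.H62.PM

open Groth.Agent.H18 Groth.Agent.H54.PB Groth.Agent.Lead.FiniteLES

section abstract

variable {𝒜 : Type*} [Category 𝒜] [Abelian 𝒜] {A B : 𝒜} (τ : A ⟶ B) (e : B ⟶ A)

/-- the kernel sequence of a split epimorphism is short exact -/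
theorem shortExact_kernel_of_section (he : e ≫ τ = 𝟙 B) :
    (ShortComplex.mk (kernel.ι τ) τ (kernel.condition τ)).ShortExact := by
  haveI : IsSplitEpi τ := IsSplitEpi.mk' ⟨e, he⟩
  haveI : Epi τ := inferInstance
  haveI : Mono (kernel.ι τ) := inferInstance
  refine ShortComplex.ShortExact.mk' ?_ inferInstance inferInstance
  exact ShortComplex.exact_of_f_is_kernel _ (kernelIsKernel τ)

/-- the retraction onto the kernel of a split epimorphism -/
noncomputable def kernelRetraction (he : e ≫ τ = 𝟙 B) : A ⟶ kernel τ :=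
  kernel.lift τ (𝟙 A - τ ≫ e) (by
    rw [Preadditive.sub_comp, Category.id_comp, Category.assoc, he, Category.comp_id, sub_self])

theorem kernel_ι_comp_kernelRetraction (he : e ≫ τ = 𝟙 B) :
    kernel.ι τ ≫ kernelRetraction τ e he = 𝟙 (kernel τ) := by
  apply (cancel_mono (kernel.ι τ)).mp
  unfold kernelRetraction
  rw [Category.assoc, kernel.lift_ι, Preadditive.comp_sub, Category.comp_id,
    ← Category.assoc, kernel.condition, zero_comp, sub_zero, Category.id_comp]

end abstract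

section trace

variable {X Y : Scheme.{u}} [IsIntegral Y] (h : X ⟶ Y)
  (τ : (Scheme.Modules.pushforward h).obj (Coh.structureModule X) ⟶ Coh.structureModule Y)

/-- the composite `O_Y ⟶ h_* O_X ⟶ O_Y` of the unit and the trace is multiplication by the
degree -/
theorem unitToPush_comp_trace (hτ : FinCov.IsTraceHom h τ) (U : Y.Opens) (hU : IsAffineOpen U)
    (hne : (U : Set Y).Nonempty)
    (hfree : letI : Algebra Γ(Y, U) Γ(X, h ⁻¹ᵁ U) := (h.app U).hom.toAlgebra
      Module.Free Γ(Y, U) Γ(X, h ⁻¹ᵁ U))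
    (hfin : letI : Algebra Γ(Y, U) Γ(X, h ⁻¹ᵁ U) := (h.app U).hom.toAlgebra
      Module.Finite Γ(Y, U) Γ(X, h ⁻¹ᵁ U))
    (d : ℕ) (hd : letI : Algebra Γ(Y, U) Γ(X, h ⁻¹ᵁ U) := (h.app U).hom.toAlgebra
      Module.finrank Γ(Y, U) Γ(X, h ⁻¹ᵁ U) = d) :
    ClSub.unitToPush h ≫ τ = sectionHom (Coh.structureModule Y) ((d : ℕ) : Γ(Y, ⊤)) := by
  letI : Algebra Γ(Y, U) Γ(X, h ⁻¹ᵁ U) := (h.app U).hom.toAlgebra
  apply evOne_injective
  rw [evOne_sectionHom, evOne_comp]
  haveI : Nonempty U := ⟨⟨hne.some, hne.some_mem⟩⟩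
  have hinj : Function.Injective (Y.presheaf.map (homOfLE (le_top : U ≤ ⊤)).op).hom :=
    map_injective_of_isIntegral Y (homOfLE (le_top : U ≤ ⊤))
  apply hinj
  have h1 := hom_app_mres τ (le_top : U ≤ ⊤) (evOne _ (ClSub.unitToPush h))
  refine h1.symm.trans ?_
  have h2 : mres ((Scheme.Modules.pushforward h).obj (Coh.structureModule X))
      (le_top : U ≤ ⊤) (evOne _ (ClSub.unitToPush h)) = (1 : Γ(X, h ⁻¹ᵁ U)) := by
    have h3 := hom_app_mres (ClSub.unitToPush h) (le_top : U ≤ ⊤) (1 : Γ(Y, ⊤))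
    refine h3.symm.trans ?_
    have h4 : mres (Coh.structureModule Y) (le_top : U ≤ ⊤) (1 : Γ(Y, ⊤)) = (1 : Γ(Y, U)) :=
      map_one (Y.presheaf.map (homOfLE (le_top : U ≤ ⊤)).op).hom
    rw [h4]
    exact map_one (h.app U).hom
  rw [h2]
  have h5 := hτ U hU hfree hfin (1 : Γ(X, h ⁻¹ᵁ U))
  refine h5.trans ?_
  have h6 := Algebra.trace_algebraMap (R := Γ(Y, U)) (S := Γ(X, h ⁻¹ᵁ U)) (1 : Γ(Y, U))
  rw [map_one] at h6
  rw [h6, hd, map_natCast]
  simp

end trace

section P1

variable {k : Type u} [Field k] {X : Scheme.{u}} (h : X ⟶ CohB1.ProjSpace 1 k) [IsFinite h]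
  [Flat h]

/-- over the chart `D₊(T₀)` of the projective line, a finite flat cover is free -/
theorem free_chart :
    letI : Algebra Γ(CohB1.ProjSpace 1 k, LefPen.chart 1 k 0) Γ(X, h ⁻¹ᵁ LefPen.chart 1 k 0) :=
      (h.app (LefPen.chart 1 k 0)).hom.toAlgebra
    Module.Free Γ(CohB1.ProjSpace 1 k, LefPen.chart 1 k 0) Γ(X, h ⁻¹ᵁ LefPen.chart 1 k 0) ∧
    Module.Finite Γ(CohB1.ProjSpace 1 k, LefPen.chart 1 k 0) Γ(X, h ⁻¹ᵁ LefPen.chart 1 k 0) ∧
    ∀ d : ℕ, (∀ y, Scheme.Hom.finrank h y = d) →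
      Module.finrank Γ(CohB1.ProjSpace 1 k, LefPen.chart 1 k 0)
        Γ(X, h ⁻¹ᵁ LefPen.chart 1 k 0) = d := by
  letI : Algebra Γ(CohB1.ProjSpace 1 k, LefPen.chart 1 k 0) Γ(X, h ⁻¹ᵁ LefPen.chart 1 k 0) :=
      (h.app (LefPen.chart 1 k 0)).hom.toAlgebra
  have hU := HC.P1.isAffineOpen_chart k
  let e : Polynomial k ≃+* Γ(CohB1.ProjSpace 1 k, LefPen.chart 1 k 0) :=
    RingEquiv.ofBijective (HC.P1.chartRingHom k) (HC.P1.chartRingHom_bijective k)
  haveI : IsDomain Γ(CohB1.ProjSpace 1 k, LefPen.chart 1 k 0) :=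
    MulEquiv.isDomain (Polynomial k) e.symm.toMulEquiv
  haveI : IsPrincipalIdealRing Γ(CohB1.ProjSpace 1 k, LefPen.chart 1 k 0) :=
    IsPrincipalIdealRing.of_surjective (e : Polynomial k →+* _) e.surjective
  have hfin : (h.app (LefPen.chart 1 k 0)).hom.Finite := IsFinite.finite_app h _ hU
  have hflat : (h.app (LefPen.chart 1 k 0)).hom.Flat := by
    rw [Scheme.Hom.app_eq_appLE]
    exact Flat.flat_appLE h hU (hU.preimage h) le_rfl
  haveI hfin' : Module.Finite Γ(CohB1.ProjSpace 1 k, LefPen.chart 1 k 0)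
    Γ(X, h ⁻¹ᵁ LefPen.chart 1 k 0) := hfin
  haveI hflat' : Module.Flat Γ(CohB1.ProjSpace 1 k, LefPen.chart 1 k 0)
    Γ(X, h ⁻¹ᵁ LefPen.chart 1 k 0) := hflat
  refine ⟨Module.free_of_finite_type_torsion_free', hfin', fun d hd => ?_⟩
  let p₀ : PrimeSpectrum Γ(CohB1.ProjSpace 1 k, LefPen.chart 1 k 0) := ⟨⊥, Ideal.isPrime_bot⟩
  rw [← ringHom_finrank_eq_finrank (h.app (LefPen.chart 1 k 0)).hom hfin hflat p₀,
    HC.finrank_app h hU p₀]
  exact hd _

end P1

section retract

variable {X : Scheme.{u}}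

/-- vanishing of cohomology passes to retracts -/
theorem subsingleton_HH_of_retract {M N : X.Modules} (i : N ⟶ M) (r : M ⟶ N) (hir : i ≫ r = 𝟙 N)
    (n : ℕ) (h : Subsingleton (Coh.HH X M n)) : Subsingleton (Coh.HH X N n) := by
  refine ⟨fun x y => ?_⟩
  have h1 : HHmap r n (HHmap i n x) = HHmap r n (HHmap i n y) :=
    congrArg _ (Subsingleton.elim _ _)
  rw [← LinearMap.comp_apply, ← LinearMap.comp_apply, ← HHmap_comp, hir, HHmap_id] at h1
  exact h1

end retract

section main

variable (k : Type u) [Field k] [IsAlgClosed k]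

/-- **the kernel of the trace of a double cover of the projective line has degree `-g - 1`** -/
theorem deg_kernel_trace (h2 : (2 : k) ≠ 0) {X : Scheme.{u}} (p : X ⟶ Spec (CommRingCat.of k))
    [IsProper p] [Smooth p] [ConnectedSpace ↥X] (hX : topologicalKrullDim ↥X = 1)
    (h : X ⟶ CohB1.ProjSpace 1 k) (hh : h ≫ CohB1.ProjSpace.toSpec 1 k = p)
    [IsFinite h] [Flat h] (hr : ∀ y : ↥(CohB1.ProjSpace 1 k), h.finrank y = 2)
    (τ : (Scheme.Modules.pushforward h).obj (Coh.structureModule X) ⟶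
      Coh.structureModule (CohB1.ProjSpace 1 k))
    (hτ : FinCov.IsTraceHom h τ) :
    @Curv2.deg k _ (CohB1.ProjSpace 1 k) ⟨CohB1.ProjSpace.toSpec 1 k⟩ (kernel τ) 1 =
      -((@Curv2.genus k _ X ⟨p⟩ : ℤ) + 1) := by
  letI : X.Over (Spec (CommRingCat.of k)) := ⟨p⟩
  haveI : IsProper (X ↘ Spec (CommRingCat.of k)) := ‹IsProper p›
  haveI : Smooth (X ↘ Spec (CommRingCat.of k)) := ‹Smooth p›
  haveI : IsIntegral X := Groth.Agent.H62.GW.isIntegral_of_smooth k X
  have hC : GD.GCurve k X := (GD.PCurve.of_smooth inferInstance hX).gcurve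
    (Groth.Agent.H62.GW.finrank_HH_zero_of_isAlgClosed k X)
  haveI : IsIntegral (CohB1.ProjSpace 1 k) := inferInstance
  obtain ⟨hfree, hfin, hrank⟩ := free_chart h
  have hcomp := unitToPush_comp_trace h τ hτ (LefPen.chart 1 k 0) (HC.P1.isAffineOpen_chart k)
    ⟨genericPoint _, genericPoint_mem_chart k⟩ hfree hfin 2 (hrank 2 hr)
  -- the scalar `1/2`
  let c : Γ(CohB1.ProjSpace 1 k, ⊤) := Coh.toGlobal (CohB1.ProjSpace.toSpec 1 k) (2⁻¹ : k)
  have hc : c * ((2 : ℕ) : Γ(CohB1.ProjSpace 1 k, ⊤)) = 1 := by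
    have h3 : ((2 : ℕ) : Γ(CohB1.ProjSpace 1 k, ⊤)) =
        Coh.toGlobal (CohB1.ProjSpace.toSpec 1 k) (2 : k) := by
      have h4 := map_natCast (Coh.toGlobal (CohB1.ProjSpace.toSpec 1 k)) 2
      rw [Nat.cast_ofNat] at h4
      exact h4.symm
    rw [h3]
    change Coh.toGlobal (CohB1.ProjSpace.toSpec 1 k) (2⁻¹ : k) *
      Coh.toGlobal (CohB1.ProjSpace.toSpec 1 k) (2 : k) = 1
    rw [← map_mul, inv_mul_cancel₀ h2, map_one]
  let e : Coh.structureModule (CohB1.ProjSpace 1 k) ⟶
      (Scheme.Modules.pushforward h).obj (Coh.structureModule X) :=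
    sectionHom (Coh.structureModule (CohB1.ProjSpace 1 k)) c ≫ ClSub.unitToPush h
  have he : e ≫ τ = 𝟙 _ := by
    change (sectionHom _ c ≫ ClSub.unitToPush h) ≫ τ = _
    rw [Category.assoc, hcomp, sectionHom_comp, sectionHom_app]
    apply evOne_injective
    rw [evOne_sectionHom]
    rw [mres_self]
    change c * ((2 : ℕ) : Γ(CohB1.ProjSpace 1 k, ⊤)) = (1 : Γ(CohB1.ProjSpace 1 k, ⊤))
    exact hc
  -- the split short exact sequence
  have hE := shortExact_kernel_of_section τ e he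
  set E : ShortComplex (CohB1.ProjSpace 1 k).Modules :=
    ShortComplex.mk (kernel.ι τ) τ (kernel.condition τ) with hEdef
  have hret := kernel_ι_comp_kernelRetraction τ e he
  -- cohomology of `O_X`
  haveI : (Coh.structureModule X).IsQuasicoherent :=
    Groth.Agent.H67.CoverFree.isQuasicoherent_structureModule X
  have hX0 : Module.finrank k (Coh.HH X (Coh.structureModule X) 0) = 1 :=
    Groth.Agent.H62.GW.finrank_HH_zero_of_isAlgClosed k X
  have hXv : ∀ n, 1 < n → Subsingleton (Coh.HH X (Coh.structureModule X) n) := fun n hn =>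
    Groth.Agent.H76.Curve.subsingleton_HH_of_two_le hC _ n hn
  have hXf : ∀ n, Module.Finite k (Coh.HH X (Coh.structureModule X) n) := by
    intro n
    rcases n with _ | _ | n
    · exact Module.finite_of_finrank_pos (by rw [hX0]; exact one_pos)
    · exact hC.finite_HH_one
    · haveI := hXv (n + 2) (by omega)
      infer_instance
  -- cohomology of the pushforward
  haveI : IsProper (CohB1.ProjSpace.toSpec 1 k) := isProper_P1 k
  haveI : (CohB1.ProjSpace 1 k).IsSeparated := ⟨by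
    rw [← terminal.comp_from (CohB1.ProjSpace.toSpec 1 k)]
    infer_instance⟩
  have hpush : ∀ n, Nonempty (Coh.HH X (Coh.structureModule X) n ≃ₗ[k]
      Coh.HH (CohB1.ProjSpace 1 k) ((Coh.push h).obj (Coh.structureModule X)) n) := fun n =>
    Groth.Agent.H88.LerayLinear.nonempty_linearEquiv_HH_push_of_isAffineHom k h (Coh.structureModule X) hh n
  have hPf : ∀ n, Module.Finite k
      (Coh.HH (CohB1.ProjSpace 1 k) ((Coh.push h).obj (Coh.structureModule X)) n) := fun n => by
    haveI := hXf n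
    exact Module.Finite.equiv (hpush n).some
  have hPv : ∀ n, 1 < n → Subsingleton
      (Coh.HH (CohB1.ProjSpace 1 k) ((Coh.push h).obj (Coh.structureModule X)) n) := fun n hn => by
    haveI := hXv n hn
    exact (hpush n).some.symm.toEquiv.subsingleton
  -- cohomology of `O_Y`
  have hY0 := finrank_HH_zero_P1 k
  have hYv : ∀ n, 0 < n → Subsingleton (Coh.HH (CohB1.ProjSpace 1 k)
      (Coh.structureModule (CohB1.ProjSpace 1 k)) n) := fun n hn =>
    Groth.Agent.H18.PSL.subsingleton_HH_structure 1 k n hn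
  have hYf : ∀ n, Module.Finite k (Coh.HH (CohB1.ProjSpace 1 k)
      (Coh.structureModule (CohB1.ProjSpace 1 k)) n) := by
    intro n
    rcases n with _ | n
    · exact Module.finite_of_finrank_pos (by rw [hY0]; exact one_pos)
    · haveI := hYv (n + 1) (by omega)
      infer_instance
  -- cohomology of the kernel
  have hKf : ∀ n, Module.Finite k (Coh.HH (CohB1.ProjSpace 1 k) (kernel τ) n) := fun n =>
    finite_of_retract k (kernel.ι τ) (kernelRetraction τ e he) hret n (hPf n)
  have hKv : ∀ n, 1 < n → Subsingleton (Coh.HH (CohB1.ProjSpace 1 k) (kernel τ) n) := fun n hn =>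
    subsingleton_HH_of_retract (kernel.ι τ) (kernelRetraction τ e he) hret n (hPv n hn)
  have hadd := Groth.Agent.H38.EulerAdd.euler_additive_of_finite k (CohB1.ProjSpace 1 k) E hE
    hKf hPf hYf 1 hKv hPv (fun n hn => hYv n (by omega))
  change Curv2.euler k (CohB1.ProjSpace 1 k) ((Coh.push h).obj (Coh.structureModule X)) =
    Curv2.euler k (CohB1.ProjSpace 1 k) (kernel τ) +
      Curv2.euler k (CohB1.ProjSpace 1 k) (Coh.structureModule (CohB1.ProjSpace 1 k)) at hadd
  -- the three Euler characteristics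
  have hpushE : Curv2.euler k (CohB1.ProjSpace 1 k) ((Coh.push h).obj (Coh.structureModule X)) =
      Curv2.euler k X (Coh.structureModule X) := by
    unfold Curv2.euler
    refine finsum_congr (fun i => ?_)
    rw [(hpush i).some.finrank_eq]
  have hXE : Curv2.euler k X (Coh.structureModule X) = 1 - (Curv2.genus k X : ℤ) := by
    rw [Groth.Agent.H76.Curve.euler_eq hC (Coh.structureModule X), hX0]
    rfl
  have hYE : Curv2.euler k (CohB1.ProjSpace 1 k)
      (Coh.structureModule (CohB1.ProjSpace 1 k)) = 1 := by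
    rw [Groth.Agent.H38.EulerAdd.euler_eq_sum k (CohB1.ProjSpace 1 k) _ 0 (fun n hn => hYv n hn)]
    simp [hY0]
  unfold Curv2.deg
  rw [hpushE, hXE, hYE] at hadd
  rw [hYE]
  push_cast
  linarith

end main

end Groth.Agent.H62.PM
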