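import Mathlib
import Groth.Agent.H62.PM47
import Groth.Agent.H62.PM28
import Groth.Agent.H62.FFRHUnram

/-!
# helper62: a finite étale cover of a curve of genus zero over an algebraically closed field is an
isomorphism
-/

set_option autoImplicit false
set_option linter.style.haveILetI false
open CategoryTheory CategoryTheory.Limits AlgebraicGeometry TopologicalSpace Topology FunFld
universe u

namespace Groth.Agent.H62.PM

attribute [local instance] Curv2.stalkAlgebra Curv2.resAlgebra

open Groth.Agent.H62.GD Groth.Agent.H76.Curve

section general

variable {X Y : Scheme.{u}} [IsIntegral X] [IsIntegral Y]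

/-- a flat morphism of integral schemes maps the generic point to the generic point -/
theorem generic_of_flat (f : X ⟶ Y) [Flat f] : f (genericPoint X) = genericPoint Y := by
  have hgm : GeneralizingMap f := Flat.generalizingMap f
  have h1 : genericPoint Y ⤳ f (genericPoint X) := (genericPoint_spec Y).specializes trivial
  obtain ⟨x', hx', hfx'⟩ := hgm h1
  have h2 : genericPoint X ⤳ x' := (genericPoint_spec X).specializes trivial
  have h3 : x' = genericPoint X := (hx'.antisymm h2).eq
  rw [← hfx', h3]

/-- separability of the extension of function fields is separability of the generic residue field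
extension -/
theorem isSeparable_ffMap_iff (f : X ⟶ Y) (hgen : f (genericPoint X) = genericPoint Y) :
    (letI := (ffMap f hgen).toAlgebra
     Algebra.IsSeparable Y.functionField X.functionField) ↔
    (letI := (f.residueFieldMap (genericPoint X)).hom.toAlgebra
     Algebra.IsSeparable (Y.residueField (f (genericPoint X)))
      (X.residueField (genericPoint X))) := by
  set ξ := genericPoint X with hξ
  let e₂ : X.residueField ξ ≃+* X.functionField :=
    (RingEquiv.ofBijective (X.residue ξ).hom GD.residue_genericPoint_bijective).symm
  let ρ' : Y.functionField →+* Y.residueField (f ξ) :=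
    (Y.presheaf.stalkSpecializes (specializes_of_eq hgen) ≫ Y.residue (f ξ)).hom
  have hbij : Function.Bijective ρ' := by
    constructor
    · exact RingHom.injective ρ'
    · intro z
      obtain ⟨w, rfl⟩ : ∃ w, (Y.residue (f ξ)).hom w = z := Ideal.Quotient.mk_surjective z
      haveI : IsIso (Y.presheaf.stalkSpecializes (specializes_of_eq hgen)) := by
        exact (TopCat.Presheaf.stalkCongr Y.presheaf (Inseparable.of_eq hgen.symm)).isIso_hom
      obtain ⟨v, rfl⟩ : ∃ v, (Y.presheaf.stalkSpecializes (specializes_of_eq hgen)).hom v = w :=
        ((ConcreteCategory.isIso_iff_bijective _).mp inferInstance).2 w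
      exact ⟨v, rfl⟩
  let e₁ : Y.residueField (f ξ) ≃+* Y.functionField := (RingEquiv.ofBijective ρ' hbij).symm
  letI alg : Algebra (Y.residueField (f ξ)) (X.residueField ξ) :=
    (f.residueFieldMap ξ).hom.toAlgebra
  letI alg' : Algebra Y.functionField X.functionField := (ffMap f hgen).toAlgebra
  have he : (algebraMap Y.functionField X.functionField).comp (e₁ : _ →+* _) =
      (e₂ : X.residueField ξ →+* X.functionField).comp
        (algebraMap (Y.residueField (f ξ)) (X.residueField ξ)) := by
    ext x
    obtain ⟨z, rfl⟩ := hbij.2 x
    have h0 : e₁ (ρ' z) = z := (RingEquiv.ofBijective ρ' hbij).symm_apply_apply z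
    change ffMap f hgen (e₁ (ρ' z)) = e₂ ((f.residueFieldMap ξ).hom (ρ' z))
    rw [h0]
    have h1 := congrArg (fun g => g.hom
      ((Y.presheaf.stalkSpecializes (specializes_of_eq hgen)).hom z))
      (Scheme.residue_residueFieldMap f ξ)
    simp only [CommRingCat.hom_comp, RingHom.comp_apply] at h1
    change _ = e₂ ((f.residueFieldMap ξ).hom ((Y.residue (f ξ)).hom
      ((Y.presheaf.stalkSpecializes (specializes_of_eq hgen)).hom z)))
    rw [h1]
    exact ((RingEquiv.ofBijective (X.residue ξ).hom
      GD.residue_genericPoint_bijective).symm_apply_apply _).symm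
  exact (Algebra.IsSeparable.iff_of_equiv_equiv e₁ e₂ he).symm

end general

section main

variable {K : Type u} [Field K] [IsAlgClosed K] {X Y : Scheme.{u}}
  [X.Over (Spec (CommRingCat.of K))] [Y.Over (Spec (CommRingCat.of K))] [IsIntegral X]
  [IsIntegral Y]

/-- **a finite étale cover of a curve of genus zero over an algebraically closed field is an
isomorphism** -/
theorem isIso_of_finite_etale_of_genus_zero_algClosed (hX : GCurve K X) (hY : GCurve K Y)
    (f : X ⟶ Y) [IsFinite f] [Etale f]
    (hf : f ≫ (Y ↘ Spec (CommRingCat.of K)) = X ↘ Spec (CommRingCat.of K))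
    (hg : Curv2.genus K Y = 0) : IsIso f := by
  have hgen := generic_of_flat f
  letI alg : Algebra Y.functionField X.functionField := (ffMap f hgen).toAlgebra
  haveI : IsScalarTower K Y.functionField X.functionField :=
    IsScalarTower.of_algebraMap_eq (fun c => (ffMap_algebraMap f hgen hf c).symm)
  have hrank : ∀ y, Scheme.Hom.finrank f y = Module.finrank Y.functionField X.functionField :=
    fun y => finrank_eq_finrank_ffMap f hgen y
  have hpos : 1 ≤ Module.finrank Y.functionField X.functionField := by
    rw [← hrank (f (genericPoint X))]
    exact Scheme.Hom.one_le_finrank_map f _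
  haveI : FiniteDimensional Y.functionField X.functionField := Module.finite_of_finrank_pos hpos
  haveI : Algebra.IsSeparable Y.functionField X.functionField :=
    (isSeparable_ffMap_iff f hgen).mpr inferInstance
  have hunr := ramIdx_eq_one_of_formallyUnramified hX f hgen
  have hrh := FFRHIneq.rh_eq_of_unramified hY.isFunctionField hX.isFunctionField hunr
  rw [← hY.genus_eq, ← hX.genus_eq, hg] at hrh
  have hn : Module.finrank Y.functionField X.functionField = 1 := by
    have h1 : (1 : ℤ) ≤ (Module.finrank Y.functionField X.functionField : ℤ) := by
      exact_mod_cast hpos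
    have h2 : (0 : ℤ) ≤ (Curv2.genus K X : ℤ) := Int.natCast_nonneg _
    have h3 : (Module.finrank Y.functionField X.functionField : ℤ) ≤ 1 := by
      push_cast at hrh
      linarith
    omega
  rw [Scheme.Hom.isIso_iff_finrank_eq]
  ext y
  rw [hrank y, hn]
  rfl

end main

end Groth.Agent.H62.PM
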