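import Mathlib
import Groth.Agent.H62.PM48
import Groth.Agent.H62.PM11
import Groth.Agent.H62.PM13

/-!
# helper62: a finite étale cover of a smooth proper geometrically connected curve of genus zero
over an arbitrary field is an isomorphism (by base change to the algebraic closure)
-/

set_option autoImplicit false
set_option linter.style.haveILetI false
open CategoryTheory CategoryTheory.Limits AlgebraicGeometry TopologicalSpace Topology
universe u

namespace Groth.Agent.H62.PM

attribute [local instance] Curv2.stalkAlgebra Curv2.resAlgebra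
attribute [local instance] Groth.Agent.H62.GW.bcOver

variable (k : Type u) [Field k] (X Y : Scheme.{u}) [X.Over (Spec (CommRingCat.of k))]
  [Y.Over (Spec (CommRingCat.of k))]

section bcmap

variable {k X Y}
variable (L : Type u) [Field L] [Algebra k L]

/-- the base change of a `k`-morphism -/
noncomputable def bcMap (f : X ⟶ Y)
    (hf : f ≫ (Y ↘ Spec (CommRingCat.of k)) = X ↘ Spec (CommRingCat.of k)) :
    Curv2.bc k X L ⟶ Curv2.bc k Y L :=
  pullback.lift (Curv2.bcFst k X L ≫ f) (Curv2.bcSnd k X L)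
    (by rw [Category.assoc, hf]; exact pullback.condition)

theorem bcMap_fst (f : X ⟶ Y)
    (hf : f ≫ (Y ↘ Spec (CommRingCat.of k)) = X ↘ Spec (CommRingCat.of k)) :
    bcMap L f hf ≫ Curv2.bcFst k Y L = Curv2.bcFst k X L ≫ f :=
  pullback.lift_fst _ _ _

theorem bcMap_snd (f : X ⟶ Y)
    (hf : f ≫ (Y ↘ Spec (CommRingCat.of k)) = X ↘ Spec (CommRingCat.of k)) :
    bcMap L f hf ≫ ((Curv2.bc k Y L) ↘ Spec (CommRingCat.of L)) =
      (Curv2.bc k X L) ↘ Spec (CommRingCat.of L) :=
  pullback.lift_snd _ _ _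

theorem isPullback_bcMap (f : X ⟶ Y)
    (hf : f ≫ (Y ↘ Spec (CommRingCat.of k)) = X ↘ Spec (CommRingCat.of k)) :
    IsPullback (Curv2.bcFst k X L) (bcMap L f hf) f (Curv2.bcFst k Y L) := by
  have hs : IsPullback (Curv2.bcFst k X L)
      (bcMap L f hf ≫ ((Curv2.bc k Y L) ↘ Spec (CommRingCat.of L)))
      (f ≫ (Y ↘ Spec (CommRingCat.of k))) (Spec.map (CommRingCat.ofHom (algebraMap k L))) := by
    rw [bcMap_snd, hf]
    exact GW.isPullback_bc k X L
  exact IsPullback.of_bot hs (bcMap_fst L f hf).symm (GW.isPullback_bc k Y L)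

end bcmap

variable [IsIntegral X] [IsIntegral Y] [IsProper (X ↘ Spec (CommRingCat.of k))]
  [IsProper (Y ↘ Spec (CommRingCat.of k))]
  [Smooth (X ↘ Spec (CommRingCat.of k))] [Smooth (Y ↘ Spec (CommRingCat.of k))]
  [GeometricallyConnected (X ↘ Spec (CommRingCat.of k))]
  [GeometricallyConnected (Y ↘ Spec (CommRingCat.of k))]

/-- **a finite étale cover of a smooth proper geometrically connected curve of genus zero is an
isomorphism** -/
theorem isIso_of_finite_etale_of_genus_zero (hdX : topologicalKrullDim X = 1)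
    (hdY : topologicalKrullDim Y = 1) (f : X ⟶ Y) [IsFinite f] [Etale f]
    (hf : f ≫ (Y ↘ Spec (CommRingCat.of k)) = X ↘ Spec (CommRingCat.of k))
    (hg : Curv2.genus k Y = 0) : IsIso f := by
  let K := AlgebraicClosure k
  haveI := GW.isIntegral_bc k X K
  haveI := GW.isIntegral_bc k Y K
  have hX' := gcurve_bc k X K hdX
  have hY' := gcurve_bc k Y K hdY
  have hpb := isPullback_bcMap K f hf
  haveI : IsFinite (bcMap K f hf) := MorphismProperty.of_isPullback (P := @IsFinite) hpb inferInstance
  haveI : Etale (bcMap K f hf) := MorphismProperty.of_isPullback (P := @Etale) hpb inferInstance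
  have hg' : Curv2.genus K (Curv2.bc k Y K) = 0 := by rw [genus_bc k Y K, hg]
  have hiso := isIso_of_finite_etale_of_genus_zero_algClosed hX' hY' (bcMap K f hf)
    (bcMap_snd K f hf) hg'
  have h1 := (Scheme.Hom.isIso_iff_finrank_eq (bcMap K f hf)).mp hiso
  rw [Scheme.Hom.isIso_iff_finrank_eq]
  have hlc : IsLocallyConstant (Scheme.Hom.finrank f) := Scheme.Hom.isLocallyConstant_finrank f
  obtain ⟨y'⟩ : Nonempty (Curv2.bc k Y K) := inferInstance
  have h2 := Scheme.Hom.finrank_of_isPullback (Curv2.bcFst k X K) (bcMap K f hf) f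
    (Curv2.bcFst k Y K) hpb y'
  rw [h1] at h2
  ext y
  rw [hlc.apply_eq_of_preconnectedSpace y (Curv2.bcFst k Y K y'), ← h2]
  rfl

end Groth.Agent.H62.PM
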