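import Mathlib
import Groth.Agent.H62.HC3
import Groth.Agent.H18.ProjSpaceGlobal

/-!
# helper62: projective space over a field is smooth over the field
-/

set_option autoImplicit false
set_option linter.style.haveILetI false
open CategoryTheory AlgebraicGeometry MvPolynomial HomogeneousLocalization
universe u

namespace Groth.Agent.H62.PM

variable (n : ℕ) (k : Type u) [Field k]

local notation "𝒜" => CohB1.polyGrading n k

/-- the standard charts of projective space are affine -/
theorem isAffineOpen_stdChart (i : Fin (n + 1)) : IsAffineOpen (LefPen.chart n k i) :=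
  Proj.isAffineOpen_basicOpen 𝒜 (X i) (LefPen.X_mem n k i) Nat.one_pos

/-- constants on a standard chart -/
theorem awayToSection_psi_C_general (i : Fin (n + 1)) (c : k) :
    (Proj.awayToSection 𝒜 (X i)).hom (Groth.Agent.H73.Dehom.psi n k i (C c)) =
      Groth.Agent.H11.FtChart.secMap k (CohB1.ProjSpace n k) (LefPen.chart n k i) c := by
  apply Subtype.ext
  funext y
  apply HomogeneousLocalization.val_injective
  have h1 := ProjectiveSpectrum.Proj.awayToSection_apply 𝒜 (X i)
    (Groth.Agent.H73.Dehom.psi n k i (C c)) y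
  have h2 := Groth.Agent.H18.PSL.toGlobal_val n k c y.1
  refine h1.trans (Eq.trans ?_ h2.symm)
  rw [Groth.Agent.H73.Dehom.val_psi_C, IsLocalization.map_eq, RingHom.id_apply,
    Localization.mk_one_eq_algebraMap]

/-- **projective space over a field is smooth** -/
instance smooth_projSpace_toSpec : Smooth (CohB1.ProjSpace.toSpec n k) := by
  rw [HasRingHomProperty.iff_of_iSup_eq_top (P := @Smooth)
    (fun i : Fin (n + 1) => (⟨LefPen.chart n k i, isAffineOpen_stdChart n k i⟩ :
      (CohB1.ProjSpace n k).affineOpens)) (Groth.Agent.H73.Dehom.main n k).1]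
  intro i
  set φ := ((CohB1.ProjSpace.toSpec n k).appLE ⊤ (LefPen.chart n k i) le_top).hom with hφ
  have hsec : Groth.Agent.H11.FtChart.secMap k (CohB1.ProjSpace n k) (LefPen.chart n k i) =
      φ.comp (Scheme.ΓSpecIso (CommRingCat.of k)).inv.hom :=
    Groth.Agent.H11.FtChart.secMap_eq k (CohB1.ProjSpace n k) (LefPen.chart n k i)
  have hφ' : φ = (Groth.Agent.H11.FtChart.secMap k (CohB1.ProjSpace n k)
      (LefPen.chart n k i)).comp (Scheme.ΓSpecIso (CommRingCat.of k)).hom.hom := by
    rw [hsec, RingHom.comp_assoc]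
    have : (Scheme.ΓSpecIso (CommRingCat.of k)).inv.hom.comp
        (Scheme.ΓSpecIso (CommRingCat.of k)).hom.hom = RingHom.id _ := by
      rw [← CommRingCat.hom_comp, Iso.hom_inv_id]
      rfl
    rw [this, RingHom.comp_id]
  have hsec2 : Groth.Agent.H11.FtChart.secMap k (CohB1.ProjSpace n k) (LefPen.chart n k i) =
      ((Proj.awayToSection 𝒜 (X i)).hom.comp (Groth.Agent.H73.Dehom.psi n k i)).comp
        (C : k →+* MvPolynomial {j : Fin (n + 1) // j ≠ i} k) := by
    ext c
    exact (awayToSection_psi_C_general n k i c).symm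
  change φ.Smooth
  rw [hφ', hsec2]
  haveI : IsIso (Proj.awayToSection 𝒜 (X i)) :=
    (Proj.basicOpenIsoAway 𝒜 (X i) (LefPen.X_mem n k i) Nat.one_pos).isIso_hom
  have h1 : Function.Bijective (Proj.awayToSection 𝒜 (X i)).hom :=
    ConcreteCategory.bijective_of_isIso (Proj.awayToSection 𝒜 (X i))
  have h2 : Function.Bijective (Groth.Agent.H73.Dehom.psi n k i) :=
    ⟨Groth.Agent.H73.Dehom.psi_injective n k i, Groth.Agent.H73.Dehom.psi_surjective n k i⟩
  have h3 : Function.Bijective (Scheme.ΓSpecIso (CommRingCat.of k)).hom.hom :=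
    ConcreteCategory.bijective_of_isIso (Scheme.ΓSpecIso (CommRingCat.of k)).hom
  have hC : (C : k →+* MvPolynomial {j : Fin (n + 1) // j ≠ i} k).Smooth := by
    have : (algebraMap k (MvPolynomial {j : Fin (n + 1) // j ≠ i} k)).Smooth := by
      rw [RingHom.smooth_algebraMap]
      haveI : Algebra.FinitePresentation k (MvPolynomial {j : Fin (n + 1) // j ≠ i} k) :=
        Algebra.FinitePresentation.mvPolynomial_of_finitePresentation _
      exact ⟨inferInstance, inferInstance⟩
    exact this
  exact (RingHom.Smooth.of_bijective h3).comp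
    (hC.comp (RingHom.Smooth.of_bijective (h1.comp h2)))

end Groth.Agent.H62.PM
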