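import Mathlib

/-! Evaluating power series at an element of an ideal in an adically complete ring. -/

set_option autoImplicit false

namespace Groth.Agent.H62.PSeriesLift

open Polynomial PowerSeries

variable {K A : Type*} [CommRing K] [CommRing A] [Algebra K A] (I : Ideal A) {x : A}

theorem aeval_sub_trunc_mem (hx : x ∈ I) (p : K[X]) (n : ℕ) :
    aeval x p - aeval x (trunc n (p : K⟦X⟧)) ∈ I ^ n := by
  have hdvd : (X : K[X]) ^ n ∣ p - trunc n (p : K⟦X⟧) := by
    rw [Polynomial.X_pow_dvd_iff]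
    intro d hd
    rw [Polynomial.coeff_sub, coeff_trunc, if_pos hd, Polynomial.coeff_coe, sub_self]
  obtain ⟨q, hq⟩ := hdvd
  rw [← map_sub, hq, map_mul, map_pow, aeval_X]
  exact Ideal.mul_mem_right _ _ (Ideal.pow_mem_pow hx n)

theorem mk_aeval_trunc_eq (hx : x ∈ I) (n : ℕ) (f : K⟦X⟧) (p : K[X])
    (h : trunc n (p : K⟦X⟧) = trunc n f) :
    Ideal.Quotient.mk (I ^ n) (aeval x (trunc n f)) = Ideal.Quotient.mk (I ^ n) (aeval x p) := by
  rw [← h, Ideal.Quotient.eq]
  have := aeval_sub_trunc_mem (K := K) I hx p n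
  rw [← neg_sub]
  exact neg_mem this

/-- The truncated evaluation maps. -/
noncomputable def fn (hx : x ∈ I) (n : ℕ) : K⟦X⟧ →ₐ[K] A ⧸ I ^ n where
  toFun f := Ideal.Quotient.mk (I ^ n) (aeval x (trunc n f))
  map_one' := by
    rw [mk_aeval_trunc_eq I hx n 1 1 (by rw [Polynomial.coe_one]), map_one, map_one]
  map_mul' f g := by
    rw [mk_aeval_trunc_eq I hx n (f * g) (trunc n f * trunc n g)
      (by rw [Polynomial.coe_mul, trunc_trunc_mul_trunc]), map_mul, map_mul]
  map_zero' := by simp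
  map_add' f g := by simp
  commutes' a := by
    rw [mk_aeval_trunc_eq I hx n _ (Polynomial.C a) (by rw [Polynomial.coe_C]; rfl), aeval_C]
    rfl

theorem fn_apply (hx : x ∈ I) (n : ℕ) (f : K⟦X⟧) :
    fn I hx n f = Ideal.Quotient.mk (I ^ n) (aeval x (trunc n f)) := rfl

theorem fn_compat (hx : x ∈ I) {m n : ℕ} (hle : m ≤ n) :
    (Ideal.Quotient.factorₐ K (Ideal.pow_le_pow_right hle)).comp (fn (K := K) I hx n) =
      fn I hx m := by
  ext f
  simp only [AlgHom.coe_comp, Function.comp_apply, fn_apply, Ideal.Quotient.factorₐ_apply_mk]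
  exact (mk_aeval_trunc_eq I hx m f (trunc n f) (trunc_trunc_of_le f hle)).symm

variable [IsAdicComplete I A]

/-- Evaluation of power series at `x ∈ I` in an `I`-adically complete algebra. -/
noncomputable def ev (hx : x ∈ I) : K⟦X⟧ →ₐ[K] A :=
  IsAdicComplete.liftAlgHom I (fn (K := K) I hx) (fun hle => fn_compat I hx hle)

theorem ev_sub_mem (hx : x ∈ I) (f : K⟦X⟧) (n : ℕ) :
    ev (K := K) I hx f - ∑ i ∈ Finset.range n, algebraMap K A (coeff i f) * x ^ i ∈ I ^ n := by
  have h1 : Ideal.Quotient.mk (I ^ n) (ev (K := K) I hx f) = fn I hx n f :=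
    IsAdicComplete.mk_liftAlgHom I _ _ n f
  rw [fn_apply, Ideal.Quotient.eq] at h1
  have h2 : aeval x (trunc n f) = ∑ i ∈ Finset.range n, algebraMap K A (coeff i f) * x ^ i := by
    rw [aeval_def, eval₂_trunc_eq_sum_range]
  rwa [h2] at h1

end Groth.Agent.H62.PSeriesLift
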