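import Mathlib

set_option autoImplicit false
universe u v

open Polynomial Module

namespace Groth.Agent.H62

section

variable {F : Type u} {K : Type v} [Field F] [Field K] [Algebra F K]

lemma adjoin_eq_top_of_finrank_two (h : finrank F K = 2) (y : K)
    (hy : y ∉ Set.range (algebraMap F K)) : IntermediateField.adjoin F ({y} : Set K) = ⊤ := by
  have hs := IntermediateField.isSimpleOrder_of_finrank_prime F K (h ▸ Nat.prime_two)
  rcases hs.eq_bot_or_eq_top (IntermediateField.adjoin F ({y} : Set K)) with h1 | h1
  · exfalso
    apply hy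
    have : y ∈ IntermediateField.adjoin F ({y} : Set K) :=
      IntermediateField.mem_adjoin_simple_self F y
    rw [h1, IntermediateField.mem_bot] at this
    exact this
  · exact h1

lemma exists_quadratic (h : finrank F K = 2) :
    ∃ (α : K) (b c : F), α ∉ Set.range (algebraMap F K) ∧
      α ^ 2 + algebraMap F K b * α + algebraMap F K c = 0 ∧
      minpoly F α = X ^ 2 + C b * X + C c := by
  have hfin : FiniteDimensional F K := FiniteDimensional.of_finrank_pos (by omega)
  have hne : (⊥ : IntermediateField F K) ≠ ⊤ := by
    rw [Ne, IntermediateField.bot_eq_top_iff_finrank_eq_one]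
    omega
  obtain ⟨α, hα⟩ : ∃ α : K, α ∉ (⊥ : IntermediateField F K) := by
    by_contra hcon
    push Not at hcon
    exact hne (eq_top_iff.mpr fun x _ => hcon x)
  rw [IntermediateField.mem_bot] at hα
  have hint : IsIntegral F α := Algebra.IsIntegral.isIntegral α
  have hmonic := minpoly.monic hint
  have hdeg : (minpoly F α).natDegree = 2 := by
    apply le_antisymm
    · exact h ▸ minpoly.natDegree_le α
    · exact (minpoly.two_le_natDegree_iff hint).mpr hα
  have hp : minpoly F α = X ^ 2 + C ((minpoly F α).coeff 1) * X + C ((minpoly F α).coeff 0) := by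
    conv_lhs => rw [(minpoly F α).as_sum_range_C_mul_X_pow, hdeg]
    have hlead : (minpoly F α).coeff 2 = 1 := by
      have := hmonic.coeff_natDegree
      rwa [hdeg] at this
    simp [Finset.sum_range_succ, hlead]
    ring
  refine ⟨α, (minpoly F α).coeff 1, (minpoly F α).coeff 0, hα, ?_, hp⟩
  have := minpoly.aeval F α
  rw [hp] at this
  simpa using this

end

lemma exists_sq_mul_squarefree {k : Type u} [Field k] (h : k[X]) (hh : h ≠ 0) :
    ∃ s f : k[X], s ≠ 0 ∧ Squarefree f ∧ h = s ^ 2 * f := by
  induction hn : h.natDegree using Nat.strong_induction_on generalizing h with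
  | _ n ih =>
    by_cases hsq : Squarefree h
    · exact ⟨1, h, one_ne_zero, hsq, by simp⟩
    · unfold Squarefree at hsq
      push Not at hsq
      obtain ⟨d, ⟨h', hh'⟩, hd⟩ := hsq
      have hd0 : d ≠ 0 := by
        rintro rfl
        apply hh
        rw [hh']
        simp
      have hh'0 : h' ≠ 0 := by
        rintro rfl
        apply hh
        rw [hh']
        simp
      have hdpos : 0 < d.natDegree := by
        rw [Nat.pos_iff_ne_zero]
        intro h0
        apply hd
        rw [Polynomial.isUnit_iff_degree_eq_zero, Polynomial.degree_eq_natDegree hd0, h0]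
        rfl
      have hdeg : h'.natDegree < n := by
        rw [← hn, hh', Polynomial.natDegree_mul (mul_ne_zero hd0 hd0) hh'0,
          Polynomial.natDegree_mul hd0 hd0]
        omega
      obtain ⟨s, f, hs, hf, hsf⟩ := ih _ hdeg h' hh'0 rfl
      exact ⟨d * s, f, mul_ne_zero hd0 hs, hf, by rw [hh', hsf]; ring⟩

end Groth.Agent.H62
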