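import Groth.Agent.H55.WTwist
import Groth.Agent.H55.FFPlane1

/-!
# The degree of an endomorphism of a function field acting as a power on a function
-/

set_option autoImplicit false
set_option linter.unusedSectionVars false

namespace Groth.Agent.H62.RH

open FunFld WithZero Module IntermediateField Groth.Agent.H55

variable {k K : Type*} [Field k] [Field K] [Algebra k K]

/-- the divisor of the map `(1 : x)` is the pole divisor of `x` -/
theorem mapDiv_one_x (hK : IsFunctionField k K) (x : K) :
    mapDiv k ![(1 : K), x] = poleDiv k x := by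
  ext P
  rw [poleDiv_apply hK]
  have h0 := neg_mapDiv_le_ord hK ![(1 : K), x] P 0
  have h1 := neg_mapDiv_le_ord hK ![(1 : K), x] P 1
  simp only [Matrix.cons_val_zero, Matrix.cons_val_one] at h0 h1
  rw [Place.ord_one] at h0
  obtain ⟨i, hi⟩ := exists_ord_eq_neg_mapDiv hK ![(1 : K), x] P
  fin_cases i
  · simp only [Fin.zero_eta, Matrix.cons_val_zero] at hi
    rw [Place.ord_one] at hi
    have h2 : mapDiv k ![(1 : K), x] P = 0 := by omega
    rw [h2]
    symm
    apply max_eq_right
    omega
  · simp only [Fin.mk_one, Matrix.cons_val_one, Matrix.cons_val_zero] at hi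
    have h2 : mapDiv k ![(1 : K), x] P = -P.ord x := by omega
    rw [h2]
    symm
    apply max_eq_left
    omega

theorem poleDiv_pow (hK : IsFunctionField k K) (x : K) (N : ℕ) :
    poleDiv k (x ^ N) = N • poleDiv k x := by
  ext P
  rw [Finsupp.smul_apply, poleDiv_apply hK, poleDiv_apply hK, Place.ord_pow, nsmul_eq_mul]
  rcases le_total (P.ord x) 0 with h | h
  · rw [max_eq_left (by nlinarith [Nat.cast_nonneg (α := ℤ) N]), max_eq_left (by omega)]
    ring
  · rw [max_eq_right (by nlinarith [Nat.cast_nonneg (α := ℤ) N]), max_eq_right (by omega)]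
    ring

/-- an endomorphism sending a non-constant `x` to `x ^ N` has degree `N` -/
theorem finrank_fieldRange_of_pow (hK : IsFunctionField k K) (τ : K →ₐ[k] K) {x : K}
    (hx : Transcendental k x) {N : ℕ} (hτ : τ x = x ^ N) : finrank τ.fieldRange K = N := by
  have h := deg_mapDiv_comp_algHom hK τ ![(1 : K), x]
  have h1 : (τ ∘ ![(1 : K), x]) = ![(1 : K), x ^ N] := by
    funext i
    fin_cases i
    · simp
    · simp [hτ]
  rw [h1, mapDiv_one_x hK, mapDiv_one_x hK, poleDiv_pow hK, Divisor.deg_nsmul,
    deg_poleDiv hK hx] at h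
  have hfin : FiniteDimensional k⟮x⟯ K :=
    W.finiteDimensional_adjoin_of_transcendental hK.weak hx
  have hpos : 0 < finrank k⟮x⟯ K := finrank_pos
  have hpos' : (0 : ℤ) < (finrank k⟮x⟯ K : ℤ) := by exact_mod_cast hpos
  have h2 : (N : ℤ) = (finrank τ.fieldRange K : ℤ) := mul_right_cancel₀ hpos'.ne' h
  exact_mod_cast h2.symm

end Groth.Agent.H62.RH
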