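import Groth.Agent.H62.RH9
import Groth.Agent.H55.Sep1
import Groth.Agent.H55.Geom1

/-!
# The bound `|N_{2r} - q^{2r} - 1| ≤ C q^r` from a geometric model
-/

set_option autoImplicit false
set_option linter.unusedSectionVars false

namespace Groth.Agent.H62.RH

open FunFld WithZero Module Polynomial Groth.Agent.H55
open Groth.Agent.H62.Weil Groth.Agent.H62.FrobFix Groth.Agent.H86.Zeta
open scoped IntermediateField

attribute [-instance] FunFld.Place.algRes

universe u v w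

theorem div_le_abs_of_one_le {X Q : ℝ} (hQ : 1 ≤ Q) : X / Q ≤ |X| := by
  calc X / Q ≤ |X / Q| := le_abs_self _
    _ = |X| / |Q| := abs_div _ _
    _ = |X| / Q := by rw [abs_of_pos (lt_of_lt_of_le zero_lt_one hQ)]
    _ ≤ |X| := div_le_self (abs_nonneg _) hQ

theorem neg_abs_le_div_of_one_le {X Q : ℝ} (hQ : 1 ≤ Q) : -|X| ≤ X / Q := by
  have := div_le_abs_of_one_le (X := -X) hQ
  rw [abs_neg, neg_div] at this
  linarith

theorem bound_aux {N Q g gE d h R : ℝ} (hQ : 1 ≤ Q) (hg : 0 ≤ g) (hgE : 0 ≤ gE) (hh : 1 ≤ h)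
    (hdh : h ≤ d) (hR : 0 ≤ R)
    (hup : N ≤ 1 + Q ^ 2 + (Q + Q ^ 2 / Q) * g + 2 * g ^ 2 * (g - 1) / Q)
    (hlow : d * Q ^ 2 ≤ h * N + (d - h) * (1 + Q ^ 2 + (Q + Q ^ 2 / Q) * gE +
      2 * gE ^ 2 * (gE - 1) / Q) + d * R) :
    |N - Q ^ 2 - 1| ≤ (2 * g + |2 * g ^ 2 * (g - 1)| +
      ((d - h) * (1 + 2 * gE + |2 * gE ^ 2 * (gE - 1)|) + d * R + h)) * Q := by
  have hQ0 : 0 < Q := lt_of_lt_of_le zero_lt_one hQ
  have hQQ : Q ^ 2 / Q = Q := by rw [pow_two, mul_div_assoc, div_self hQ0.ne', mul_one]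
  rw [hQQ] at hup hlow
  set A := |2 * g ^ 2 * (g - 1)| with hA
  set AE := |2 * gE ^ 2 * (gE - 1)| with hAE
  have hA0 : 0 ≤ A := abs_nonneg _
  have hAE0 : 0 ≤ AE := abs_nonneg _
  have h1 : 2 * g ^ 2 * (g - 1) / Q ≤ A := div_le_abs_of_one_le hQ
  have h2 : 2 * gE ^ 2 * (gE - 1) / Q ≤ AE := div_le_abs_of_one_le hQ
  have hd0 : 0 ≤ d - h := sub_nonneg.mpr hdh
  set C2 := (d - h) * (1 + 2 * gE + AE) + d * R + h with hC2
  have hC20 : 0 ≤ C2 := by
    have : 0 ≤ (d - h) * (1 + 2 * gE + AE) := mul_nonneg hd0 (by linarith)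
    have : 0 ≤ d * R := mul_nonneg (by linarith) hR
    linarith
  rw [abs_le]
  constructor
  · -- lower bound
    have h3 : (d - h) * (1 + Q ^ 2 + (Q + Q) * gE + 2 * gE ^ 2 * (gE - 1) / Q) ≤
        (d - h) * (1 + Q ^ 2 + (Q + Q) * gE + AE) :=
      mul_le_mul_of_nonneg_left (by linarith) hd0
    have h4 : h * (N - Q ^ 2 - 1) ≥ -((d - h) * (1 + (Q + Q) * gE + AE) + d * R + h) := by
      nlinarith
    have h5 : (d - h) * (1 + (Q + Q) * gE + AE) + d * R + h ≤ C2 * Q := by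
      have e1 : (d - h) * (1 + (Q + Q) * gE + AE) ≤ (d - h) * ((1 + 2 * gE + AE) * Q) := by
        apply mul_le_mul_of_nonneg_left _ hd0
        nlinarith
      have e2 : d * R ≤ d * R * Q := le_mul_of_one_le_right (mul_nonneg (by linarith) hR) hQ
      have e3 : h ≤ h * Q := le_mul_of_one_le_right (by linarith) hQ
      rw [hC2]
      nlinarith
    have h6 : h * (N - Q ^ 2 - 1) ≥ -(C2 * Q) := by linarith
    have hC2Q : 0 ≤ C2 * Q := mul_nonneg hC20 hQ0.le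
    have h7 : N - Q ^ 2 - 1 ≥ -(C2 * Q) := by
      by_contra hcon
      push Not at hcon
      have hneg : N - Q ^ 2 - 1 < 0 := by linarith
      have : h * (N - Q ^ 2 - 1) ≤ 1 * (N - Q ^ 2 - 1) :=
        mul_le_mul_of_nonpos_right hh hneg.le
      linarith
    have h8 : 0 ≤ (2 * g + A) * Q := mul_nonneg (by linarith) hQ0.le
    nlinarith
  · -- upper bound
    have h3 : N - Q ^ 2 - 1 ≤ (Q + Q) * g + A := by linarith
    have h4 : (Q + Q) * g + A ≤ (2 * g + A) * Q := by nlinarith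
    have hC2Q : 0 ≤ C2 * Q := mul_nonneg hC20 hQ0.le
    nlinarith

section main

variable {k : Type u} {K : Type v} {kb : Type*} {Kb : Type w} [Field k] [Finite k] [Field K]
  [Algebra k K] [Field kb] [Algebra k kb] [Field Kb] [Algebra K Kb] [Algebra kb Kb] [Algebra k Kb]
  [IsScalarTower k K Kb] [IsScalarTower k kb Kb]

/-- the bound, for an abstract copy `Lb` of `kb(x)` -/
theorem exists_bound_aux [IsAlgClosed kb] [Algebra.IsAlgebraic k kb] (hK : IsFunctionField k K)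
    (hKb : IsFunctionField kb Kb)
    (hgen : Algebra.adjoin K (Set.range (algebraMap kb Kb)) = ⊤)
    (F : Kb →ₐ[kb] Kb) (hF : ∀ x : K, F (algebraMap K Kb x) = algebraMap K Kb x ^ Nat.card k)
    {Lb : Type*} [Field Lb] [Algebra kb Lb] [Algebra Lb Kb] [IsScalarTower kb Lb Kb]
    [FiniteDimensional Lb Kb] [Algebra.IsSeparable Lb Kb]
    (θ₀ : Kb ≃+* Kb) (hθF : ∀ z : Kb, F (θ₀ z) = z ^ Nat.card k)
    (hθL : ∀ l : Lb, ∃ l' : Lb, θ₀ (algebraMap Lb Kb l) = algebraMap Lb Kb l')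
    (x : Lb) (hx : kb⟮x⟯ = ⊤) (hxtr : Transcendental kb x) (x₀ : K)
    (hxx₀ : algebraMap Lb Kb x = algebraMap K Kb x₀) :
    ∃ (C : ℝ) (r₀ : ℕ), ∀ r, r₀ ≤ r →
      |(Nm k K (2 * r) : ℝ) - (Nat.card k : ℝ) ^ (2 * r) - 1| ≤ C * (Nat.card k : ℝ) ^ r := by
  classical
  let _ := Fintype.ofFinite k
  -- the characteristic
  obtain ⟨p, hp⟩ := CharP.exists k
  have hpp : Fact p.Prime := ⟨CharP.char_is_prime k p⟩
  obtain ⟨n, hn⟩ := FiniteField.card k p
  have hq : Nat.card k = p ^ (n : ℕ) := by rw [Nat.card_eq_fintype_card, hn.2]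
  have : CharP Kb p := charP_of_injective_algebraMap (algebraMap k Kb).injective p
  rw [hq] at hθF
  obtain ⟨Eb, _, _, _, _, _, _, _, _, _, Φ, hΦF, hpow⟩ :=
    exists_frobenius_lift (Lb := Lb) p n F θ₀ hθF hθL
  rw [← hq] at hpow
  have hfintop : FiniteDimensional kb⟮x⟯ Lb := by
    apply Module.finite_of_finrank_pos
    rw [hx, IntermediateField.finrank_top]
    exact one_pos
  have hLb : IsFunctionField kb Lb := isFunctionField_of_isAlgClosed hxtr hfintop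
  have hEb : IsFunctionField kb Eb :=
    isFunctionField_of_isAlgClosed (transcendental_algebraMap hxtr)
      (finiteDimensional_adjoin_algebraMap x)
  have hxE : algebraMap Lb Eb x = algebraMap Kb Eb (algebraMap K Kb x₀) := by
    rw [IsScalarTower.algebraMap_apply Lb Kb Eb, hxx₀]
  have hΦx : Φ (algebraMap Lb Eb x) = algebraMap Lb Eb x ^ Nat.card k := by
    rw [hxE, hΦF, hF, map_pow]
  -- constants
  have : FiniteDimensional Kb Eb := FiniteDimensional.right Lb Kb Eb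
  set g : ℕ := genus kb Kb with hgdef
  set gE : ℕ := genus kb Eb with hgEdef
  set d : ℕ := finrank Lb Eb with hd
  set h : ℕ := finrank Kb Eb with hh
  set R : ℕ := Set.ncard {Q : Place kb Eb |
    ¬ Function.Surjective (Q.1.comap (algebraMap Lb Eb))} with hR
  have hh1 : 1 ≤ h := Module.finrank_pos
  have hdh : h ≤ d := by
    rw [hd, hh, ← Module.finrank_mul_finrank Lb Kb Eb]
    exact Nat.le_mul_of_pos_left _ Module.finrank_pos
  refine ⟨2 * (g : ℝ) + |2 * (g : ℝ) ^ 2 * ((g : ℝ) - 1)| +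
      (((d : ℝ) - h) * (1 + 2 * (gE : ℝ) + |2 * (gE : ℝ) ^ 2 * ((gE : ℝ) - 1)|) + d * R + h),
    max g gE + 1, fun r hr => ?_⟩
  have hq2 : 2 ≤ Nat.card k := Finite.one_lt_card
  have hr1 : 0 < r := by omega
  have ha : 0 < 2 * r := by omega
  have hnr : r < Nat.card k ^ r :=
    lt_of_lt_of_le (Nat.lt_two_pow_self) (Nat.pow_le_pow_left hq2 r)
  have hng : g < Nat.card k ^ r := by
    have : g ≤ max g gE := le_max_left _ _
    omega
  have hngE : gE < Nat.card k ^ r := by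
    have : gE ≤ max g gE := le_max_right _ _
    omega
  have hup := Nm_le hK hKb hgen F hF ha (Nat.card k ^ r) hng
  obtain ⟨C, hCcard, hC⟩ := exists_finset_pow_eq (k := k) (kb := kb) (2 * r)
  have hlow := Nm_ge hK hKb hLb hEb hgen F hF hx Φ hΦF hΦx hpow ha (Nat.card k ^ r) hngE C
    hCcard hC
  rw [← hgdef] at hup
  rw [← hgEdef, ← hd, ← hh, ← hR] at hlow
  push_cast at hup hlow
  have hpow2 : (Nat.card k : ℝ) ^ (2 * r) = ((Nat.card k : ℝ) ^ r) ^ 2 := pow_mul' _ _ _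
  rw [hpow2] at hup hlow ⊢
  have hQ : (1 : ℝ) ≤ (Nat.card k : ℝ) ^ r := by
    apply one_le_pow₀
    exact_mod_cast (by omega : 1 ≤ Nat.card k)
  exact bound_aux hQ (Nat.cast_nonneg g) (Nat.cast_nonneg gE) (by exact_mod_cast hh1)
    (by exact_mod_cast hdh) (Nat.cast_nonneg R) hup hlow

/-- **the bound** `|N_{2r} - q^{2r} - 1| ≤ C q^r` -/
theorem exists_bound [IsAlgClosed kb] [Algebra.IsAlgebraic k kb] (hK : IsFunctionField k K)
    (hKb : IsFunctionField kb Kb)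
    (hgen : Algebra.adjoin K (Set.range (algebraMap kb Kb)) = ⊤)
    (F : Kb →ₐ[kb] Kb) (hF : ∀ x : K, F (algebraMap K Kb x) = algebraMap K Kb x ^ Nat.card k) :
    ∃ (C : ℝ) (r₀ : ℕ), ∀ r, r₀ ≤ r →
      |(Nm k K (2 * r) : ℝ) - (Nat.card k : ℝ) ^ (2 * r) - 1| ≤ C * (Nat.card k : ℝ) ^ r := by
  classical
  let _ := Fintype.ofFinite k
  have hg := isGeometric_of_perfectField k K hK
  obtain ⟨x₀, hx₀tr, hsep⟩ := exists_separating hK hg
  set xb := algebraMap K Kb x₀ with hxb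
  have hxbtr : Transcendental kb xb := transcendental_kb (kb := kb) hx₀tr
  have hfinL : FiniteDimensional kb⟮xb⟯ Kb := finiteDimensional_adjoin_of_transcendental hKb hxbtr
  have hsepL : Algebra.IsSeparable kb⟮xb⟯ Kb := isSeparable_adjoin_constExt (k := k) hgen x₀
  obtain ⟨θ₀, hθF, hθK, hθk⟩ := exists_theta hgen F hF
  have hθL : ∀ l : kb⟮xb⟯, ∃ l' : kb⟮xb⟯,
      θ₀ (algebraMap kb⟮xb⟯ Kb l) = algebraMap kb⟮xb⟯ Kb l' := fun l =>
    ⟨⟨θ₀ l.1, theta_mem_adjoin θ₀ (hθK x₀) (fun c => ⟨_, hθk c⟩) l.1 l.2⟩, rfl⟩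
  -- the generator
  set x : kb⟮xb⟯ := IntermediateField.AdjoinSimple.gen kb xb with hxdef
  have hx : (kb⟮x⟯ : IntermediateField kb kb⟮xb⟯) = ⊤ := adjoin_gen_eq_top xb
  have hxtr : Transcendental kb x := by
    intro h
    apply hxbtr
    have := h.algebraMap (A := Kb)
    rwa [IntermediateField.AdjoinSimple.algebraMap_gen] at this
  exact exists_bound_aux hK hKb hgen F hF θ₀ hθF hθL x hx hxtr x₀
    (IntermediateField.AdjoinSimple.algebraMap_gen kb xb)

end main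

end Groth.Agent.H62.RH
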