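import Groth.Agent.H62.FrobFix8
import Groth.Agent.H62.RH1
import Groth.Agent.H62.FFSepPlaces1
import Groth.Agent.S11053

/-!
# The upper bound for the number of places fixed by a power of the Frobenius
-/

set_option autoImplicit false
set_option linter.unusedSectionVars false

namespace Groth.Agent.H62.RH

open FunFld WithZero Module Polynomial Groth.Agent.H55
open Groth.Agent.H62.Weil Groth.Agent.H62.FrobFix Groth.Agent.H86.Zeta

attribute [-instance] FunFld.Place.algRes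

universe u v

section strong

variable {kb Kb : Type*} [Field kb] [Field Kb] [Algebra kb Kb]

/-- a strong fixed point is a fixed point -/
theorem fixed_of_strong [IsAlgClosed kb] (hKb : IsFunctionField kb Kb) (τ : Kb →ₐ[kb] Kb)
    (Q : Place kb Kb) (h : ∀ z : Kb, Q.1 z < 1 → Q.1 (τ z) ≤ exp (-2 : ℤ)) (z : Kb) :
    Q.1 (τ z) < 1 ↔ Q.1 z < 1 := by
  have hexp : (exp (-2 : ℤ) : WithZero (Multiplicative ℤ)) < 1 := by
    rw [← exp_zero, exp_lt_exp]; norm_num
  have hlt : ∀ w : Kb, Q.1 w < 1 → Q.1 (τ w) < 1 := fun w hw => (h w hw).trans_lt hexp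
  have hle : ∀ w : Kb, Q.1 w ≤ 1 → Q.1 (τ w) ≤ 1 := by
    intro w hw
    rcases hw.lt_or_eq with h1 | h1
    · exact (hlt w h1).le
    · have hdeg : Q.deg = 1 := Place.deg_eq_one_of_isAlgClosed hKb Q
      obtain ⟨c, hc⟩ := FFSepPlaces.exists_sub_lt_one_of_deg_one hdeg hw
      have h2 := hlt _ hc
      rw [map_sub, AlgHom.commutes] at h2
      have h3 : τ w = (τ w - algebraMap kb Kb c) + algebraMap kb Kb c := by ring
      rw [h3]
      exact (Q.1.map_add _ _).trans (max_le h2.le (Q.2.1 c))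
  refine ⟨fun hz => ?_, hlt z⟩
  by_contra hcon
  push Not at hcon
  have hz0 : z ≠ 0 := by
    rintro rfl
    rw [map_zero] at hcon
    exact not_le.mpr zero_lt_one hcon
  have h1 : Q.1 z⁻¹ ≤ 1 := by
    rw [map_inv₀]
    exact inv_le_one_of_one_le₀ hcon
  have h2 := hle z⁻¹ h1
  rw [map_inv₀, map_inv₀] at h2
  have hF0 : Q.1 (τ z) ≠ 0 := by
    rw [Valuation.ne_zero_iff]
    exact (_root_.map_ne_zero τ).mpr hz0
  have h3 : 1 ≤ Q.1 (τ z) := (inv_le_one₀ (zero_lt_iff.mpr hF0)).mp h2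
  exact not_lt.mpr h3 hz

/-- a fixed point of an endomorphism with values in `N`-th powers is a strong fixed point -/
theorem strong_of_fixed_of_pow (τ : Kb →ₐ[kb] Kb) {N : ℕ} (hN : 2 ≤ N)
    (hpow : ∀ z : Kb, ∃ w : Kb, τ z = w ^ N) (Q : Place kb Kb)
    (h : ∀ z : Kb, Q.1 z < 1 → Q.1 (τ z) < 1) (z : Kb) (hz : Q.1 z < 1) :
    Q.1 (τ z) ≤ exp (-2 : ℤ) := by
  obtain ⟨w, hw⟩ := hpow z
  have h1 := h z hz
  rw [hw, map_pow] at h1 ⊢
  have hN0 : N ≠ 0 := by omega
  have h2 : Q.1 w < 1 := (pow_lt_one_iff hN0).mp h1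
  have h3 : Q.1 w ≤ exp (-1 : ℤ) := le_exp_neg_one_of_lt_one h2
  calc Q.1 w ^ N ≤ (exp (-1 : ℤ) : WithZero (Multiplicative ℤ)) ^ N := pow_le_pow_left₀ zero_le h3 N
    _ = exp (-(N : ℤ)) := by
      rw [← exp_nsmul]
      simp
    _ ≤ exp (-2 : ℤ) := by
      rw [exp_le_exp]
      omega

end strong

variable {k : Type u} {K : Type v} {kb Kb : Type*} [Field k] [Finite k] [Field K] [Algebra k K]
  [Field kb] [Algebra k kb] [Field Kb] [Algebra K Kb] [Algebra kb Kb] [Algebra k Kb]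
  [IsScalarTower k K Kb] [IsScalarTower k kb Kb]

/-- the Frobenius takes values in `q`-th powers -/
theorem exists_pow_eq [IsAlgClosed kb]
    (hgen : Algebra.adjoin K (Set.range (algebraMap kb Kb)) = ⊤)
    (F : Kb →ₐ[kb] Kb) (hF : ∀ x : K, F (algebraMap K Kb x) = algebraMap K Kb x ^ Nat.card k)
    (z : Kb) : ∃ w : Kb, F z = w ^ Nat.card k := by
  have hq : 0 < Nat.card k := Nat.card_pos
  let _ := Fintype.ofFinite k
  have hadd : ∀ u v : Kb, (u + v) ^ Nat.card k = u ^ Nat.card k + v ^ Nat.card k := by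
    intro u v
    have := map_add (FiniteField.frobeniusAlgHom k Kb) u v
    rw [FiniteField.coe_frobeniusAlgHom, ← Nat.card_eq_fintype_card] at this
    exact this
  have hz : z ∈ Algebra.adjoin K (Set.range (algebraMap kb Kb)) := by
    rw [hgen]; exact Algebra.mem_top
  induction hz using Algebra.adjoin_induction with
  | mem x hx =>
    obtain ⟨c, rfl⟩ := hx
    obtain ⟨c', hc'⟩ := IsAlgClosed.exists_pow_nat_eq c hq
    exact ⟨algebraMap kb Kb c', by rw [AlgHom.commutes, ← map_pow, hc']⟩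
  | algebraMap x => exact ⟨algebraMap K Kb x, hF x⟩
  | add x y _ _ hx hy =>
    obtain ⟨w₁, h₁⟩ := hx
    obtain ⟨w₂, h₂⟩ := hy
    exact ⟨w₁ + w₂, by rw [map_add, h₁, h₂, hadd]⟩
  | mul x y _ _ hx hy =>
    obtain ⟨w₁, h₁⟩ := hx
    obtain ⟨w₂, h₂⟩ := hy
    exact ⟨w₁ * w₂, by rw [map_mul, h₁, h₂, mul_pow]⟩

theorem exists_pow_eq_pow [IsAlgClosed kb]
    (hgen : Algebra.adjoin K (Set.range (algebraMap kb Kb)) = ⊤)
    (F : Kb →ₐ[kb] Kb) (hF : ∀ x : K, F (algebraMap K Kb x) = algebraMap K Kb x ^ Nat.card k)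
    (a : ℕ) (z : Kb) : ∃ w : Kb, (F ^ a) z = w ^ (Nat.card k ^ a) := by
  induction a generalizing z with
  | zero => exact ⟨z, by rw [pow_zero, pow_zero, pow_one, AlgHom.one_apply]⟩
  | succ a ih =>
    obtain ⟨w, hw⟩ := ih z
    obtain ⟨w', hw'⟩ := exists_pow_eq hgen F hF w
    refine ⟨w', ?_⟩
    rw [pow_succ' F a, AlgHom.mul_apply, hw, map_pow, hw', ← pow_mul, pow_succ' (Nat.card k) a]

end Groth.Agent.H62.RH
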