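import Groth.Agent.H62.RH2

/-!
# The upper bound `N_a ≤ 1 + q^a + (n + q^a / n) g + 2 g² (g - 1) / n`
-/

set_option autoImplicit false
set_option linter.unusedSectionVars false

namespace Groth.Agent.H62.RH

open FunFld WithZero Module Polynomial Groth.Agent.H55
open Groth.Agent.H62.Weil Groth.Agent.H62.FrobFix Groth.Agent.H86.Zeta

attribute [-instance] FunFld.Place.algRes

universe u v

variable {k : Type u} {K : Type v} {kb Kb : Type*} [Field k] [Finite k] [Field K] [Algebra k K]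
  [Field kb] [Algebra k kb] [Field Kb] [Algebra K Kb] [Algebra kb Kb] [Algebra k Kb]
  [IsScalarTower k K Kb] [IsScalarTower k kb Kb]

omit [Finite k] in
theorem transcendental_kb [Algebra.IsAlgebraic k kb] {x : K} (hx : Transcendental k x) :
    Transcendental kb (algebraMap K Kb x) := by
  intro h
  exact transcendental_algebraMap (K' := Kb) hx (h.restrictScalars k)

/-- the degree of the `a`-th power of the Frobenius -/
theorem finrank_fieldRange_F_pow [Algebra.IsAlgebraic k kb] (hK : IsFunctionField k K)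
    (hKb : IsFunctionField kb Kb) (F : Kb →ₐ[kb] Kb)
    (hF : ∀ x : K, F (algebraMap K Kb x) = algebraMap K Kb x ^ Nat.card k) (a : ℕ) :
    finrank (F ^ a).fieldRange Kb = Nat.card k ^ a := by
  obtain ⟨x, hx, -⟩ := hK.1
  exact finrank_fieldRange_of_pow hKb (F ^ a) (transcendental_kb (kb := kb) hx)
    (F_pow_apply_algebraMap F hF a x)

/-- **the upper bound** -/
theorem Nm_le [IsAlgClosed kb] [Algebra.IsAlgebraic k kb] (hK : IsFunctionField k K)
    (hKb : IsFunctionField kb Kb)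
    (hgen : Algebra.adjoin K (Set.range (algebraMap kb Kb)) = ⊤)
    (F : Kb →ₐ[kb] Kb) (hF : ∀ x : K, F (algebraMap K Kb x) = algebraMap K Kb x ^ Nat.card k)
    {a : ℕ} (ha : 0 < a) (n : ℕ) (hn : genus kb Kb < n) :
    (Nm k K a : ℝ) ≤ 1 + (Nat.card k : ℝ) ^ a +
      (n + (Nat.card k : ℝ) ^ a / n) * genus kb Kb +
        2 * (genus kb Kb : ℝ) ^ 2 * (genus kb Kb - 1) / n := by
  have h1 := card_fixed_pow_eq hK hKb hgen F hF ha
  obtain ⟨hfin, hle⟩ := Groth.Agent.S11053.result kb Kb hKb (F ^ a) n hn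
  have hq : 2 ≤ Nat.card k := Finite.one_lt_card
  have hN : 2 ≤ Nat.card k ^ a := by
    calc 2 ≤ Nat.card k := hq
      _ = Nat.card k ^ 1 := (pow_one _).symm
      _ ≤ Nat.card k ^ a := Nat.pow_le_pow_right (by omega) ha
  have hsub : {Q : Place kb Kb | ∀ z : Kb, Q.1 ((F ^ a) z) < 1 ↔ Q.1 z < 1} ⊆
      {Q : Place kb Kb | ∀ z : Kb, Q.1 z < 1 → Q.1 ((F ^ a) z) ≤ exp (-2 : ℤ)} := by
    intro Q hQ z hz
    exact strong_of_fixed_of_pow (F ^ a) hN (exists_pow_eq_pow hgen F hF a) Q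
      (fun w hw => (hQ w).mpr hw) z hz
  have h2 : Nm k K a ≤
      Set.ncard {Q : Place kb Kb | ∀ z : Kb, Q.1 z < 1 → Q.1 ((F ^ a) z) ≤ exp (-2 : ℤ)} := by
    rw [← h1]
    exact (Nat.card_coe_set_eq _).le.trans (Set.ncard_le_ncard hsub hfin)
  rw [finrank_fieldRange_F_pow hK hKb F hF a] at hle
  push_cast at hle
  have h3 : (Nm k K a : ℝ) ≤ (Set.ncard {Q : Place kb Kb |
      ∀ z : Kb, Q.1 z < 1 → Q.1 ((F ^ a) z) ≤ exp (-2 : ℤ)} : ℝ) := by exact_mod_cast h2
  exact h3.trans hle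

end Groth.Agent.H62.RH
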