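import Groth.Agent.H62.RH3
import Groth.Agent.H62.FFRat

/-!
# Galois counting I: places above a rational point are fixed by a twisted Frobenius
-/

set_option autoImplicit false
set_option linter.unusedSectionVars false

namespace Groth.Agent.H62.RH

open FunFld WithZero Module Groth.Agent.H55
open scoped IntermediateField

attribute [-instance] FunFld.Place.algRes

section pullback

variable {k K : Type*} [Field k] [Field K] [Algebra k K]

/-- the pullback of a place along an endomorphism -/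
theorem exists_pullback (hK : IsFunctionField k K) (τ : K →ₐ[k] K) (Q : Place k K) :
    ∃ (Q₂ : Place k K) (e : ℕ), 0 < e ∧ ∀ w : K, Q.1 (τ w) = Q₂.1 w ^ e := by
  have hfin := Tw.finite τ hK
  let Q' : Place k (Tw τ) := Q
  obtain ⟨Q₂, e, he⟩ := exists_place_under (K' := Tw τ) hK Q'
  exact ⟨Q₂, e, isOverWith_pos he, fun w => he w⟩

/-- congruences are preserved by powers -/
theorem val_pow_sub_pow_lt (Q : Place k K) {u c : K} (hc : Q.1 c ≤ 1) (h : Q.1 (u - c) < 1)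
    (N : ℕ) : Q.1 (u ^ N - c ^ N) < 1 := by
  have hu : Q.1 u ≤ 1 := by
    have : u = (u - c) + c := by ring
    rw [this]
    exact (Q.1.map_add _ _).trans (max_le h.le hc)
  have h1 := (Commute.all u c).geom_sum₂_mul N
  rw [← h1, map_mul]
  have h2 : Q.1 (∑ i ∈ Finset.range N, u ^ i * c ^ (N - 1 - i)) ≤ 1 := by
    apply Valuation.map_sum_le
    intro i _
    rw [map_mul, map_pow, map_pow]
    exact mul_le_one' (pow_le_one₀ zero_le hu) (pow_le_one₀ zero_le hc)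
  calc Q.1 (∑ i ∈ Finset.range N, u ^ i * c ^ (N - 1 - i)) * Q.1 (u - c)
      ≤ 1 * Q.1 (u - c) := by gcongr
    _ < 1 := by rw [one_mul]; exact h

end pullback

section galois

variable {kb Lb Eb : Type*} [Field kb] [Field Lb] [Field Eb] [Algebra kb Lb] [Algebra kb Eb]
  [Algebra Lb Eb] [IsScalarTower kb Lb Eb]

/-- the twisted power of the Frobenius -/
noncomputable def twist (Φ : Eb →ₐ[kb] Eb) (a : ℕ) (σ : Eb ≃ₐ[Lb] Eb) : Eb →ₐ[kb] Eb :=
  (Φ ^ a).comp ((σ.restrictScalars kb : Eb ≃ₐ[kb] Eb) : Eb →ₐ[kb] Eb)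

theorem twist_apply (Φ : Eb →ₐ[kb] Eb) (a : ℕ) (σ : Eb ≃ₐ[Lb] Eb) (w : Eb) :
    twist Φ a σ w = (Φ ^ a) (σ w) := rfl

theorem pow_apply_of_pow (Φ : Eb →ₐ[kb] Eb) {q : ℕ} {y : Eb} (hy : Φ y = y ^ q) (a : ℕ) :
    (Φ ^ a) y = y ^ (q ^ a) := by
  induction a with
  | zero => rw [pow_zero, pow_zero, pow_one, AlgHom.one_apply]
  | succ a ih => rw [pow_succ' Φ a, AlgHom.mul_apply, ih, map_pow, hy, ← pow_mul, pow_succ' q a]

theorem exists_pow_eq_pow' (Φ : Eb →ₐ[kb] Eb) {q : ℕ} (hpow : ∀ w : Eb, ∃ v : Eb, Φ w = v ^ q)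
    (a : ℕ) (w : Eb) : ∃ v : Eb, (Φ ^ a) w = v ^ (q ^ a) := by
  induction a generalizing w with
  | zero => exact ⟨w, by rw [pow_zero, pow_zero, pow_one, AlgHom.one_apply]⟩
  | succ a ih =>
    obtain ⟨v, hv⟩ := ih w
    obtain ⟨v', hv'⟩ := hpow v
    exact ⟨v', by rw [pow_succ' Φ a, AlgHom.mul_apply, hv, map_pow, hv', ← pow_mul,
      pow_succ' q a]⟩

variable [FiniteDimensional Lb Eb] [IsGalois Lb Eb]

/-- **(C1)** a place above the point `x = c`, with `c` fixed by the `a`-th power of the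
Frobenius, is a strong fixed point of a twist of `Φ ^ a` -/
theorem exists_twist_strong (hLb : IsFunctionField kb Lb) (hEb : IsFunctionField kb Eb)
    {x : Lb} (hx : kb⟮x⟯ = ⊤) (Φ : Eb →ₐ[kb] Eb) {q : ℕ} (hq : 2 ≤ q)
    (hΦx : Φ (algebraMap Lb Eb x) = algebraMap Lb Eb x ^ q)
    (hpow : ∀ w : Eb, ∃ v : Eb, Φ w = v ^ q) {a : ℕ} (ha : 0 < a) {c : kb}
    (hc : c ^ (q ^ a) = c) (Q : Place kb Eb)
    (hQ : Q.1 (algebraMap Lb Eb (x - algebraMap kb Lb c)) < 1) :
    ∃ σ : Eb ≃ₐ[Lb] Eb, ∀ w : Eb, Q.1 w < 1 → Q.1 (twist Φ a σ w) ≤ exp (-2 : ℤ) := by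
  have hN : 2 ≤ q ^ a := by
    calc 2 ≤ q := hq
      _ = q ^ 1 := (pow_one _).symm
      _ ≤ q ^ a := Nat.pow_le_pow_right (by omega) ha
  obtain ⟨Q₂, e, he0, he⟩ := exists_pullback hEb (Φ ^ a) Q
  set y : Lb := x - algebraMap kb Lb c with hy
  -- `y` is a generator of `Lb`
  have hytop : kb⟮y⟯ = ⊤ := by
    rw [eq_top_iff, ← hx]
    rw [IntermediateField.adjoin_simple_le_iff]
    have h1 : x = y + algebraMap kb Lb c := by rw [hy]; ring
    rw [h1]
    exact add_mem (IntermediateField.mem_adjoin_simple_self kb y)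
      (IntermediateField.algebraMap_mem _ c)
  have hytr : Transcendental kb y := transcendental_of_adjoin_eq_top hLb hytop
  -- `Q₂` also lies above `x = c`
  have hQ₂ : Q₂.1 (algebraMap Lb Eb y) < 1 := by
    have h1 : (Φ ^ a) (algebraMap Lb Eb y) =
        algebraMap Lb Eb x ^ (q ^ a) - (algebraMap kb Eb c) ^ (q ^ a) := by
      have hc' : (algebraMap kb Eb c) ^ (q ^ a) = algebraMap kb Eb c := by
        rw [← map_pow, hc]
      rw [hy, map_sub, map_sub, pow_apply_of_pow Φ hΦx,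
        ← IsScalarTower.algebraMap_apply kb Lb Eb, AlgHom.commutes, hc']
    have h2 : Q.1 ((Φ ^ a) (algebraMap Lb Eb y)) < 1 := by
      rw [h1]
      apply val_pow_sub_pow_lt Q (Q.2.1 c) _ _
      have h3 : algebraMap Lb Eb y = algebraMap Lb Eb x - algebraMap kb Eb c := by
        rw [hy, map_sub, ← IsScalarTower.algebraMap_apply kb Lb Eb]
      rw [← h3]
      exact hQ
    rw [he] at h2
    exact (pow_lt_one_iff he0.ne').mp h2
  -- the places below coincide
  obtain ⟨P, e₁, he₁⟩ := exists_place_under hLb Q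
  obtain ⟨P₂, e₂, he₂⟩ := exists_place_under hLb Q₂
  have hP : P.1 y < 1 := (isOverWith_lt_one_iff he₁ y).mp hQ
  have hP₂ : P₂.1 y < 1 := (isOverWith_lt_one_iff he₂ y).mp hQ₂
  have hPP : P₂ = P := (FFRat.zero_of_adjoin_eq_top hLb.weak hytop hytr P hP).2.2 P₂ hP₂
  rw [hPP] at he₂
  obtain ⟨σ, hσ⟩ := exists_comapK_eq he₁ he₂
  have hσ' : ∀ w : Eb, Q₂.1 w = Q.1 (σ w) := by
    intro w
    rw [← hσ]
    rfl
  refine ⟨σ⁻¹, fun w hw => ?_⟩
  apply strong_of_fixed_of_pow (twist Φ a σ⁻¹) hN _ Q _ w hw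
  · intro z
    rw [twist_apply]
    exact exists_pow_eq_pow' Φ hpow a _
  · intro z hz
    rw [twist_apply, he, hσ']
    have h1 : σ (σ⁻¹ z) = z := by
      show (σ * σ⁻¹) z = z
      rw [mul_inv_cancel]
      rfl
    rw [h1]
    exact pow_lt_one₀ zero_le hz he0.ne'

end galois

end Groth.Agent.H62.RH
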