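import Groth.Agent.H62.RH5

/-!
# Galois counting III: fixed places of the twists by the subgroup `Gal(Eb/Kb)`
-/

set_option autoImplicit false
set_option linter.unusedSectionVars false

namespace Groth.Agent.H62.RH

open FunFld WithZero Module Groth.Agent.H55
open scoped IntermediateField Pointwise

attribute [-instance] FunFld.Place.algRes

section single

variable {k K : Type*} [Field k] [Field K] [Algebra k K]

/-- a place is determined by its maximal ideal -/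
theorem Place.eq_of_lt (P Q : Place k K) (h : ∀ x, P.1 x < 1 → Q.1 x < 1) : P = Q := by
  symm
  apply Place.eq_of_le
  intro x hx
  by_contra hcon
  push Not at hcon
  have hx0 : x ≠ 0 := by
    rintro rfl
    rw [map_zero] at hcon
    exact not_lt.mpr zero_le_one hcon
  have h1 : P.1 x⁻¹ < 1 := by
    rw [map_inv₀]
    exact inv_lt_one_of_one_lt₀ hcon
  have h2 := h _ h1
  rw [map_inv₀] at h2
  have h3 : Q.1 x ≠ 0 := (Valuation.ne_zero_iff _).mpr hx0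
  have h4 : 1 < Q.1 x := (inv_lt_one₀ (zero_lt_iff.mpr h3)).mp h2
  exact not_lt.mpr hx h4

end single

section galois

variable {kb Kb Eb : Type*} [Field kb] [Field Kb] [Field Eb] [Algebra kb Kb] [Algebra kb Eb]
  [Algebra Kb Eb] [IsScalarTower kb Kb Eb] [FiniteDimensional Kb Eb] [IsGalois Kb Eb]

/-- the pullback of a place above a fixed place is above the same place -/
theorem pullback_isOver (hKb : IsFunctionField kb Kb)
    (Fa : Kb →ₐ[kb] Kb) (Φa : Eb →ₐ[kb] Eb)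
    (hΦF : ∀ z : Kb, Φa (algebraMap Kb Eb z) = algebraMap Kb Eb (Fa z))
    {P' : Place kb Kb} (hP' : ∀ z : Kb, P'.1 (Fa z) < 1 ↔ P'.1 z < 1)
    {Q Q₂ : Place kb Eb} {e₁ e : ℕ} (he₁ : IsOverWith Q P' e₁) (he0 : 0 < e)
    (hpull : ∀ w : Eb, Q.1 (Φa w) = Q₂.1 w ^ e) : IsOver Q₂ P' := by
  have : Algebra.IsAlgebraic Kb Eb := Algebra.IsAlgebraic.of_finite Kb Eb
  obtain ⟨P'', e₂, he₂⟩ := exists_place_under hKb Q₂
  have h : P'' = P' := by
    apply Place.eq_of_lt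
    intro z hz
    rw [← hP', ← isOverWith_lt_one_iff he₁, ← hΦF, hpull]
    exact pow_lt_one₀ zero_le ((isOverWith_lt_one_iff he₂ z).mpr hz) he0.ne'
  rw [← h]
  exact ⟨e₂, he₂⟩

/-- the number of twists fixing a given place -/
theorem card_fix_mul_le (hKb : IsFunctionField kb Kb) (hEb : IsFunctionField kb Eb)
    (Fa : Kb →ₐ[kb] Kb) (Φa : Eb →ₐ[kb] Eb)
    (hΦF : ∀ z : Kb, Φa (algebraMap Kb Eb z) = algebraMap Kb Eb (Fa z))
    {P' : Place kb Kb} (hP' : ∀ z : Kb, P'.1 (Fa z) < 1 ↔ P'.1 z < 1)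
    {Q : Place kb Eb} {e₁ : ℕ} (he₁ : IsOverWith Q P' e₁) :
    Nat.card {ρ : Eb ≃ₐ[Kb] Eb // ∀ w : Eb, Q.1 (Φa (ρ w)) < 1 ↔ Q.1 w < 1} *
      Nat.card {Q' : Place kb Eb // IsOver Q' P'} ≤ finrank Kb Eb := by
  obtain ⟨Q₂, e, he0, hpull⟩ := exists_pullback hEb Φa Q
  obtain ⟨e₂, he₂⟩ := pullback_isOver hKb Fa Φa hΦF hP' he₁ he0 hpull
  rw [← card_places_mul_card_decomp he₂, mul_comm]
  apply Nat.mul_le_mul_left
  -- the twists fixing `Q` form a coset of the decomposition group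
  have hmem : ∀ ρ : Eb ≃ₐ[Kb] Eb, (∀ w : Eb, Q.1 (Φa (ρ w)) < 1 ↔ Q.1 w < 1) →
      Place.comapK Q₂ ρ = Q := by
    intro ρ hρ
    apply Place.eq_of_lt
    intro w hw
    rw [Place.comapK_val] at hw
    rw [← hρ, hpull]
    exact pow_lt_one₀ zero_le hw he0.ne'
  by_cases hne : Nonempty {ρ : Eb ≃ₐ[Kb] Eb // ∀ w : Eb, Q.1 (Φa (ρ w)) < 1 ↔ Q.1 w < 1}
  · obtain ⟨⟨ρ₀, hρ₀⟩⟩ := hne
    have h0 := hmem ρ₀ hρ₀
    let f : {ρ : Eb ≃ₐ[Kb] Eb // ∀ w : Eb, Q.1 (Φa (ρ w)) < 1 ↔ Q.1 w < 1} →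
        ValuationSubring.decompositionSubgroup Kb Q₂.O := fun ρ =>
      ⟨ρ₀ * ρ.1⁻¹, by
        show (ρ₀ * ρ.1⁻¹) • Q₂.O = Q₂.O
        rw [smul_O_eq, mul_inv_rev, inv_inv, ← Place.comapK_mul, hmem ρ.1 ρ.2, ← h0,
          Place.comapK_mul, mul_inv_cancel]
        rfl⟩
    apply Nat.card_le_card_of_injective f
    intro ρ ρ' h
    have h1 : ρ₀ * ρ.1⁻¹ = ρ₀ * ρ'.1⁻¹ := congrArg Subtype.val h
    have h2 := mul_left_cancel h1
    exact Subtype.ext (inv_injective h2)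
  · rw [not_nonempty_iff] at hne
    rw [Nat.card_of_isEmpty]
    exact Nat.zero_le _

/-- **(C3)** the total number of fixed places of the twists by `Gal(Eb/Kb)` -/
theorem sum_ncard_fixed_le [Fintype (Eb ≃ₐ[Kb] Eb)] (hKb : IsFunctionField kb Kb)
    (hEb : IsFunctionField kb Eb)
    (Fa : Kb →ₐ[kb] Kb) (Φa : Eb →ₐ[kb] Eb)
    (hΦF : ∀ z : Kb, Φa (algebraMap Kb Eb z) = algebraMap Kb Eb (Fa z))
    (hfin : {P : Place kb Kb | ∀ z : Kb, P.1 (Fa z) < 1 ↔ P.1 z < 1}.Finite) :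
    (∀ ρ : Eb ≃ₐ[Kb] Eb,
      {Q : Place kb Eb | ∀ w : Eb, Q.1 (Φa (ρ w)) < 1 ↔ Q.1 w < 1}.Finite) ∧
    ∑ ρ : Eb ≃ₐ[Kb] Eb,
      Set.ncard {Q : Place kb Eb | ∀ w : Eb, Q.1 (Φa (ρ w)) < 1 ↔ Q.1 w < 1} ≤
      finrank Kb Eb * Set.ncard {P : Place kb Kb | ∀ z : Kb, P.1 (Fa z) < 1 ↔ P.1 z < 1} := by
  classical
  have halg : Algebra.IsAlgebraic Kb Eb := Algebra.IsAlgebraic.of_finite Kb Eb
  set FixK := hfin.toFinset with hFixK
  have hoverfin : ∀ P' : Place kb Kb, {Q : Place kb Eb | IsOver Q P'}.Finite := fun P' =>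
    (sum_ramIdx_mul_deg (K' := Eb) hKb P').1
  let ovr : Place kb Kb → Finset (Place kb Eb) := fun P' => (hoverfin P').toFinset
  have hover : ∀ P' Q, Q ∈ ovr P' ↔ IsOver Q P' := by
    intro P' Q
    rw [Set.Finite.mem_toFinset, Set.mem_ofPred_eq]
  set U := FixK.biUnion ovr with hU
  let pred : (Eb ≃ₐ[Kb] Eb) → Place kb Eb → Prop := fun ρ Q =>
    ∀ w : Eb, Q.1 (Φa (ρ w)) < 1 ↔ Q.1 w < 1
  have hsub : ∀ ρ Q, pred ρ Q → Q ∈ U := by
    intro ρ Q hQ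
    obtain ⟨P', e, he⟩ := exists_place_under hKb Q
    rw [hU, Finset.mem_biUnion]
    refine ⟨P', ?_, (hover P' Q).mpr ⟨e, he⟩⟩
    rw [hFixK, Set.Finite.mem_toFinset, Set.mem_ofPred_eq]
    intro z
    rw [← isOverWith_lt_one_iff he, ← isOverWith_lt_one_iff he, ← hΦF, ← hQ (algebraMap Kb Eb z),
      ρ.commutes]
  have hset : ∀ ρ, {Q : Place kb Eb | pred ρ Q} = ↑(U.filter (pred ρ)) := by
    intro ρ
    ext Q
    rw [Set.mem_ofPred_eq, Finset.coe_filter, Set.mem_ofPred_eq]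
    exact ⟨fun h => ⟨hsub ρ Q h, h⟩, fun h => h.2⟩
  refine ⟨fun ρ => ?_, ?_⟩
  · show {Q : Place kb Eb | pred ρ Q}.Finite
    rw [hset]
    exact Finset.finite_toSet _
  show ∑ ρ : Eb ≃ₐ[Kb] Eb, Set.ncard {Q : Place kb Eb | pred ρ Q} ≤ _
  simp only [hset, Set.ncard_coe_finset, Finset.card_filter]
  rw [Finset.sum_comm]
  -- the contribution of a place `Q`
  have hg : ∀ Q : Place kb Eb, (∑ ρ : Eb ≃ₐ[Kb] Eb, if pred ρ Q then 1 else 0) =
      Nat.card {ρ : Eb ≃ₐ[Kb] Eb // pred ρ Q} := by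
    intro Q
    rw [← Finset.card_filter, Nat.card_eq_fintype_card, Fintype.card_subtype]
  simp only [hg]
  have hdisj : (FixK : Set (Place kb Kb)).PairwiseDisjoint ovr := by
    intro P' _ P'' _ hne
    rw [Function.onFun, Finset.disjoint_left]
    intro Q hQ hQ'
    exact hne (isOver_unique ((hover _ _).mp hQ) ((hover _ _).mp hQ'))
  rw [hU, Finset.sum_biUnion hdisj]
  have hP' : ∀ P' ∈ FixK,
      ∑ Q ∈ ovr P', Nat.card {ρ : Eb ≃ₐ[Kb] Eb // pred ρ Q} ≤ finrank Kb Eb := by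
    intro P' hP'
    rw [hFixK, Set.Finite.mem_toFinset, Set.mem_ofPred_eq] at hP'
    have hn : Nat.card {Q' : Place kb Eb // IsOver Q' P'} = (ovr P').card := by
      rw [← Set.ncard_eq_toFinset_card _ (hoverfin P')]
      exact Nat.card_coe_set_eq _
    rcases Nat.eq_zero_or_pos (ovr P').card with h0 | h0
    · rw [Finset.card_eq_zero.mp h0, Finset.sum_empty]
      exact Nat.zero_le _
    · apply Nat.le_of_mul_le_mul_right _ h0
      rw [Finset.sum_mul]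
      calc ∑ Q ∈ ovr P', Nat.card {ρ : Eb ≃ₐ[Kb] Eb // pred ρ Q} * (ovr P').card
          ≤ ∑ _Q ∈ ovr P', finrank Kb Eb := by
            apply Finset.sum_le_sum
            intro Q hQ
            obtain ⟨e₁, he₁⟩ := (hover _ _).mp hQ
            rw [← hn]
            exact card_fix_mul_le hKb hEb Fa Φa hΦF hP' he₁
        _ = finrank Kb Eb * (ovr P').card := by
            rw [Finset.sum_const, smul_eq_mul, mul_comm]
  calc ∑ P' ∈ FixK, ∑ Q ∈ ovr P', Nat.card {ρ : Eb ≃ₐ[Kb] Eb // pred ρ Q}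
      ≤ ∑ _P' ∈ FixK, finrank Kb Eb := Finset.sum_le_sum hP'
    _ = finrank Kb Eb * Set.ncard {P : Place kb Kb | ∀ z : Kb, P.1 (Fa z) < 1 ↔ P.1 z < 1} := by
        rw [Finset.sum_const, smul_eq_mul, mul_comm, Set.ncard_eq_toFinset_card _ hfin]

end galois

end Groth.Agent.H62.RH
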