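import Groth.Agent.H62.RH6

/-!
# Galois counting IV: the lower bound
-/

set_option autoImplicit false
set_option linter.unusedSectionVars false

namespace Groth.Agent.H62.RH

open FunFld WithZero Module Polynomial Groth.Agent.H55
open Groth.Agent.H62.Weil Groth.Agent.H62.FrobFix Groth.Agent.H86.Zeta
open scoped IntermediateField

attribute [-instance] FunFld.Place.algRes

universe u v

section fin

variable {k : Type u} {K : Type v} {kb Kb : Type*} [Field k] [Finite k] [Field K] [Algebra k K]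
  [Field kb] [Algebra k kb] [Field Kb] [Algebra K Kb] [Algebra kb Kb] [Algebra k Kb]
  [IsScalarTower k K Kb] [IsScalarTower k kb Kb]

/-- the set of places fixed by a power of the Frobenius is finite -/
theorem finite_fixed_pow [IsAlgClosed kb] (hKb : IsFunctionField kb Kb)
    (hgen : Algebra.adjoin K (Set.range (algebraMap kb Kb)) = ⊤)
    (F : Kb →ₐ[kb] Kb) (hF : ∀ x : K, F (algebraMap K Kb x) = algebraMap K Kb x ^ Nat.card k)
    {a : ℕ} (ha : 0 < a) :
    {Q : Place kb Kb | ∀ z : Kb, Q.1 ((F ^ a) z) < 1 ↔ Q.1 z < 1}.Finite := by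
  obtain ⟨hfin, -⟩ := Groth.Agent.S11053.result kb Kb hKb (F ^ a) (genus kb Kb + 1)
    (Nat.lt_succ_self _)
  have hq : 2 ≤ Nat.card k := Finite.one_lt_card
  have hN : 2 ≤ Nat.card k ^ a := by
    calc 2 ≤ Nat.card k := hq
      _ = Nat.card k ^ 1 := (pow_one _).symm
      _ ≤ Nat.card k ^ a := Nat.pow_le_pow_right (by omega) ha
  apply hfin.subset
  intro Q hQ z hz
  exact strong_of_fixed_of_pow (F ^ a) hN (exists_pow_eq_pow hgen F hF a) Q
    (fun w hw => (hQ w).mpr hw) z hz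

end fin

section pow

variable {kb Kb Eb : Type*} [Field kb] [Field Kb] [Field Eb] [Algebra kb Kb] [Algebra kb Eb]
  [Algebra Kb Eb]

theorem pow_apply_algebraMap (F : Kb →ₐ[kb] Kb) (Φ : Eb →ₐ[kb] Eb)
    (hΦF : ∀ z : Kb, Φ (algebraMap Kb Eb z) = algebraMap Kb Eb (F z)) (a : ℕ) (z : Kb) :
    (Φ ^ a) (algebraMap Kb Eb z) = algebraMap Kb Eb ((F ^ a) z) := by
  induction a generalizing z with
  | zero => rw [pow_zero, pow_zero, AlgHom.one_apply, AlgHom.one_apply]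
  | succ a ih => rw [pow_succ Φ a, pow_succ F a, AlgHom.mul_apply, AlgHom.mul_apply, hΦF, ih]

end pow

section main

variable {k : Type u} {K : Type v} {kb Lb Kb Eb : Type*} [Field k] [Finite k] [Field K]
  [Algebra k K] [Field kb] [Algebra k kb] [Field Kb] [Algebra K Kb] [Algebra kb Kb] [Algebra k Kb]
  [IsScalarTower k K Kb] [IsScalarTower k kb Kb]
  [Field Lb] [Field Eb] [Algebra kb Lb] [Algebra kb Eb] [Algebra Lb Kb] [Algebra Lb Eb]
  [Algebra Kb Eb] [IsScalarTower kb Lb Eb] [IsScalarTower kb Kb Eb] [IsScalarTower Lb Kb Eb]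
  [IsAlgClosed kb] [Algebra.IsAlgebraic k kb] [FiniteDimensional Lb Eb] [IsGalois Lb Eb]

/-- **the lower bound** -/
theorem Nm_ge (hK : IsFunctionField k K) (hKb : IsFunctionField kb Kb)
    (hLb : IsFunctionField kb Lb) (hEb : IsFunctionField kb Eb)
    (hgen : Algebra.adjoin K (Set.range (algebraMap kb Kb)) = ⊤)
    (F : Kb →ₐ[kb] Kb) (hF : ∀ x : K, F (algebraMap K Kb x) = algebraMap K Kb x ^ Nat.card k)
    {x : Lb} (hx : kb⟮x⟯ = ⊤) (Φ : Eb →ₐ[kb] Eb)
    (hΦF : ∀ z : Kb, Φ (algebraMap Kb Eb z) = algebraMap Kb Eb (F z))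
    (hΦx : Φ (algebraMap Lb Eb x) = algebraMap Lb Eb x ^ Nat.card k)
    (hpow : ∀ w : Eb, ∃ v : Eb, Φ w = v ^ Nat.card k)
    {a : ℕ} (ha : 0 < a) (n : ℕ) (hn : genus kb Eb < n) (C : Finset kb)
    (hCcard : C.card = Nat.card k ^ a) (hC : ∀ c ∈ C, c ^ (Nat.card k ^ a) = c) :
    (finrank Lb Eb : ℝ) * (Nat.card k : ℝ) ^ a ≤
      finrank Kb Eb * (Nm k K a : ℝ) +
      (finrank Lb Eb - finrank Kb Eb : ℝ) * (1 + (Nat.card k : ℝ) ^ a +
        (n + (Nat.card k : ℝ) ^ a / n) * genus kb Eb +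
          2 * (genus kb Eb : ℝ) ^ 2 * (genus kb Eb - 1) / n) +
      finrank Lb Eb * (Set.ncard {Q : Place kb Eb |
        ¬ Function.Surjective (Q.1.comap (algebraMap Lb Eb))} : ℝ) := by
  classical
  have hq : 2 ≤ Nat.card k := Finite.one_lt_card
  have : FiniteDimensional Kb Eb := FiniteDimensional.right Lb Kb Eb
  have : IsGalois Kb Eb := IsGalois.tower_top_of_isGalois Lb Kb Eb
  let _ : Fintype (Eb ≃ₐ[Lb] Eb) := Fintype.ofFinite _
  let _ : Fintype (Eb ≃ₐ[Kb] Eb) := Fintype.ofFinite _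
  set B : ℝ := 1 + (Nat.card k : ℝ) ^ a + (n + (Nat.card k : ℝ) ^ a / n) * genus kb Eb +
    2 * (genus kb Eb : ℝ) ^ 2 * (genus kb Eb - 1) / n with hB
  set R := Set.ncard {Q : Place kb Eb | ¬ Function.Surjective (Q.1.comap (algebraMap Lb Eb))}
    with hR
  -- the strong fixed points of the twists
  let S : (Eb ≃ₐ[Lb] Eb) → Set (Place kb Eb) := fun σ =>
    {Q | ∀ w : Eb, Q.1 w < 1 → Q.1 (twist Φ a σ w) ≤ exp (-2 : ℤ)}
  have hxtr : Transcendental kb (algebraMap Lb Eb x) :=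
    transcendental_algebraMap (transcendental_of_adjoin_eq_top hLb hx)
  have hdeg : ∀ σ : Eb ≃ₐ[Lb] Eb, finrank (twist Φ a σ).fieldRange Eb = Nat.card k ^ a := by
    intro σ
    apply finrank_fieldRange_of_pow hEb _ hxtr
    rw [twist_apply, σ.commutes, pow_apply_of_pow Φ hΦx]
  have hS : ∀ σ, (S σ).Finite ∧ ((S σ).ncard : ℝ) ≤ B := by
    intro σ
    obtain ⟨h1, h2⟩ := Groth.Agent.S11053.result kb Eb hEb (twist Φ a σ) n hn
    refine ⟨h1, ?_⟩
    rw [hdeg σ] at h2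
    push_cast at h2
    exact h2
  -- the places above the rational points
  set T := {Q : Place kb Eb | ∃ c ∈ C, Q.1 (algebraMap Lb Eb (x - algebraMap kb Lb c)) < 1}
    with hT
  have : Algebra.IsSeparable Lb Eb := IsGalois.to_isSeparable
  obtain ⟨hTfin, hTcard⟩ := card_over_points_ge hLb hEb hx C
  rw [← hT, ← hR] at hTcard
  have hTS : T ⊆ ⋃ σ, S σ := by
    intro Q hQ
    obtain ⟨c, hcC, hQc⟩ := hQ
    obtain ⟨σ, hσ⟩ := exists_twist_strong hLb hEb hx Φ hq hΦx hpow ha (hC c hcC) Q hQc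
    exact Set.mem_iUnion.mpr ⟨σ, hσ⟩
  have h1 : T.ncard ≤ ∑ σ : Eb ≃ₐ[Lb] Eb, (S σ).ncard := by
    calc T.ncard ≤ (⋃ σ, S σ).ncard :=
          Set.ncard_le_ncard hTS (Set.finite_iUnion fun σ => (hS σ).1)
      _ = (⋃ σ ∈ (Finset.univ : Finset (Eb ≃ₐ[Lb] Eb)), S σ).ncard := by simp
      _ ≤ ∑ σ : Eb ≃ₐ[Lb] Eb, (S σ).ncard := Finset.set_ncard_biUnion_le _ _
  -- split the sum
  let ι : (Eb ≃ₐ[Kb] Eb) → (Eb ≃ₐ[Lb] Eb) := AlgEquiv.restrictScalars Lb
  have hι : Function.Injective ι := AlgEquiv.restrictScalars_injective Lb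
  set I : Finset (Eb ≃ₐ[Lb] Eb) := Finset.univ.image ι with hI
  have hIcard : I.card = finrank Kb Eb := by
    rw [hI, Finset.card_image_of_injective _ hι, Finset.card_univ, ← Nat.card_eq_fintype_card,
      IsGalois.card_aut_eq_finrank]
  have hGcard : (Finset.univ : Finset (Eb ≃ₐ[Lb] Eb)).card = finrank Lb Eb := by
    rw [Finset.card_univ, ← Nat.card_eq_fintype_card, IsGalois.card_aut_eq_finrank]
  have hsplit : ∑ σ : Eb ≃ₐ[Lb] Eb, (S σ).ncard =
      ∑ σ ∈ I, (S σ).ncard + ∑ σ ∈ Finset.univ \ I, (S σ).ncard := by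
    rw [add_comm, Finset.sum_sdiff (Finset.subset_univ I)]
  -- the part in the subgroup
  have hfinK := finite_fixed_pow hKb hgen F hF ha
  obtain ⟨hEfin, hEsum⟩ := sum_ncard_fixed_le hKb hEb (F ^ a) (Φ ^ a)
    (pow_apply_algebraMap F Φ hΦF a) hfinK
  have h2 : ∑ σ ∈ I, (S σ).ncard ≤ finrank Kb Eb * Nm k K a := by
    rw [hI, Finset.sum_image (fun ρ _ ρ' _ h => hι h)]
    calc ∑ ρ : Eb ≃ₐ[Kb] Eb, (S (ι ρ)).ncard
        ≤ ∑ ρ : Eb ≃ₐ[Kb] Eb,
          Set.ncard {Q : Place kb Eb | ∀ w : Eb, Q.1 ((Φ ^ a) (ρ w)) < 1 ↔ Q.1 w < 1} := by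
          apply Finset.sum_le_sum
          intro ρ _
          apply Set.ncard_le_ncard _ (hEfin ρ)
          intro Q hQ w
          exact fixed_of_strong hEb (twist Φ a (ι ρ)) Q hQ w
      _ ≤ finrank Kb Eb *
          Set.ncard {P : Place kb Kb | ∀ z : Kb, P.1 ((F ^ a) z) < 1 ↔ P.1 z < 1} := hEsum
      _ = finrank Kb Eb * Nm k K a := by
          rw [← card_fixed_pow_eq hK hKb hgen F hF ha]
          congr 1
  -- the part outside
  have h3 : ((∑ σ ∈ Finset.univ \ I, (S σ).ncard : ℕ) : ℝ) ≤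
      (finrank Lb Eb - finrank Kb Eb : ℝ) * B := by
    push_cast
    calc ∑ σ ∈ Finset.univ \ I, ((S σ).ncard : ℝ) ≤ ∑ _σ ∈ Finset.univ \ I, B :=
          Finset.sum_le_sum fun σ _ => (hS σ).2
      _ = (finrank Lb Eb - finrank Kb Eb : ℝ) * B := by
          rw [Finset.sum_const, nsmul_eq_mul, Finset.card_sdiff_of_subset (Finset.subset_univ I),
            hGcard, hIcard, Nat.cast_sub]
          rw [← hIcard, ← hGcard]
          exact Finset.card_le_card (Finset.subset_univ I)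
  -- combine
  have h4 : (finrank Lb Eb * C.card : ℕ) ≤
      finrank Kb Eb * Nm k K a + ∑ σ ∈ Finset.univ \ I, (S σ).ncard + finrank Lb Eb * R := by
    calc finrank Lb Eb * C.card ≤ T.ncard + finrank Lb Eb * R := hTcard
      _ ≤ (∑ σ ∈ I, (S σ).ncard + ∑ σ ∈ Finset.univ \ I, (S σ).ncard) + finrank Lb Eb * R := by
          rw [← hsplit]
          exact Nat.add_le_add_right h1 _
      _ ≤ _ := by
          apply Nat.add_le_add_right
          exact Nat.add_le_add_right h2 _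
  have h5 : ((finrank Lb Eb * C.card : ℕ) : ℝ) ≤
      ((finrank Kb Eb * Nm k K a + ∑ σ ∈ Finset.univ \ I, (S σ).ncard + finrank Lb Eb * R : ℕ) :
        ℝ) := by exact_mod_cast h4
  rw [hCcard] at h5
  push_cast at h5
  push_cast at h3
  linarith

end main

end Groth.Agent.H62.RH
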