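import Mathlib

/-!
# Extending a twisted Frobenius to the Galois closure (pure field theory)
-/

set_option autoImplicit false
set_option linter.unusedSectionVars false

namespace Groth.Agent.H62.RH

open IntermediateField

section ext

variable {Lb Kb : Type*} [Field Lb] [Field Kb] [Algebra Lb Kb]
  (Ω : Type*) [Field Ω] [Algebra Kb Ω] [Algebra Lb Ω] [IsScalarTower Lb Kb Ω] [IsAlgClosure Kb Ω]

/-- an automorphism of `Kb` preserving `Lb` extends to an automorphism of the algebraic closure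
whose inverse preserves the normal closure of `Kb / Lb` -/
theorem exists_extension_normalClosure (θ₀ : Kb ≃+* Kb)
    (hθL : ∀ l : Lb, ∃ l' : Lb, θ₀ (algebraMap Lb Kb l) = algebraMap Lb Kb l') :
    ∃ ψ : Ω ≃+* Ω, (∀ z : Kb, ψ (algebraMap Kb Ω z) = algebraMap Kb Ω (θ₀.symm z)) ∧
      ∀ w ∈ normalClosure Lb Kb Ω, ψ w ∈ normalClosure Lb Kb Ω := by
  set θ : Ω ≃+* Ω := IsAlgClosure.equivOfEquiv Ω Ω θ₀ with hθ
  have hθs : ∀ z : Kb, θ.symm (algebraMap Kb Ω z) = algebraMap Kb Ω (θ₀.symm z) :=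
    IsAlgClosure.equivOfEquiv_symm_algebraMap Ω Ω θ₀
  refine ⟨θ.symm, hθs, ?_⟩
  set Eb := normalClosure Lb Kb Ω with hEb
  have hKE : ∀ z : Kb, algebraMap Kb Ω z ∈ Eb := by
    intro z
    have := (IsScalarTower.toAlgHom Lb Kb Ω).fieldRange_le_normalClosure
    exact this ⟨z, rfl⟩
  let E' : IntermediateField Lb Ω :=
    { carrier := {w | θ.symm w ∈ Eb}
      mul_mem' := fun {a b} ha hb => by
        show θ.symm (a * b) ∈ Eb
        rw [map_mul]
        exact mul_mem ha hb
      add_mem' := fun {a b} ha hb => by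
        show θ.symm (a + b) ∈ Eb
        rw [map_add]
        exact add_mem ha hb
      algebraMap_mem' := fun l => by
        show θ.symm (algebraMap Lb Ω l) ∈ Eb
        rw [IsScalarTower.algebraMap_apply Lb Kb Ω, hθs]
        exact hKE _
      inv_mem' := fun a ha => by
        show θ.symm a⁻¹ ∈ Eb
        rw [map_inv₀]
        exact inv_mem ha }
  have hle : Eb ≤ E' := by
    rw [hEb, normalClosure_le_iff]
    intro f w hw
    obtain ⟨z, rfl⟩ := hw
    show θ.symm (f z) ∈ Eb
    let f' : Kb →ₐ[Lb] Ω :=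
      { toRingHom := (θ.symm : Ω →+* Ω).comp ((f : Kb →+* Ω).comp (θ₀ : Kb →+* Kb))
        commutes' := fun l => by
          obtain ⟨l', hl'⟩ := hθL l
          show θ.symm (f (θ₀ (algebraMap Lb Kb l))) = algebraMap Lb Ω l
          rw [hl', f.commutes, IsScalarTower.algebraMap_apply Lb Kb Ω, hθs, ← hl',
            RingEquiv.symm_apply_apply, ← IsScalarTower.algebraMap_apply] }
    have h1 : θ.symm (f z) = f' (θ₀.symm z) := by
      show _ = θ.symm (f (θ₀ (θ₀.symm z)))
      rw [RingEquiv.apply_symm_apply]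
    rw [h1]
    exact f'.fieldRange_le_normalClosure ⟨_, rfl⟩
  intro w hw
  exact hle hw

end ext

section lift

universe w

variable {kb Lb : Type*} {Kb : Type w} [Field kb] [Field Lb] [Field Kb] [Algebra kb Lb]
  [Algebra kb Kb] [Algebra Lb Kb] [IsScalarTower kb Lb Kb] [FiniteDimensional Lb Kb]
  [Algebra.IsSeparable Lb Kb]

/-- **(P6)** the Galois closure of `Kb / Lb` carries an extension of the Frobenius `F`
all of whose values are `q`-th powers -/
theorem exists_frobenius_lift (p f : ℕ) [Fact p.Prime] [CharP Kb p]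
    (F : Kb →ₐ[kb] Kb) (θ₀ : Kb ≃+* Kb) (hθF : ∀ z : Kb, F (θ₀ z) = z ^ (p ^ f))
    (hθL : ∀ l : Lb, ∃ l' : Lb, θ₀ (algebraMap Lb Kb l) = algebraMap Lb Kb l') :
    ∃ (Eb : Type w) (_ : Field Eb) (_ : Algebra kb Eb) (_ : Algebra Lb Eb) (_ : Algebra Kb Eb)
      (_ : IsScalarTower kb Lb Eb) (_ : IsScalarTower kb Kb Eb) (_ : IsScalarTower Lb Kb Eb)
      (_ : FiniteDimensional Lb Eb) (_ : IsGalois Lb Eb),
      ∃ Φ : Eb →ₐ[kb] Eb, (∀ z : Kb, Φ (algebraMap Kb Eb z) = algebraMap Kb Eb (F z)) ∧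
        ∀ w : Eb, ∃ v : Eb, Φ w = v ^ (p ^ f) := by
  let Ω := AlgebraicClosure Kb
  have : IsScalarTower kb Lb Ω := IsScalarTower.of_algebraMap_eq fun c => by
    rw [IsScalarTower.algebraMap_apply kb Kb Ω, IsScalarTower.algebraMap_apply Lb Kb Ω,
      ← IsScalarTower.algebraMap_apply kb Lb Kb]
  obtain ⟨ψ, hψK, hψE⟩ := exists_extension_normalClosure Ω θ₀ hθL
  have halg : Algebra.IsAlgebraic Lb Ω := Algebra.IsAlgebraic.trans Lb Kb Ω
  have : IsAlgClosure Lb Ω := inferInstance
  have : Normal Lb Ω := IsAlgClosure.normal Lb Ω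
  let Eb := normalClosure Lb Kb Ω
  have hsep : Algebra.IsSeparable Lb Eb := by
    have : ∀ g : Kb →ₐ[Lb] Ω, Algebra.IsSeparable Lb g.fieldRange := fun g =>
      AlgEquiv.Algebra.isSeparable (AlgEquiv.ofInjectiveField g)
    show Algebra.IsSeparable Lb ↥(⨆ g : Kb →ₐ[Lb] Ω, g.fieldRange)
    exact IntermediateField.isSeparable_iSup Lb Ω
  have hgal : IsGalois Lb Eb := ⟨⟩
  have htower : IsScalarTower kb Kb Eb := IsScalarTower.of_algebraMap_eq fun c => by
    apply Subtype.ext
    show algebraMap kb Ω c = algebraMap Eb Ω (algebraMap Kb Eb (algebraMap kb Kb c))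
    rw [← IsScalarTower.algebraMap_apply Kb Eb Ω]
    rfl
  refine ⟨Eb, inferInstance, inferInstance, inferInstance, inferInstance, inferInstance, htower,
    inferInstance, inferInstance, hgal, ?_⟩
  have : CharP Eb p := charP_of_injective_algebraMap (algebraMap Kb Eb).injective p
  have : ExpChar Eb p := ExpChar.prime Fact.out
  let ψE : Eb →+* Eb :=
    { toFun := fun w => ⟨ψ w.1, hψE w.1 w.2⟩
      map_one' := Subtype.ext (map_one ψ)
      map_mul' := fun a b => Subtype.ext (map_mul ψ _ _)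
      map_zero' := Subtype.ext (map_zero ψ)
      map_add' := fun a b => Subtype.ext (map_add ψ _ _) }
  have hψEK : ∀ z : Kb, ψE (algebraMap Kb Eb z) = algebraMap Kb Eb (θ₀.symm z) := by
    intro z
    apply Subtype.ext
    show ψ (algebraMap Eb Ω (algebraMap Kb Eb z)) = algebraMap Eb Ω (algebraMap Kb Eb (θ₀.symm z))
    rw [← IsScalarTower.algebraMap_apply Kb Eb Ω, ← IsScalarTower.algebraMap_apply Kb Eb Ω, hψK]
  have hΦK : ∀ z : Kb, ((iterateFrobenius Eb p f).comp ψE) (algebraMap Kb Eb z) =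
      algebraMap Kb Eb (F z) := by
    intro z
    rw [RingHom.comp_apply, hψEK, iterateFrobenius_def, ← map_pow, ← hθF,
      RingEquiv.apply_symm_apply]
  let Φ : Eb →ₐ[kb] Eb :=
    { toRingHom := (iterateFrobenius Eb p f).comp ψE
      commutes' := fun c => by
        show ((iterateFrobenius Eb p f).comp ψE) (algebraMap kb Eb c) = algebraMap kb Eb c
        rw [IsScalarTower.algebraMap_apply kb Kb Eb, hΦK, F.commutes] }
  refine ⟨Φ, hΦK, fun w => ⟨ψE w, ?_⟩⟩
  show (iterateFrobenius Eb p f) (ψE w) = _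
  rw [iterateFrobenius_def]

end lift

end Groth.Agent.H62.RH
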