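import Groth.Agent.H62.RH7
import Groth.Agent.H62.RH8

/-!
# The arithmetic Frobenius `θ₀` on `Kb` and auxiliary facts for the concrete model
-/

set_option autoImplicit false
set_option linter.unusedSectionVars false

namespace Groth.Agent.H62.RH

open FunFld WithZero Module Polynomial Groth.Agent.H55
open Groth.Agent.H62.Weil Groth.Agent.H62.FrobFix Groth.Agent.H86.Zeta
open scoped IntermediateField

attribute [-instance] FunFld.Place.algRes

universe u v

section theta

variable {k : Type u} {K : Type v} {kb Kb : Type*} [Field k] [Finite k] [Field K] [Algebra k K]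
  [Field kb] [Algebra k kb] [Field Kb] [Algebra K Kb] [Algebra kb Kb] [Algebra k Kb]
  [IsScalarTower k K Kb] [IsScalarTower k kb Kb]

theorem add_pow_card (u v : Kb) :
    (u + v) ^ Nat.card k = u ^ Nat.card k + v ^ Nat.card k := by
  let _ := Fintype.ofFinite k
  have := map_add (FiniteField.frobeniusAlgHom k Kb) u v
  rw [FiniteField.coe_frobeniusAlgHom, ← Nat.card_eq_fintype_card] at this
  exact this

/-- every `q`-th power is a value of the Frobenius -/
theorem exists_F_eq_pow (hgen : Algebra.adjoin K (Set.range (algebraMap kb Kb)) = ⊤)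
    (F : Kb →ₐ[kb] Kb) (hF : ∀ x : K, F (algebraMap K Kb x) = algebraMap K Kb x ^ Nat.card k)
    (z : Kb) : ∃ y : Kb, F y = z ^ Nat.card k := by
  have hz : z ∈ Algebra.adjoin K (Set.range (algebraMap kb Kb)) := by
    rw [hgen]; exact Algebra.mem_top
  induction hz using Algebra.adjoin_induction with
  | mem x hx =>
    obtain ⟨c, rfl⟩ := hx
    exact ⟨algebraMap kb Kb (c ^ Nat.card k), by rw [AlgHom.commutes, map_pow]⟩
  | algebraMap x => exact ⟨algebraMap K Kb x, hF x⟩
  | add x y _ _ hx hy =>
    obtain ⟨w₁, h₁⟩ := hx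
    obtain ⟨w₂, h₂⟩ := hy
    exact ⟨w₁ + w₂, by rw [map_add, h₁, h₂, add_pow_card (k := k)]⟩
  | mul x y _ _ hx hy =>
    obtain ⟨w₁, h₁⟩ := hx
    obtain ⟨w₂, h₂⟩ := hy
    exact ⟨w₁ * w₂, by rw [map_mul, h₁, h₂, mul_pow]⟩

/-- the arithmetic Frobenius `θ₀ = id ⊗ Frob` of `Kb = K kb` -/
theorem exists_theta [IsAlgClosed kb]
    (hgen : Algebra.adjoin K (Set.range (algebraMap kb Kb)) = ⊤)
    (F : Kb →ₐ[kb] Kb) (hF : ∀ x : K, F (algebraMap K Kb x) = algebraMap K Kb x ^ Nat.card k) :
    ∃ θ₀ : Kb ≃+* Kb, (∀ z : Kb, F (θ₀ z) = z ^ Nat.card k) ∧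
      (∀ x : K, θ₀ (algebraMap K Kb x) = algebraMap K Kb x) ∧
      ∀ c : kb, θ₀ (algebraMap kb Kb c) = algebraMap kb Kb (c ^ Nat.card k) := by
  have hinj : Function.Injective F := F.toRingHom.injective
  choose t ht using exists_F_eq_pow hgen F hF
  let θ : Kb →+* Kb :=
    { toFun := t
      map_one' := hinj (by rw [ht, one_pow, map_one])
      map_mul' := fun a b => hinj (by rw [ht, map_mul, ht, ht, mul_pow])
      map_zero' := hinj (by rw [ht, map_zero, zero_pow (Nat.card_pos (α := k)).ne'])
      map_add' := fun a b => hinj (by rw [ht, map_add, ht, ht, add_pow_card (k := k)]) }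
  have hbij : Function.Bijective θ := by
    refine ⟨θ.injective, fun y => ?_⟩
    obtain ⟨w, hw⟩ := exists_pow_eq hgen F hF y
    exact ⟨w, hinj (by rw [hw]; exact ht w)⟩
  refine ⟨RingEquiv.ofBijective θ hbij, ht, fun x => ?_, fun c => ?_⟩
  · apply hinj
    show F (t _) = _
    rw [ht, hF]
  · apply hinj
    show F (t _) = _
    rw [ht, AlgHom.commutes, map_pow]

end theta

section aux

variable {kb Kb : Type*} [Field kb] [Field Kb] [Algebra kb Kb]

/-- `θ₀` preserves `kb(x)` -/
theorem theta_mem_adjoin (θ₀ : Kb ≃+* Kb) {xb : Kb} (hx : θ₀ xb = xb)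
    (hc : ∀ c : kb, ∃ c' : kb, θ₀ (algebraMap kb Kb c) = algebraMap kb Kb c') (l : Kb)
    (hl : l ∈ kb⟮xb⟯) : θ₀ l ∈ kb⟮xb⟯ := by
  induction hl using IntermediateField.adjoin_induction with
  | mem y hy =>
    rw [Set.mem_singleton_iff] at hy
    rw [hy, hx]
    exact IntermediateField.mem_adjoin_simple_self kb xb
  | algebraMap c =>
    obtain ⟨c', hc'⟩ := hc c
    rw [hc']
    exact IntermediateField.algebraMap_mem _ c'
  | add y z _ _ hy hz => rw [map_add]; exact add_mem hy hz
  | inv y _ hy => rw [map_inv₀]; exact inv_mem hy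
  | mul y z _ _ hy hz => rw [map_mul]; exact mul_mem hy hz

/-- the generator generates -/
theorem adjoin_gen_eq_top (xb : Kb) :
    (kb⟮IntermediateField.AdjoinSimple.gen kb xb⟯ : IntermediateField kb kb⟮xb⟯) = ⊤ := by
  apply IntermediateField.lift_injective kb⟮xb⟯
  rw [IntermediateField.lift_adjoin_simple, IntermediateField.lift_top,
    IntermediateField.AdjoinSimple.coe_gen]

/-- over an algebraically closed field, the constants are the only algebraic elements -/
theorem isFunctionField_of_isAlgClosed [IsAlgClosed kb] {x : Kb} (hx : Transcendental kb x)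
    (hfin : FiniteDimensional kb⟮x⟯ Kb) : IsFunctionField kb Kb := by
  refine ⟨⟨x, hx, hfin⟩, fun y hy => ?_⟩
  have h1 := IsAlgClosed.degree_eq_one_of_irreducible kb (minpoly.irreducible hy.isIntegral)
  exact minpoly.mem_range_of_degree_eq_one kb y h1

end aux

section finset

variable {k : Type u} {kb : Type*} [Field k] [Finite k] [Field kb] [Algebra k kb] [IsAlgClosed kb]

/-- the subfield with `q ^ a` elements of an algebraically closed field -/
theorem exists_finset_pow_eq (a : ℕ) :
    ∃ C : Finset kb, C.card = Nat.card k ^ a ∧ ∀ c ∈ C, c ^ (Nat.card k ^ a) = c := by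
  classical
  let _ := Fintype.ofFinite k
  obtain ⟨p, hp⟩ := CharP.exists k
  have hpp : Fact p.Prime := ⟨CharP.char_is_prime k p⟩
  obtain ⟨n, hn⟩ := FiniteField.card k p
  have : CharP kb p := charP_of_injective_algebraMap (algebraMap k kb).injective p
  have hq : Nat.card k = p ^ (n : ℕ) := by rw [Nat.card_eq_fintype_card, hn.2]
  have hq1 : 1 < Nat.card k := Finite.one_lt_card
  by_cases ha : a = 0
  · subst ha
    refine ⟨{1}, by simp, fun c hc => ?_⟩
    rw [Finset.mem_singleton] at hc
    rw [hc, one_pow]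
  have hpd : p ∣ Nat.card k ^ a := by
    rw [hq, ← pow_mul]
    exact dvd_pow_self p (Nat.mul_ne_zero n.ne_zero ha)
  have hsep : (X ^ (Nat.card k ^ a) - X : kb[X]).Separable := galois_poly_separable p _ hpd
  have hdeg : (X ^ (Nat.card k ^ a) - X : kb[X]).natDegree = Nat.card k ^ a :=
    FiniteField.X_pow_card_pow_sub_X_natDegree_eq kb ha hq1
  refine ⟨(X ^ (Nat.card k ^ a) - X : kb[X]).roots.toFinset, ?_, fun c hc => ?_⟩
  · rw [Multiset.toFinset_card_of_nodup (nodup_roots hsep), IsAlgClosed.card_roots_eq_natDegree,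
      hdeg]
  · rw [Multiset.mem_toFinset, mem_roots', IsRoot.def, eval_sub, eval_pow, eval_X] at hc
    exact sub_eq_zero.mp hc.2

end finset

section sep

variable {k : Type u} {K : Type v} {kb Kb : Type*} [Field k] [Field K] [Algebra k K]
  [Field kb] [Algebra k kb] [Field Kb] [Algebra K Kb] [Algebra kb Kb] [Algebra k Kb]
  [IsScalarTower k K Kb] [IsScalarTower k kb Kb]

/-- `k(x₀)` maps into `kb(x₀)` -/
theorem algebraMap_mem_adjoin (x₀ : K) (u : K) (hu : u ∈ k⟮x₀⟯) :
    algebraMap K Kb u ∈ kb⟮algebraMap K Kb x₀⟯ := by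
  induction hu using IntermediateField.adjoin_induction with
  | mem y hy =>
    rw [Set.mem_singleton_iff] at hy
    rw [hy]
    exact IntermediateField.mem_adjoin_simple_self kb _
  | algebraMap c =>
    rw [← IsScalarTower.algebraMap_apply k K Kb, IsScalarTower.algebraMap_apply k kb Kb]
    exact IntermediateField.algebraMap_mem _ _
  | add y z _ _ hy hz => rw [map_add]; exact add_mem hy hz
  | inv y _ hy => rw [map_inv₀]; exact inv_mem hy
  | mul y z _ _ hy hz => rw [map_mul]; exact mul_mem hy hz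

/-- a separating variable remains separating after the constant field extension -/
theorem isSeparable_adjoin_constExt (hgen : Algebra.adjoin K (Set.range (algebraMap kb Kb)) = ⊤)
    (x₀ : K) [Algebra.IsSeparable k⟮x₀⟯ K] :
    Algebra.IsSeparable kb⟮algebraMap K Kb x₀⟯ Kb := by
  set Lb := kb⟮algebraMap K Kb x₀⟯ with hLb
  let j : k⟮x₀⟯ →+* Lb :=
    { toFun := fun u => ⟨algebraMap K Kb u.1, algebraMap_mem_adjoin x₀ u.1 u.2⟩
      map_one' := Subtype.ext (map_one _)
      map_mul' := fun a b => Subtype.ext (map_mul _ _ _)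
      map_zero' := Subtype.ext (map_zero _)
      map_add' := fun a b => Subtype.ext (map_add _ _ _) }
  have hj : (algebraMap Lb Kb).comp j = (algebraMap K Kb).comp (algebraMap k⟮x₀⟯ K) := rfl
  have hK : ∀ y : K, IsSeparable Lb (algebraMap K Kb y) := by
    intro y
    have h1 : (minpoly k⟮x₀⟯ y).Separable := Algebra.IsSeparable.isSeparable k⟮x₀⟯ y
    have h2 : ((minpoly k⟮x₀⟯ y).map j).Separable := h1.map
    have h3 : aeval (algebraMap K Kb y) ((minpoly k⟮x₀⟯ y).map j) = 0 := by
      rw [aeval_def, eval₂_map, hj, ← hom_eval₂, ← aeval_def, minpoly.aeval, map_zero]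
    exact h2.of_dvd (minpoly.dvd _ _ h3)
  rw [← separableClosure.eq_top_iff, eq_top_iff]
  intro z _
  have hz : z ∈ Algebra.adjoin K (Set.range (algebraMap kb Kb)) := by
    rw [hgen]; exact Algebra.mem_top
  induction hz using Algebra.adjoin_induction with
  | mem x hx =>
    obtain ⟨c, rfl⟩ := hx
    have : algebraMap kb Kb c = algebraMap Lb Kb (algebraMap kb Lb c) := rfl
    rw [this]
    exact IntermediateField.algebraMap_mem _ _
  | algebraMap x => exact mem_separableClosure_iff.mpr (hK x)
  | add x y _ _ hx hy => exact add_mem (hx trivial) (hy trivial)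
  | mul x y _ _ hx hy => exact mul_mem (hx trivial) (hy trivial)

end sep

end Groth.Agent.H62.RH
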