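import Groth.Prelude.Def_EGA4b
import Mathlib

/-! Regular locus of a scheme vs. `EGA4.regLocus` of affine coordinate rings. -/

set_option autoImplicit false
universe u
open CategoryTheory AlgebraicGeometry

namespace Groth.Agent.H62

theorem isRegularLocalRing_stalk_iff {Y : Scheme.{u}} {W : Y.Opens} (hW : IsAffineOpen W) (y : W) :
    IsRegularLocalRing (Y.presheaf.stalk y.1) ↔ hW.primeIdealOf y ∈ EGA4.regLocus Γ(Y, W) := by
  let _ : Algebra Γ(Y, W) (Y.presheaf.stalk y.1) :=
    TopCat.Presheaf.algebra_section_stalk Y.presheaf y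
  have hloc : IsLocalization.AtPrime (Y.presheaf.stalk y.1) (hW.primeIdealOf y).asIdeal :=
    hW.isLocalization_stalk y
  let eqv : Localization.AtPrime (hW.primeIdealOf y).asIdeal ≃ₐ[Γ(Y, W)] Y.presheaf.stalk y.1 :=
    IsLocalization.algEquiv (hW.primeIdealOf y).asIdeal.primeCompl _ _
  constructor
  · intro h
    exact IsRegularLocalRing.of_ringEquiv eqv.symm.toRingEquiv
  · intro h
    have h' : IsRegularLocalRing (Localization.AtPrime (hW.primeIdealOf y).asIdeal) := h
    exact IsRegularLocalRing.of_ringEquiv eqv.toRingEquiv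

theorem isRegularLocalRing_spec_stalk_iff (S : CommRingCat.{u}) (p : PrimeSpectrum S) :
    IsRegularLocalRing ((Spec S).presheaf.stalk p) ↔ p ∈ EGA4.regLocus S := by
  let _ : Algebra S ((Spec S).presheaf.stalk p) := StructureSheaf.stalkAlgebra S p
  have hloc : IsLocalization.AtPrime ((Spec S).presheaf.stalk p) p.asIdeal :=
    StructureSheaf.IsLocalization.to_stalk S p
  let eqv : Localization.AtPrime p.asIdeal ≃ₐ[S] (Spec S).presheaf.stalk p :=
    IsLocalization.algEquiv p.asIdeal.primeCompl _ _
  constructor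
  · intro h
    exact IsRegularLocalRing.of_ringEquiv eqv.symm.toRingEquiv
  · intro h
    have h' : IsRegularLocalRing (Localization.AtPrime p.asIdeal) := h
    exact IsRegularLocalRing.of_ringEquiv eqv.toRingEquiv

end Groth.Agent.H62
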