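import Groth.Agent.H62.Comod
import Mathlib.LinearAlgebra.Projection
import Mathlib.LinearAlgebra.FiniteDimensional.Lemmas

set_option autoImplicit false
universe u v w w' w''

open TensorProduct

namespace Groth.Agent.H62

noncomputable section

open HopfRep

section Coalg

variable {k : Type u} [Field k] {A : Type v} [AddCommGroup A] [Module k A] [Coalgebra k A]
variable {V : Type w} [AddCommGroup V] [Module k V] [Comod k A V]

omit [Coalgebra k A] [Comod k A V] in
lemma range_rTensor_mono {W W' : Submodule k V} (h : W ≤ W') :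
    LinearMap.range (W.subtype.rTensor A) ≤ LinearMap.range (W'.subtype.rTensor A) := by
  have : W.subtype = W'.subtype ∘ₗ Submodule.inclusion h := by ext; rfl
  rw [this, LinearMap.rTensor_comp]
  exact LinearMap.range_comp_le_range _ _

lemma isSubcomod_sSup (S : Set (Submodule k V))
    (hS : ∀ W ∈ S, IsSubcomod (k := k) (A := A) W) :
    IsSubcomod (k := k) (A := A) (sSup S) := by
  intro w hw
  rw [sSup_eq_iSup'] at hw
  refine Submodule.iSup_induction (fun i : S => (i : Submodule k V))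
    (motive := fun w => Comod.coact (k := k) (A := A) w ∈
      LinearMap.range ((sSup S).subtype.rTensor A)) hw ?_ ?_ ?_
  · intro i x hx
    exact range_rTensor_mono (le_sSup i.2) (hS i.1 i.2 x hx)
  · simp
  · intro x y hx hy
    rw [map_add]; exact Submodule.add_mem _ hx hy

lemma isSubcomod_sup (W₁ W₂ : Submodule k V) (h₁ : IsSubcomod (k := k) (A := A) W₁)
    (h₂ : IsSubcomod (k := k) (A := A) W₂) : IsSubcomod (k := k) (A := A) (W₁ ⊔ W₂) := by
  rw [← sSup_pair]
  apply isSubcomod_sSup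
  rintro W (rfl | rfl)
  · exact h₁
  · exact h₂

lemma isSubcomod_bot : IsSubcomod (k := k) (A := A) (⊥ : Submodule k V) := by
  intro w hw
  rw [(Submodule.mem_bot k).mp hw, map_zero]
  exact Submodule.zero_mem _

lemma inclusion_isComodHom {W₁ W₂ : Submodule k V} (h : W₁ ≤ W₂)
    (h₁ : IsSubcomod (k := k) (A := A) W₁) (h₂ : IsSubcomod (k := k) (A := A) W₂) :
    letI := subComod W₁ h₁
    letI := subComod W₂ h₂
    Hoch.IsComodHom A (Submodule.inclusion h) := by
  change subCoact W₂ h₂ ∘ₗ Submodule.inclusion h =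
    (Submodule.inclusion h).rTensor A ∘ₗ subCoact W₁ h₁
  ext w
  apply subtype_rTensor_injective W₂ A
  simp only [LinearMap.comp_apply]
  rw [subtype_subCoact, ← LinearMap.comp_apply (W₂.subtype.rTensor A), ← LinearMap.rTensor_comp]
  have : W₂.subtype ∘ₗ Submodule.inclusion h = W₁.subtype := by ext; rfl
  rw [this, subtype_subCoact]
  rfl

lemma isComodHom_proj (P Q : Submodule k V) (hP : IsSubcomod (k := k) (A := A) P)
    (hQ : IsSubcomod (k := k) (A := A) Q) (h : IsCompl P Q) :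
    Hoch.IsComodHom A (P.projection Q h) := by
  set E := P.projection Q h with hE
  have hEP : E ∘ₗ P.subtype = P.subtype := by
    ext p; simp [hE]
  have hEQ : E ∘ₗ Q.subtype = 0 := by
    ext q; simp [hE]
  change Comod.coact (k := k) (A := A) ∘ₗ E = E.rTensor A ∘ₗ Comod.coact (k := k) (A := A)
  ext x
  obtain ⟨p, hp, q, hq, rfl⟩ :=
    Submodule.mem_sup.mp (h.sup_eq_top ▸ Submodule.mem_top : x ∈ P ⊔ Q)
  simp only [LinearMap.comp_apply, map_add]
  obtain ⟨yp, hyp⟩ := hP p hp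
  obtain ⟨yq, hyq⟩ := hQ q hq
  have e1 : E p = p := LinearMap.congr_fun hEP ⟨p, hp⟩
  have e2 : E q = 0 := LinearMap.congr_fun hEQ ⟨q, hq⟩
  rw [e1, e2, map_zero, add_zero, ← hyp, ← hyq, ← LinearMap.comp_apply (E.rTensor A),
    ← LinearMap.rTensor_comp, hEP, ← LinearMap.comp_apply (E.rTensor A),
    ← LinearMap.rTensor_comp, hEQ, LinearMap.rTensor_zero, LinearMap.zero_apply, add_zero]

end Coalg

section Bialg

variable {k : Type u} [Field k] {A : Type v} [CommRing A] [Bialgebra k A]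
variable {V : Type w} [AddCommGroup V] [Module k V] [Comod k A V]

lemma isSubcomod_fixedPts : IsSubcomod (k := k) (A := A) (fixedPts k A V) := by
  intro w hw
  refine ⟨(⟨w, hw⟩ : fixedPts k A V) ⊗ₜ[k] (1 : A), ?_⟩
  rw [LinearMap.rTensor_tmul]
  exact hw.symm

lemma mem_fixedPts_sub_iff (W : Submodule k V) (hW : IsSubcomod (k := k) (A := A) W) (w : W) :
    letI := subComod W hW
    w ∈ fixedPts k A W ↔ (w : V) ∈ fixedPts k A V := by
  constructor
  · intro hw
    change subCoact W hW w = w ⊗ₜ[k] (1 : A) at hw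
    have h4 := subtype_subCoact W hW w
    rw [hw, LinearMap.rTensor_tmul] at h4
    exact h4.symm
  · intro hw
    change subCoact W hW w = w ⊗ₜ[k] (1 : A)
    apply subtype_rTensor_injective W A
    rw [subtype_subCoact, LinearMap.rTensor_tmul]
    exact hw

/-- the family of finite-dimensional subcomodules meeting the invariants trivially -/
def noFix (k : Type u) [Field k] (A : Type v) [CommRing A] [Bialgebra k A]
    (V : Type w) [AddCommGroup V] [Module k V] [Comod k A V] : Set (Submodule k V) :=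
  {W | IsSubcomod (k := k) (A := A) W ∧ FiniteDimensional k W ∧ W ⊓ fixedPts k A V = ⊥}

lemma noFix_sup (hG : IsLinearlyReductive k A) (V : Type v) [AddCommGroup V] [Module k V]
    [Comod k A V] (W₁ W₂ : Submodule k V) (h₁ : W₁ ∈ noFix k A V) (h₂ : W₂ ∈ noFix k A V) :
    W₁ ⊔ W₂ ∈ noFix k A V := by
  obtain ⟨hs₁, hf₁, hd₁⟩ := h₁
  obtain ⟨hs₂, hf₂, hd₂⟩ := h₂
  have hW : IsSubcomod (k := k) (A := A) (W₁ ⊔ W₂) := isSubcomod_sup W₁ W₂ hs₁ hs₂
  refine ⟨hW, inferInstance, ?_⟩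
  let _ := subComod (W₁ ⊔ W₂) hW
  let i₁ := subComod W₁ hs₁
  let i₂ := subComod W₂ hs₂
  obtain ⟨C, hC, hcompl⟩ := hG (W₁ ⊔ W₂ : Submodule k V) inferInstance
    (fixedPts k A (W₁ ⊔ W₂ : Submodule k V)) isSubcomod_fixedPts
  set F' := fixedPts k A (W₁ ⊔ W₂ : Submodule k V) with hF'
  set E := F'.projection C hcompl with hE
  have hEhom : Hoch.IsComodHom A E := isComodHom_proj F' C isSubcomod_fixedPts hC hcompl
  have hEfix : ∀ f ∈ F', E f = f := fun f hf =>
    Submodule.projection_apply_of_mem_left hcompl hf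
  have hEmem : ∀ x, E x ∈ F' := fun x => Submodule.projection_apply_mem hcompl x
  have z₁ : E ∘ₗ Submodule.inclusion (le_sup_left : W₁ ≤ W₁ ⊔ W₂) = 0 := by
    refine hom_eq_zero_of_fixedPts_eq_bot hG W₁ _ _
      (isComodHom_comp (inclusion_isComodHom _ hs₁ hW) hEhom) (fun w => hEmem _) ?_
    rw [eq_bot_iff]
    intro w hw
    have h := (mem_fixedPts_sub_iff W₁ hs₁ w).mp hw
    have : (w : V) ∈ W₁ ⊓ fixedPts k A V := ⟨w.2, h⟩
    rw [hd₁] at this
    exact Subtype.ext ((Submodule.mem_bot k).mp this)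
  have z₂ : E ∘ₗ Submodule.inclusion (le_sup_right : W₂ ≤ W₁ ⊔ W₂) = 0 := by
    refine hom_eq_zero_of_fixedPts_eq_bot hG W₂ _ _
      (isComodHom_comp (inclusion_isComodHom _ hs₂ hW) hEhom) (fun w => hEmem _) ?_
    rw [eq_bot_iff]
    intro w hw
    have h := (mem_fixedPts_sub_iff W₂ hs₂ w).mp hw
    have : (w : V) ∈ W₂ ⊓ fixedPts k A V := ⟨w.2, h⟩
    rw [hd₂] at this
    exact Subtype.ext ((Submodule.mem_bot k).mp this)
  rw [eq_bot_iff]
  rintro x ⟨hx, hxF⟩
  obtain ⟨a, ha, b, hb, rfl⟩ := Submodule.mem_sup.mp hx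
  have hf : (⟨a + b, hx⟩ : (W₁ ⊔ W₂ : Submodule k V)) ∈ F' :=
    (mem_fixedPts_sub_iff (W₁ ⊔ W₂) hW _).mpr hxF
  have e0 := hEfix _ hf
  have e1 : (⟨a + b, hx⟩ : (W₁ ⊔ W₂ : Submodule k V)) =
      Submodule.inclusion (le_sup_left : W₁ ≤ W₁ ⊔ W₂) ⟨a, ha⟩ +
      Submodule.inclusion (le_sup_right : W₂ ≤ W₁ ⊔ W₂) ⟨b, hb⟩ := rfl
  rw [e1, map_add] at e0
  have e2 := LinearMap.congr_fun z₁ ⟨a, ha⟩
  have e3 := LinearMap.congr_fun z₂ ⟨b, hb⟩
  simp only [LinearMap.comp_apply, LinearMap.zero_apply] at e2 e3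
  rw [e2, e3, add_zero] at e0
  have := congrArg Subtype.val e0
  simpa using this.symm

lemma noFix_bot (V : Type w) [AddCommGroup V] [Module k V] [Comod k A V] :
    (⊥ : Submodule k V) ∈ noFix k A V :=
  ⟨isSubcomod_bot, inferInstance, bot_inf_eq _⟩

theorem exists_reynolds (hG : IsLinearlyReductive k A) (V : Type v) [AddCommGroup V] [Module k V]
    [Comod k A V] :
    ∃ E : V →ₗ[k] V, Hoch.IsComodHom A E ∧ E ∘ₗ E = E ∧
      ∀ x : V, E x = x ↔ x ∈ fixedPts k A V := by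
  set F := fixedPts k A V with hF
  set V' : Submodule k V := sSup (noFix k A V) with hV'
  have hV'sub : IsSubcomod (k := k) (A := A) V' := isSubcomod_sSup _ fun W hW => hW.1
  have hdir : DirectedOn (· ≤ ·) (noFix k A V) := fun W₁ h₁ W₂ h₂ =>
    ⟨W₁ ⊔ W₂, noFix_sup hG V W₁ W₂ h₁ h₂, le_sup_left, le_sup_right⟩
  have hdisj : F ⊓ V' = ⊥ := by
    rw [eq_bot_iff]
    rintro x ⟨hxF, hxV'⟩
    obtain ⟨W, hW, hxW⟩ := (Submodule.mem_sSup_of_directed ⟨⊥, noFix_bot V⟩ hdir).mp hxV'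
    have : x ∈ W ⊓ fixedPts k A V := ⟨hxW, hxF⟩
    rw [hW.2.2] at this
    exact this
  have hsup : F ⊔ V' = ⊤ := by
    rw [eq_top_iff]
    rintro x -
    obtain ⟨W, hW, hfin, hxW⟩ := exists_finite_subcomod (k := k) (A := A) x
    let _ := subComod W hW
    obtain ⟨C, hC, hcompl⟩ := hG W inferInstance (fixedPts k A W) isSubcomod_fixedPts
    have hCmem : C.map W.subtype ∈ noFix k A V := by
      refine ⟨isSubcomod_map W.subtype (subtype_isComodHom W hW) C hC, inferInstance, ?_⟩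
      rw [eq_bot_iff]
      rintro y ⟨⟨c, hc, rfl⟩, hyF⟩
      have h1 : c ∈ fixedPts k A W := (mem_fixedPts_sub_iff W hW c).mpr hyF
      have h2 : c ∈ fixedPts k A W ⊓ C := ⟨h1, hc⟩
      rw [hcompl.inf_eq_bot] at h2
      rw [(Submodule.mem_bot k).mp h2]
      simp
    obtain ⟨f, hf, c, hc, hfc⟩ := Submodule.mem_sup.mp
      (hcompl.sup_eq_top ▸ Submodule.mem_top : (⟨x, hxW⟩ : W) ∈ fixedPts k A W ⊔ C)
    have hx : x = (f : V) + (c : V) := by
      have := congrArg Subtype.val hfc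
      simpa using this.symm
    rw [hx]
    refine Submodule.add_mem _ (Submodule.mem_sup_left ?_) (Submodule.mem_sup_right ?_)
    · exact (mem_fixedPts_sub_iff W hW f).mp hf
    · exact le_sSup hCmem ⟨c, hc, rfl⟩
  have hcompl : IsCompl F V' := ⟨disjoint_iff.mpr hdisj, codisjoint_iff.mpr hsup⟩
  refine ⟨F.projection V' hcompl, isComodHom_proj F V' isSubcomod_fixedPts hV'sub hcompl, ?_, ?_⟩
  · exact (Submodule.isIdempotentElem_projection hcompl)
  · intro x
    constructor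
    · intro h
      rw [← h]
      exact Submodule.projection_apply_mem hcompl x
    · intro h
      exact Submodule.projection_apply_of_mem_left hcompl h

theorem reynolds_unique (hG : IsLinearlyReductive k A) (V : Type v) [AddCommGroup V] [Module k V]
    [Comod k A V] (E₁ E₂ : V →ₗ[k] V)
    (h₁ : Hoch.IsComodHom A E₁ ∧ E₁ ∘ₗ E₁ = E₁ ∧ ∀ x : V, E₁ x = x ↔ x ∈ fixedPts k A V)
    (h₂ : Hoch.IsComodHom A E₂ ∧ E₂ ∘ₗ E₂ = E₂ ∧ ∀ x : V, E₂ x = x ↔ x ∈ fixedPts k A V) :
    E₂ = E₁ := by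
  ext x
  have hEE₁ : ∀ u : V, E₁ (E₁ u) = E₁ u := fun u => LinearMap.congr_fun h₁.2.1 u
  have hEE₂ : ∀ u : V, E₂ (E₂ u) = E₂ u := fun u => LinearMap.congr_fun h₂.2.1 u
  have hzero : E₂ (x - E₁ x) = 0 :=
    hom_ker_eq_zero hG V E₁ h₁.1 h₁.2.1 h₁.2.2 V E₂ h₂.1
      (fun v => (h₂.2.2 _).mp (hEE₂ v)) (x - E₁ x) (by rw [map_sub, hEE₁, sub_self])
  have h4 : E₂ (E₁ x) = E₁ x := (h₂.2.2 _).mpr ((h₁.2.2 _).mp (hEE₁ x))
  have h5 : x = E₁ x + (x - E₁ x) := by abel
  rw [h5, map_add, h4, hzero, add_zero, map_add, hEE₁, map_sub, hEE₁, sub_self, add_zero]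

end Bialg

end

end Groth.Agent.H62
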