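import Mathlib
import Groth.Agent.H62.OB9
import Groth.Agent.H76.CurveM
import Groth.Agent.H76.CurveS1
import Groth.Agent.H55.FFWeil

/-!
# helper62: secant divisors of `K ⊗ N` on a curve — Riemann–Roch numerics

* `FF.ell_neg_sub_eq_zero`: function field core: if `ℓ(E) = 0`, `deg E + deg F = 0` and `F` is
  linearly equivalent to an anti-effective divisor, then `ℓ(-F-E) = 0`.
* `no_secant`: S15227.
-/

set_option autoImplicit false
set_option linter.style.haveILetI false
open CategoryTheory CategoryTheory.Limits AlgebraicGeometry TopologicalSpace Topology FunFld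
universe u

namespace Groth.Agent.H62.Secant

open Groth.Agent.H55

section FF

variable {k K : Type*} [Field k] [Field K] [Algebra k K]

/-- if `-F - E` has degree `0` and a nonzero section, then `E ∼ -F` -/
theorem exists_eq_of_ell_pos (hK : IsFunctionField k K) {E F : Divisor k K}
    (hdeg : E.deg + F.deg = 0) (hpos : 0 < ell (-F - E)) :
    ∃ x : K, x ≠ 0 ∧ E = -F + div k x := by
  rw [ell_pos_iff hK, L_ne_bot_iff hK] at hpos
  obtain ⟨x, hx0, hx⟩ := hpos
  have h1 : (0 : Divisor k K) = -F - E + div k x := by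
    apply Divisor.eq_of_le_of_deg_eq hK hx
    rw [Divisor.deg_zero, deg_add_div hK, Divisor.deg_sub, Divisor.deg_neg]
    linarith
  refine ⟨x, hx0, ?_⟩
  have h2 : E = E + (-F - E + div k x) := by rw [← h1, add_zero]
  rw [h2]
  abel

/-- if `ℓ(E) = 0` and `F` is linearly equivalent to an anti-effective divisor of degree
`-deg E`, then `ℓ(-F-E) = 0` -/
theorem ell_neg_sub_eq_zero (hK : IsFunctionField k K) {E F : Divisor k K}
    (hE : ell E = 0) (hdeg : E.deg + F.deg = 0) {c : K} (hc : c ≠ 0) (hF : F + div k c ≤ 0) :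
    ell (-F - E) = 0 := by
  by_contra hne
  obtain ⟨x, hx0, hx⟩ := exists_eq_of_ell_pos hK hdeg (Nat.pos_of_ne_zero hne)
  have h1 : (0 : Divisor k K) ≤ E + div k x⁻¹ + div k c⁻¹ := by
    rw [hx, div_inv hK, div_inv hK]
    have : -F + div k x + -div k x + -div k c = -(F + div k c) := by abel
    rw [this]
    exact neg_nonneg.mpr hF
  have h2 := ell_mono hK h1
  rw [ell_zero hK, ell_add_div hK _ (inv_ne_zero hc), ell_add_div hK _ (inv_ne_zero hx0), hE]
    at h2
  exact absurd h2 (by norm_num)

end FF

end Groth.Agent.H62.Secant
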