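import Mathlib
import Groth.Agent.H62.Secant1

/-!
# helper62: secant divisors of `K ⊗ N` on a curve — the `(g-1)`-secant case (S15227)
-/

set_option autoImplicit false
set_option linter.style.haveILetI false
open CategoryTheory CategoryTheory.Limits AlgebraicGeometry TopologicalSpace Topology FunFld
universe u

namespace Groth.Agent.H62.Secant

attribute [local instance] Curv2.stalkAlgebra Curv2.resAlgebra

open Groth.Agent.H62.GD Groth.Agent.H76.Curve Groth.Agent.H62.OB Groth.Agent.H55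

variable (k : Type u) [Field k] [IsAlgClosed k] (C : Scheme.{u})
  [C.Over (Spec (CommRingCat.of k))] [IsProper (C ↘ Spec (CommRingCat.of k))]
  [Smooth (C ↘ Spec (CommRingCat.of k))] [IsIntegral C]

/-- numerics of `K ⊗ N` and of `I ⊗ K ⊗ N` for `deg N + deg I = 0`, `h⁰(N) = 0`, `I ⊂ O` -/
theorem secant_numerics (hdim : topologicalKrullDim C = 1) (K : C.Modules)
    (eK : K ≅ Omega.sheaf (C ↘ Spec (CommRingCat.of k))) (g : ℕ) (hg2 : 2 ≤ g)
    (hgen : Curv2.genus k C = g) (N : C.Modules) (hN : PicF.IsInvertible N)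
    (hdN : Curv2.deg k C N 1 = (g : ℤ) - 1)
    (h0 : Module.finrank k (Coh.HH C N 0) = 0)
    (I : C.Modules) (ι : I ⟶ Coh.structureModule C) (hI : PicF.IsInvertible I) [Mono ι]
    (hdI : Curv2.deg k C I 1 = -((g : ℤ) - 1)) :
    (Module.finrank k (Coh.HH C (CohB1.tensorMod I (CohB1.tensorMod K N)) 0) : ℤ) = g - 1 ∧
      (Module.finrank k (Coh.HH C (CohB1.tensorMod K N) 0) : ℤ) = 2 * g - 2 := by
  classical
  have hC := gcurve_of_smooth_of_isAlgClosed k C hdim
  have hK := hC.isFunctionField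
  have hΩ := isInvertible_omega_of_smooth k C hdim
  have hKinv : PicF.IsInvertible K := isInvertible_of_iso eK.symm hΩ
  obtain ⟨W, hWdiv0, hW⟩ := isDiv_omega hC hΩ
  have hWdiv : IsDiv hC K W := hWdiv0.of_iso hC eK.symm
  obtain ⟨-, hWdeg⟩ := canonical_ell_deg hK hW
  have hO : PicF.IsInvertible (Coh.structureModule C) :=
    Groth.Agent.H67.ParaExt.isInvertible_structureModule
  have hgen' : (genus k C.functionField : ℤ) = g := by rw [← hC.genus_eq, hgen]
  obtain ⟨E, hE⟩ := exists_isDiv hC hN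
  obtain ⟨F, hF⟩ := exists_isDiv hC hI
  have hEdeg : E.deg = (g : ℤ) - 1 := by rw [← hE.deg_eq hC hN, hdN]
  have hFdeg : F.deg = -((g : ℤ) - 1) := by rw [← hF.deg_eq hC hI, hdI]
  have hEell : ell E = 0 := by rw [← hE.finrank_HH_zero hN, h0]
  obtain ⟨c, hc, hle, -⟩ := hF.exists_div_le_of_mono hC hO (isDiv_structureModule hC) ι
  have hKN : IsDiv hC (CohB1.tensorMod K N) (W + E) := hWdiv.tensor hC hE
  have hKNinv : PicF.IsInvertible (CohB1.tensorMod K N) :=
    Groth.Agent.H18.STL.isInvertible_tensorMod hKinv hN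
  have hIKN : IsDiv hC (CohB1.tensorMod I (CohB1.tensorMod K N)) (F + (W + E)) :=
    hF.tensor hC hKN
  have hIKNinv : PicF.IsInvertible (CohB1.tensorMod I (CohB1.tensorMod K N)) :=
    Groth.Agent.H18.STL.isInvertible_tensorMod hI hKNinv
  have h2g : (2 : ℤ) ≤ g := by exact_mod_cast hg2
  have hz : ell (-F - E) = 0 :=
    ell_neg_sub_eq_zero hK hEell (by rw [hEdeg, hFdeg]; ring) hc hle
  constructor
  · rw [hIKN.finrank_HH_zero hIKNinv, riemann_roch hK hW (F + (W + E))]
    have : W - (F + (W + E)) = -F - E := by abel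
    rw [this, hz, Divisor.deg_add, Divisor.deg_add, hWdeg, hEdeg, hFdeg, hgen']
    push_cast
    ring
  · rw [hKN.finrank_HH_zero hKNinv, ell_of_deg_ge hK (W + E) (by
      rw [Divisor.deg_add, hWdeg, hEdeg, hgen']; linarith), Divisor.deg_add, hWdeg, hEdeg, hgen']
    ring

end Groth.Agent.H62.Secant
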