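import Mathlib
import Groth.Agent.H62.Secant2
import Groth.Agent.H76.CurveP
import Groth.Agent.H7.ZClosBase

/-!
# helper62: tools for S15228
* `smulEnd M a`, `smulIso M a`: multiplication by a global function (unit) on a module;
* `hom_ext_of_homConst`: morphisms into an invertible module with the same constant are equal;
* `ODincl`: the inclusion `O_C(D) ⟶ O_C(D')` for `D ≤ D'`, a monomorphism.
-/

set_option autoImplicit false
set_option linter.style.haveILetI false
open CategoryTheory CategoryTheory.Limits AlgebraicGeometry TopologicalSpace Topology FunFld Opposite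
universe u

namespace Groth.Agent.H62.Secant

attribute [local instance] Curv2.stalkAlgebra Curv2.resAlgebra

open Groth.Agent.H62.GD Groth.Agent.H76.Curve Groth.Agent.H62.OB Groth.Agent.H55 WithZero

section general

variable {X : Scheme.{u}}

/-- multiplication by a global function on the sections over an open -/
noncomputable def smulFun (M : X.Modules) (a : Γ(X, ⊤)) (U : X.Opens) : Γ(M, U) →+ Γ(M, U) where
  toFun s := (X.presheaf.map (homOfLE (le_top : U ≤ ⊤)).op a : Γ(X, U)) • s
  map_zero' := smul_zero _
  map_add' := fun s t => smul_add _ s t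

theorem smulFun_apply (M : X.Modules) (a : Γ(X, ⊤)) (U : X.Opens) (s : Γ(M, U)) :
    smulFun M a U s = (X.presheaf.map (homOfLE (le_top : U ≤ ⊤)).op a : Γ(X, U)) • s := rfl

theorem smulFun_res (M : X.Modules) (a : Γ(X, ⊤)) {U V : X.Opens} (i : V ⟶ U) (s : Γ(M, U)) :
    M.presheaf.map i.op (smulFun M a U s) = smulFun M a V (M.presheaf.map i.op s) := by
  rw [smulFun_apply, smulFun_apply, Scheme.Modules.map_smul]
  congr 1
  rw [← CommRingCat.comp_apply, ← X.presheaf.map_comp]
  rfl

theorem smulFun_smul (M : X.Modules) (a : Γ(X, ⊤)) (U : X.Opens) (r : Γ(X, U)) (s : Γ(M, U)) :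
    smulFun M a U (r • s) = r • smulFun M a U s := by
  rw [smulFun_apply, smulFun_apply, smul_comm]

/-- multiplication by a global function, as an endomorphism of a module -/
noncomputable def smulEnd (M : X.Modules) (a : Γ(X, ⊤)) : M ⟶ M :=
  ⟨PresheafOfModules.homMk (M₁ := M.val) (M₂ := M.val)
    { app := fun U => AddCommGrpCat.ofHom (smulFun M a U.unop)
      naturality := fun {U V} i => by
        ext s
        exact (smulFun_res M a i.unop s).symm }
    (fun U r s => smulFun_smul M a U.unop r s)⟩

theorem smulEnd_app_apply (M : X.Modules) (a : Γ(X, ⊤)) (U : X.Opens) (s : Γ(M, U)) :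
    (smulEnd M a).app U s = (X.presheaf.map (homOfLE (le_top : U ≤ ⊤)).op a : Γ(X, U)) • s :=
  rfl

theorem smulEnd_comp (M : X.Modules) (a b : Γ(X, ⊤)) :
    smulEnd M a ≫ smulEnd M b = smulEnd M (b * a) := by
  apply Scheme.Modules.hom_ext
  intro U
  ext s
  change (smulEnd M b).app U ((smulEnd M a).app U s) = (smulEnd M (b * a)).app U s
  rw [smulEnd_app_apply, smulEnd_app_apply, smulEnd_app_apply, smul_smul, map_mul]

theorem smulEnd_one (M : X.Modules) : smulEnd M 1 = 𝟙 M := by
  apply Scheme.Modules.hom_ext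
  intro U
  ext s
  change (smulEnd M 1).app U s = s
  rw [smulEnd_app_apply, map_one, one_smul]

/-- multiplication by a global unit, as an automorphism of a module -/
noncomputable def smulIso (M : X.Modules) (a : (Γ(X, ⊤))ˣ) : M ≅ M where
  hom := smulEnd M a
  inv := smulEnd M (a⁻¹ : (Γ(X, ⊤))ˣ)
  hom_inv_id := by rw [smulEnd_comp, Units.inv_mul, smulEnd_one]
  inv_hom_id := by rw [smulEnd_comp, Units.mul_inv, smulEnd_one]

variable [IsIntegral X] {L M : X.Modules}

theorem homConst_smulEnd_comp (T : GenTriv L) (T' : GenTriv M) (a : Γ(X, ⊤)) (ψ : L ⟶ M) :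
    T.homConst T' (smulEnd L a ≫ ψ) =
      X.presheaf.germ ⊤ (genericPoint X) (Opens.mem_top _) a * T.homConst T' ψ := by
  rw [T.homConst_comp T T' (smulEnd L a) ψ]
  congr 1
  change T.eps T.U T.mem ((smulEnd L a).app T.U T.σ) = _
  rw [smulEnd_app_apply, T.eps_smul, T.eps_self, mul_one]
  exact TopCat.Presheaf.germ_res_apply X.presheaf (homOfLE le_top) (genericPoint X) T.mem a

/-- morphisms into an invertible module with the same constant are equal -/
theorem hom_ext_of_homConst (hM : PicF.IsInvertible M) (T : GenTriv L) (T' : GenTriv M)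
    (φ ψ : L ⟶ M) (h : T.homConst T' φ = T.homConst T' ψ) : φ = ψ := by
  apply Scheme.Modules.hom_ext
  intro V
  ext s
  by_cases hV : genericPoint X ∈ V
  · apply T'.eps_injective hM V hV
    rw [T.eps_hom T' φ V hV s, T.eps_hom T' ψ V hV s, h]
  · apply TopCat.Presheaf.section_ext ⟨M.presheaf, M.isSheaf⟩
    intro x hx
    exact absurd (((genericPoint_spec X).mem_open_set_iff V.isOpen).mpr ⟨x, trivial, hx⟩) hV

end general

variable {k : Type u} [Field k] {C : Scheme.{u}} [C.Over (Spec (CommRingCat.of k))]
  [IsIntegral C] (hC : GCurve k C)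

/-- the data of the inclusion `O_C(D) ⟶ O_C(D')` for `D ≤ D'` -/
noncomputable def ODinclData {D D' : Divisor k C.functionField} (h : D ≤ D') :
    ODHomData hC (OD hC D) D' where
  φ _ hξ :=
    { toFun := fun s => ODval hξ s
      map_zero' := rfl
      map_add' := fun _ _ => rfl }
  res _ _ _ _ _ := rfl
  smul U hξ r s := OD_smul_val hξ r s
  cond U hξ s x := fun hx =>
    (ODval_cond hξ s x hx).trans (exp_le_exp.mpr (h _))

/-- the inclusion `O_C(D) ⟶ O_C(D')` for `D ≤ D'` -/
noncomputable def ODincl {D D' : Divisor k C.functionField} (h : D ≤ D') :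
    OD hC D ⟶ OD hC D' := (ODinclData hC h).hom

instance mono_ODincl {D D' : Divisor k C.functionField} (h : D ≤ D') : Mono (ODincl hC h) := by
  apply Groth.Agent.H7.ZClosBase.mono_of_injective_app
  intro U s t hst
  refine OD_ext fun x => ?_
  have hξ : genericPoint C ∈ U := genericPoint_mem_of_mem x
  have h1 : ODval hξ ((ODincl hC h).app U s) = ODval hξ ((ODincl hC h).app U t) := by rw [hst]
  rw [ODval_spec hξ s x, ODval_spec hξ t x]
  exact h1

end Groth.Agent.H62.Secant
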