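import Mathlib
import Groth.Agent.H62.Secant3

/-!
# helper62: the unique `g`-secant of `K ⊗ N`, `deg N = g`, `h⁰(N) ≤ 1` (S15228)
-/

set_option autoImplicit false
set_option linter.style.haveILetI false
open CategoryTheory CategoryTheory.Limits AlgebraicGeometry TopologicalSpace Topology FunFld Opposite
universe u

namespace Groth.Agent.H62.Secant

attribute [local instance] Curv2.stalkAlgebra Curv2.resAlgebra

open Groth.Agent.H62.GD Groth.Agent.H76.Curve Groth.Agent.H62.OB Groth.Agent.H55 WithZero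

variable {k : Type u} [Field k] [IsAlgClosed k] {C : Scheme.{u}}
  [C.Over (Spec (CommRingCat.of k))] [IsProper (C ↘ Spec (CommRingCat.of k))]
  [Smooth (C ↘ Spec (CommRingCat.of k))] [IsIntegral C]

/-- numerics of `K ⊗ N` and of `I ⊗ K ⊗ N` for `deg N = g`, `deg I = -g` -/
theorem secant_numerics_g (hC : GCurve k C) (hdim : topologicalKrullDim C = 1) (K : C.Modules)
    (eK : K ≅ Omega.sheaf (C ↘ Spec (CommRingCat.of k))) (g : ℕ) (hg2 : 2 ≤ g)
    (hgen : Curv2.genus k C = g) (N : C.Modules) (hN : PicF.IsInvertible N)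
    {E : Divisor k C.functionField} (hE : IsDiv hC N E) (hEdeg : E.deg = (g : ℤ))
    (I : C.Modules) (hI : PicF.IsInvertible I)
    {F : Divisor k C.functionField} (hF : IsDiv hC I F) (hFdeg : F.deg = -(g : ℤ)) :
    (Module.finrank k (Coh.HH C (CohB1.tensorMod I (CohB1.tensorMod K N)) 0) : ℤ) =
        g - 1 + ell (-F - E) ∧
      (Module.finrank k (Coh.HH C (CohB1.tensorMod K N) 0) : ℤ) = 2 * g - 1 := by
  classical
  have hK := hC.isFunctionField
  have hΩ := isInvertible_omega_of_smooth k C hdim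
  have hKinv : PicF.IsInvertible K := isInvertible_of_iso eK.symm hΩ
  obtain ⟨W, hWdiv0, hW⟩ := isDiv_omega hC hΩ
  have hWdiv : IsDiv hC K W := hWdiv0.of_iso hC eK.symm
  obtain ⟨-, hWdeg⟩ := canonical_ell_deg hK hW
  have hgen' : (genus k C.functionField : ℤ) = g := by rw [← hC.genus_eq, hgen]
  have hKN : IsDiv hC (CohB1.tensorMod K N) (W + E) := hWdiv.tensor hC hE
  have hKNinv : PicF.IsInvertible (CohB1.tensorMod K N) :=
    Groth.Agent.H18.STL.isInvertible_tensorMod hKinv hN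
  have hIKN : IsDiv hC (CohB1.tensorMod I (CohB1.tensorMod K N)) (F + (W + E)) :=
    hF.tensor hC hKN
  have hIKNinv : PicF.IsInvertible (CohB1.tensorMod I (CohB1.tensorMod K N)) :=
    Groth.Agent.H18.STL.isInvertible_tensorMod hI hKNinv
  have h2g : (2 : ℤ) ≤ g := by exact_mod_cast hg2
  constructor
  · rw [hIKN.finrank_HH_zero hIKNinv, riemann_roch hK hW (F + (W + E))]
    have : W - (F + (W + E)) = -F - E := by abel
    rw [this, Divisor.deg_add, Divisor.deg_add, hWdeg, hEdeg, hFdeg, hgen']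
    ring
  · rw [hKN.finrank_HH_zero hKNinv, ell_of_deg_ge hK (W + E) (by
      rw [Divisor.deg_add, hWdeg, hEdeg, hgen']; linarith), Divisor.deg_add, hWdeg, hEdeg, hgen']
    ring

/-- `ℓ(E) = 1` for `deg E = g`, `ℓ(E) ≤ 1` -/
theorem ell_eq_one_of_deg_eq_genus {K' : Type*} [Field K'] [Algebra k K']
    (hK : IsFunctionField k K') {E : Divisor k K'} (hEdeg : E.deg = (genus k K' : ℤ))
    (hle : ell E ≤ 1) : ell E = 1 := by
  obtain ⟨W, hW⟩ := exists_canonical hK
  have h1 := riemann_roch hK hW E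
  rw [hEdeg] at h1
  have : (1 : ℤ) ≤ ell E := by
    have h2 : (0 : ℤ) ≤ ell (W - E) := Int.natCast_nonneg _
    linarith
  have h3 : 1 ≤ ell E := by exact_mod_cast this
  omega

/-- **existence of the `g`-secant** -/
theorem exists_secant (hdim : topologicalKrullDim C = 1) (K : C.Modules)
    (eK : K ≅ Omega.sheaf (C ↘ Spec (CommRingCat.of k))) (g : ℕ) (hg2 : 2 ≤ g)
    (hgen : Curv2.genus k C = g) (N : C.Modules) (hN : PicF.IsInvertible N)
    (hdN : Curv2.deg k C N 1 = (g : ℤ))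
    (h0 : Module.finrank k (Coh.HH C N 0) ≤ 1) :
    ∃ (I : C.Modules) (ι : I ⟶ Coh.structureModule C),
      PicF.IsInvertible I ∧ Mono ι ∧ Curv2.deg k C I 1 = -(g : ℤ) ∧
        (Module.finrank k (Coh.HH C (CohB1.tensorMod I (CohB1.tensorMod K N)) 0) : ℤ) +
            ((g : ℤ) - 1) =
          Module.finrank k (Coh.HH C (CohB1.tensorMod K N) 0) := by
  classical
  have hC := gcurve_of_smooth_of_isAlgClosed k C hdim
  have hK := hC.isFunctionField
  have hgen' : (genus k C.functionField : ℤ) = g := by rw [← hC.genus_eq, hgen]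
  obtain ⟨E, hE⟩ := exists_isDiv hC hN
  have hEdeg : E.deg = (g : ℤ) := by rw [← hE.deg_eq hC hN, hdN]
  have hEell : ell E = 1 := by
    apply ell_eq_one_of_deg_eq_genus hK (by rw [hEdeg, hgen'])
    rw [← hE.finrank_HH_zero hN]
    exact h0
  have hpos : 0 < ell E := by omega
  rw [ell_pos_iff hK, L_ne_bot_iff hK] at hpos
  obtain ⟨x, hx0, hx⟩ := hpos
  set D : Divisor k C.functionField := E + div k x with hD
  have hDdeg : D.deg = (g : ℤ) := by rw [hD, deg_add_div hK, hEdeg]
  have hle : -D ≤ 0 := neg_nonpos.mpr hx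
  obtain ⟨e⟩ := (isDiv_OD hC (0 : Divisor k C.functionField)).nonempty_iso hC
    (isDiv_structureModule hC)
  have hIinv : PicF.IsInvertible (OD hC (-D)) := isInvertible_OD hC (-D)
  have hIdiv : IsDiv hC (OD hC (-D)) (-D) := isDiv_OD hC (-D)
  have hFdeg : (-D).deg = -(g : ℤ) := by rw [Divisor.deg_neg, hDdeg]
  refine ⟨OD hC (-D), ODincl hC hle ≫ e.hom, hIinv, mono_comp _ _, ?_, ?_⟩
  · rw [hIdiv.deg_eq hC hIinv, hFdeg]
  · obtain ⟨h1, h2⟩ := secant_numerics_g hC hdim K eK g hg2 hgen N hN hE hEdeg (OD hC (-D)) hIinv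
      hIdiv hFdeg
    rw [h1, h2]
    have h3 : - -D - E = 0 + div k x := by rw [hD]; abel
    rw [h3, ell_add_div hK _ hx0, ell_zero hK]
    push_cast
    ring

end Groth.Agent.H62.Secant
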