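import Mathlib
import Groth.Agent.H62.Secant4

/-!
# helper62: uniqueness of the `g`-secant of `K ⊗ N` (S15228)
-/

set_option autoImplicit false
set_option linter.style.haveILetI false
open CategoryTheory CategoryTheory.Limits AlgebraicGeometry TopologicalSpace Topology FunFld Opposite
universe u

namespace Groth.Agent.H62.Secant

attribute [local instance] Curv2.stalkAlgebra Curv2.resAlgebra

open Groth.Agent.H62.GD Groth.Agent.H76.Curve Groth.Agent.H62.OB Groth.Agent.H55 WithZero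

variable {k : Type u} [Field k] [IsAlgClosed k] {C : Scheme.{u}}
  [C.Over (Spec (CommRingCat.of k))] [IsProper (C ↘ Spec (CommRingCat.of k))]
  [Smooth (C ↘ Spec (CommRingCat.of k))] [IsIntegral C]

/-- a secant ideal has divisor `-E` where `E` is a divisor of `N` -/
theorem isDiv_neg_of_secant (hC : GCurve k C) (hdim : topologicalKrullDim C = 1) (K : C.Modules)
    (eK : K ≅ Omega.sheaf (C ↘ Spec (CommRingCat.of k))) (g : ℕ) (hg2 : 2 ≤ g)
    (hgen : Curv2.genus k C = g) (N : C.Modules) (hN : PicF.IsInvertible N)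
    {E : Divisor k C.functionField} (hE : IsDiv hC N E) (hEdeg : E.deg = (g : ℤ))
    (I : C.Modules) (hI : PicF.IsInvertible I) (hdI : Curv2.deg k C I 1 = -(g : ℤ))
    (hnum : (Module.finrank k (Coh.HH C (CohB1.tensorMod I (CohB1.tensorMod K N)) 0) : ℤ) +
            ((g : ℤ) - 1) =
          Module.finrank k (Coh.HH C (CohB1.tensorMod K N) 0)) :
    IsDiv hC I (-E) := by
  classical
  have hK := hC.isFunctionField
  obtain ⟨F, hF⟩ := exists_isDiv hC hI
  have hFdeg : F.deg = -(g : ℤ) := by rw [← hF.deg_eq hC hI, hdI]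
  obtain ⟨h1, h2⟩ := secant_numerics_g hC hdim K eK g hg2 hgen N hN hE hEdeg I hI hF hFdeg
  rw [h1, h2] at hnum
  have hell : ell (-F - E) = 1 := by
    have : (ell (-F - E) : ℤ) = 1 := by linarith
    exact_mod_cast this
  obtain ⟨x, hx0, hx⟩ := exists_eq_of_ell_pos hK (E := E) (F := F) (by rw [hEdeg, hFdeg]; ring)
    (by omega)
  have h3 := hF.add_div hC (inv_ne_zero hx0)
  have h4 : F + div k x⁻¹ = -E := by
    rw [div_inv hK, hx]
    abel
  rwa [h4] at h3

/-- **uniqueness of the `g`-secant** -/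
theorem secant_unique (hdim : topologicalKrullDim C = 1) (K : C.Modules)
    (eK : K ≅ Omega.sheaf (C ↘ Spec (CommRingCat.of k))) (g : ℕ) (hg2 : 2 ≤ g)
    (hgen : Curv2.genus k C = g) (N : C.Modules) (hN : PicF.IsInvertible N)
    (hdN : Curv2.deg k C N 1 = (g : ℤ))
    (h0 : Module.finrank k (Coh.HH C N 0) ≤ 1)
    (I I' : C.Modules) (ι : I ⟶ Coh.structureModule C) (ι' : I' ⟶ Coh.structureModule C)
    (hI : PicF.IsInvertible I) [Mono ι] (hdI : Curv2.deg k C I 1 = -(g : ℤ))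
    (hnum : (Module.finrank k (Coh.HH C (CohB1.tensorMod I (CohB1.tensorMod K N)) 0) : ℤ) +
            ((g : ℤ) - 1) =
          Module.finrank k (Coh.HH C (CohB1.tensorMod K N) 0))
    (hI' : PicF.IsInvertible I') [Mono ι'] (hdI' : Curv2.deg k C I' 1 = -(g : ℤ))
    (hnum' : (Module.finrank k (Coh.HH C (CohB1.tensorMod I' (CohB1.tensorMod K N)) 0) : ℤ) +
            ((g : ℤ) - 1) =
          Module.finrank k (Coh.HH C (CohB1.tensorMod K N) 0)) :
    ∃ φ : I' ≅ I, φ.hom ≫ ι = ι' := by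
  classical
  have hC := gcurve_of_smooth_of_isAlgClosed k C hdim
  have hK := hC.isFunctionField
  have hgen' : (genus k C.functionField : ℤ) = g := by rw [← hC.genus_eq, hgen]
  have hO : PicF.IsInvertible (Coh.structureModule C) :=
    Groth.Agent.H67.ParaExt.isInvertible_structureModule
  obtain ⟨E, hE⟩ := exists_isDiv hC hN
  have hEdeg : E.deg = (g : ℤ) := by rw [← hE.deg_eq hC hN, hdN]
  have hEell : ell E = 1 := by
    apply ell_eq_one_of_deg_eq_genus hK (by rw [hEdeg, hgen'])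
    rw [← hE.finrank_HH_zero hN]
    exact h0
  have hIE := isDiv_neg_of_secant hC hdim K eK g hg2 hgen N hN hE hEdeg I hI hdI hnum
  have hI'E := isDiv_neg_of_secant hC hdim K eK g hg2 hgen N hN hE hEdeg I' hI' hdI' hnum'
  obtain ⟨φ₀⟩ := hI'E.nonempty_iso hC hIE
  obtain ⟨T', Cv', hD'⟩ := hI'E
  obtain ⟨T₀, Cv₀, hD₀⟩ := isDiv_structureModule hC
  have hmem : ∀ ψ : I' ⟶ Coh.structureModule C, T'.homConst T₀ ψ ∈ FunFld.L E := by
    intro ψ Q
    have h1 := TrivCover.homConst_le hC Cv' T' Cv₀ T₀ ψ Q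
    rw [hD', hD₀, Finsupp.zero_apply, exp_zero, Finsupp.neg_apply, exp_neg] at h1
    have hne : (exp (E Q) : ℤᵐ⁰) ≠ 0 := exp_ne_zero
    rwa [← div_eq_mul_inv, div_le_iff₀ (zero_lt_iff.mpr hne), one_mul] at h1
  have hc₁ : T'.homConst T₀ ι' ≠ 0 := T'.homConst_ne_zero hO T₀ ι'
  haveI : Mono (φ₀.hom ≫ ι) := mono_comp _ _
  have hc₂ : T'.homConst T₀ (φ₀.hom ≫ ι) ≠ 0 := T'.homConst_ne_zero hO T₀ (φ₀.hom ≫ ι)
  have hv : (⟨_, hmem (φ₀.hom ≫ ι)⟩ : FunFld.L E) ≠ 0 := fun h => hc₂ (congrArg Subtype.val h)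
  obtain ⟨a, ha⟩ := (finrank_eq_one_iff_of_nonzero' _ hv).mp hEell ⟨_, hmem ι'⟩
  have ha' : a • T'.homConst T₀ (φ₀.hom ≫ ι) = T'.homConst T₀ ι' := congrArg Subtype.val ha
  have ha0 : a ≠ 0 := by
    rintro rfl
    rw [zero_smul] at ha'
    exact hc₁ ha'.symm
  let u : (Γ(C, ⊤))ˣ :=
    Units.map (Coh.toGlobal (C ↘ Spec (CommRingCat.of k))).toMonoidHom (Units.mk0 a ha0)
  refine ⟨smulIso I' u ≪≫ φ₀, ?_⟩
  apply hom_ext_of_homConst hO T' T₀
  rw [Iso.trans_hom, Category.assoc]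
  change T'.homConst T₀ (smulEnd I' (u : Γ(C, ⊤)) ≫ φ₀.hom ≫ ι) = _
  rw [homConst_smulEnd_comp, ← ha', Algebra.smul_def]
  rfl

end Groth.Agent.H62.Secant
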