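import Groth.Agent.H62.ZW8

/-!
# Places of degree one in constant field extensions over a finite field

A place of degree one has exactly one place above it in a finite constant field extension.
-/

set_option autoImplicit false
set_option linter.unusedSectionVars false

namespace Groth.Agent.H62.Weil

open FunFld WithZero Module Polynomial Groth.Agent.H55 Groth.Agent.H62.FFHolRing
open Groth.Agent.H62.FFNSTower Groth.Agent.H86.Zeta
open scoped TensorProduct IntermediateField

attribute [-instance] FunFld.Place.algRes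

variable {k k' K K' : Type*} [Field k] [Field k'] [Field K] [Field K']
  [Algebra k k'] [Algebra k K] [Algebra K K'] [Algebra k' K'] [Algebra k K']
  [IsScalarTower k k' K'] [IsScalarTower k K K']
  [FiniteDimensional k k'] [Algebra.IsSeparable k k']
  (hbij : Function.Bijective (Algebra.TensorProduct.productMap
      (IsScalarTower.toAlgHom k k' K') (IsScalarTower.toAlgHom k K K')))

/-- the degree over `k` of a place of `K'` is divisible by `[k' : k]` -/
theorem finrank_dvd_deg [Finite k] (hK' : IsFunctionField k' K') (hKw : W.IsWeakFF k K')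
    (Q : Place k K') : finrank k k' ∣ Q.deg := by
  have h := deg_restr (k := k) hK' hKw (FFConstField.extendConst k' Q)
  rw [restr_extendConst] at h
  exact ⟨_, h⟩

include hbij in
/-- a place of degree one has a unique place above it -/
theorem unique_over_of_deg_one [Finite k] (hK : IsFunctionField k K)
    (hK' : IsFunctionField k' K') {P : Place k K} (hP : P.deg = 1) {Q₁ Q₂ : Place k K'}
    (h₁ : IsOver Q₁ P) (h₂ : IsOver Q₂ P) : Q₁ = Q₂ := by
  classical
  have hfd := finiteDimensional_constExt hbij
  have hKw : W.IsWeakFF k K' := W.weak_of_finite hK.weak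
  have hn : 0 < finrank k k' := finrank_pos
  obtain ⟨hfin, -⟩ := sum_ramIdx_mul_deg (K' := K') hK P
  have hmem : ∀ Q, Q ∈ hfin.toFinset ↔ IsOver Q P := fun Q => by
    rw [Set.Finite.mem_toFinset, Set.mem_ofPred_eq]
  have hsum := sum_deg_over hbij hK P hfin.toFinset hmem
  rw [hP, mul_one] at hsum
  by_contra hne
  have h1 : Q₁ ∈ hfin.toFinset := (hmem Q₁).mpr h₁
  have h2 : Q₂ ∈ hfin.toFinset.erase Q₁ := Finset.mem_erase.mpr ⟨fun h => hne h.symm, (hmem Q₂).mpr h₂⟩
  rw [← Finset.add_sum_erase _ _ h1] at hsum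
  have h3 : Q₂.deg ≤ ∑ Q ∈ hfin.toFinset.erase Q₁, Q.deg :=
    Finset.single_le_sum (f := fun Q : Place k K' => Q.deg) (fun _ _ => Nat.zero_le _) h2
  have h4 : finrank k k' ≤ Q₁.deg :=
    Nat.le_of_dvd (W.Place.deg_pos hKw Q₁) (finrank_dvd_deg hK' hKw Q₁)
  have h5 : finrank k k' ≤ Q₂.deg :=
    Nat.le_of_dvd (W.Place.deg_pos hKw Q₂) (finrank_dvd_deg hK' hKw Q₂)
  omega

include hbij in
/-- over a place of degree one, the valuation ring of the place above is generated by a
constant -/
theorem exists_gen_of_deg_one [Finite k] (hK : IsFunctionField k K)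
    (hK' : IsFunctionField k' K') :
    ∃ θ₀ : k', ∀ (P : Place k K), P.deg = 1 → ∀ (Q : Place k K'), IsOver Q P → ∀ y : K',
      Q.1 y ≤ 1 → y ∈ Algebra.adjoin P.O ({algebraMap k' K' θ₀} : Set K') := by
  obtain ⟨θ₀, hθ⟩ := exists_gen_holRing hbij hK
  refine ⟨θ₀, fun P hP Q hQ y hy => hθ P y ?_⟩
  intro Q₂ e₂ he₂
  have : Q₂ = Q := unique_over_of_deg_one hbij hK hK' hP ⟨e₂, he₂⟩ hQ
  rw [this]
  exact hy

end Groth.Agent.H62.Weil
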