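import Groth.Agent.H62.FFNSTower1
import Groth.Agent.H62.FFSepPlaces2
import Groth.Agent.H62.FFUnram2
import Mathlib.RingTheory.Discriminant
import Mathlib.FieldTheory.PrimitiveElement

/-!
# Separable constant field extensions: the integral closure of `O_P` is `O_P[θ]`
-/

set_option autoImplicit false
set_option linter.unusedSectionVars false

namespace Groth.Agent.H62.Weil

open FunFld WithZero Module Polynomial Groth.Agent.H55 Groth.Agent.H62.FFHolRing
open Groth.Agent.H62.FFNSTower
open scoped TensorProduct

variable {k k' K K' : Type*} [Field k] [Field k'] [Field K] [Field K']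
  [Algebra k k'] [Algebra k K] [Algebra K K'] [Algebra k' K'] [Algebra k K']
  [IsScalarTower k k' K'] [IsScalarTower k K K']

section basechange

variable {ι : Type*} [Fintype ι] [DecidableEq ι] (c : Basis ι k k') (b : Basis ι K K')
  (hb : ∀ i, b i = algebraMap k' K' (c i))

include hb in
theorem leftMulMatrix_algebraMap (x : k') :
    Algebra.leftMulMatrix b (algebraMap k' K' x) =
      (Algebra.leftMulMatrix c x).map (algebraMap k K) := by
  ext i j
  rw [Algebra.leftMulMatrix_eq_repr_mul, Matrix.map_apply, Algebra.leftMulMatrix_eq_repr_mul, hb,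
    ← map_mul, repr_algebraMap c b hb]

include hb in
theorem trace_algebraMap (x : k') :
    Algebra.trace K K' (algebraMap k' K' x) = algebraMap k K (Algebra.trace k k' x) := by
  rw [Algebra.trace_eq_matrix_trace b, Algebra.trace_eq_matrix_trace c,
    leftMulMatrix_algebraMap c b hb, Matrix.trace, Matrix.trace, map_sum]
  rfl

include hb in
theorem discr_eq : Algebra.discr K b = algebraMap k K (Algebra.discr k c) := by
  rw [Algebra.discr_def, Algebra.discr_def, RingHom.map_det]
  congr 1
  ext i j
  rw [Algebra.traceMatrix_apply, RingHom.mapMatrix_apply, Matrix.map_apply,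
    Algebra.traceMatrix_apply, Algebra.traceForm_apply, Algebra.traceForm_apply, hb, hb,
    ← map_mul, trace_algebraMap c b hb]

end basechange

section powerbasis

variable [FiniteDimensional k k'] [Algebra.IsSeparable k k']
  (hbij : Function.Bijective (Algebra.TensorProduct.productMap
      (IsScalarTower.toAlgHom k k' K') (IsScalarTower.toAlgHom k K K')))

include hbij in
/-- the power basis of `K'/K` induced by a power basis of `k'/k` -/
theorem exists_powerBasis (pbk : PowerBasis k k') :
    ∃ pb : PowerBasis K K', pb.gen = algebraMap k' K' pbk.gen ∧ pb.dim = pbk.dim ∧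
      (∀ i, pb.basis i ∈ Set.range (algebraMap k' K')) ∧
      minpoly K pb.gen = (minpoly k pbk.gen).map (algebraMap k K) ∧
      ∃ δ : k, δ ≠ 0 ∧ Algebra.discr K pb.basis = algebraMap k K δ := by
  classical
  obtain ⟨b, hb⟩ := exists_basis_of_basis (K := K) (L := K') pbk.basis hbij
  let pb : PowerBasis K K' := ⟨algebraMap k' K' pbk.gen, pbk.dim, b, fun i => by
    rw [hb, pbk.basis_eq_pow, map_pow]⟩
  have hfd : FiniteDimensional K K' := Module.Finite.of_basis b
  have hmin : minpoly K pb.gen = (minpoly k pbk.gen).map (algebraMap k K) := by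
    symm
    have hint : IsIntegral k pbk.gen := Algebra.IsIntegral.isIntegral _
    apply minpoly.unique K pb.gen ((minpoly.monic hint).map _)
    · show aeval (algebraMap k' K' pbk.gen) ((minpoly k pbk.gen).map (algebraMap k K)) = 0
      rw [aeval_map_algebraMap, aeval_algebraMap_apply, minpoly.aeval, map_zero]
    · intro q hq hq0
      have h1 : (minpoly K pb.gen).degree ≤ q.degree := minpoly.min K pb.gen hq hq0
      have h2 : (minpoly K pb.gen).natDegree = pbk.dim := pb.natDegree_minpoly
      have h3 : (minpoly k pbk.gen).natDegree = pbk.dim := pbk.natDegree_minpoly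
      have h4 : ((minpoly k pbk.gen).map (algebraMap k K)).degree = (minpoly K pb.gen).degree := by
        rw [degree_map, degree_eq_natDegree (minpoly.ne_zero hint),
          degree_eq_natDegree (minpoly.ne_zero (Algebra.IsIntegral.isIntegral _)), h2, h3]
      rw [h4]
      exact h1
  refine ⟨pb, rfl, rfl, fun i => ⟨pbk.basis i, (hb i).symm⟩, hmin, Algebra.discr k pbk.basis,
    Algebra.discr_not_zero_of_basis k pbk.basis, discr_eq pbk.basis b hb⟩

end powerbasis

end Groth.Agent.H62.Weil
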