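import Groth.Agent.H62.ZW4
import Groth.Agent.H62.FFHolRing2
import Groth.Agent.H62.FFConstField
import Groth.Agent.H86.ZT4

/-!
# Constant field extensions of a function field over a finite field: local analysis

For `K' = k' ⊗ₖ K` with `k` finite, every place `Q` of `K'` over a place `P` of `K` is
unramified, `deg P ∣ deg Q`, and `deg Q ∣ N` whenever `deg P ∣ N` and `[k' : k] ∣ N`.
-/

set_option autoImplicit false
set_option linter.unusedSectionVars false

namespace Groth.Agent.H62.Weil

open FunFld WithZero Module Polynomial Groth.Agent.H55 Groth.Agent.H62.FFHolRing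
open Groth.Agent.H62.FFNSTower Groth.Agent.H86.Zeta
open scoped TensorProduct IntermediateField

attribute [-instance] FunFld.Place.algRes

/-- if the `N`-th power of the Frobenius over `k` is the identity on a finite field `F`, then
`[F : k] ∣ N` -/
theorem finrank_dvd_of_forall_pow_eq {k F : Type*} [Field k] [Finite k] [Field F] [Finite F]
    [Algebra k F] {N : ℕ} (h : ∀ w : F, w ^ (Nat.card k ^ N) = w) : finrank k F ∣ N := by
  let _ := Fintype.ofFinite k
  rw [← FiniteField.orderOf_frobeniusAlgHom k F]
  apply orderOf_dvd_of_pow_eq_one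
  ext w
  rw [AlgHom.coe_pow, FiniteField.coe_frobeniusAlgHom, pow_iterate, AlgHom.one_apply,
    ← Nat.card_eq_fintype_card]
  exact h w

section weak

variable {k K : Type*} [Field k] [Field K] [Algebra k K]

/-- `z ^ (q ^ deg P) - z` vanishes at `P` for `z` integral at `P` (weak function fields) -/
theorem val_pow_card_sub_lt_weak [Finite k] (hK : W.IsWeakFF k K) (P : Place k K) {z : K}
    (hz : P.1 z ≤ 1) : P.1 (z ^ (Nat.card k ^ P.deg) - z) < 1 := by
  have := finite_residue_weak hK P
  let _ : Fintype (IsLocalRing.ResidueField P.O) := Fintype.ofFinite _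
  have hzO : z ∈ P.O := (Valuation.mem_valuationSubring_iff _ _).mpr hz
  have h1 := FiniteField.pow_card (IsLocalRing.residue P.O ⟨z, hzO⟩)
  rw [← Nat.card_eq_fintype_card, natCard_residue_weak hK P] at h1
  have h0 : IsLocalRing.residue P.O ((⟨z, hzO⟩ : P.O) ^ (Nat.card k ^ P.deg) - ⟨z, hzO⟩) = 0 := by
    rw [map_sub, map_pow, h1, sub_self]
  rw [Place.residue_eq_zero_iff] at h0
  exact h0

/-- a residue class is fixed by `w ↦ w ^ M` iff `z ^ M - z` vanishes at the place -/
theorem residue_pow_eq_iff (P : Place k K) (z : P.O) (M : ℕ) :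
    IsLocalRing.residue P.O z ^ M = IsLocalRing.residue P.O z ↔ P.1 ((z : K) ^ M - z) < 1 := by
  rw [← sub_eq_zero, ← map_pow, ← map_sub, Place.residue_eq_zero_iff]
  rfl

end weak

variable {k k' K K' : Type*} [Field k] [Field k'] [Field K] [Field K']
  [Algebra k k'] [Algebra k K] [Algebra K K'] [Algebra k' K'] [Algebra k K']
  [IsScalarTower k k' K'] [IsScalarTower k K K']
  [FiniteDimensional k k'] [Algebra.IsSeparable k k']
  (hbij : Function.Bijective (Algebra.TensorProduct.productMap
      (IsScalarTower.toAlgHom k k' K') (IsScalarTower.toAlgHom k K K')))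

include hbij in
theorem finiteDimensional_constExt : FiniteDimensional K K' := by
  classical
  obtain ⟨b, -⟩ := exists_basis_of_basis (K := K) (L := K') (Module.finBasis k k') hbij
  exact Module.Finite.of_basis b

include hbij in
theorem finrank_constExt : finrank K K' = finrank k k' := by
  classical
  obtain ⟨b, -⟩ := exists_basis_of_basis (K := K) (L := K') (Module.finBasis k k') hbij
  rw [finrank_eq_card_basis b, Fintype.card_fin]

include hbij in
theorem isSeparable_constExt : Algebra.IsSeparable K K' := by
  classical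
  let pbk := Field.powerBasisOfFiniteOfSeparable k k'
  obtain ⟨pb, hgen, hdim, hrange, hmin, δ, hδ, hdiscr⟩ := exists_powerBasis (K := K) hbij pbk
  have hsep : (minpoly k pbk.gen).Separable := Algebra.IsSeparable.isSeparable k pbk.gen
  apply FFSepPlaces.isSeparable_of_adjoin_eq_top (k := K) (F := K') pb.adjoin_gen_eq_top
    (hsep.map (f := algebraMap k K))
  rw [← hmin]
  exact minpoly.aeval K pb.gen

include hbij in
/-- the integral closure of `O_P` in `K'` is generated by a constant -/
theorem exists_gen_holRing (hK : IsFunctionField k K) :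
    ∃ θ₀ : k', ∀ (P : Place k K) (z : K'), z ∈ holRing K' P →
      z ∈ Algebra.adjoin P.O ({algebraMap k' K' θ₀} : Set K') := by
  classical
  have := finiteDimensional_constExt hbij
  have := isSeparable_constExt hbij
  let pbk := Field.powerBasisOfFiniteOfSeparable k k'
  obtain ⟨pb, hgen, hdim, hrange, hmin, δ, hδ, hdiscr⟩ := exists_powerBasis (K := K) hbij pbk
  refine ⟨pbk.gen, fun P z hz => ?_⟩
  rw [← hgen]
  apply FFSepPlaces.holRing_le_adjoin hK pb P _ _ hz
  · intro i
    rw [hmin, coeff_map]
    exact P.2.1 _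
  · rw [hdiscr]
    exact Place.val_algebraMap_eq_one P hδ

/-- constants of `k'` are units at every place of `K'/k` -/
theorem val_const_eq_one (Q : Place k K') {c : k'} (hc : c ≠ 0) :
    Q.1 (algebraMap k' K' c) = 1 := by
  have h1 : ∀ c : k', Q.1 (algebraMap k' K' c) ≤ 1 := fun c =>
    FFConstField.val_le_one_of_isAlgebraic Q
      ((Algebra.IsAlgebraic.isAlgebraic (R := k) c).algebraMap)
  apply le_antisymm (h1 c)
  have h2 : Q.1 (algebraMap k' K' c) * Q.1 (algebraMap k' K' c⁻¹) = 1 := by
    rw [← map_mul, ← map_mul, mul_inv_cancel₀ hc, map_one, map_one]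
  by_contra h
  push Not at h
  have h3 : Q.1 (algebraMap k' K' c) * Q.1 (algebraMap k' K' c⁻¹) < 1 :=
    mul_lt_one_of_lt_of_le h (h1 _)
  rw [h2] at h3
  exact lt_irrefl _ h3

theorem val_const_le_one (Q : Place k K') (c : k') : Q.1 (algebraMap k' K' c) ≤ 1 :=
  FFConstField.val_le_one_of_isAlgebraic Q
    ((Algebra.IsAlgebraic.isAlgebraic (R := k) c).algebraMap)

theorem iota_comp (P : Place k K) :
    (FFUnram.iota (K' := K') P).comp (algebraMap k P.O) =
      (algebraMap k' K').comp (algebraMap k k') := by
  ext c
  show algebraMap K K' (algebraMap k K c) = algebraMap k' K' (algebraMap k k' c)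
  rw [← IsScalarTower.algebraMap_apply, ← IsScalarTower.algebraMap_apply]

include hbij in
/-- constant field extensions are unramified -/
theorem ramIdx_eq_one_constExt {Q : Place k K'} {P : Place k K} {e : ℕ}
    (he : IsOverWith Q P e) : e = 1 := by
  classical
  have := finiteDimensional_constExt hbij
  let pbk := Field.powerBasisOfFiniteOfSeparable k k'
  obtain ⟨pb, hgen, hdim, hrange, hmin, δ, hδ, hdiscr⟩ := exists_powerBasis (K := K) hbij pbk
  have hsep : (minpoly k pbk.gen).Separable := Algebra.IsSeparable.isSeparable k pbk.gen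
  have htop : K⟮algebraMap k' K' pbk.gen⟯ = ⊤ := by
    rw [← hgen]
    exact IntermediateField.adjoin_eq_top_of_algebra (F := K) (S := {pb.gen}) pb.adjoin_gen_eq_top
  have hev : ∀ g : k[X], eval₂ (FFUnram.iota P) (algebraMap k' K' pbk.gen)
      (g.map (algebraMap k P.O)) = algebraMap k' K' (aeval pbk.gen g) := by
    intro g
    rw [eval₂_map, iota_comp (k' := k') P, ← eval₂_map, eval₂_hom, aeval_def, eval_map]
  apply FFUnram.eq_one_of_unit_derivative he (y := algebraMap k' K' pbk.gen)
    (val_const_le_one Q _) (Algebra.IsAlgebraic.isAlgebraic _) htop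
    (φ₀ := (minpoly k pbk.gen).map (algebraMap k P.O))
  · rw [hev, minpoly.aeval, map_zero]
  · rw [derivative_map, hev]
    apply val_const_eq_one Q
    exact hsep.aeval_derivative_ne_zero (minpoly.aeval k pbk.gen)

end Groth.Agent.H62.Weil
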