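import Groth.Agent.H62.ZW5

/-!
# Constant field extensions over a finite field: degrees of the places above a place
-/

set_option autoImplicit false
set_option linter.unusedSectionVars false

namespace Groth.Agent.H62.Weil

open FunFld WithZero Module Polynomial Groth.Agent.H55 Groth.Agent.H62.FFHolRing
open Groth.Agent.H62.FFNSTower Groth.Agent.H86.Zeta
open scoped TensorProduct IntermediateField

attribute [-instance] FunFld.Place.algRes

section general

variable {k K K' : Type*} [Field k] [Field K] [Field K'] [Algebra k K] [Algebra K K']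
  [Algebra k K'] [IsScalarTower k K K']

/-- the degree of a place divides the degree of any place above it -/
theorem deg_dvd_deg [Finite k] [FiniteDimensional K K'] (hK : IsFunctionField k K)
    {Q : Place k K'} {P : Place k K} {e : ℕ} (he : IsOverWith Q P e) : P.deg ∣ Q.deg := by
  have hKw : W.IsWeakFF k K' := W.weak_of_finite hK.weak
  have := finite_residue hK P
  apply finrank_dvd_of_forall_pow_eq (k := k) (F := IsLocalRing.ResidueField P.O)
  intro w
  obtain ⟨a, rfl⟩ := IsLocalRing.residue_surjective w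
  rw [residue_pow_eq_iff, ← isOverWith_lt_one_iff he, map_sub, map_pow]
  exact val_pow_card_sub_lt_weak hKw Q
    ((isOverWith_le_one_iff he _).mpr ((Valuation.mem_valuationSubring_iff P.1 _).mp a.2))

end general

variable {k k' K K' : Type*} [Field k] [Field k'] [Field K] [Field K']
  [Algebra k k'] [Algebra k K] [Algebra K K'] [Algebra k' K'] [Algebra k K']
  [IsScalarTower k k' K'] [IsScalarTower k K K']
  [FiniteDimensional k k'] [Algebra.IsSeparable k k']
  (hbij : Function.Bijective (Algebra.TensorProduct.productMap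
      (IsScalarTower.toAlgHom k k' K') (IsScalarTower.toAlgHom k K K')))

include hbij in
/-- residue classes above `P` are fixed by the `N`-th power of the Frobenius, if `deg P ∣ N`
and `[k' : k] ∣ N` -/
theorem residue_pow_eq [Finite k] (hK : IsFunctionField k K) {Q : Place k K'} {P : Place k K}
    {e : ℕ} (he : IsOverWith Q P e) {N : ℕ} (hd : P.deg ∣ N) (hn : finrank k k' ∣ N)
    (w : IsLocalRing.ResidueField Q.O) : w ^ (Nat.card k ^ N) = w := by
  classical
  have := finiteDimensional_constExt hbij
  obtain ⟨θ₀, hθ⟩ := exists_gen_holRing hbij hK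
  let _ := Fintype.ofFinite k
  let S : Subalgebra k (IsLocalRing.ResidueField Q.O) :=
    AlgHom.equalizer ((FiniteField.frobeniusAlgHom k (IsLocalRing.ResidueField Q.O)) ^ N)
      (AlgHom.id k (IsLocalRing.ResidueField Q.O))
  have hS : ∀ w : IsLocalRing.ResidueField Q.O, w ∈ S ↔ w ^ (Nat.card k ^ N) = w := by
    intro w
    rw [AlgHom.mem_equalizer, AlgHom.coe_pow, FiniteField.coe_frobeniusAlgHom, pow_iterate,
      ← Nat.card_eq_fintype_card]
    rfl
  rw [← hS]
  obtain ⟨b, rfl⟩ := resHom_surjective hK he w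
  have key : ∀ z ∈ Algebra.adjoin P.O ({algebraMap k' K' θ₀} : Set K'),
      ∃ hz : Q.1 z ≤ 1, IsLocalRing.residue Q.O ⟨z, hz⟩ ∈ S := by
    intro z hz
    induction hz using Algebra.adjoin_induction with
    | mem x hx =>
      rw [Set.mem_singleton_iff] at hx
      subst hx
      refine ⟨val_const_le_one Q θ₀, ?_⟩
      rw [hS, residue_pow_eq_iff]
      have h1 : (algebraMap k' K' θ₀) ^ (Nat.card k ^ N) = algebraMap k' K' θ₀ := by
        obtain ⟨m, rfl⟩ := hn
        apply pow_pow_card_mul
        rw [← map_pow]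
        congr 1
        have : Finite k' := Module.finite_of_finite k
        let _ : Fintype k' := Fintype.ofFinite _
        have h2 := FiniteField.pow_card θ₀
        rwa [← Nat.card_eq_fintype_card, Module.natCard_eq_pow_finrank (K := k) (V := k')] at h2
      show Q.1 (algebraMap k' K' θ₀ ^ (Nat.card k ^ N) - algebraMap k' K' θ₀) < 1
      rw [h1, sub_self, map_zero]
      exact zero_lt_one
    | algebraMap a =>
      have h1 : algebraMap P.O K' a = algebraMap K K' (a : K) := rfl
      have ha : P.1 (a : K) ≤ 1 := (Valuation.mem_valuationSubring_iff P.1 _).mp a.2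
      have h2 : Q.1 (algebraMap P.O K' a) ≤ 1 := by
        rw [h1]
        exact (isOverWith_le_one_iff he _).mpr ha
      refine ⟨h2, ?_⟩
      rw [hS]
      obtain ⟨m, rfl⟩ := hd
      apply pow_pow_card_mul
      rw [residue_pow_eq_iff]
      show Q.1 (algebraMap P.O K' a ^ (Nat.card k ^ P.deg) - algebraMap P.O K' a) < 1
      rw [h1, ← map_pow, ← map_sub, isOverWith_lt_one_iff he]
      exact val_pow_card_sub_lt hK P ha
    | add x y _ _ hx hy =>
      obtain ⟨hx1, hx2⟩ := hx
      obtain ⟨hy1, hy2⟩ := hy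
      have hxy : Q.1 (x + y) ≤ 1 := (Q.1.map_add x y).trans (max_le hx1 hy1)
      refine ⟨hxy, ?_⟩
      have h3 : (⟨x + y, hxy⟩ : Q.O) = ⟨x, hx1⟩ + ⟨y, hy1⟩ := rfl
      rw [h3, map_add]
      exact add_mem hx2 hy2
    | mul x y _ _ hx hy =>
      obtain ⟨hx1, hx2⟩ := hx
      obtain ⟨hy1, hy2⟩ := hy
      have hxy : Q.1 (x * y) ≤ 1 := by rw [map_mul]; exact mul_le_one' hx1 hy1
      refine ⟨hxy, ?_⟩
      have h3 : (⟨x * y, hxy⟩ : Q.O) = ⟨x, hx1⟩ * ⟨y, hy1⟩ := rfl
      rw [h3, map_mul]
      exact mul_mem hx2 hy2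
  obtain ⟨hz, hmem⟩ := key b (hθ P b b.2)
  exact hmem

include hbij in
/-- `deg Q ∣ N` whenever `deg P ∣ N` and `[k' : k] ∣ N` -/
theorem deg_dvd_of_dvd [Finite k] (hK : IsFunctionField k K) {Q : Place k K'} {P : Place k K}
    {e : ℕ} (he : IsOverWith Q P e) {N : ℕ} (hd : P.deg ∣ N) (hn : finrank k k' ∣ N) :
    Q.deg ∣ N := by
  have := finiteDimensional_constExt hbij
  have hKw : W.IsWeakFF k K' := W.weak_of_finite hK.weak
  have := finite_residue_weak hKw Q
  exact finrank_dvd_of_forall_pow_eq (fun w => residue_pow_eq hbij hK he hd hn w)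

include hbij in
/-- the places above `P` in a constant field extension have total degree `[k' : k] deg P` -/
theorem sum_deg_over (hK : IsFunctionField k K) (P : Place k K) (Qs : Finset (Place k K'))
    (hQs : ∀ Q, Q ∈ Qs ↔ IsOver Q P) : ∑ Q ∈ Qs, Q.deg = finrank k k' * P.deg := by
  classical
  have := finiteDimensional_constExt hbij
  rw [← finrank_constExt hbij, ← (sum_ramIdx_mul_deg (K' := K') hK P).2 Qs hQs]
  apply Finset.sum_congr rfl
  intro Q hQ
  have h := (hQs Q).mp hQ
  have h1 : ramIdx Q P = 1 := by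
    unfold ramIdx
    rw [dif_pos h]
    exact ramIdx_eq_one_constExt hbij (Nat.find_spec h)
  rw [h1, one_mul]

end Groth.Agent.H62.Weil
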