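import Groth.Agent.H62.ZW7
import Groth.Agent.H62.ZW3

/-!
# Constant field extensions over a finite field: the numerator of the zeta function
-/

set_option autoImplicit false
set_option linter.unusedSectionVars false

namespace Groth.Agent.H62.Weil

open FunFld Module Groth.Agent.H55 Groth.Agent.H86.Zeta PowerSeries
open scoped TensorProduct

section bij

variable {k k' K K' : Type*} [Field k] [Field k'] [Field K] [Field K']
  [Algebra k k'] [Algebra k K] [Algebra K K'] [Algebra k' K'] [Algebra k K']
  [IsScalarTower k k' K'] [IsScalarTower k K K']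

/-- a constant field extension is the tensor product -/
theorem bijective_productMap_of_adjoin [FiniteDimensional k k']
    (hadj : Algebra.adjoin K (Set.range (algebraMap k' K')) = ⊤)
    (hrank : finrank K K' = finrank k k') :
    Function.Bijective (Algebra.TensorProduct.productMap
      (IsScalarTower.toAlgHom k k' K') (IsScalarTower.toAlgHom k K K')) := by
  let f : K ⊗[k] k' →ₐ[K] K' := Algebra.TensorProduct.productLeftAlgHom (Algebra.ofId K K')
    (IsScalarTower.toAlgHom k k' K')
  have hf : ∀ z : K ⊗[k] k', f z = Algebra.TensorProduct.productMap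
      (IsScalarTower.toAlgHom k k' K') (IsScalarTower.toAlgHom k K K')
      (Algebra.TensorProduct.comm k K k' z) := by
    intro z
    induction z using TensorProduct.induction_on with
    | zero => simp
    | tmul a b =>
      show algebraMap K K' a * algebraMap k' K' b = _
      rw [Algebra.TensorProduct.comm_tmul, Algebra.TensorProduct.productMap_apply_tmul]
      exact mul_comm _ _
    | add x y hx hy => rw [map_add, map_add, map_add, hx, hy]
  have hsurj : Function.Surjective f := by
    rw [← AlgHom.range_eq_top, eq_top_iff, ← hadj]
    apply Algebra.adjoin_le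
    rintro _ ⟨c, rfl⟩
    refine ⟨(1 : K) ⊗ₜ[k] c, ?_⟩
    show algebraMap K K' 1 * algebraMap k' K' c = _
    rw [map_one, one_mul]
  have hpos : 0 < finrank k k' := finrank_pos
  have hfinK' : FiniteDimensional K K' := Module.finite_of_finrank_pos (by rw [hrank]; exact hpos)
  have hrk : finrank K (K ⊗[k] k') = finrank K K' := by
    rw [hrank, Module.finrank_baseChange]
  have hinj : Function.Injective f :=
    (LinearMap.injective_iff_surjective_of_finrank_eq_finrank (f := f.toLinearMap) hrk).mpr hsurj
  constructor
  · intro z w hzw
    have h1 : f ((Algebra.TensorProduct.comm k K k').symm z) =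
        f ((Algebra.TensorProduct.comm k K k').symm w) := by
      rw [hf, hf, AlgEquiv.apply_symm_apply, AlgEquiv.apply_symm_apply, hzw]
    exact (Algebra.TensorProduct.comm k K k').symm.injective (hinj h1)
  · intro y
    obtain ⟨z, hz⟩ := hsurj y
    exact ⟨Algebra.TensorProduct.comm k K k' z, by rw [← hf, hz]⟩

end bij

/-- `N_m(K'/k') = N_{nm}(K/k)` for a constant field extension of degree `n` -/
theorem Nm_of_isConstExt (k K k' K' : Type*) [Field k] [Finite k] [Field K] [Algebra k K]
    [Field k'] [Finite k'] [Field K'] [Algebra k k'] [Algebra K K'] [Algebra k' K']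
    (hK : IsFunctionField k K) (hK' : IsFunctionField k' K') (hce : IsConstExt k K k' K')
    {m : ℕ} (hm : 1 ≤ m) : Nm k' K' m = Nm k K (finrank k k' * m) := by
  let _ : Algebra k K' := ((algebraMap K K').comp (algebraMap k K)).toAlgebra
  have h1 : IsScalarTower k K K' := IsScalarTower.of_algebraMap_eq' rfl
  have h2 : IsScalarTower k k' K' := IsScalarTower.of_algebraMap_eq (fun c => hce.1 c)
  have h3 : FiniteDimensional k k' := inferInstance
  have h4 : Algebra.IsSeparable k k' := inferInstance
  exact Nm_constExt (bijective_productMap_of_adjoin hce.2.1 hce.2.2) hK hK' hm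

/-- `N_1` is the number of places of degree one -/
theorem Nm_one {k K : Type*} [Field k] [Field K] [Algebra k K] [Finite k]
    (hK : IsFunctionField k K) : Nm k K 1 = Nat.card {P : Place k K // P.deg = 1} := by
  classical
  rw [Nm_eq_sum_filter hK le_rfl]
  have h1 : ∀ P ∈ (finite_places_deg_le hK 1).toFinset.filter (fun P => P.deg ∣ 1),
      P.deg = 1 := by
    intro P hP
    rw [Finset.mem_filter] at hP
    exact Nat.dvd_one.mp hP.2
  rw [Finset.sum_congr rfl h1, Finset.sum_const, smul_eq_mul, mul_one]
  symm
  apply Nat.subtype_card
  intro P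
  rw [Finset.mem_filter, Set.Finite.mem_toFinset, Set.mem_ofPred_eq, Nat.dvd_one]
  exact ⟨fun h => h.2, fun h => ⟨h.le, h⟩⟩

end Groth.Agent.H62.Weil
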