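import Groth.Agent.H62.ZW8

/-!
# The numerator of the zeta function of a constant field extension
-/

set_option autoImplicit false
set_option linter.unusedSectionVars false

namespace Groth.Agent.H62.Weil

open FunFld Module Groth.Agent.H55 Groth.Agent.H86.Zeta PowerSeries

/-- `L_{K'}(t) = ∏ (1 - αᵢⁿ t)` for the constant field extension of degree `n` -/
theorem numerC_of_isConstExt (k K k' K' : Type*) [Field k] [Finite k] [Field K] [Algebra k K]
    [Field k'] [Finite k'] [Field K'] [Algebra k k'] [Algebra K K'] [Algebra k' K']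
    (hK : IsFunctionField k K) (hK' : IsFunctionField k' K') (hce : IsConstExt k K k' K')
    {g : ℕ} (α : Fin g → ℂ)
    (hα : numerC k K = ((∏ i, (1 - Polynomial.C (α i) * Polynomial.X) : Polynomial ℂ) : ℂ⟦X⟧)) :
    numerC k' K' =
      ((∏ i, (1 - Polynomial.C (α i ^ finrank k k') * Polynomial.X) : Polynomial ℂ) : ℂ⟦X⟧) := by
  rw [coe_prod_linear]
  have h1 := logDer_numerC hK'
  have h2 := logDer_prod_linear (fun i => α i ^ finrank k k')
  have hn : 1 ≤ finrank k k' := finrank_pos
  have hcard : (Nat.card k' : ℂ) = (Nat.card k : ℂ) ^ finrank k k' := by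
    rw [Module.natCard_eq_pow_finrank (K := k) (V := k')]
    push_cast
    rfl
  have heq : -geo (1 : ℂ) + -geo (Nat.card k' : ℂ) + NmSeries k' K' =
      ∑ i, -geo (α i ^ finrank k k') := by
    ext m
    rw [map_add, map_add, map_neg, map_neg, coeff_geo, coeff_geo, coeff_NmSeries, map_sum]
    have h5 : ∀ i, coeff m (-geo (α i ^ finrank k k')) =
        if m = 0 then 0 else -((α i ^ finrank k k') ^ m) := by
      intro i
      rw [map_neg, coeff_geo]
      split_ifs <;> simp
    rw [Finset.sum_congr rfl (fun i _ => h5 i)]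
    by_cases hm0 : m = 0
    · simp [hm0]
    · rw [if_neg hm0, if_neg hm0, if_neg hm0, Finset.sum_congr rfl (fun i _ => if_neg hm0),
        Finset.sum_neg_distrib]
      have hm : 1 ≤ m := Nat.one_le_iff_ne_zero.mpr hm0
      have h6 := Nm_of_isConstExt k K k' K' hK hK' hce hm
      have h7 := Nm_eq hK α hα (Nat.mul_pos hn hm)
      rw [h6, h7, hcard, one_pow, ← pow_mul]
      have h8 : ∀ i, (α i ^ finrank k k') ^ m = α i ^ (finrank k k' * m) := fun i => by
        rw [← pow_mul]
      rw [Finset.sum_congr rfl (fun i _ => h8 i)]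
      ring
  rw [heq] at h1
  exact LogDer.unique_left (constantCoeff_numerC hK') (constantCoeff_prod_linear _) h1 h2

end Groth.Agent.H62.Weil
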